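import Mathlib
import Cfsg.Prelude.Def_CaseTheorems
import Cfsg.Agent.Helper19.Cores

set_option autoImplicit false

/-! The hypothesis "distinct Sylow `2`-subgroups meet in a subgroup of `2`-rank at most one"
passes from `G` to `G ⧸ O(G)`. -/

namespace Cfsg.Agent.Helper16.RankLift

variable {G : Type*} [Group G] [Finite G]

/-- a `2`-subgroup meets `O(G)` trivially -/
theorem eq_one_of_mem_oddCore {Q : Subgroup G} (hQ : IsPGroup 2 Q) {x : G} (hx : x ∈ Q)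
    (hxO : x ∈ Cfsg.oddCore G) : x = 1 := by
  obtain ⟨k, hk⟩ := hQ ⟨x, hx⟩
  have hk' : x ^ 2 ^ k = 1 := by
    have := congrArg Subtype.val hk
    rwa [Subgroup.coe_pow] at this
  have h1 : orderOf x ∣ 2 ^ k := orderOf_dvd_of_pow_eq_one hk'
  have h2 : orderOf x ∣ Nat.card (Cfsg.oddCore G) := by
    have := orderOf_dvd_natCard (⟨x, hxO⟩ : Cfsg.oddCore G)
    rwa [Subgroup.orderOf_mk] at this
  have hcop : (Nat.card (Cfsg.oddCore G)).Coprime (2 ^ k) :=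
    (Cfsg.Agent.Helper19.pPrimeCore_coprime (G := G) 2).pow_right k
  have h3 : orderOf x ∣ 1 := by
    have := Nat.dvd_gcd h2 h1
    rwa [hcop] at this
  exact orderOf_eq_one_iff.mp (Nat.dvd_one.mp h3)

theorem lift_rank
    (hI : ∀ S T : Sylow 2 G, S ≠ T → Cfsg.PRankLE 2 1 ↥((S : Subgroup G) ⊓ (T : Subgroup G)))
    (S' T' : Sylow 2 (G ⧸ Cfsg.oddCore G)) (hne : S' ≠ T') (B : Subgroup (G ⧸ Cfsg.oddCore G))
    (hBS : B ≤ S') (hBT : B ≤ T') (hBc : ∀ a ∈ B, ∀ b ∈ B, a * b = b * a)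
    (hB2 : ∀ a ∈ B, a * a = 1) : Nat.card B ≤ 2 := by
  have : Fact (Nat.Prime 2) := ⟨Nat.prime_two⟩
  obtain ⟨π, hπdef⟩ : ∃ π : G →* G ⧸ Cfsg.oddCore G, π = QuotientGroup.mk' (Cfsg.oddCore G) :=
    ⟨_, rfl⟩
  have hπ : Function.Surjective π := by rw [hπdef]; exact QuotientGroup.mk'_surjective _
  have hker : ∀ x, π x = 1 → x ∈ Cfsg.oddCore G := by
    intro x hx
    rw [hπdef] at hx
    exact (QuotientGroup.eq_one_iff x).mp hx
  -- injectivity on `2`-subgroups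
  have hinj : ∀ Q : Subgroup G, IsPGroup 2 Q → ∀ x ∈ Q, ∀ y ∈ Q, π x = π y → x = y := by
    intro Q hQ x hx y hy hxy
    have h1 : π (x * y⁻¹) = 1 := by rw [map_mul, map_inv, hxy, mul_inv_cancel]
    have h2 := eq_one_of_mem_oddCore hQ (Q.mul_mem hx (Q.inv_mem hy)) (hker _ h1)
    exact mul_inv_eq_one.mp h2
  obtain ⟨S₁, hS₁⟩ := Sylow.mapSurjective_surjective hπ 2 S'
  have hS₁' : (S₁ : Subgroup G).map π = S' := by rw [← hS₁]; rfl
  obtain ⟨A₁, hA₁⟩ : ∃ A₁ : Subgroup G, A₁ = (S₁ : Subgroup G) ⊓ B.comap π := ⟨_, rfl⟩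
  have hA₁S : A₁ ≤ S₁ := by rw [hA₁]; exact inf_le_left
  have hA₁B : ∀ a ∈ A₁, π a ∈ B := by
    intro a ha; rw [hA₁] at ha; exact ha.2
  have hsurj : ∀ b ∈ B, ∃ a ∈ A₁, π a = b := by
    intro b hb
    have h1 : b ∈ (S₁ : Subgroup G).map π := by rw [hS₁']; exact hBS hb
    obtain ⟨s, hs, rfl⟩ := h1
    exact ⟨s, by rw [hA₁]; exact ⟨hs, hb⟩, rfl⟩
  -- a Sylow subgroup over `T'` containing `A₁`
  obtain ⟨M, hM⟩ : ∃ M : Subgroup G, M = (T' : Subgroup (G ⧸ Cfsg.oddCore G)).comap π :=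
    ⟨_, rfl⟩
  have hA₁M : A₁ ≤ M := by
    intro a ha; rw [hM]; exact hBT (hA₁B a ha)
  have hA₁p : IsPGroup 2 A₁ := S₁.2.to_le hA₁S
  have hA₁Mp : IsPGroup 2 (A₁.subgroupOf M) :=
    hA₁p.comap_of_injective M.subtype M.subtype_injective
  obtain ⟨Q₀, hQ₀⟩ := hA₁Mp.exists_le_sylow
  obtain ⟨Q, hQdef⟩ : ∃ Q : Subgroup G, Q = (Q₀ : Subgroup M).map M.subtype := ⟨_, rfl⟩
  have hpQ : IsPGroup 2 Q := by rw [hQdef]; exact Q₀.2.map M.subtype
  have hQind : ¬ 2 ∣ Q.index := by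
    rw [hQdef, Subgroup.index_map_subtype Q₀.1]
    have h1 : M.index = (T' : Subgroup (G ⧸ Cfsg.oddCore G)).index := by
      rw [hM]; exact Subgroup.index_comap_of_surjective _ hπ
    rw [h1]
    exact Nat.Prime.not_dvd_mul Nat.prime_two Q₀.not_dvd_index T'.not_dvd_index
  obtain ⟨S₂, hS₂⟩ : ∃ S₂ : Sylow 2 G, (S₂ : Subgroup G) = Q := ⟨hpQ.toSylow hQind, rfl⟩
  have hQT : Q.map π ≤ T' := by
    rw [hQdef, Subgroup.map_le_iff_le_comap, ← hM]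
    exact Subgroup.map_subtype_le _
  have hS₂' : (S₂ : Subgroup G).map π = T' := by
    have h1 : ((S₂.mapSurjective hπ : Sylow 2 _) : Subgroup _) = (S₂ : Subgroup G).map π := rfl
    rw [← h1]
    exact ((S₂.mapSurjective hπ).3 T'.2 (by rw [h1, hS₂]; exact hQT)).symm
  have hne' : S₁ ≠ S₂ := by
    intro h
    apply hne
    apply Sylow.ext
    rw [← hS₁', ← hS₂', h]
  have hA₁S₂ : A₁ ≤ S₂ := by
    intro a ha
    rw [hS₂, hQdef]
    exact ⟨⟨a, hA₁M ha⟩, hQ₀ (Subgroup.mem_subgroupOf.mpr ha), rfl⟩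
  have hle : A₁ ≤ (S₁ : Subgroup G) ⊓ S₂ := le_inf hA₁S hA₁S₂
  have hcomm : ∀ a ∈ A₁, ∀ b ∈ A₁, a * b = b * a := by
    intro a ha b hb
    apply hinj A₁ hA₁p _ (A₁.mul_mem ha hb) _ (A₁.mul_mem hb ha)
    rw [map_mul, map_mul]
    exact hBc _ (hA₁B a ha) _ (hA₁B b hb)
  have hexp : ∀ a ∈ A₁, a * a = 1 := by
    intro a ha
    apply hinj A₁ hA₁p _ (A₁.mul_mem ha ha) _ A₁.one_mem
    rw [map_mul, map_one]
    exact hB2 _ (hA₁B a ha)
  have h2 := hI S₁ S₂ hne' (A₁.subgroupOf ((S₁ : Subgroup G) ⊓ S₂))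
    ⟨⟨fun a b => Subtype.ext (Subtype.ext (hcomm _ a.2 _ b.2))⟩⟩
    (fun a ha => by
      apply Subtype.ext
      rw [pow_two]
      exact hexp _ ha)
  rw [pow_one, Nat.card_congr (Subgroup.subgroupOfEquivOfLe hle).toEquiv] at h2
  refine le_trans ?_ h2
  have hf : Function.Surjective (fun a : A₁ => (⟨π a, hA₁B a a.2⟩ : B)) := by
    intro b
    obtain ⟨a, ha, hab⟩ := hsurj b b.2
    exact ⟨⟨a, ha⟩, Subtype.ext hab⟩
  exact Nat.card_le_card_of_surjective _ hf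

end Cfsg.Agent.Helper16.RankLift
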