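import Mathlib
import Cfsg.Agent.Helper11.SylowInter

set_option autoImplicit false

namespace Cfsg.Agent.Helper16

open Cfsg.Agent.Helper11

section
variable {G : Type*} [Group G]

/-- if conjugation by `a` maps a generating set of `D` into `D`, it maps `D` into `D`. -/
theorem conj_closure_le {S : Set G} {D : Subgroup G} (hD : D = Subgroup.closure S) (a : G)
    (h : ∀ s ∈ S, a * s * a⁻¹ ∈ D) : ∀ d ∈ D, a * d * a⁻¹ ∈ D := by
  intro d hd
  rw [hD] at hd
  induction hd using Subgroup.closure_induction with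
  | mem s hs => exact h s hs
  | one => simp
  | mul u v _ _ hu hv =>
    have : a * (u * v) * a⁻¹ = (a * u * a⁻¹) * (a * v * a⁻¹) := by simp [mul_assoc]
    rw [this]; exact D.mul_mem hu hv
  | inv u _ hu =>
    have : a * u⁻¹ * a⁻¹ = (a * u * a⁻¹)⁻¹ := by simp [mul_assoc]
    rw [this]; exact D.inv_mem hu

/-- Lemma A: a `p`-group `P`, a `P`-invariant subset `C₀ ⊆ P`, `D = ⟨C₀ ∩ D⟩` not containing `C₀`:
some element of `C₀` outside `D` normalizes `D`. -/
theorem exists_mem_normalizer_not_mem [Finite G] {p : ℕ} [Fact p.Prime] (P : Subgroup G)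
    (hP : IsPGroup p P) (C₀ : Set G) (hC₀P : C₀ ⊆ P)
    (hconj : ∀ a ∈ P, ∀ c ∈ C₀, a * c * a⁻¹ ∈ C₀) (D : Subgroup G) (hDP : D ≤ P)
    (hD : D = Subgroup.closure (C₀ ∩ D)) (hne : ¬ C₀ ⊆ D) :
    ∃ y ∈ C₀, y ∈ Subgroup.normalizer (D : Set G) ∧ y ∉ D := by
  let 𝒮 : Set (Subgroup G) := {E | D ≤ E ∧ E ≤ P ∧ C₀ ∩ E ⊆ D}
  have h𝒮ne : 𝒮.Nonempty := ⟨D, le_refl D, hDP, Set.inter_subset_right⟩
  obtain ⟨E, ⟨hDE, hEP, hCE⟩, hmax⟩ := (Set.toFinite 𝒮).exists_maximal h𝒮ne
  have hEneP : E ≠ P := by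
    rintro rfl
    apply hne
    intro c hc
    exact hCE ⟨hc, hC₀P hc⟩
  have hlt : E < P := lt_of_le_of_ne hEP hEneP
  have hgrow := lt_inf_normalizer P E hP hlt
  set E' := P ⊓ Subgroup.normalizer (E : Set G) with hE'
  have hE'not : ¬ (C₀ ∩ E' ⊆ D) := by
    intro hsub
    have hmem : E' ∈ 𝒮 := ⟨hDE.trans hgrow.le, inf_le_left, hsub⟩
    have := hmax hmem hgrow.le
    exact absurd this (not_le_of_gt hgrow)
  rw [Set.not_subset] at hE'not
  obtain ⟨y, ⟨hyC, hyE'⟩, hyD⟩ := hE'not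
  refine ⟨y, hyC, ?_, hyD⟩
  have hyP : y ∈ P := (Subgroup.mem_inf.mp hyE').1
  have hyN : y ∈ Subgroup.normalizer (E : Set G) := (Subgroup.mem_inf.mp hyE').2
  have key : ∀ a : G, a ∈ P → a ∈ Subgroup.normalizer (E : Set G) → ∀ d ∈ D, a * d * a⁻¹ ∈ D := by
    intro a haP haN
    apply conj_closure_le hD a
    rintro s ⟨hsC, hsD⟩
    apply hCE
    refine ⟨hconj a haP s hsC, ?_⟩
    exact (Subgroup.mem_normalizer_iff.mp haN s).mp (hDE hsD)
  rw [Subgroup.mem_normalizer_iff]
  intro h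
  constructor
  · exact key y hyP hyN h
  · intro hh
    have := key y⁻¹ (P.inv_mem hyP) (Subgroup.inv_mem _ hyN) _ hh
    simpa [mul_assoc] using this

end

universe u

/-- image of a pair-closure under conjugation -/
theorem map_conj_closure_pair {G : Type*} [Group G] (a y z : G) :
    (Subgroup.closure ({y, z} : Set G)).map (MulAut.conj a).toMonoidHom =
      Subgroup.closure ({a * y * a⁻¹, a * z * a⁻¹} : Set G) := by
  rw [MonoidHom.map_closure]
  congr 1
  ext w
  simp only [Set.mem_image, Set.mem_insert_iff, Set.mem_singleton_iff]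
  constructor
  · rintro ⟨v, rfl | rfl, rfl⟩
    · left; rfl
    · right; rfl
  · rintro (rfl | rfl)
    · exact ⟨y, Or.inl rfl, rfl⟩
    · exact ⟨z, Or.inr rfl, rfl⟩

set_option maxHeartbeats 1000000 in
/-- Baer–Suzuki, element form, by induction on the group order. -/
theorem bs_aux (p : ℕ) [Fact p.Prime] : ∀ n : ℕ, ∀ (G : Type u) [Group G] [Finite G],
    Nat.card G = n → ∀ x : G,
    (∀ g : G, IsPGroup p (Subgroup.closure ({x, g * x * g⁻¹} : Set G))) →
    ∀ P : Sylow p G, x ∈ P := by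
  intro n
  induction n using Nat.strong_induction_on with
  | _ n ih =>
  intro G _ _ hn x hx P₀
  by_contra hxP₀
  let C : Set G := {y | ∃ g : G, g * x * g⁻¹ = y}
  have hCconj : ∀ y ∈ C, ∀ a : G, a * y * a⁻¹ ∈ C := by
    rintro y ⟨g, rfl⟩ a
    exact ⟨a * g, by simp [mul_assoc]⟩
  have hxC : x ∈ C := ⟨1, by simp⟩
  have hCpair : ∀ y ∈ C, ∀ z ∈ C, IsPGroup p (Subgroup.closure ({y, z} : Set G)) := by
    rintro y ⟨a, rfl⟩ z ⟨b, rfl⟩
    have h1 := hx (a⁻¹ * b)
    have h2 := h1.map (MulAut.conj a).toMonoidHom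
    rw [map_conj_closure_pair] at h2
    have e : a * (a⁻¹ * b * x * (a⁻¹ * b)⁻¹) * a⁻¹ = b * x * b⁻¹ := by simp [mul_assoc]
    rwa [e] at h2
  -- hypothesis for each element of C
  have hChyp : ∀ y ∈ C, ∀ g : G, IsPGroup p (Subgroup.closure ({y, g * y * g⁻¹} : Set G)) :=
    fun y hy g => hCpair y hy _ (hCconj y hy g)
  -- the sets C ∩ P
  let S : Sylow p G → Set G := fun P => C ∩ (P : Set G)
  have hScard : ∀ P Q : Sylow p G, (S P).ncard = (S Q).ncard := by
    intro P Q
    obtain ⟨g, rfl⟩ := MulAction.exists_smul_eq G P Q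
    have : S (g • P) = (fun y => g * y * g⁻¹) '' (S P) := by
      ext w
      simp only [S, Set.mem_inter_iff, Set.mem_image, SetLike.mem_coe]
      constructor
      · rintro ⟨hwC, hwP⟩
        have hwP : g⁻¹ * w * g ∈ (P : Subgroup G) := (mem_smul_sylow_iff (R := P) (g := g) (y := w)).mp hwP
        refine ⟨g⁻¹ * w * g, ⟨?_, hwP⟩, by simp [mul_assoc]⟩
        have := hCconj w hwC g⁻¹
        simpa using this
      · rintro ⟨v, ⟨hvC, hvP⟩, rfl⟩
        refine ⟨hCconj v hvC g, ?_⟩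
        apply (mem_smul_sylow_iff (R := P) (g := g) (y := g * v * g⁻¹)).mpr
        have e : g⁻¹ * (g * v * g⁻¹) * g = v := by simp [mul_assoc]
        rw [e]; exact hvP
    rw [this]
    apply (Set.ncard_image_of_injective _ _).symm
    intro a b hab
    simpa using hab
  have hSsub : ∀ P Q : Sylow p G, S P ⊆ S Q → S P = S Q := by
    intro P Q h
    exact Set.eq_of_subset_of_ncard_le h (hScard Q P).le (Set.toFinite _)
  -- x lies in some Sylow subgroup
  obtain ⟨Q₀, hQ₀⟩ := (hx 1).exists_le_sylow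
  have hxQ₀ : x ∈ Q₀ := hQ₀ (Subgroup.subset_closure (by simp))
  -- the family of bad pairs
  let BP : Set (Sylow p G × Sylow p G) := {pq | S pq.1 ≠ S pq.2}
  have hBPne : BP.Nonempty := by
    refine ⟨(Q₀, P₀), ?_⟩
    show S Q₀ ≠ S P₀
    intro h
    have hxS : x ∈ S Q₀ := ⟨hxC, hxQ₀⟩
    rw [h] at hxS
    exact hxP₀ hxS.2
  obtain ⟨⟨P, Q⟩, hPQ, hmaxPQ⟩ :=
    Set.Finite.exists_maximalFor (fun pq : Sylow p G × Sylow p G => (S pq.1 ∩ S pq.2).ncard) BP
      (Set.toFinite BP) hBPne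
  have hPQ' : S P ≠ S Q := hPQ
  -- maximality: any pair with a strictly bigger intersection has equal sets
  have hmax : ∀ P' Q' : Sylow p G, (S P ∩ S Q).ncard < (S P' ∩ S Q').ncard → S P' = S Q' := by
    intro P' Q' hlt
    by_contra hne
    have := hmaxPQ (show (P', Q') ∈ BP from hne) hlt.le
    exact absurd hlt (not_lt_of_ge this)
  have hnotPQ : ¬ S P ⊆ S Q := fun h => hPQ' (hSsub P Q h)
  have hnotQP : ¬ S Q ⊆ S P := fun h => hPQ' (hSsub Q P h).symm
  obtain ⟨y₀, hy₀P, hy₀Q⟩ := Set.not_subset.mp hnotPQ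
  obtain ⟨z₀, hz₀Q, hz₀P⟩ := Set.not_subset.mp hnotQP
  -- strict growth helper
  have hgrowth : ∀ (R P' : Sylow p G) (w : G), S P ∩ S Q ⊆ S R ∩ S P' → w ∈ S R ∩ S P' →
      w ∉ S P ∩ S Q → S R = S P' := by
    intro R P' w hsub hw hw'
    apply hmax
    apply Set.ncard_lt_ncard _ (Set.toFinite _)
    exact ⟨hsub, fun h => hw' (h hw)⟩
  by_cases hempty : S P ∩ S Q = ∅
  · -- disjoint case
    have hyz := hCpair y₀ hy₀P.1 z₀ hz₀Q.1
    obtain ⟨R, hR⟩ := hyz.exists_le_sylow
    have hyR : y₀ ∈ R := hR (Subgroup.subset_closure (by simp))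
    have hzR : z₀ ∈ R := hR (Subgroup.subset_closure (by simp))
    have h1 : S R = S P := by
      apply hgrowth R P y₀ (by rw [hempty]; exact Set.empty_subset _) ⟨⟨hy₀P.1, hyR⟩, hy₀P⟩
      rw [hempty]; exact Set.notMem_empty _
    have h2 : S R = S Q := by
      apply hgrowth R Q z₀ (by rw [hempty]; exact Set.empty_subset _) ⟨⟨hz₀Q.1, hzR⟩, hz₀Q⟩
      rw [hempty]; exact Set.notMem_empty _
    exact hPQ' (h1.symm.trans h2)
  · -- D = ⟨C ∩ P ∩ Q⟩
    set D : Subgroup G := Subgroup.closure (S P ∩ S Q) with hDdef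
    have hDP : D ≤ (P : Subgroup G) := by
      rw [hDdef, Subgroup.closure_le]; exact fun w hw => hw.1.2
    have hDQ : D ≤ (Q : Subgroup G) := by
      rw [hDdef, Subgroup.closure_le]; exact fun w hw => hw.2.2
    have hSPD : S P ∩ (D : Set G) = S P ∩ S Q := by
      ext w; constructor
      · rintro ⟨hwP, hwD⟩; exact ⟨hwP, hwP.1, hDQ hwD⟩
      · rintro hw; exact ⟨hw.1, Subgroup.subset_closure hw⟩
    have hSQD : S Q ∩ (D : Set G) = S P ∩ S Q := by
      ext w; constructor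
      · rintro ⟨hwQ, hwD⟩; exact ⟨⟨hwQ.1, hDP hwD⟩, hwQ⟩
      · rintro hw; exact ⟨hw.2, Subgroup.subset_closure hw⟩
    have hDne : D ≠ ⊥ := by
      intro hD
      obtain ⟨w, hw⟩ := Set.nonempty_iff_ne_empty.mpr hempty
      have hwD : w ∈ D := Subgroup.subset_closure hw
      rw [hD, Subgroup.mem_bot] at hwD
      subst hwD
      -- 1 ∈ C means x = 1, then x ∈ P₀
      obtain ⟨g, hg⟩ := hw.1.1
      have : x = 1 := by
        have := congrArg (fun t => g⁻¹ * t * g) hg
        simpa [mul_assoc] using this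
      exact hxP₀ (this ▸ Subgroup.one_mem _)
    -- elements of C normalizing D
    obtain ⟨y, hyS, hyN, hyD⟩ := exists_mem_normalizer_not_mem (P : Subgroup G) P.2 (S P)
      (fun w hw => hw.2) (fun a ha c hc => ⟨hCconj c hc.1 a, P.mul_mem (P.mul_mem ha hc.2) (P.inv_mem ha)⟩)
      D hDP (by rw [hSPD]) (fun h => hnotPQ (fun w hw => ⟨hw.1, hDQ (h hw)⟩))
    obtain ⟨z, hzS, hzN, hzD⟩ := exists_mem_normalizer_not_mem (Q : Subgroup G) Q.2 (S Q)
      (fun w hw => hw.2) (fun a ha c hc => ⟨hCconj c hc.1 a, Q.mul_mem (Q.mul_mem ha hc.2) (Q.inv_mem ha)⟩)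
      D hDQ (by rw [hSQD]) (fun h => hnotQP (fun w hw => ⟨hw.1, hDP (h hw)⟩))
    have hyQ : y ∉ Q := fun h => hyD (Subgroup.subset_closure ⟨hyS, hyS.1, h⟩)
    have hzP : z ∉ P := fun h => hzD (Subgroup.subset_closure ⟨⟨hzS.1, h⟩, hzS⟩)
    by_cases hN : Subgroup.normalizer (D : Set G) = ⊤
    · -- D normal: pass to the quotient
      have hDn : D.Normal := Subgroup.normalizer_eq_top_iff.mp hN
      have hDp : IsPGroup p D := P.2.to_le hDP
      have hcardlt : Nat.card (G ⧸ D) < n := by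
        rw [← hn, Subgroup.card_eq_card_quotient_mul_card_subgroup D]
        have h1 : 1 < Nat.card D := by
          rw [Subgroup.one_lt_card_iff_ne_bot]; exact hDne
        have h2 : 0 < Nat.card (G ⧸ D) := Nat.card_pos
        nlinarith
      -- image of y satisfies the hypothesis
      have hyhyp : ∀ g : G ⧸ D, IsPGroup p (Subgroup.closure
          ({(QuotientGroup.mk' D y), g * (QuotientGroup.mk' D y) * g⁻¹} : Set (G ⧸ D))) := by
        intro g
        obtain ⟨g, rfl⟩ := QuotientGroup.mk'_surjective D g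
        have h1 := (hChyp y hyS.1 g).map (QuotientGroup.mk' D)
        rw [MonoidHom.map_closure] at h1
        have : (QuotientGroup.mk' D) '' ({y, g * y * g⁻¹} : Set G) =
            {(QuotientGroup.mk' D y), (QuotientGroup.mk' D g) * (QuotientGroup.mk' D y) * (QuotientGroup.mk' D g)⁻¹} := by
          rw [Set.image_pair]; simp
        rwa [this] at h1
      -- Sylow of the quotient containing the image of Q
      have hQimg : IsPGroup p ((Q : Subgroup G).map (QuotientGroup.mk' D)) := Q.2.map _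
      obtain ⟨Qbar, hQbar⟩ := hQimg.exists_le_sylow
      have hybar := ih _ hcardlt (G ⧸ D) rfl (QuotientGroup.mk' D y) hyhyp Qbar
      -- pull back
      have hcomap : IsPGroup p ((Qbar : Subgroup (G ⧸ D)).comap (QuotientGroup.mk' D)) := by
        apply Qbar.2.comap_of_ker_isPGroup
        rw [QuotientGroup.ker_mk']; exact hDp
      have hQle : (Q : Subgroup G) ≤ (Qbar : Subgroup (G ⧸ D)).comap (QuotientGroup.mk' D) := by
        intro q hq
        exact hQbar ⟨q, hq, rfl⟩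
      have := Q.3 hcomap hQle
      have hyQ' : y ∈ (Qbar : Subgroup (G ⧸ D)).comap (QuotientGroup.mk' D) := hybar
      rw [this] at hyQ'
      exact hyQ hyQ'
    · -- N = N_G(D) proper
      set N := Subgroup.normalizer (D : Set G) with hNdef
      have hcardlt : Nat.card N < n := by
        rw [← hn]
        exact lt_of_le_of_ne (Subgroup.card_le_card_group N)
          (fun h => hN (Subgroup.eq_top_of_card_eq N h))
      have hDN : D ≤ N := Subgroup.le_normalizer
      -- hypothesis in N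
      have hNhyp : ∀ w : G, w ∈ C → ∀ hw : w ∈ N, ∀ g : N, IsPGroup p (Subgroup.closure
          ({(⟨w, hw⟩ : N), g * (⟨w, hw⟩ : N) * g⁻¹} : Set N)) := by
        intro w hwC hw g
        have h1 := hChyp w hwC (g : G)
        have hle : (Subgroup.closure ({(⟨w, hw⟩ : N), g * (⟨w, hw⟩ : N) * g⁻¹} : Set N)).map N.subtype
            ≤ Subgroup.closure ({w, (g : G) * w * (g : G)⁻¹} : Set G) := by
          rw [MonoidHom.map_closure]
          apply Subgroup.closure_mono
          rintro _ ⟨v, rfl | rfl, rfl⟩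
          · left; rfl
          · right; simp
        have h2 := h1.to_le hle
        exact IsPGroup.of_equiv h2 (Subgroup.equivMapOfInjective _ N.subtype N.subtype_injective).symm
      have hDpN : IsPGroup p (D.subgroupOf N) :=
        (P.2.to_le hDP).comap_of_injective N.subtype N.subtype_injective
      obtain ⟨RN, hRN⟩ := hDpN.exists_le_sylow
      have hyRN := ih _ hcardlt N rfl ⟨y, hyN⟩ (hNhyp y hyS.1 hyN) RN
      have hzRN := ih _ hcardlt N rfl ⟨z, hzN⟩ (hNhyp z hzS.1 hzN) RN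
      have hRNp : IsPGroup p ((RN : Subgroup N).map N.subtype) := RN.2.map _
      obtain ⟨R, hR⟩ := hRNp.exists_le_sylow
      have hyR : y ∈ R := hR ⟨⟨y, hyN⟩, hyRN, rfl⟩
      have hzR : z ∈ R := hR ⟨⟨z, hzN⟩, hzRN, rfl⟩
      have hDR : D ≤ (R : Subgroup G) := by
        intro d hd
        exact hR ⟨⟨d, hDN hd⟩, hRN (Subgroup.mem_subgroupOf.mpr hd), rfl⟩
      have hsubR : ∀ w ∈ S P ∩ S Q, w ∈ S R := fun w hw =>
        ⟨hw.1.1, hDR (Subgroup.subset_closure hw)⟩
      have h1 : S R = S P :=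
        hgrowth R P y (fun w hw => ⟨hsubR w hw, hw.1⟩) ⟨⟨hyS.1, hyR⟩, hyS⟩ (fun h => hyQ h.2.2)
      have h2 : S R = S Q :=
        hgrowth R Q z (fun w hw => ⟨hsubR w hw, hw.2⟩) ⟨⟨hzS.1, hzR⟩, hzS⟩ (fun h => hzP h.1.2)
      exact hPQ' (h1.symm.trans h2)


section
variable {G : Type*} [Group G] [Finite G] (p : ℕ) [Fact p.Prime]

theorem iInf_sylow_normal : (⨅ P : Sylow p G, (P : Subgroup G)).Normal := by
  constructor
  intro n hn g
  rw [Subgroup.mem_iInf] at hn ⊢
  intro P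
  have h1 := hn (g⁻¹ • P)
  rw [mem_smul_sylow_iff] at h1
  simpa using h1

theorem iInf_sylow_isPGroup : IsPGroup p (⨅ P : Sylow p G, (P : Subgroup G) : Subgroup G) := by
  obtain ⟨P⟩ : Nonempty (Sylow p G) := inferInstance
  exact P.2.to_le (iInf_le _ P)

/-- Baer–Suzuki, element form. -/
theorem baer_suzuki_elt (x : G)
    (hx : ∀ g : G, IsPGroup p (Subgroup.closure ({x, g * x * g⁻¹} : Set G))) :
    x ∈ (⨅ P : Sylow p G, (P : Subgroup G) : Subgroup G) := by
  rw [Subgroup.mem_iInf]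
  intro P
  exact bs_aux p _ G rfl x hx P

end

end Cfsg.Agent.Helper16
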