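import Mathlib

set_option autoImplicit false

namespace Cfsg.Agent.Helper16

/-- A finite group with an element `x` of order `2^n` generating a subgroup of index 2 such that
no element outside `⟨x⟩` has order `2^n` has a 2-group as automorphism group. -/
theorem isPGroup_mulAut_of_index_two {G : Type*} [Group G] [Finite G] (x : G) (n : ℕ) (hn : 1 ≤ n)
    (hx : orderOf x = 2 ^ n) (hidx : (Subgroup.zpowers x).index = 2)
    (hout : ∀ g : G, g ∉ Subgroup.zpowers x → orderOf g ≠ 2 ^ n) : IsPGroup 2 (MulAut G) := by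
  classical
  obtain ⟨y, hy⟩ : ∃ y, y ∉ Subgroup.zpowers x := by
    by_contra h; push Not at h
    have : Subgroup.zpowers x = ⊤ := eq_top_iff.2 (fun g _ => h g)
    rw [this, Subgroup.index_top] at hidx; omega
  have hcover : ∀ g, g ∉ Subgroup.zpowers x → ∃ i : ℤ, g = y * x ^ i := by
    intro g hg
    have : y⁻¹ * g ∈ Subgroup.zpowers x := by
      rw [Subgroup.mul_mem_iff_of_index_two hidx]
      constructor
      · intro h; exact absurd (inv_mem_iff.1 h) hy
      · intro h; exact absurd h hg
    obtain ⟨i, hi⟩ := Subgroup.mem_zpowers_iff.1 this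
    exact ⟨i, by rw [hi]; group⟩
  have hxN : x ^ (2 ^ n) = 1 := by rw [← hx]; exact pow_orderOf_eq_one x
  intro φ
  have hφx : φ x ∈ Subgroup.zpowers x := by
    by_contra h
    exact hout _ h (by rw [MulEquiv.orderOf_eq, hx])
  obtain ⟨a, ha⟩ : ∃ a : ℕ, x ^ a = φ x := by
    rw [← mem_powers_iff_mem_zpowers] at hφx
    exact (Submonoid.mem_powers_iff _ _).1 hφx
  have hcop : Nat.Coprime a (2 ^ n) := by
    have h1 : orderOf (x ^ a) = 2 ^ n := by rw [ha, MulEquiv.orderOf_eq, hx]
    rw [orderOf_pow, hx] at h1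
    have h2 : (2 ^ n).gcd a = 1 := by
      rcases Nat.div_eq_self.1 h1 with h | h
      · exact absurd h (by positivity)
      · exact h
    exact (Nat.coprime_comm.1 h2)
  have hiter : ∀ j : ℕ, (φ ^ j) x = x ^ (a ^ j) := by
    intro j
    induction j with
    | zero => simp
    | succ j ih =>
      rw [pow_succ, MulAut.mul_apply, ← ha, map_pow, ih, ← pow_mul, ← pow_succ]
  set t := Nat.totient (2 ^ n) with ht
  have ht2 : t = 2 ^ (n - 1) := by
    rw [ht, Nat.totient_prime_pow Nat.prime_two (by omega)]; simp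
  have hψx : (φ ^ t) x = x := by
    rw [hiter t]
    have h1 : a ^ t ≡ 1 [MOD orderOf x] := by rw [hx]; exact Nat.ModEq.pow_totient hcop
    have := (pow_eq_pow_iff_modEq (x := x)).2 h1
    rw [this, pow_one]
  set ψ := φ ^ t with hψ
  have hfixC : ∀ g ∈ Subgroup.zpowers x, ψ g = g := by
    intro g hg
    obtain ⟨i, rfl⟩ := Subgroup.mem_zpowers_iff.1 hg
    rw [map_zpow, hψx]
  have hψy : ψ y ∉ Subgroup.zpowers x := by
    intro h
    have h1 := hfixC _ h
    have h2 : ψ y = y := ψ.injective h1
    rw [h2] at h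
    exact hy h
  have hc : y⁻¹ * ψ y ∈ Subgroup.zpowers x := by
    rw [Subgroup.mul_mem_iff_of_index_two hidx]
    constructor
    · intro h; exact absurd (inv_mem_iff.1 h) hy
    · intro h; exact absurd h hψy
  set c := y⁻¹ * ψ y with hcdef
  have hψy' : ψ y = y * c := by rw [hcdef]; group
  have hitery : ∀ j : ℕ, (ψ ^ j) y = y * c ^ j := by
    intro j
    induction j with
    | zero => simp
    | succ j ih =>
      rw [pow_succ', MulAut.mul_apply, ih, map_mul, hfixC _ (pow_mem hc j), hψy', pow_succ']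
      group
  have hiterx : ∀ j : ℕ, (ψ ^ j) x = x := by
    intro j
    induction j with
    | zero => simp
    | succ j ih => rw [pow_succ', MulAut.mul_apply, ih, hψx]
  have hcN : c ^ (2 ^ n) = 1 := by
    obtain ⟨i, hi⟩ := Subgroup.mem_zpowers_iff.1 hc
    rw [← hi, ← zpow_natCast, ← zpow_mul, mul_comm, zpow_mul, zpow_natCast, hxN, one_zpow]
  have hfinal : ψ ^ (2 ^ n) = 1 := by
    apply MulEquiv.ext
    intro g
    rw [MulAut.one_apply]
    by_cases hg : g ∈ Subgroup.zpowers x
    · obtain ⟨i, rfl⟩ := Subgroup.mem_zpowers_iff.1 hg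
      rw [map_zpow, hiterx]
    · obtain ⟨i, rfl⟩ := hcover g hg
      rw [map_mul, map_zpow, hiterx, hitery, hcN, mul_one]
  refine ⟨n - 1 + n, ?_⟩
  rw [pow_add, ← ht2, pow_mul]
  exact hfinal

/-- The automorphism group of a cyclic 2-group is a 2-group. -/
theorem isPGroup_mulAut_of_isCyclic {G : Type*} [Group G] [Finite G] [IsCyclic G] (k : ℕ)
    (hk : Nat.card G = 2 ^ k) : IsPGroup 2 (MulAut G) := by
  have h := IsCyclic.card_mulAut G
  rw [hk] at h
  rcases k with _ | k
  · rw [pow_zero, Nat.totient_one] at h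
    exact IsPGroup.of_card (n := 0) (by rw [h, pow_zero])
  · rw [Nat.totient_prime_pow Nat.prime_two (by omega)] at h
    exact IsPGroup.of_card (n := k) (by rw [h]; simp)

end Cfsg.Agent.Helper16
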