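import Mathlib
import Cfsg.Prelude.Def_OddOrderLocal
import Cfsg.Agent.Helper4.BG10g
import Cfsg.Agent.Helper21.BG10e
import Cfsg.Agent.Helper9.BG12f
import Cfsg.Agent.Lead.TT8
import Cfsg.Agent.Helper1.RankOneQ
import Cfsg.Agent.Lead.CoprimeSylow2
import Cfsg.Agent.Lead.GenCent
import Cfsg.Agent.Lead.Coprime3
import Cfsg.Agent.Lead.TT10
import Cfsg.Agent.S1451
import Cfsg.Agent.S1396

set_option autoImplicit false
set_option linter.unusedSectionVars false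
set_option linter.unusedVariables false
set_option linter.style.haveILetI false

/-! # Bender–Glauberman §11 (exceptional maximal subgroups), part (a): context and basics -/

namespace Cfsg.Agent.Helper16.BG11

open Subgroup Cfsg
open Cfsg.Agent.Helper14 (IsSylowIn cj map_cj_le_iff map_cj_mul map_cj_one map_cj_normalizer
  mem_normalizer_iff_map_cj map_cj_eq_self_of_mem le_normalizer_of_map_cj_le mem_map_cj
  exists_isSylowIn_ge exists_isSylowIn isSylowIn_of_sylow map_cj_centralizer map_cj_map_cj_inv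
  map_cj_inv_map_cj)

universe u

/-- The frozen statements of B&G §9–§10 (S1403–S1414, S1350) for `G`, as hypotheses. -/
structure BG (G : Type u) [Group G] [Finite G] : Prop where
  hG : Cfsg.IsMinSimpleOddOrder G
  s1403 : ∀ K : Subgroup G, K ≠ ⊤ → ¬ Cfsg.RankLE 1 K →
    (¬ Cfsg.RankLE 2 K ∨ ¬ Cfsg.RankLE 2 (Subgroup.centralizer (K : Set G))) →
      Cfsg.InUniqueMaximal K
  s1404 : ∀ M : Subgroup G, IsCoatom M → ∀ (p : ℕ) [Fact p.Prime], p ∈ Cfsg.sigma M →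
    ∀ X : Subgroup G, IsPGroup p X → X ≠ ⊥ → X ≤ M →
    (∀ g : G, X.map (MulAut.conj g).toMonoidHom ≤ M → ∃ m ∈ M, ∃ c ∈ Subgroup.centralizer (X : Set G), g = m * c) ∧
      Subgroup.normalizer (X : Set G) = (M ⊓ Subgroup.normalizer (X : Set G)) ⊔ Subgroup.centralizer (X : Set G)
  s1405 : ∀ M : Subgroup G, IsCoatom M →
    Cfsg.IsPiHallOf (Cfsg.alpha M) (Cfsg.alphaCore M) M ∧ Cfsg.IsPiHall (Cfsg.alpha M) (Cfsg.alphaCore M) ∧
      Cfsg.alphaCore M ≤ Cfsg.sigmaCore M ∧ Cfsg.RankLE 2 (↥M ⧸ Cfsg.piCore (Cfsg.alpha M) ↥M) ∧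
      Group.IsNilpotent ↥((commutator ↥M).map (QuotientGroup.mk' (Cfsg.piCore (Cfsg.alpha M) ↥M)))
  s1350 : ∀ M : Subgroup G, IsCoatom M →
    Cfsg.IsPiHallOf (Cfsg.sigma M) (Cfsg.sigmaCore M) M ∧ Cfsg.IsPiHall (Cfsg.sigma M) (Cfsg.sigmaCore M) ∧
      ∀ N : Subgroup G, M ≤ Subgroup.normalizer (N : Set G) → Cfsg.IsPiHallOf (Cfsg.sigma M) N M →
        N = Cfsg.sigmaCore M
  s1406 : ∀ M : Subgroup G, IsCoatom M → ∀ X : Subgroup G, X ≤ M →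
    (∀ p : ℕ, p.Prime → p ∣ Nat.card X → p ∉ Cfsg.alpha M) →
    ¬ Cfsg.RankLE 1 ↥(Cfsg.alphaCore M ⊓ Subgroup.centralizer (X : Set G)) →
    Cfsg.InUniqueMaximal (M ⊓ Subgroup.centralizer (X : Set G))
  s1408 : ∀ M : Subgroup G, IsCoatom M → ∀ (p : ℕ) [Fact p.Prime], p ∉ Cfsg.sigma M →
    Cfsg.PRankLE p 2 M → ¬ Cfsg.PRankLE p 1 M →
    ¬ Cfsg.IsIdealPrime p G ∧ ∀ A : Subgroup G, A ≤ M → Cfsg.IsElementaryAbelian p A → Nat.card A = p ^ 2 →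
        ∀ B : Subgroup G, Cfsg.IsElementaryAbelian p B → A ≤ B → B = A
  s1409 : ∀ M : Subgroup G, IsCoatom M → ∀ (p : ℕ) [Fact p.Prime], p ∉ Cfsg.sigma M →
    ∀ X : Subgroup G, Nat.card X = p → Subgroup.normalizer (X : Set G) ≤ M →
    (Cfsg.PRankLE p 2 M ∧ ¬ Cfsg.PRankLE p 1 M) ∧ ¬ Cfsg.IsIdealPrime p G ∧
      ∃ A : Subgroup G, Cfsg.IsElementaryAbelian p A ∧ Nat.card A = p ^ 2 ∧ X ≤ A
  s1410 : ∀ (p : ℕ) [Fact p.Prime] (H : Subgroup G), H ≠ ⊤ → Cfsg.PLengthLE p 1 H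
  s1411 : ∀ (p : ℕ) [Fact p.Prime] (P : Sylow p G) (V : Subgroup G),
    Cfsg.IsComplIn (P : Subgroup G) V (Subgroup.normalizer ((P : Subgroup G) : Set G)) →
    (P : Subgroup G) = ⁅(P : Subgroup G), V⁆ ∧
      (P : Subgroup G) ≤ ⁅Subgroup.normalizer ((P : Subgroup G) : Set G), Subgroup.normalizer ((P : Subgroup G) : Set G)⁆
  s1412 : ∀ (p : ℕ) [Fact p.Prime] (P : Sylow p G), Cfsg.PRankLE p 2 (P : Subgroup G) →
    IsMulCommutative (P : Subgroup G) ∨ ∃ P₁ P₂ : Subgroup G, P₁ ⊔ P₂ = (P : Subgroup G) ∧ (∀ a ∈ P₁, ∀ b ∈ P₂, a * b = b * a) ∧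
        ¬ IsMulCommutative P₁ ∧ Nat.card P₁ = p ^ 3 ∧ Monoid.exponent P₁ = p ∧ IsCyclic P₂ ∧
        Subgroup.closure {x : G | x ∈ P₂ ∧ x ^ p = 1} = P₁ ⊓ Subgroup.centralizer (P₁ : Set G)
  s1414 : ∀ M : Subgroup G, IsCoatom M →
    Cfsg.IsPiHallOf (Cfsg.beta M) (Cfsg.piCoreOf (Cfsg.beta M) M) M ∧ Cfsg.IsPiHall (Cfsg.beta M) (Cfsg.piCoreOf (Cfsg.beta M) M) ∧
      (∃ H : Subgroup G, Cfsg.IsPiHallOf {q | q.Prime ∧ q ∉ Cfsg.beta M} H ⁅M, M⁆ ∧ Group.IsNilpotent H) ∧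
      (∃ H : Subgroup G, Cfsg.IsPiHallOf {q | q.Prime ∧ q ∉ Cfsg.beta M} H (Cfsg.sigmaCore M) ∧ Group.IsNilpotent H) ∧
      ∀ p : ℕ, p.Prime → p ∣ Nat.card M → p ∉ Cfsg.beta M →
        Cfsg.HasNormalPComplement p ↥⁅M, M⁆ ∧ Cfsg.HasNormalPComplement p ↥(Cfsg.sigmaCore M) ∧
        ∀ q : ℕ, q.Prime → q ∣ (Cfsg.pPrimeCore p ↥M).index → q ≤ p

variable {G : Type u} [Group G] [Finite G]

namespace BG

theorem hS (h : BG G) : IsSimpleGroup G := h.hG.2.1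

theorem hodd (h : BG G) : Odd (Nat.card G) := h.hG.1

theorem uniq (h : BG G) : Cfsg.Agent.Helper4.BG10.Uniq G := h.s1403

theorem uniq96 (h : BG G) : Cfsg.Agent.Helper21.BG10.Uniq96 G := h.s1403

theorem st1350 (h : BG G) : Cfsg.Agent.H9.BG12.St1350 G := h.s1350

theorem st1404 (h : BG G) : Cfsg.Agent.H9.BG12.St1404 G := h.s1404

theorem ctl101 (h : BG G) : Cfsg.Agent.Helper21.BG10.Ctl101 G :=
  Cfsg.Agent.H9.BG12.ctl101_of h.s1404

theorem solv (h : BG G) {H : Subgroup G} (hH : H ≠ ⊤) : Group.IsSolvable H :=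
  h.hG.2.2.2 H hH

end BG

/-! ### generalities -/

/-- a nontrivial subgroup normalized by the maximal subgroup `M` has normalizer `M` -/
theorem normalizer_eq (h : BG G) {M X : Subgroup G} (hM : IsCoatom M) (hXM : X ≤ M) (hX1 : X ≠ ⊥)
    (hMX : M ≤ normalizer (X : Set G)) : normalizer (X : Set G) = M := by
  have hXt : X ≠ ⊤ := fun h' => hM.1 (top_le_iff.mp (h' ▸ hXM))
  exact Cfsg.Agent.Lead.BG9.eq_of_coatom_le hM hMX
    (Cfsg.Agent.Lead.TT.normalizer_ne_top_of_simple h.hS hX1 hXt)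

theorem coatom_solv (h : BG G) {M : Subgroup G} (hM : IsCoatom M) : Group.IsSolvable M :=
  h.solv hM.1

theorem solv_of_le (h : BG G) {M X : Subgroup G} (hM : IsCoatom M) (hXM : X ≤ M) :
    Group.IsSolvable X :=
  h.solv (fun h' => hM.1 (top_le_iff.mp (h' ▸ hXM)))

theorem dvd_card_of_isPGroup_ne_bot {p : ℕ} [Fact p.Prime] {P : Subgroup G} (hP : IsPGroup p P) (hP1 : P ≠ ⊥) :
    p ∣ Nat.card P := by
  obtain ⟨k, hk⟩ := IsPGroup.iff_card.mp hP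
  have hk0 : k ≠ 0 := by
    rintro rfl
    rw [pow_zero] at hk
    exact hP1 (Subgroup.card_eq_one.mp hk)
  rw [hk]
  exact dvd_pow_self p hk0

theorem mem_sigma_of_isSylowIn {M P : Subgroup G} {p : ℕ} [hp : Fact p.Prime]
    (hP : IsSylowIn p P M) (hP1 : P ≠ ⊥) (hN : normalizer (P : Set G) ≤ M) : p ∈ Cfsg.sigma M := by
  refine ⟨hp.out, ?_, hP.toSylow, ?_⟩
  · exact (dvd_card_of_isPGroup_ne_bot hP.2.1 hP1).trans (Subgroup.card_dvd_of_le hP.1)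
  · rw [hP.toSylow_map]
    exact hN

theorem map_cj_ne_bot {X : Subgroup G} (hX : X ≠ ⊥) (g : G) : X.map (cj g) ≠ ⊥ := by
  intro h0
  exact hX ((Subgroup.map_eq_bot_iff_of_injective _ (Cfsg.Agent.Helper14.cj_injective g)).mp h0)

theorem card_map_cj (X : Subgroup G) (g : G) : Nat.card (X.map (cj g)) = Nat.card X :=
  Subgroup.card_map_of_injective (Cfsg.Agent.Helper14.cj_injective g)

theorem mem_sigma_map_cj {M : Subgroup G} {p : ℕ} [hp : Fact p.Prime] (g : G)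
    (hpM : p ∈ Cfsg.sigma M) : p ∈ Cfsg.sigma (M.map (cj g)) := by
  obtain ⟨P, hP⟩ := exists_isSylowIn (p := p) M
  have hN := Cfsg.Agent.Helper4.BG10.sigma_normalizer_le hpM hP
  have hP1 := Cfsg.Agent.Helper4.BG10.sigma_ne_bot hpM hP
  refine mem_sigma_of_isSylowIn (hP.map_cj g) (map_cj_ne_bot hP1 g) ?_
  rw [← map_cj_normalizer]
  exact Subgroup.map_mono hN

/-- a Sylow subgroup of `M_σ` for a prime of `σ(M)` is a Sylow subgroup of `M` -/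
theorem isSylowIn_of_sigmaCore (h : BG G) {M Q : Subgroup G} (hM : IsCoatom M) {q : ℕ}
    [Fact q.Prime] (hq : q ∈ Cfsg.sigma M) (hQ : IsSylowIn q Q (Cfsg.sigmaCore M)) :
    IsSylowIn q Q M := by
  obtain ⟨Q', hQ', hle⟩ :=
    exists_isSylowIn_ge (hQ.1.trans (Cfsg.Agent.H9.BG12.sigmaCore_le M)) hQ.2.1
  have h1 : Q' ≤ Cfsg.sigmaCore M :=
    Cfsg.Agent.H9.BG12.le_sigmaCore_of_isPGroup h.st1350 hM hq hQ'.1 hQ'.2.1
  have h2 : Q' = Q := hQ.2.2 Q' h1 hQ'.2.1 hle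
  exact h2 ▸ hQ'

theorem not_dvd_card_sigmaCore {M : Subgroup G} {p : ℕ} [hp : Fact p.Prime]
    (hpM : p ∉ Cfsg.sigma M) : ¬ p ∣ Nat.card (Cfsg.sigmaCore M) :=
  fun hd => hpM (Cfsg.Agent.H9.BG12.mem_sigma_of_dvd_card_sigmaCore hp.out hd)

theorem coprime_card_sigmaCore {M A : Subgroup G} {p : ℕ} [hp : Fact p.Prime]
    (hpM : p ∉ Cfsg.sigma M) (hA : IsPGroup p A) :
    (Nat.card A).Coprime (Nat.card (Cfsg.sigmaCore M)) := by
  obtain ⟨k, hk⟩ := IsPGroup.iff_card.mp hA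
  rw [hk]
  exact Nat.Coprime.pow_left k ((Nat.Prime.coprime_iff_not_dvd hp.out).mpr
    (not_dvd_card_sigmaCore hpM))

/-- primes of `α(M)` are not in `σ(H)` for `H` not conjugate to `M` -/
theorem alpha_sigma_disjoint (h : BG G) {M H : Subgroup G} (hM : IsCoatom M) (hH : IsCoatom H)
    (hnc : ∀ g : G, M.map (cj g) ≠ H) {q : ℕ} (hqα : q ∈ Cfsg.alpha M) (hqσ : q ∈ Cfsg.sigma H) :
    False := by
  obtain ⟨hq, hr⟩ := hqα
  haveI : Fact q.Prime := ⟨hq⟩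
  obtain ⟨F, hFM, hFe, hFcard⟩ := Cfsg.Agent.Lead.TT.exists_elementary_of_not_pRankLE' 2 M hr
  have hFU := Cfsg.Agent.Helper4.BG10.uniq_of_cube h.hG h.uniq hFe hFcard
  have hFp := Cfsg.Agent.Helper4.BG10.isPGroup_of_elementary hFe
  obtain ⟨Q, hQ⟩ := exists_isSylowIn (p := q) H
  have hQtop := Cfsg.Agent.Helper4.BG10.sigma_isSylowIn_top hqσ hQ
  obtain ⟨S, hS, hFS⟩ := exists_isSylowIn_ge (le_top : F ≤ ⊤) hFp
  obtain ⟨g, -, rfl⟩ := hQtop.exists_conj hS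
  have h1 : F ≤ H.map (cj g) := hFS.trans (Subgroup.map_mono hQ.1)
  have h2 : M = H.map (cj g) :=
    hFU.unique ⟨hM, hFM⟩ ⟨Cfsg.Agent.Lead.BG9.isCoatom_map_cj hH g, h1⟩
  apply hnc g⁻¹
  rw [h2, map_cj_map_cj_inv]

/-- if `M_σ` is nilpotent, primes of `σ(M)` are not in `σ(H)` for `H` not conjugate to `M` -/
theorem sigma_disjoint_of_nilpotent (h : BG G) {M H : Subgroup G} (hM : IsCoatom M)
    (hH : IsCoatom H) (hnil : Group.IsNilpotent (Cfsg.sigmaCore M))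
    (hnc : ∀ g : G, M.map (cj g) ≠ H) {q : ℕ} (hqM : q ∈ Cfsg.sigma M) (hqH : q ∈ Cfsg.sigma H) :
    False := by
  haveI : Fact q.Prime := ⟨hqM.1⟩
  obtain ⟨Q, hQ⟩ := exists_isSylowIn (p := q) (Cfsg.sigmaCore M)
  have hQM := isSylowIn_of_sigmaCore h hM hqM hQ
  have hQ1 := Cfsg.Agent.Helper4.BG10.sigma_ne_bot hqM hQM
  have hQtop := Cfsg.Agent.Helper4.BG10.sigma_isSylowIn_top hqM hQM
  have hMQ : M ≤ normalizer (Q : Set G) :=
    Cfsg.Agent.H9.BG12.le_normalizer_sylow_of_nilpotent hnil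
      (Cfsg.Agent.H9.BG12.le_normalizer_sigmaCore M) hQ
  have hNQ := normalizer_eq h hM hQM.1 hQ1 hMQ
  obtain ⟨Q₂, hQ₂⟩ := exists_isSylowIn (p := q) H
  have hQ₂top := Cfsg.Agent.Helper4.BG10.sigma_isSylowIn_top hqH hQ₂
  have hNQ₂ := Cfsg.Agent.Helper4.BG10.sigma_normalizer_le hqH hQ₂
  obtain ⟨g, -, rfl⟩ := hQtop.exists_conj hQ₂top
  rw [← map_cj_normalizer, hNQ] at hNQ₂
  exact hnc g (Cfsg.Agent.Lead.BG9.eq_of_coatom_le (Cfsg.Agent.Lead.BG9.isCoatom_map_cj hM g)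
    hNQ₂ hH.1).symm

/-- orders of a `π`-group and a `π'`-group -/
theorem inf_eq_bot_of_primes {X Y : Subgroup G}
    (hXY : ∀ q : ℕ, q.Prime → q ∣ Nat.card X → q ∣ Nat.card Y → False) : X ⊓ Y = ⊥ := by
  rw [← Subgroup.card_eq_one]
  by_contra hne
  obtain ⟨q, hq, hqd⟩ := Nat.exists_prime_and_dvd hne
  exact hXY q hq (hqd.trans (Subgroup.card_dvd_of_le inf_le_left))
    (hqd.trans (Subgroup.card_dvd_of_le inf_le_right))

theorem prime_mem_alpha_of_dvd_card_alphaCore (h : BG G) {M : Subgroup G} (hM : IsCoatom M)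
    {q : ℕ} (hq : q.Prime) (hd : q ∣ Nat.card (Cfsg.alphaCore M)) : q ∈ Cfsg.alpha M :=
  (h.s1405 M hM).1.2.1 q hq hd

/-- `M_α ∩ H_σ = 1` for non-conjugate `M`, `H` -/
theorem alphaCore_inf_sigmaCore (h : BG G) {M H : Subgroup G} (hM : IsCoatom M) (hH : IsCoatom H)
    (hnc : ∀ g : G, M.map (cj g) ≠ H) : Cfsg.alphaCore M ⊓ Cfsg.sigmaCore H = ⊥ := by
  apply inf_eq_bot_of_primes
  intro q hq h1 h2
  exact alpha_sigma_disjoint h hM hH hnc (prime_mem_alpha_of_dvd_card_alphaCore h hM hq h1)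
    (Cfsg.Agent.H9.BG12.mem_sigma_of_dvd_card_sigmaCore hq h2)

/-- `M_σ ∩ H_σ = 1` for non-conjugate `M`, `H` with `M_σ` nilpotent -/
theorem sigmaCore_inf_sigmaCore (h : BG G) {M H : Subgroup G} (hM : IsCoatom M) (hH : IsCoatom H)
    (hnil : Group.IsNilpotent (Cfsg.sigmaCore M))
    (hnc : ∀ g : G, M.map (cj g) ≠ H) : Cfsg.sigmaCore M ⊓ Cfsg.sigmaCore H = ⊥ := by
  apply inf_eq_bot_of_primes
  intro q hq h1 h2
  exact sigma_disjoint_of_nilpotent h hM hH hnil hnc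
    (Cfsg.Agent.H9.BG12.mem_sigma_of_dvd_card_sigmaCore hq h1)
    (Cfsg.Agent.H9.BG12.mem_sigma_of_dvd_card_sigmaCore hq h2)

end Cfsg.Agent.Helper16.BG11
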