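import Mathlib
import Cfsg.Prelude.Def_OddOrderLocal
import Cfsg.Agent.Lead.TT7
import Cfsg.Agent.Lead.Carter0
import Cfsg.Agent.Helper19.Cores
import Cfsg.Agent.Helper1.UniqueOrderP
import Cfsg.Agent.Helper7.RankSylow
import Cfsg.Agent.Lead.Coprime3
import Cfsg.Agent.Lead.PiHallNormal

set_option autoImplicit false
set_option linter.unusedSectionVars false
set_option linter.unusedVariables false
set_option linter.style.haveILetI false

/-! # Bender–Glauberman §12, Lemma 12.1 (conditional on Theorem 10.2)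

General tools (rank one ⇒ unique subgroup of order `p`; a subgroup is contained in any subgroup
containing a Sylow subgroup of it for every prime) and the proof of B&G 12.1 from the two facts
`M_α ≤ M_σ`, `M'M_α/M_α` nilpotent of B&G 10.2. -/

namespace Cfsg.Agent.Helper16.BG12

open Subgroup Cfsg
open scoped commutatorElement

section general

/-- the closure of two commuting elements killed by `p` is commutative and killed by `p` -/
theorem closure_pair {P : Type*} [Group P] (a b : P) (hab : a * b = b * a) (p : ℕ)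
    (ha : a ^ p = 1) (hb : b ^ p = 1) :
    (∀ x ∈ closure ({a, b} : Set P), ∀ y ∈ closure ({a, b} : Set P), x * y = y * x) ∧
      ∀ x ∈ closure ({a, b} : Set P), x ^ p = 1 := by
  have h1 : closure ({a, b} : Set P) ≤ centralizer ({a, b} : Set P) := by
    rw [closure_le]
    rintro x (rfl | rfl)
    · rw [SetLike.mem_coe, mem_centralizer_iff]
      rintro y (rfl | rfl)
      · rfl
      · exact hab.symm
    · rw [SetLike.mem_coe, mem_centralizer_iff]
      rintro y (rfl | rfl)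
      · exact hab
      · rfl
  have hcomm : ∀ x ∈ closure ({a, b} : Set P), ∀ y ∈ closure ({a, b} : Set P), x * y = y * x := by
    intro x hx y hy
    have h2 : closure ({a, b} : Set P) ≤ centralizer ({x} : Set P) := by
      rw [closure_le]
      intro z hz
      rw [SetLike.mem_coe, mem_centralizer_singleton_iff]
      exact mem_centralizer_iff.mp (h1 hx) z hz
    have := h2 hy
    rw [mem_centralizer_singleton_iff] at this
    exact this.symm
  refine ⟨hcomm, ?_⟩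
  intro x hx
  induction hx using closure_induction with
  | mem z hz =>
    rcases hz with rfl | rfl
    · exact ha
    · exact hb
  | one => exact one_pow p
  | mul z w hz hw ihz ihw =>
    have : Commute z w := hcomm z hz w hw
    rw [this.mul_pow, ihz, ihw, one_mul]
  | inv z hz ihz => rw [inv_pow, ihz, inv_one]

/-- a `p`-group of `p`-rank at most one has at most one subgroup of order `p` -/
theorem uniqP_of_pRankLE_one {P : Type*} [Group P] [Finite P] {p : ℕ} [hp : Fact p.Prime]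
    (hP : IsPGroup p P) (h : Cfsg.PRankLE p 1 P) : Cfsg.Agent.Helper1.UniqP p P := by
  have key : ∀ H : Subgroup P, Nat.card H = p → ∃ z : P, z ∈ center P ∧ orderOf z = p ∧
      H = zpowers z := by
    intro H hH
    have hnt : Nontrivial P := by
      have : 1 < Nat.card H := by rw [hH]; exact hp.out.one_lt
      have := Finite.one_lt_card_iff_nontrivial.mp this
      obtain ⟨x, hx⟩ := exists_ne (1 : H)
      exact ⟨⟨x, 1, fun h0 => hx (Subtype.ext h0)⟩⟩
    have hcnt : Nontrivial (center P) := hP.center_nontrivial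
    have hdvd : p ∣ Nat.card (center P) := by
      obtain ⟨n, hn⟩ := (hP.to_subgroup (center P)).exists_card_eq
      rcases n with _ | n
      · rw [pow_zero] at hn
        have := Finite.one_lt_card_iff_nontrivial.mpr hcnt
        omega
      · rw [hn, pow_succ]; exact dvd_mul_left _ _
    obtain ⟨z, hz⟩ := exists_prime_orderOf_dvd_card' p hdvd
    have hzo : orderOf (z : P) = p := by rw [Subgroup.orderOf_coe]; exact hz
    refine ⟨z, z.2, hzo, ?_⟩
    have hlt : 1 < Nat.card H := by rw [hH]; exact hp.out.one_lt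
    have := Finite.one_lt_card_iff_nontrivial.mp hlt
    obtain ⟨x, hx⟩ := exists_ne (1 : H)
    have hx1 : (x : P) ≠ 1 := fun h0 => hx (Subtype.ext h0)
    have hxp : (x : P) ^ p = 1 := by
      have : x ^ Nat.card H = 1 := pow_card_eq_one'
      rw [hH] at this
      exact_mod_cast congrArg Subtype.val this
    have hxo : orderOf (x : P) = p := orderOf_eq_prime hxp hx1
    have hzp : (z : P) ^ p = 1 := by rw [← hzo]; exact pow_orderOf_eq_one _
    have hxz : (x : P) * z = z * x := (mem_center_iff.mp z.2 x)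
    obtain ⟨hcomm, hexp⟩ := closure_pair (x : P) (z : P) hxz p hxp hzp
    set A := closure ({(x : P), (z : P)} : Set P) with hA
    have hAc : IsMulCommutative A := ⟨⟨fun u v => Subtype.ext (hcomm u u.2 v v.2)⟩⟩
    have hAcard : Nat.card A ≤ p ^ 1 := h A hAc hexp
    rw [pow_one] at hAcard
    have hxA : zpowers (x : P) ≤ A := by
      rw [zpowers_le]; exact subset_closure (by simp)
    have hzA : zpowers (z : P) ≤ A := by
      rw [zpowers_le]; exact subset_closure (by simp)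
    have e1 : zpowers (x : P) = A :=
      eq_of_le_of_card_ge hxA (by rw [Nat.card_zpowers, hxo]; exact hAcard)
    have e2 : zpowers (z : P) = A :=
      eq_of_le_of_card_ge hzA (by rw [Nat.card_zpowers, hzo]; exact hAcard)
    have e3 : zpowers (x : P) = H :=
      eq_of_le_of_card_ge (by rw [zpowers_le]; exact x.2) (by rw [Nat.card_zpowers, hxo, hH])
    rw [← e3, e1, e2]
  intro H K hH hK
  obtain ⟨z, hzc, hzo, hHz⟩ := key H hH
  obtain ⟨w, hwc, hwo, hKw⟩ := key K hK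
  -- `zpowers z = zpowers w` by the same argument applied to `zpowers w`... use `key` again
  obtain ⟨hcomm, hexp⟩ := closure_pair z w (mem_center_iff.mp hwc z) p
    (by rw [← hzo]; exact pow_orderOf_eq_one _) (by rw [← hwo]; exact pow_orderOf_eq_one _)
  set A := closure ({z, w} : Set P) with hA
  have hAc : IsMulCommutative A := ⟨⟨fun u v => Subtype.ext (hcomm u u.2 v v.2)⟩⟩
  have hAcard : Nat.card A ≤ p ^ 1 := h A hAc hexp
  rw [pow_one] at hAcard
  have e1 : zpowers z = A :=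
    eq_of_le_of_card_ge (by rw [zpowers_le]; exact subset_closure (by simp))
      (by rw [Nat.card_zpowers, hzo]; exact hAcard)
  have e2 : zpowers w = A :=
    eq_of_le_of_card_ge (by rw [zpowers_le]; exact subset_closure (by simp))
      (by rw [Nat.card_zpowers, hwo]; exact hAcard)
  rw [hHz, hKw, e1, e2]

/-- a `p`-group of odd order of `p`-rank at most one is cyclic -/
theorem isCyclic_of_pRankLE_one {P : Type*} [Group P] [Finite P] {p : ℕ} [hp : Fact p.Prime]
    (hp2 : p ≠ 2) (hP : IsPGroup p P) (h : Cfsg.PRankLE p 1 P) : IsCyclic P :=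
  Cfsg.Agent.Helper1.UniqP.odd_case hp2 _ P rfl hP (uniqP_of_pRankLE_one hP h)

variable {G : Type*} [Group G] [Finite G]

/-- if `Y` contains a Sylow `p`-subgroup of `H` for every prime `p`, then `H ≤ Y` -/
theorem le_of_forall_sylow_le (H Y : Subgroup G)
    (h : ∀ (p : ℕ) [Fact p.Prime], ∃ P : Sylow p H, (P : Subgroup H).map H.subtype ≤ Y) :
    H ≤ Y := by
  have hdvd : Nat.card H ∣ Nat.card (H ⊓ Y : Subgroup G) := by
    rw [← Nat.factorization_prime_le_iff_dvd Nat.card_pos.ne' Nat.card_pos.ne']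
    intro p hp
    have : Fact p.Prime := ⟨hp⟩
    obtain ⟨P, hPY⟩ := h p
    have h1 : (P : Subgroup H).map H.subtype ≤ H ⊓ Y := le_inf (map_subtype_le _) hPY
    have h2 : Nat.card P ∣ Nat.card (H ⊓ Y : Subgroup G) := by
      have := card_dvd_of_le h1
      rwa [card_map_of_injective H.subtype_injective] at this
    rw [Sylow.card_eq_multiplicity] at h2
    exact (hp.pow_dvd_iff_le_factorization Nat.card_pos.ne').mp h2
  have hle : Nat.card H ≤ Nat.card (H ⊓ Y : Subgroup G) := Nat.le_of_dvd Nat.card_pos hdvd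
  have : H ⊓ Y = H := eq_of_le_of_card_ge inf_le_left hle
  rw [← this]; exact inf_le_right

end general


section main

variable {G : Type*} [Group G] [Finite G] {M E : Subgroup G}

/-- membership in `M_σ` through the subtype -/
theorem mem_sigmaCore_iff (m : ↥M) :
    (m : G) ∈ Cfsg.sigmaCore M ↔ m ∈ Cfsg.piCore (Cfsg.sigma M) ↥M := by
  unfold Cfsg.sigmaCore
  constructor
  · rintro ⟨y, hy, hym⟩
    have : y = m := Subtype.ext hym
    rwa [← this]
  · intro h; exact ⟨m, h, rfl⟩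

/-- `|M| = |E| |M_σ|` -/
theorem card_of_isComplIn {A B : Subgroup G} (h : Cfsg.IsComplIn A B M) :
    Nat.card M = Nat.card A * Nat.card B := by
  obtain ⟨hA, hB, hAB, hprod⟩ := h
  rw [← Nat.card_prod]
  symm
  apply Nat.card_congr
  refine Equiv.ofBijective (fun x : A × B => (⟨(x.1 : G) * x.2, mul_mem (hA x.1.2) (hB x.2.2)⟩ : M))
    ⟨?_, ?_⟩
  · rintro ⟨a, b⟩ ⟨a', b'⟩ hab
    have h1 : (a : G) * b = a' * b' := congrArg Subtype.val hab
    have h2 : (a' : G)⁻¹ * a = b' * (b : G)⁻¹ := by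
      rw [inv_mul_eq_iff_eq_mul, ← mul_assoc, ← h1, mul_inv_cancel_right]
    have h3 : (a' : G)⁻¹ * a ∈ A ⊓ B :=
      Subgroup.mem_inf.mpr ⟨A.mul_mem (A.inv_mem a'.2) a.2,
        by rw [h2]; exact B.mul_mem b'.2 (B.inv_mem b.2)⟩
    rw [hAB, mem_bot] at h3
    have ha : (a : G) = a' := by
      rw [inv_mul_eq_one] at h3; exact h3.symm
    have hb : (b : G) = b' := by
      rw [ha] at h1; exact mul_left_cancel h1
    exact Prod.ext (Subtype.ext ha) (Subtype.ext hb)
  · rintro ⟨m, hm⟩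
    obtain ⟨a, ha, b, hb, rfl⟩ := hprod m hm
    exact ⟨(⟨a, ha⟩, ⟨b, hb⟩), rfl⟩

/-- `M' ≤ E' M_σ` -/
theorem commutator_le_sup (hE : Cfsg.IsComplIn E (Cfsg.sigmaCore M) M) :
    ⁅M, M⁆ ≤ ⁅E, E⁆ ⊔ Cfsg.sigmaCore M := by
  obtain ⟨hEM, hSM, hES, hprod⟩ := hE
  rw [Subgroup.commutator_le]
  intro m₁ hm₁ m₂ hm₂
  obtain ⟨a₁, ha₁, b₁, hb₁, rfl⟩ := hprod m₁ hm₁
  obtain ⟨a₂, ha₂, b₂, hb₂, rfl⟩ := hprod m₂ hm₂
  set N := Cfsg.piCore (Cfsg.sigma M) ↥M with hN
  have hq : ∀ (a b : G) (ha : a ∈ E) (hb : b ∈ Cfsg.sigmaCore M),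
      (QuotientGroup.mk' N) ⟨a * b, mul_mem (hEM ha) (hSM hb)⟩ =
        (QuotientGroup.mk' N) ⟨a, hEM ha⟩ := by
    intro a b ha hb
    have e : (⟨a * b, mul_mem (hEM ha) (hSM hb)⟩ : ↥M) = ⟨a, hEM ha⟩ * ⟨b, hSM hb⟩ := rfl
    rw [e, map_mul]
    have : (QuotientGroup.mk' N) ⟨b, hSM hb⟩ = 1 := by
      rw [QuotientGroup.mk'_apply, QuotientGroup.eq_one_iff]
      exact (mem_sigmaCore_iff ⟨b, hSM hb⟩).mp hb
    rw [this, mul_one]
  have h1 : (QuotientGroup.mk' N) ⁅(⟨a₁ * b₁, hm₁⟩ : ↥M), ⟨a₂ * b₂, hm₂⟩⁆ =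
      (QuotientGroup.mk' N) ⁅(⟨a₁, hEM ha₁⟩ : ↥M), ⟨a₂, hEM ha₂⟩⁆ := by
    rw [map_commutatorElement, map_commutatorElement, hq a₁ b₁ ha₁ hb₁, hq a₂ b₂ ha₂ hb₂]
  rw [QuotientGroup.mk'_apply, QuotientGroup.mk'_apply, eq_comm, QuotientGroup.eq] at h1
  have h2 := (mem_sigmaCore_iff _).mpr h1
  have e2 : ((⁅(⟨a₁, hEM ha₁⟩ : ↥M), ⟨a₂, hEM ha₂⟩⁆⁻¹ *
      ⁅(⟨a₁ * b₁, hm₁⟩ : ↥M), ⟨a₂ * b₂, hm₂⟩⁆ : ↥M) : G) = ⁅a₁, a₂⁆⁻¹ * ⁅a₁ * b₁, a₂ * b₂⁆ := by
    simp [commutatorElement_def]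
  rw [e2] at h2
  have e3 : ⁅a₁ * b₁, a₂ * b₂⁆ = ⁅a₁, a₂⁆ * (⁅a₁, a₂⁆⁻¹ * ⁅a₁ * b₁, a₂ * b₂⁆) := by group
  rw [e3]
  exact mul_mem (mem_sup_left (commutator_mem_commutator ha₁ ha₂)) (mem_sup_right h2)

/-- `E ∩ M' ≤ E'` -/
theorem inf_commutator_le (hE : Cfsg.IsComplIn E (Cfsg.sigmaCore M) M) :
    E ⊓ ⁅M, M⁆ ≤ ⁅E, E⁆ := by
  intro x hx
  have h1 := commutator_le_sup hE hx.2
  obtain ⟨hEM, hSM, hES, hprod⟩ := hE
  have hnorm : ⁅E, E⁆ ≤ normalizer ((Cfsg.sigmaCore M : Subgroup G) : Set G) :=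
    ((commutator_le_self E).trans hEM).trans
      (Cfsg.Agent.Lead.TT.le_normalizer_piCoreOf (Cfsg.sigma M) M)
  rw [← SetLike.mem_coe, coe_mul_of_left_le_normalizer_right _ _ hnorm, Set.mem_mul] at h1
  obtain ⟨e', he', s, hs, rfl⟩ := h1
  have he'E : e' ∈ E := commutator_le_self E he'
  have hsE : s ∈ E := by
    have : s = e'⁻¹ * (e' * s) := by group
    rw [this]; exact mul_mem (inv_mem he'E) hx.1
  have : s ∈ E ⊓ Cfsg.sigmaCore M := Subgroup.mem_inf.mpr ⟨hsE, hs⟩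
  rw [hES, mem_bot] at this
  rw [this, mul_one]; exact he'


/-- **B&G 12.1(a)**: `E'` is nilpotent. -/
theorem derived_nilpotent (hE : Cfsg.IsComplIn E (Cfsg.sigmaCore M) M)
    (hα : Cfsg.alphaCore M ≤ Cfsg.sigmaCore M)
    (hnil : Group.IsNilpotent
      ↥((commutator ↥M).map (QuotientGroup.mk' (Cfsg.piCore (Cfsg.alpha M) ↥M)))) :
    Group.IsNilpotent ↥⁅E, E⁆ := by
  obtain ⟨hEM, hSM, hES, hprod⟩ := hE
  set Nα := Cfsg.piCore (Cfsg.alpha M) ↥M with hNα
  set Nσ := Cfsg.piCore (Cfsg.sigma M) ↥M with hNσ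
  have hle : Nα ≤ Nσ := by
    intro y hy
    have : (y : G) ∈ Cfsg.alphaCore M := ⟨y, hy, rfl⟩
    exact (mem_sigmaCore_iff y).mp (hα this)
  let f : ↥M ⧸ Nα →* ↥M ⧸ Nσ := QuotientGroup.map Nα Nσ (MonoidHom.id _) (by simpa using hle)
  have hf : f.comp (QuotientGroup.mk' Nα) = QuotientGroup.mk' Nσ := by
    ext x; rfl
  have hDσ : (commutator ↥M).map (QuotientGroup.mk' Nσ) =
      ((commutator ↥M).map (QuotientGroup.mk' Nα)).map f := by
    rw [Subgroup.map_map, hf]
  have hnilσ : Group.IsNilpotent ↥((commutator ↥M).map (QuotientGroup.mk' Nσ)) := by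
    rw [hDσ]
    exact Group.nilpotent_of_surjective
      (f.subgroupMap ((commutator ↥M).map (QuotientGroup.mk' Nα)))
      (f.subgroupMap_surjective _)
  have hDM : ⁅E, E⁆ ≤ M := (commutator_le_self E).trans hEM
  have hmem : ∀ x : ↥⁅E, E⁆, (QuotientGroup.mk' Nσ) (Subgroup.inclusion hDM x) ∈
      (commutator ↥M).map (QuotientGroup.mk' Nσ) := by
    intro x
    refine Subgroup.mem_map_of_mem _ ?_
    have h1 : (x : G) ∈ ⁅M, M⁆ := commutator_mono hEM hEM x.2
    rw [← map_subtype_commutator] at h1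
    obtain ⟨y, hy, hyx⟩ := h1
    have : y = Subgroup.inclusion hDM x := Subtype.ext hyx
    rw [← this]
    exact hy
  let g : ↥⁅E, E⁆ →* ↥((commutator ↥M).map (QuotientGroup.mk' Nσ)) :=
    ((QuotientGroup.mk' Nσ).comp (Subgroup.inclusion hDM)).codRestrict _ hmem
  have hg : Function.Injective g := by
    rw [← MonoidHom.ker_eq_bot_iff, eq_bot_iff]
    intro x hx
    rw [MonoidHom.mem_ker] at hx
    have h1 : (QuotientGroup.mk' Nσ) (Subgroup.inclusion hDM x) = 1 := congrArg Subtype.val hx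
    rw [QuotientGroup.mk'_apply, QuotientGroup.eq_one_iff] at h1
    have h2 : (x : G) ∈ Cfsg.sigmaCore M := (mem_sigmaCore_iff _).mpr h1
    have h3 : (x : G) ∈ E ⊓ Cfsg.sigmaCore M :=
      Subgroup.mem_inf.mpr ⟨commutator_le_self E x.2, h2⟩
    rw [hES, mem_bot] at h3
    rw [mem_bot]; exact Subtype.ext h3
  exact Cfsg.Agent.Lead.isNilpotent_of_injective g hg

/-- **B&G 12.1(c)**: a Hall `τ₁(M)`-subgroup of `E` is cyclic. -/
theorem tau1_hall_cyclic (hE : Cfsg.IsComplIn E (Cfsg.sigmaCore M) M) (E₁ : Subgroup G)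
    (h1 : Cfsg.IsPiHallOf (Cfsg.tau1 M) E₁ E) : IsCyclic E₁ := by
  obtain ⟨hEM, hSM, hES, hprod⟩ := hE
  obtain ⟨hE₁E, hπ, -⟩ := h1
  have hE₁M : E₁ ≤ M := hE₁E.trans hEM
  -- `E₁ ∩ M' = 1`
  have hinf : E₁ ⊓ ⁅M, M⁆ = ⊥ := by
    rw [eq_bot_iff]
    intro x hx
    rw [mem_bot]
    by_contra hx1
    have ho : orderOf x ≠ 1 := fun h => hx1 (orderOf_eq_one_iff.mp h)
    obtain ⟨q, hq, hqx⟩ := Nat.exists_prime_and_dvd ho
    have h1 : orderOf x ∣ Nat.card E₁ := by
      have := orderOf_dvd_natCard (⟨x, hx.1⟩ : E₁)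
      rwa [← Subgroup.orderOf_coe] at this
    have h2 : orderOf x ∣ Nat.card ↥⁅M, M⁆ := by
      have := orderOf_dvd_natCard (⟨x, hx.2⟩ : ↥⁅M, M⁆)
      rwa [← Subgroup.orderOf_coe] at this
    exact (hπ q hq (hqx.trans h1)).2.2.2.1 (hqx.trans h2)
  have hcomm : ∀ a ∈ E₁, ∀ b ∈ E₁, a * b = b * a := by
    intro a ha b hb
    have h1 : ⁅a, b⁆ ∈ E₁ ⊓ ⁅M, M⁆ :=
      Subgroup.mem_inf.mpr ⟨E₁.mul_mem (E₁.mul_mem (E₁.mul_mem ha hb) (E₁.inv_mem ha))
        (E₁.inv_mem hb), commutator_mem_commutator (hE₁M ha) (hE₁M hb)⟩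
    rw [hinf, mem_bot] at h1
    exact commutatorElement_eq_one_iff_mul_comm.mp h1
  have hc : IsMulCommutative ↥E₁ := ⟨⟨fun a b => Subtype.ext (hcomm a a.2 b b.2)⟩⟩
  letI : CommGroup ↥E₁ := { (inferInstance : Group ↥E₁) with mul_comm := fun a b => mul_comm' a b }
  have hZ : IsZGroup ↥E₁ := by
    refine ⟨fun p hp P => ?_⟩
    have : Fact p.Prime := ⟨hp⟩
    by_cases hP1 : Nat.card P = 1
    · have : Subsingleton ↥(P : Subgroup ↥E₁) := (Nat.card_eq_one_iff_unique.mp hP1).1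
      exact isCyclic_of_subsingleton
    · have hpd : p ∣ Nat.card E₁ := by
        obtain ⟨k, hk⟩ := P.isPGroup'.exists_card_eq
        have hk0 : k ≠ 0 := by
          rintro rfl
          exact hP1 (by rw [hk, pow_zero])
        have : p ∣ Nat.card P := by rw [hk]; exact dvd_pow_self p hk0
        exact this.trans (Subgroup.card_subgroup_dvd_card _)
      have hr : Cfsg.PRankLE p 1 ↥M := (hπ p hp hpd).2.2.2.2
      have hrP : Cfsg.PRankLE p 1 ↥(P : Subgroup ↥E₁) :=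
        Cfsg.Agent.Helper7.PRankLE.of_injective
          ((Subgroup.inclusion hE₁M).comp (P : Subgroup ↥E₁).subtype)
          ((Subgroup.inclusion_injective hE₁M).comp (Subgroup.subtype_injective _)) hr
      have hPc : IsMulCommutative ↥(P : Subgroup ↥E₁) :=
        ⟨⟨fun a b => Subtype.ext (mul_comm (a : ↥E₁) b)⟩⟩
      exact Cfsg.Agent.Helper1.UniqP.isCyclic_of_isMulCommutative P.isPGroup'
        (uniqP_of_pRankLE_one P.isPGroup' hrP)
  infer_instance


/-- in a finite group, a normal subgroup of index prime to `p` contains every `p`-subgroup -/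
theorem le_of_normal_of_not_dvd_index {X : Type*} [Group X] [Finite X] {p : ℕ} [hp : Fact p.Prime]
    (N : Subgroup X) [N.Normal] (hN : ¬ p ∣ N.index) (Q : Subgroup X) (hQ : IsPGroup p Q) :
    Q ≤ N := by
  intro x hx
  rw [← QuotientGroup.eq_one_iff]
  obtain ⟨k, hk⟩ := hQ ⟨x, hx⟩
  have hk' : x ^ p ^ k = 1 := congrArg Subtype.val hk
  have h1 : ((x : X) : X ⧸ N) ^ p ^ k = 1 := by
    rw [← QuotientGroup.mk_pow, hk']; rfl
  have h2 : ((x : X) : X ⧸ N) ^ Nat.card (X ⧸ N) = 1 := pow_card_eq_one'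
  have hcop : (p ^ k).Coprime (Nat.card (X ⧸ N)) := by
    rw [← Subgroup.index_eq_card]
    exact Nat.Coprime.pow_left k ((Nat.Prime.coprime_iff_not_dvd hp.out).mpr hN)
  have h3 := orderOf_dvd_of_pow_eq_one h1
  have h4 := orderOf_dvd_of_pow_eq_one h2
  exact orderOf_eq_one_iff.mp (Nat.eq_one_of_dvd_coprimes hcop h3 h4)

/-- **B&G 12.1(b),(d)**, Sylow by Sylow: for a Sylow `p`-subgroup `P` of a Hall
`τ₃(M)`-subgroup `E₃` of `E`: `P` is cyclic, lies in `E'` and is normal in `E`. -/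
theorem tau3_sylow (hodd : Odd (Nat.card G)) (hE : Cfsg.IsComplIn E (Cfsg.sigmaCore M) M)
    (hnilE : Group.IsNilpotent ↥⁅E, E⁆) (E₃ : Subgroup G)
    (h3 : Cfsg.IsPiHallOf (Cfsg.tau3 M) E₃ E) (p : ℕ) [hp : Fact p.Prime] (P : Sylow p ↥E₃) :
    IsCyclic ↥(P : Subgroup ↥E₃) ∧ (P : Subgroup ↥E₃).map E₃.subtype ≤ ⁅E, E⁆ ∧
      E ≤ normalizer (((P : Subgroup ↥E₃).map E₃.subtype : Subgroup G) : Set G) := by
  have hEM : E ≤ M := hE.1
  obtain ⟨hE₃E, hπ, hidx⟩ := h3
  have hE₃M : E₃ ≤ M := hE₃E.trans hEM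
  by_cases hP1 : Nat.card P = 1
  · have hsub : Subsingleton ↥(P : Subgroup ↥E₃) := (Nat.card_eq_one_iff_unique.mp hP1).1
    have hbot : (P : Subgroup ↥E₃) = ⊥ := (Subgroup.card_eq_one.mp hP1)
    refine ⟨isCyclic_of_subsingleton, ?_, ?_⟩
    · rw [hbot, Subgroup.map_bot]; exact bot_le
    · rw [hbot, Subgroup.map_bot]
      intro e _
      rw [mem_normalizer_iff]
      intro h
      simp [mem_bot]
  have hpd : p ∣ Nat.card E₃ := by
    obtain ⟨k, hk⟩ := P.isPGroup'.exists_card_eq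
    have hk0 : k ≠ 0 := by
      rintro rfl
      exact hP1 (by rw [hk, pow_zero])
    have : p ∣ Nat.card P := by rw [hk]; exact dvd_pow_self p hk0
    exact this.trans (Subgroup.card_subgroup_dvd_card _)
  obtain ⟨-, hpσ, hpM', hr⟩ := hπ p hp.out hpd
  have hp2 : p ≠ 2 := by
    rintro rfl
    have h2 : 2 ∣ Nat.card G := hpd.trans (Subgroup.card_subgroup_dvd_card _)
    exact (Nat.not_even_iff_odd.mpr hodd) (even_iff_two_dvd.mpr h2)
  set P' : Subgroup G := (P : Subgroup ↥E₃).map E₃.subtype with hP'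
  have hP'E₃ : P' ≤ E₃ := map_subtype_le _
  have hP'p : IsPGroup p P' := P.isPGroup'.map _
  have hP'card : Nat.card P' = Nat.card P := card_map_of_injective E₃.subtype_injective
  -- (i) cyclic
  have hcyc : IsCyclic ↥(P : Subgroup ↥E₃) := by
    have hrP : Cfsg.PRankLE p 1 ↥(P : Subgroup ↥E₃) :=
      Cfsg.Agent.Helper7.PRankLE.of_injective
        ((Subgroup.inclusion hE₃M).comp (P : Subgroup ↥E₃).subtype)
        ((Subgroup.inclusion_injective hE₃M).comp (Subgroup.subtype_injective _)) hr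
    exact isCyclic_of_pRankLE_one hp2 P.isPGroup' hrP
  -- (ii) `P' ≤ M'`
  have hP'M' : P' ≤ ⁅M, M⁆ := by
    -- a Sylow `p`-subgroup `Q` of `M` containing `P'`
    have hPMp : IsPGroup p (P'.subgroupOf M) := hP'p.comap_subtype
    obtain ⟨Q, hQ⟩ := hPMp.exists_le_sylow
    have hQc : IsCyclic ↥(Q : Subgroup ↥M) :=
      isCyclic_of_pRankLE_one hp2 Q.isPGroup'
        (Cfsg.Agent.Helper7.PRankLE.of_injective (Q : Subgroup ↥M).subtype
          (Subgroup.subtype_injective _) hr)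
    have hcardeq : Nat.card (commutator ↥M) = Nat.card ↥⁅M, M⁆ := by
      rw [← map_subtype_commutator, card_map_of_injective M.subtype_injective]
    have hidx' : ¬ p ∣ (commutator ↥M).index := by
      rcases Sylow.not_dvd_card_commutator_or_not_dvd_index_commutator Q with h | h
      · exact absurd (hcardeq ▸ hpM') h
      · exact h
    have h1 : P'.subgroupOf M ≤ commutator ↥M :=
      le_of_normal_of_not_dvd_index (commutator ↥M) hidx' _ hPMp
    intro x hx
    have hxM : x ∈ M := hE₃M (hP'E₃ hx)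
    have h2 : (⟨x, hxM⟩ : ↥M) ∈ commutator ↥M := h1 (mem_subgroupOf.mpr hx)
    rw [← map_subtype_commutator]
    exact ⟨⟨x, hxM⟩, h2, rfl⟩
  have hP'D : P' ≤ ⁅E, E⁆ := fun x hx =>
    inf_commutator_le hE (Subgroup.mem_inf.mpr ⟨hE₃E (hP'E₃ hx), hP'M' hx⟩)
  refine ⟨hcyc, hP'D, ?_⟩
  -- (iii) `P'` is the Sylow `p`-subgroup of the nilpotent group `E'`
  set D : Subgroup G := ⁅E, E⁆ with hD
  have hDE : D ≤ E := commutator_le_self E
  -- `|P'|` is the full `p`-part of `|E|`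
  have hfull : ∀ n : ℕ, p ^ n ∣ Nat.card E → p ^ n ∣ Nat.card P' := by
    intro n hn
    have h1 : Nat.card E = E₃.relIndex E * Nat.card E₃ :=
      Cfsg.Agent.Lead.card_eq_relIndex_mul_card hE₃E
    have h2 : ¬ p ∣ E₃.relIndex E := hidx p hp.out ⟨hp.out, hpσ, hpM', hr⟩
    have h3 : p ^ n ∣ Nat.card E₃ := by
      rw [h1] at hn
      exact (Nat.Coprime.pow_left n ((Nat.Prime.coprime_iff_not_dvd hp.out).mpr h2)).dvd_of_dvd_mul_left hn
    rw [hP'card, Sylow.card_eq_multiplicity]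
    exact pow_dvd_pow p
      ((hp.out.pow_dvd_iff_le_factorization Nat.card_pos.ne').mp h3)
  have hPDp : IsPGroup p (P'.subgroupOf D) := hP'p.comap_subtype
  obtain ⟨Q, hQ⟩ := hPDp.exists_le_sylow
  have hQeq : P'.subgroupOf D = (Q : Subgroup ↥D) := by
    apply eq_of_le_of_card_ge hQ
    obtain ⟨n, hn⟩ := Q.isPGroup'.exists_card_eq
    have h1 : p ^ n ∣ Nat.card E := by
      rw [← hn]
      exact (Subgroup.card_subgroup_dvd_card _).trans (Subgroup.card_dvd_of_le hDE)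
    have h2 := hfull n h1
    rw [hn, Nat.card_congr (subgroupOfEquivOfLe hP'D).toEquiv]
    exact Nat.le_of_dvd Nat.card_pos h2
  have hQn : (Q : Subgroup ↥D).Normal := inferInstance
  have hEnD : E ≤ normalizer (D : Set G) := Cfsg.Agent.Lead.le_normalizer_commutator_left E E
  -- conjugation by `E` preserves `P'`
  have hconj : ∀ e ∈ E, ∀ x ∈ P', e * x * e⁻¹ ∈ P' := by
    intro e he x hx
    have hy : e * x * e⁻¹ ∈ D := (mem_normalizer_iff.mp (hEnD he) x).mp (hP'D hx)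
    obtain ⟨k, hk⟩ := hP'p ⟨x, hx⟩
    have hk' : x ^ p ^ k = 1 := congrArg Subtype.val hk
    have hyk : (⟨e * x * e⁻¹, hy⟩ : ↥D) ^ p ^ k = 1 := by
      apply Subtype.ext
      rw [Subgroup.coe_pow, Subgroup.coe_one]
      show (e * x * e⁻¹) ^ p ^ k = 1
      rw [conj_pow, hk', mul_one, mul_inv_cancel]
    have hRp : IsPGroup p (zpowers (⟨e * x * e⁻¹, hy⟩ : ↥D)) := by
      rintro ⟨z, hz⟩
      obtain ⟨n, rfl⟩ := mem_zpowers_iff.mp hz
      refine ⟨k, Subtype.ext ?_⟩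
      rw [Subgroup.coe_pow, Subgroup.coe_one]
      show ((⟨e * x * e⁻¹, hy⟩ : ↥D) ^ n) ^ p ^ k = 1
      rw [← zpow_natCast, ← zpow_mul, mul_comm, zpow_mul, zpow_natCast, hyk, one_zpow]
    obtain ⟨Q', hQ'⟩ := hRp.exists_le_sylow
    have hQQ' : Q' = Q := by
      have hu := Sylow.unique_of_normal Q hQn
      exact (hu.uniq Q').trans (hu.uniq Q).symm
    have h1 : (⟨e * x * e⁻¹, hy⟩ : ↥D) ∈ (Q : Subgroup ↥D) := by
      rw [← hQQ']; exact hQ' (mem_zpowers _)
    rw [← hQeq, mem_subgroupOf] at h1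
    exact h1
  intro e he
  rw [mem_normalizer_iff]
  intro h
  constructor
  · exact hconj e he h
  · intro hh
    have := hconj e⁻¹ (E.inv_mem he) _ hh
    have e1 : e⁻¹ * (e * h * e⁻¹) * e⁻¹⁻¹ = h := by group
    rwa [e1] at this

/-- **B&G Lemma 12.1** from the two facts `M_α ≤ M_σ`, `M'M_α/M_α` nilpotent of B&G 10.2. -/
theorem lemma_12_1 (hodd : Odd (Nat.card G)) (hE : Cfsg.IsComplIn E (Cfsg.sigmaCore M) M)
    (hα : Cfsg.alphaCore M ≤ Cfsg.sigmaCore M)
    (hnil : Group.IsNilpotent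
      ↥((commutator ↥M).map (QuotientGroup.mk' (Cfsg.piCore (Cfsg.alpha M) ↥M)))) :
    Group.IsNilpotent ↥⁅E, E⁆ ∧
      (∀ E₁ : Subgroup G, Cfsg.IsPiHallOf (Cfsg.tau1 M) E₁ E → IsCyclic E₁) ∧
      ∀ E₃ : Subgroup G, Cfsg.IsPiHallOf (Cfsg.tau3 M) E₃ E →
        IsCyclic E₃ ∧ E₃ ≤ ⁅E, E⁆ ∧ E ≤ Subgroup.normalizer (E₃ : Set G) := by
  have hnilE := derived_nilpotent hE hα hnil
  refine ⟨hnilE, fun E₁ h1 => tau1_hall_cyclic hE E₁ h1, fun E₃ h3 => ?_⟩
  have hle : E₃ ≤ ⁅E, E⁆ := by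
    apply le_of_forall_sylow_le
    intro p hp
    exact ⟨default, (tau3_sylow hodd hE hnilE E₃ h3 p default).2.1⟩
  refine ⟨?_, hle, ?_⟩
  · have hZ : IsZGroup ↥E₃ := by
      refine ⟨fun p hp P => ?_⟩
      have : Fact p.Prime := ⟨hp⟩
      exact (tau3_sylow hodd hE hnilE E₃ h3 p P).1
    have hN : Group.IsNilpotent ↥E₃ :=
      Cfsg.Agent.Lead.isNilpotent_of_injective (Subgroup.inclusion hle)
        (Subgroup.inclusion_injective hle)
    infer_instance
  · intro e he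
    set Y : Subgroup G := E₃.map (MulAut.conj e).toMonoidHom with hY
    have hYcard : Nat.card Y = Nat.card E₃ :=
      card_map_of_injective (MulAut.conj e).injective
    have hEY : E₃ ≤ Y := by
      apply le_of_forall_sylow_le
      intro p hp
      refine ⟨default, ?_⟩
      intro x hx
      have hn := (tau3_sylow hodd hE hnilE E₃ h3 p default).2.2 (E.inv_mem he)
      have h1 := (mem_normalizer_iff.mp hn x).mp hx
      refine ⟨e⁻¹ * x * e⁻¹⁻¹, map_subtype_le _ h1, ?_⟩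
      simp [MulAut.conj_apply, mul_assoc]
    have hYE : Y = E₃ := (eq_of_le_of_card_ge hEY hYcard.le).symm
    rw [mem_normalizer_iff]
    intro h
    constructor
    · intro hh
      rw [← hYE]
      exact ⟨h, hh, by simp [MulAut.conj_apply]⟩
    · intro hh
      rw [← hYE] at hh
      obtain ⟨h', hh', hh''⟩ := hh
      have : h' = h := by
        have e1 : e * h' * e⁻¹ = e * h * e⁻¹ := by simpa [MulAut.conj_apply] using hh''
        exact mul_left_cancel (mul_right_cancel e1)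
      rw [← this]; exact hh'

end main

end Cfsg.Agent.Helper16.BG12
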