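import Mathlib
import Cfsg.Agent.Helper16.BG11a

set_option autoImplicit false
set_option linter.unusedSectionVars false
set_option linter.unusedVariables false
set_option linter.style.haveILetI false

/-! # Bender–Glauberman §11, part (b): exceptional maximal subgroups, 11.1–11.4 -/

namespace Cfsg.Agent.Helper16.BG11

open Subgroup Cfsg
open Cfsg.Agent.Helper14 (IsSylowIn cj map_cj_le_iff map_cj_mul map_cj_one map_cj_normalizer
  mem_normalizer_iff_map_cj map_cj_eq_self_of_mem le_normalizer_of_map_cj_le mem_map_cj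
  exists_isSylowIn_ge exists_isSylowIn isSylowIn_of_sylow map_cj_centralizer map_cj_map_cj_inv
  map_cj_inv_map_cj)
open Cfsg.Agent.Lead.TT (IsMaxInv)

universe u
variable {G : Type u} [Group G] [Finite G]

/-! ### small tools -/

theorem IsSylowIn.ne_bot_of_dvd {q : ℕ} [hq : Fact q.Prime] {Q K : Subgroup G}
    (hQ : IsSylowIn q Q K) (hd : q ∣ Nat.card K) : Q ≠ ⊥ := by
  rintro rfl
  have h1 := Cfsg.Agent.Lead.BG8.IsSylowIn.card_eq hQ
  rw [Subgroup.card_bot] at h1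
  have h2 : (Nat.card K).factorization q = 0 := by
    by_contra hne
    have : 1 < q ^ (Nat.card K).factorization q := Nat.one_lt_pow hne hq.out.one_lt
    omega
  rcases (Nat.factorization_eq_zero_iff _ _).mp h2 with h3 | h3 | h3
  · exact h3 hq.out
  · exact h3 hd
  · exact Nat.card_pos.ne' h3

theorem isMaxInv_of_isSylowIn_top {q : ℕ} [Fact q.Prime] {E Q : Subgroup G}
    (hQ : IsSylowIn q Q ⊤) (hE : E ≤ normalizer (Q : Set G)) : IsMaxInv q E Q :=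
  ⟨hQ.2.1, hE, fun R hR _ hle => hQ.2.2 R le_top hR hle⟩

/-- coprime action: an invariant Sylow subgroup containing a given invariant `q`-subgroup -/
theorem exists_invariant_sylow_ge (A K U : Subgroup G) (hAK : A ≤ normalizer (K : Set G))
    (hcop : (Nat.card A).Coprime (Nat.card K)) (hsolv : Group.IsSolvable A ∨ Group.IsSolvable K)
    (q : ℕ) [Fact q.Prime] (hUK : U ≤ K) (hU : IsPGroup q U)
    (hUA : A ≤ normalizer (U : Set G)) :
    ∃ Q : Subgroup G, IsSylowIn q Q K ∧ U ≤ Q ∧ A ≤ normalizer (Q : Set G) := by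
  obtain ⟨P, h1, h2⟩ :=
    Cfsg.Agent.Lead.coprime_invariant_pgroup_le_sylow A K hAK hcop hsolv q U hUK hU hUA
  exact ⟨_, isSylowIn_of_sylow P, h1, h2⟩

theorem exists_invariant_sylow (A K : Subgroup G) (hAK : A ≤ normalizer (K : Set G))
    (hcop : (Nat.card A).Coprime (Nat.card K)) (hsolv : Group.IsSolvable A ∨ Group.IsSolvable K)
    (q : ℕ) [Fact q.Prime] :
    ∃ Q : Subgroup G, IsSylowIn q Q K ∧ A ≤ normalizer (Q : Set G) := by
  obtain ⟨P, h1⟩ := Cfsg.Agent.Lead.coprime_exists_invariant_sylow A K hAK hcop hsolv q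
  exact ⟨_, isSylowIn_of_sylow P, h1⟩

theorem zpowers_eq_of_card_prime {X : Subgroup G} {p : ℕ} (hp : p.Prime) (hX : Nat.card X = p)
    {a : G} (ha : a ∈ X) (ha1 : a ≠ 1) : zpowers a = X := by
  apply Subgroup.eq_of_le_of_card_ge (zpowers_le.mpr ha)
  rw [hX, Nat.card_zpowers]
  have h1 : orderOf a ∣ p := hX ▸ Subgroup.orderOf_dvd_natCard X ha
  rcases (Nat.dvd_prime hp).mp h1 with h2 | h2
  · exact absurd (orderOf_eq_one_iff.mp h2) ha1
  · exact h2.ge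

theorem exists_mem_ne_one_of_card_prime {X : Subgroup G} {p : ℕ} (hp : p.Prime)
    (hX : Nat.card X = p) : ∃ a ∈ X, a ≠ 1 := by
  by_contra hcon
  push Not at hcon
  have : X = ⊥ := (Subgroup.eq_bot_iff_forall X).mpr hcon
  rw [this, Subgroup.card_bot] at hX
  exact hp.one_lt.ne hX

theorem isSylowIn_top_map_cj {q : ℕ} {Q : Subgroup G} (hQ : IsSylowIn q Q ⊤) (g : G) :
    IsSylowIn q (Q.map (cj g)) ⊤ := by
  have := hQ.map_cj g
  rwa [map_cj_eq_self_of_mem (mem_top g)] at this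

/-! ### exceptional maximal subgroups -/

/-- the hypothesis of B&G §11: `p ∉ σ(M)`, `A ≤ M` elementary abelian of order `p ^ 2`
and a subgroup `A₀` of order `p` of `A` with `N_G(A₀) ≤ M` -/
structure Exc (M : Subgroup G) (p : ℕ) (A A₀ : Subgroup G) : Prop where
  hM : IsCoatom M
  hp : p ∉ Cfsg.sigma M
  hAM : A ≤ M
  hAe : Cfsg.IsElementaryAbelian p A
  hA2 : Nat.card A = p ^ 2
  hA₀A : A₀ ≤ A
  hA₀p : Nat.card A₀ = p
  hN : normalizer (A₀ : Set G) ≤ M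

namespace Exc

variable {p : ℕ} [hp : Fact p.Prime] {M A A₀ : Subgroup G}

theorem hAp (e : Exc M p A A₀) : IsPGroup p A :=
  Cfsg.Agent.Helper4.BG10.isPGroup_of_elementary e.hAe

theorem hAsolv (e : Exc M p A A₀) : Group.IsSolvable A :=
  Cfsg.Agent.Lead.BG8.isSolvable_of_isPGroup e.hAp

theorem hA1 (e : Exc M p A A₀) : A ≠ ⊥ := by
  intro h0
  have := e.hA2
  rw [h0, Subgroup.card_bot] at this
  have h2 : 1 < p ^ 2 := Nat.one_lt_pow (by norm_num) hp.out.one_lt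
  omega

theorem rank (h : BG G) (e : Exc M p A A₀) : Cfsg.PRankLE p 2 M ∧ ¬ Cfsg.PRankLE p 1 M :=
  (h.s1409 M e.hM p e.hp A₀ e.hA₀p e.hN).1

theorem max (h : BG G) (e : Exc M p A A₀) :
    ∀ B : Subgroup G, Cfsg.IsElementaryAbelian p B → A ≤ B → B = A :=
  (h.s1408 M e.hM p e.hp (e.rank h).1 (e.rank h).2).2 A e.hAM e.hAe e.hA2

theorem cent_le (e : Exc M p A A₀) : centralizer (A : Set G) ≤ M :=
  (centralizer_le e.hA₀A).trans ((centralizer_le_normalizer _).trans e.hN)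

theorem cent_singleton_le (e : Exc M p A A₀) {a : G} (ha : a ∈ A₀) (ha1 : a ≠ 1) :
    centralizer ({a} : Set G) ≤ M := by
  have h1 := zpowers_eq_of_card_prime hp.out e.hA₀p ha ha1
  rw [← Cfsg.Agent.Helper4.BG10.centralizer_zpowers_eq, h1]
  exact (centralizer_le_normalizer _).trans e.hN

theorem mem_iff (h : BG G) (e : Exc M p A A₀) :
    ∀ x ∈ centralizer (A : Set G), x ^ p = 1 ↔ x ∈ A := by
  intro x hx
  constructor
  · intro hxp
    have hz : Cfsg.IsElementaryAbelian p (zpowers x) := by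
      refine ⟨inferInstance, ?_⟩
      intro a ha
      obtain ⟨k, rfl⟩ := mem_zpowers_iff.mp ha
      rw [← zpow_natCast, ← zpow_mul, mul_comm, zpow_mul, zpow_natCast, hxp, one_zpow]
    have hB : Cfsg.IsElementaryAbelian p (A ⊔ zpowers x) :=
      Cfsg.Agent.Helper7.isElementaryAbelian_sup_of_commute e.hAe hz (by
        intro a ha b hb
        obtain ⟨k, rfl⟩ := mem_zpowers_iff.mp hb
        have hc : Commute a x := mem_centralizer_iff.mp hx a ha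
        exact (hc.zpow_right k).eq)
    have h1 := e.max h _ hB le_sup_left
    rw [← h1]
    exact (le_sup_right : zpowers x ≤ A ⊔ zpowers x) (mem_zpowers x)
  · exact e.hAe.2 x

theorem dvd_card (e : Exc M p A A₀) : p ∣ Nat.card G := by
  have h1 : p ∣ Nat.card A := by rw [e.hA2]; exact dvd_pow_self p (by norm_num)
  exact h1.trans (Subgroup.card_subgroup_dvd_card A)

theorem trans (h : BG G) (e : Exc M p A A₀) : Cfsg.TransitivityHypothesis A :=
  Cfsg.Agent.S1396.result h.hG p e.dvd_card A e.hAp e.hAe.1 (Or.inl ⟨e.mem_iff h, h.s1410 p⟩)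

theorem hAσ (e : Exc M p A A₀) : A ≤ normalizer (Cfsg.sigmaCore M : Set G) :=
  e.hAM.trans (Cfsg.Agent.H9.BG12.le_normalizer_sigmaCore M)

theorem hcop (e : Exc M p A A₀) : (Nat.card A).Coprime (Nat.card (Cfsg.sigmaCore M)) :=
  coprime_card_sigmaCore e.hp e.hAp

/-- **B&G 11.1**: if `g ∉ M` and `A ≤ M^g` then `M_σ ∩ M^g = 1`. -/
theorem inf_map_cj_eq_bot (h : BG G) (e : Exc M p A A₀) {g : G} (hg : g ∉ M)
    (hAg : A ≤ M.map (cj g)) : Cfsg.sigmaCore M ⊓ M.map (cj g) = ⊥ := by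
  by_contra hne
  obtain ⟨D, hDdef⟩ : ∃ D : Subgroup G, D = Cfsg.sigmaCore M ⊓ M.map (cj g) := ⟨_, rfl⟩
  rw [← hDdef] at hne
  have hDσ : D ≤ Cfsg.sigmaCore M := hDdef ▸ inf_le_left
  have hDg : D ≤ M.map (cj g) := hDdef ▸ inf_le_right
  have hAD : A ≤ normalizer (D : Set G) := by
    rw [hDdef]
    exact Cfsg.Agent.Lead.le_normalizer_inf' e.hAσ (hAg.trans le_normalizer)
  have hcopD : (Nat.card A).Coprime (Nat.card D) :=
    e.hcop.coprime_dvd_right (Subgroup.card_dvd_of_le hDσ)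
  have hD1 : Nat.card D ≠ 1 := fun h1 => hne (Subgroup.card_eq_one.mp h1)
  obtain ⟨q, hq, hqD⟩ := Nat.exists_prime_and_dvd hD1
  haveI : Fact q.Prime := ⟨hq⟩
  have hqσ : q ∈ Cfsg.sigma M :=
    Cfsg.Agent.H9.BG12.mem_sigma_of_dvd_card_sigmaCore hq
      (hqD.trans (Subgroup.card_dvd_of_le hDσ))
  have hqA : ¬ q ∣ Nat.card A := fun hd =>
    hq.one_lt.ne' (Nat.eq_one_of_dvd_coprimes hcopD hd hqD)
  -- an `A`-invariant Sylow `q`-subgroup `Q` of `D`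
  obtain ⟨Q, hQsyl, hAQ⟩ := exists_invariant_sylow A D hAD hcopD (Or.inl e.hAsolv) q
  have hQ1 : Q ≠ ⊥ := IsSylowIn.ne_bot_of_dvd hQsyl hqD
  have hQD : Q ≤ D := hQsyl.1
  have hQq : IsPGroup q Q := hQsyl.2.1
  -- `Q₁`
  obtain ⟨Q₁, hQ₁syl, hQQ₁, hAQ₁⟩ := exists_invariant_sylow_ge A (Cfsg.sigmaCore M) Q e.hAσ e.hcop
    (Or.inl e.hAsolv) q (hQD.trans hDσ) hQq hAQ
  have hQ₁M : IsSylowIn q Q₁ M := isSylowIn_of_sigmaCore h e.hM hqσ hQ₁syl
  have hQ₁top : IsSylowIn q Q₁ ⊤ := Cfsg.Agent.Helper4.BG10.sigma_isSylowIn_top hqσ hQ₁M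
  -- `Q₂`, through `g⁻¹`
  have hA'M : A.map (cj g⁻¹) ≤ M := by
    rw [map_cj_le_iff, inv_inv]
    exact hAg
  have hQ'M : Q.map (cj g⁻¹) ≤ M := by
    rw [map_cj_le_iff, inv_inv]
    exact hQD.trans hDg
  have hQ'σ : Q.map (cj g⁻¹) ≤ Cfsg.sigmaCore M :=
    Cfsg.Agent.H9.BG12.le_sigmaCore_of_isPGroup h.st1350 e.hM hqσ hQ'M (hQq.map _)
  have hA'Q' : A.map (cj g⁻¹) ≤ normalizer ((Q.map (cj g⁻¹) : Subgroup G) : Set G) := by
    rw [← map_cj_normalizer]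
    exact Subgroup.map_mono hAQ
  have hA'σ : A.map (cj g⁻¹) ≤ normalizer (Cfsg.sigmaCore M : Set G) :=
    hA'M.trans (Cfsg.Agent.H9.BG12.le_normalizer_sigmaCore M)
  have hcop' : (Nat.card (A.map (cj g⁻¹))).Coprime (Nat.card (Cfsg.sigmaCore M)) := by
    rw [card_map_cj]
    exact e.hcop
  have hsolv' : Group.IsSolvable (A.map (cj g⁻¹)) :=
    Cfsg.Agent.Lead.BG8.isSolvable_of_isPGroup (e.hAp.map _)
  obtain ⟨Q₂', hQ₂'syl, hQQ₂', hAQ₂'⟩ := exists_invariant_sylow_ge (A.map (cj g⁻¹))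
    (Cfsg.sigmaCore M) (Q.map (cj g⁻¹)) hA'σ hcop' (Or.inl hsolv') q hQ'σ (hQq.map _) hA'Q'
  have hQ₂'M : IsSylowIn q Q₂' M := isSylowIn_of_sigmaCore h e.hM hqσ hQ₂'syl
  have hQ₂'top : IsSylowIn q Q₂' ⊤ := Cfsg.Agent.Helper4.BG10.sigma_isSylowIn_top hqσ hQ₂'M
  have hQ₂top : IsSylowIn q (Q₂'.map (cj g)) ⊤ := isSylowIn_top_map_cj hQ₂'top g
  have hQQ₂ : Q ≤ Q₂'.map (cj g) := by
    have := Subgroup.map_mono (f := cj g) hQQ₂'
    rwa [map_cj_inv_map_cj] at this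
  have hAQ₂ : A ≤ normalizer ((Q₂'.map (cj g) : Subgroup G) : Set G) := by
    have := Subgroup.map_mono (f := cj g) hAQ₂'
    rwa [map_cj_inv_map_cj, map_cj_normalizer] at this
  have hm1 : IsMaxInv q A Q₁ := isMaxInv_of_isSylowIn_top hQ₁top hAQ₁
  have hm2 : IsMaxInv q A (Q₂'.map (cj g)) := isMaxInv_of_isSylowIn_top hQ₂top hAQ₂
  have hQM : Q ≤ M := hQD.trans (hDσ.trans (Cfsg.Agent.H9.BG12.sigmaCore_le M))
  have hne1 : M ⊓ Q₁ ≠ ⊥ := fun h0 => hQ1 (le_bot_iff.mp (h0 ▸ le_inf hQM hQQ₁))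
  have hne2 : M ⊓ Q₂'.map (cj g) ≠ ⊥ := fun h0 => hQ1 (le_bot_iff.mp (h0 ▸ le_inf hQM hQQ₂))
  obtain ⟨k, hk, hk2⟩ := Cfsg.Agent.Lead.TT.transitivity_common_overgroup h.hS e.hAsolv
    (e.trans h) hqA hm1 hm2 e.hM.1 e.hAM hne1 hne2
  have hkM : k ∈ M := e.cent_le (Cfsg.Agent.Lead.TT.piCoreOf_le _ _ hk)
  have hQ₂M : IsSylowIn q (Q₂'.map (cj g)) M := by
    rw [hk2]
    have := hQ₁M.map_cj k
    rwa [map_cj_eq_self_of_mem hkM] at this
  obtain ⟨m, hm, hm2⟩ := hQ₂M.exists_conj hQ₂'M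
  have h3 : (Q₂'.map (cj g)).map (cj (g * m)) = Q₂'.map (cj g) := by
    rw [← map_cj_mul, ← hm2]
  have h4 : g * m ∈ normalizer ((Q₂'.map (cj g) : Subgroup G) : Set G) :=
    mem_normalizer_iff_map_cj.mpr h3
  have h5 : g * m ∈ M := Cfsg.Agent.Helper4.BG10.sigma_normalizer_le hqσ hQ₂M h4
  apply hg
  have := M.mul_mem h5 (M.inv_mem hm)
  simpa using this

/-- the conjugates `g a g⁻¹` (`a ∈ A₀`, `g ∉ M`, `A ≤ M^g`) act without fixed points on `M_σ` -/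
theorem fpf_conj (h : BG G) (e : Exc M p A A₀) {g : G} (hg : g ∉ M)
    (hAg : A ≤ M.map (cj g)) {a : G} (ha : a ∈ A₀) (ha1 : a ≠ 1) :
    Cfsg.sigmaCore M ⊓ centralizer ({g * a * g⁻¹} : Set G) = ⊥ := by
  have h1 : centralizer ({g * a * g⁻¹} : Set G) ≤ M.map (cj g) := by
    intro y hy
    rw [mem_map_cj]
    apply e.cent_singleton_le ha ha1
    rw [mem_centralizer_singleton_iff] at hy ⊢
    have : g⁻¹ * y * g * a = g⁻¹ * (y * (g * a * g⁻¹)) * g := by group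
    rw [this, hy]
    group
  exact le_bot_iff.mp ((inf_le_inf_left _ h1).trans (e.inf_map_cj_eq_bot h hg hAg).le)

theorem exists_normalizer_not_mem (e : Exc M p A A₀) {P : Subgroup G} (hP : IsSylowIn p P M)
    (hAP : A ≤ P) : ∃ x ∈ normalizer (P : Set G), x ∉ M := by
  have hP1 : P ≠ ⊥ := fun h0 => e.hA1 (le_bot_iff.mp (h0 ▸ hAP))
  have h1 : ¬ normalizer (P : Set G) ≤ M := fun hN => e.hp (mem_sigma_of_isSylowIn hP hP1 hN)
  exact SetLike.not_le_iff_exists.mp h1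

theorem le_map_cj_of_mem_normalizer (e : Exc M p A A₀) {P : Subgroup G} (hP : IsSylowIn p P M)
    (hAP : A ≤ P) {x : G} (hx : x ∈ normalizer (P : Set G)) : A ≤ M.map (cj x) :=
  calc A ≤ P := hAP
    _ = P.map (cj x) := (mem_normalizer_iff_map_cj.mp hx).symm
    _ ≤ M.map (cj x) := Subgroup.map_mono hP.1

/-- **B&G 11.3**: `M_σ` is nilpotent. -/
theorem nilpotent (h : BG G) (e : Exc M p A A₀) : Group.IsNilpotent (Cfsg.sigmaCore M) := by
  obtain ⟨P, hP, hAP⟩ := exists_isSylowIn_ge e.hAM e.hAp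
  obtain ⟨x, hx, hxM⟩ := e.exists_normalizer_not_mem hP hAP
  obtain ⟨a, ha, ha1⟩ := exists_mem_ne_one_of_card_prime hp.out e.hA₀p
  have hfpf := e.fpf_conj h hxM (e.le_map_cj_of_mem_normalizer hP hAP hx) ha ha1
  have haP : x * a * x⁻¹ ∈ P := by
    have h1 : x * a * x⁻¹ ∈ P.map (cj x) := ⟨a, hAP (e.hA₀A ha), rfl⟩
    rwa [mem_normalizer_iff_map_cj.mp hx] at h1
  have hkN : x * a * x⁻¹ ∈ normalizer (Cfsg.sigmaCore M : Set G) :=
    Cfsg.Agent.H9.BG12.le_normalizer_sigmaCore M (hP.1 haP)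
  have hkr : (x * a * x⁻¹) ^ p = 1 := by
    rw [conj_pow, e.hAe.2 a (e.hA₀A ha)]
    group
  exact Cfsg.Agent.Helper1.RankOneQ.nilpotent_of_fpf_conj (Cfsg.sigmaCore M) hp.out hkN hkr hfpf

/-- **B&G 11.4**: a maximal subgroup `H ≥ A` with `H_σ ∩ M_σ ≠ 1` is `M`. -/
theorem eq_of_sigmaCore_inf_ne_bot (h : BG G) (e : Exc M p A A₀) {H : Subgroup G}
    (hH : IsCoatom H) (hAH : A ≤ H) (hne : Cfsg.sigmaCore H ⊓ Cfsg.sigmaCore M ≠ ⊥) : H = M := by
  by_contra hHM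
  by_cases hc : ∃ g : G, M.map (cj g) = H
  · obtain ⟨g, rfl⟩ := hc
    have hg : g ∉ M := fun hg => hHM (map_cj_eq_self_of_mem hg)
    have h1 := e.inf_map_cj_eq_bot h hg hAH
    apply hne
    apply le_bot_iff.mp
    rw [← h1, inf_comm]
    exact inf_le_inf_left _ (Cfsg.Agent.H9.BG12.sigmaCore_le _)
  · push Not at hc
    have h1 := sigmaCore_inf_sigmaCore h e.hM hH (e.nilpotent h) hc
    apply hne
    rw [inf_comm]
    exact h1

end Exc

end Cfsg.Agent.Helper16.BG11
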