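import Mathlib
import Cfsg.Agent.Helper16.BG11b
import Cfsg.Agent.Helper10.BG16A
import Cfsg.Agent.Helper28.BG11PG
import Cfsg.Agent.Helper14.Amalgam5
import Cfsg.Agent.Helper9.BG12i
import Cfsg.Agent.Helper28.BG11TV

set_option autoImplicit false
set_option linter.unusedSectionVars false
set_option linter.unusedVariables false
set_option linter.style.haveILetI false

/-! # Bender–Glauberman §11, part (c): Sylow `p`-subgroups of an exceptional subgroup
(11.5, 11.6) -/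

namespace Cfsg.Agent.Helper16.BG11

open Subgroup Cfsg
open Cfsg.Agent.Helper14 (IsSylowIn cj map_cj_le_iff map_cj_mul map_cj_one map_cj_normalizer
  mem_normalizer_iff_map_cj map_cj_eq_self_of_mem le_normalizer_of_map_cj_le mem_map_cj
  exists_isSylowIn_ge exists_isSylowIn isSylowIn_of_sylow map_cj_centralizer map_cj_map_cj_inv
  map_cj_inv_map_cj ozc map_cj_ozc)
open Cfsg.Agent.Lead.TT (IsMaxInv)

universe u
variable {G : Type u} [Group G] [Finite G]

/-! ### generalities -/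

theorem mem_of_max {r : ℕ} [Fact r.Prime] {V : Subgroup G} (hVe : Cfsg.IsElementaryAbelian r V)
    (hmax : ∀ B : Subgroup G, Cfsg.IsElementaryAbelian r B → V ≤ B → B = V) {x : G}
    (hx : x ∈ centralizer (V : Set G)) (hxr : x ^ r = 1) : x ∈ V := by
  have hz : Cfsg.IsElementaryAbelian r (zpowers x) := by
    refine ⟨inferInstance, ?_⟩
    intro a ha
    obtain ⟨k, rfl⟩ := mem_zpowers_iff.mp ha
    rw [← zpow_natCast, ← zpow_mul, mul_comm, zpow_mul, zpow_natCast, hxr, one_zpow]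
  have hB : Cfsg.IsElementaryAbelian r (V ⊔ zpowers x) :=
    Cfsg.Agent.Helper7.isElementaryAbelian_sup_of_commute hVe hz (by
      intro a ha b hb
      obtain ⟨k, rfl⟩ := mem_zpowers_iff.mp hb
      have hc : Commute a x := mem_centralizer_iff.mp hx a ha
      exact (hc.zpow_right k).eq)
  have h1 := hmax _ hB le_sup_left
  rw [← h1]
  exact (le_sup_right : zpowers x ≤ V ⊔ zpowers x) (mem_zpowers x)

theorem pRankLE_two_of_not_mem_sigma (h : BG G) {M : Subgroup G} (hM : IsCoatom M) {r : ℕ}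
    [hr : Fact r.Prime] (hrσ : r ∉ Cfsg.sigma M) : Cfsg.PRankLE r 2 M := by
  by_contra hc
  exact hrσ (Cfsg.Agent.Helper4.BG10.alpha_subset_sigma h.hG h.uniq hM ⟨hr.out, hc⟩)

theorem not_pRankLE_one_of_elemAb {M V : Subgroup G} {r : ℕ} [hr : Fact r.Prime] (hVM : V ≤ M)
    (hVe : Cfsg.IsElementaryAbelian r V) (hV2 : Nat.card V = r ^ 2) :
    ¬ Cfsg.PRankLE r 1 M := by
  intro hrk
  have hVi := Cfsg.Agent.Helper26.isElementaryAbelian_iff.mp hVe
  have h1 := hrk (V.subgroupOf M)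
    ⟨⟨fun a b => Subtype.ext (Subtype.ext (hVi.1 _ a.2 _ b.2))⟩⟩
    (fun a ha => Subtype.ext (by
      have := hVi.2 _ (mem_subgroupOf.mp ha)
      simpa using this))
  rw [Nat.card_congr (Subgroup.subgroupOfEquivOfLe hVM).toEquiv, hV2, pow_one] at h1
  have : r < r ^ 2 := by
    have := hr.out.one_lt
    nlinarith
  omega

theorem max_of_elemAb (h : BG G) {M V : Subgroup G} (hM : IsCoatom M) {r : ℕ}
    [hr : Fact r.Prime] (hrσ : r ∉ Cfsg.sigma M) (hVM : V ≤ M)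
    (hVe : Cfsg.IsElementaryAbelian r V) (hV2 : Nat.card V = r ^ 2) :
    ∀ B : Subgroup G, Cfsg.IsElementaryAbelian r B → V ≤ B → B = V :=
  (h.s1408 M hM r hrσ (pRankLE_two_of_not_mem_sigma h hM hrσ)
    (not_pRankLE_one_of_elemAb hVM hVe hV2)).2 V hVM hVe hV2

/-- the centre of a nontrivial `p`-subgroup is nontrivial -/
theorem inf_centralizer_self_ne_bot {r : ℕ} [Fact r.Prime] {S : Subgroup G} (hS : IsPGroup r S)
    (hS1 : S ≠ ⊥) : S ⊓ centralizer (S : Set G) ≠ ⊥ := by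
  haveI : Nontrivial S := (Subgroup.nontrivial_iff_ne_bot S).mpr hS1
  haveI := IsPGroup.center_nontrivial hS
  obtain ⟨z, hz⟩ := exists_ne (1 : center ↥S)
  intro h0
  have hmem : ((z : S) : G) ∈ S ⊓ centralizer (S : Set G) := by
    refine Subgroup.mem_inf.mpr ⟨(z : S).2, ?_⟩
    rw [mem_centralizer_iff]
    intro s hs
    have := Subgroup.mem_center_iff.mp z.2 ⟨s, hs⟩
    exact congrArg Subtype.val this
  rw [h0, mem_bot] at hmem
  apply hz
  apply Subtype.ext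
  apply Subtype.ext
  simpa using hmem

theorem ozc_ne_bot {r : ℕ} [Fact r.Prime] {S : Subgroup G} (hS : IsPGroup r S) (hS1 : S ≠ ⊥) :
    ozc r S ≠ ⊥ := by
  intro h0
  exact inf_centralizer_self_ne_bot hS hS1
    (Cfsg.Agent.Helper14.eq_bot_of_omegaOne_eq_bot (hS.to_le inf_le_left) h0)

theorem normalizer_le_normalizer_ozc (r : ℕ) (S : Subgroup G) :
    normalizer (S : Set G) ≤ normalizer (ozc r S : Set G) := by
  intro g hg
  rw [mem_normalizer_iff_map_cj, map_cj_ozc, mem_normalizer_iff_map_cj.mp hg]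

theorem ozc_le_centralizer (r : ℕ) (S : Subgroup G) : ozc r S ≤ centralizer (S : Set G) :=
  (Cfsg.Agent.Helper14.omegaOne_le r _).trans inf_le_right

/-- elements of order `p` of the centre of `S ⊇ V` lie in the maximal elementary abelian `V` -/
theorem ozc_le_of_max {r : ℕ} [Fact r.Prime] {S V : Subgroup G} (hVS : V ≤ S)
    (hVe : Cfsg.IsElementaryAbelian r V)
    (hmax : ∀ B : Subgroup G, Cfsg.IsElementaryAbelian r B → V ≤ B → B = V) : ozc r S ≤ V := by
  apply (closure_le _).mpr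
  rintro x ⟨hx, hxr⟩
  exact mem_of_max hVe hmax (centralizer_le (by exact_mod_cast hVS) hx.2) hxr

/-! ### Fact X and 12.2(b) -/

/-- for `p ∈ σ(H)` and a nontrivial `p`-subgroup `X` of `H`: `C_G(X) ≤ H` implies
`N_G(X) ≤ H` -/
theorem normalizer_le_of_centralizer_le (h : BG G) {H X : Subgroup G} (hH : IsCoatom H) {p : ℕ}
    [Fact p.Prime] (hp : p ∈ Cfsg.sigma H) (hXp : IsPGroup p X) (hX1 : X ≠ ⊥) (hXH : X ≤ H)
    (hC : centralizer (X : Set G) ≤ H) : normalizer (X : Set G) ≤ H := by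
  rw [(h.s1404 H hH p hp X hXp hX1 hXH).2]
  exact sup_le inf_le_left hC

/-- B&G 12.2(b) -/
theorem mem_of_le_map_cj (h : BG G) {H X : Subgroup G} (hH : IsCoatom H) {p : ℕ}
    [Fact p.Prime] (hp : p ∈ Cfsg.sigma H) (hXp : IsPGroup p X) (hX1 : X ≠ ⊥) (hXH : X ≤ H)
    (hC : centralizer (X : Set G) ≤ H) {g : G} (hXg : X ≤ H.map (cj g)) : g ∈ H := by
  have h1 : X.map (cj g⁻¹) ≤ H := by
    rw [map_cj_le_iff, inv_inv]
    exact hXg
  obtain ⟨m, hm, c, hc, hg⟩ := (h.s1404 H hH p hp X hXp hX1 hXH).1 g⁻¹ h1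
  have h2 : g = c⁻¹ * m⁻¹ := by
    rw [← inv_inv g, hg]
    group
  rw [h2]
  exact H.mul_mem (H.inv_mem (hC hc)) (H.inv_mem hm)

/-! ### (12.3′) -/

/-- **(12.3′)**: `p ∈ σ(H)`, `A ≤ H` a `p`-group normalizing `D ≤ H`, where `|D|` is prime to
`p` and to `|H_α|`: then `D` centralizes `A`. -/
theorem le_centralizer_of_mem_sigma (h : BG G) {H A D : Subgroup G} (hH : IsCoatom H) {p : ℕ}
    [Fact p.Prime] (hp : p ∈ Cfsg.sigma H) (hAp : IsPGroup p A) (hAH : A ≤ H) (hDH : D ≤ H)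
    (hAD : A ≤ normalizer (D : Set G)) (hDp : ¬ p ∣ Nat.card D)
    (hDα : (Nat.card D).Coprime (Nat.card (Cfsg.alphaCore H))) :
    D ≤ centralizer (A : Set G) := by
  have hnil := (h.s1405 H hH).2.2.2.2
  have hAσ : A ≤ Cfsg.sigmaCore H :=
    Cfsg.Agent.H9.BG12.le_sigmaCore_of_isPGroup h.st1350 hH hp hAH hAp
  have hAc : A ≤ ⁅H, H⁆ :=
    hAσ.trans (Cfsg.Agent.Helper21.BG10.sigmaCore_le_commutator h.hG h.ctl101 hH)
  have hAF : A.subgroupOf H ≤ commutator ↥H := by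
    intro a ha
    have h1 : (a : G) ∈ ⁅H, H⁆ := hAc (mem_subgroupOf.mp ha)
    rw [← Subgroup.map_subtype_commutator] at h1
    obtain ⟨b, hb, hba⟩ := h1
    have : b = a := Subtype.ext hba
    rwa [← this]
  have hA' : IsPGroup p (A.subgroupOf H) := hAp.comap_subtype
  have hAD' : A.subgroupOf H ≤ normalizer ((D.subgroupOf H : Subgroup ↥H) : Set ↥H) := by
    intro a ha
    have h1 := hAD (mem_subgroupOf.mp ha)
    rw [mem_normalizer_iff] at h1 ⊢
    intro d
    rw [mem_subgroupOf, mem_subgroupOf]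
    exact h1 d
  have hcD : Nat.card (D.subgroupOf H) = Nat.card D :=
    Nat.card_congr (Subgroup.subgroupOfEquivOfLe hDH).toEquiv
  have hcN : Nat.card (Cfsg.piCore (Cfsg.alpha H) ↥H) = Nat.card (Cfsg.alphaCore H) := by
    unfold Cfsg.alphaCore
    exact (Subgroup.card_map_of_injective (Subgroup.subtype_injective H)).symm
  have key := Cfsg.Agent.Helper28.BG11TV.nq_comm (Cfsg.piCore (Cfsg.alpha H) ↥H) (commutator ↥H) hnil
    (A.subgroupOf H) (D.subgroupOf H) hA' hAF hAD' (by rw [hcD]; exact hDp)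
    (by rw [hcD, hcN]; exact hDα)
  intro d hd
  rw [mem_centralizer_iff]
  intro a ha
  have := key ⟨d, hDH hd⟩ (mem_subgroupOf.mpr hd) ⟨a, hAH ha⟩ (mem_subgroupOf.mpr ha)
  exact (congrArg Subtype.val this).symm

theorem nonconj_symm {M H : Subgroup G} (hnc : ∀ g : G, M.map (cj g) ≠ H) :
    ∀ g : G, H.map (cj g) ≠ M := by
  intro g hg
  apply hnc g⁻¹
  rw [← hg, map_cj_map_cj_inv]

theorem nonconj_of_sigma {M H : Subgroup G} {p : ℕ} [Fact p.Prime] (hpH : p ∈ Cfsg.sigma H)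
    (hpM : p ∉ Cfsg.sigma M) : ∀ g : G, M.map (cj g) ≠ H := by
  intro g hg
  apply hpM
  have := mem_sigma_map_cj g⁻¹ hpH
  rwa [← hg, map_cj_map_cj_inv] at this

/-- (12.3′) for `D ≤ M_σ ∩ H`, `p ∈ σ(H) \ σ(M)` -/
theorem le_centralizer_of_le_sigmaCore (h : BG G) {M H A D : Subgroup G} (hM : IsCoatom M)
    (hH : IsCoatom H) {p : ℕ} [Fact p.Prime] (hpH : p ∈ Cfsg.sigma H) (hpM : p ∉ Cfsg.sigma M)
    (hAp : IsPGroup p A) (hAH : A ≤ H) (hDH : D ≤ H) (hDσ : D ≤ Cfsg.sigmaCore M)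
    (hAD : A ≤ normalizer (D : Set G)) : D ≤ centralizer (A : Set G) := by
  have hnc := nonconj_of_sigma hpH hpM
  apply le_centralizer_of_mem_sigma h hH hpH hAp hAH hDH hAD
  · intro hd
    exact not_dvd_card_sigmaCore hpM (hd.trans (Subgroup.card_dvd_of_le hDσ))
  · apply Nat.Coprime.coprime_dvd_left (Subgroup.card_dvd_of_le hDσ)
    apply Nat.coprime_of_dvd
    intro q hq h1 h2
    exact alpha_sigma_disjoint h hH hM (nonconj_symm hnc)
      (prime_mem_alpha_of_dvd_card_alphaCore h hH hq h2)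
      (Cfsg.Agent.H9.BG12.mem_sigma_of_dvd_card_sigmaCore hq h1)

/-! ### Lemma Y -/

/-- for `r ∉ σ(M)`, `M` has no normal elementary abelian subgroup of order `r ^ 2` -/
theorem no_normal_elemAb_sq (h : BG G) {M V : Subgroup G} (hM : IsCoatom M) {r : ℕ}
    [hr : Fact r.Prime] (hrσ : r ∉ Cfsg.sigma M) (hVM : V ≤ M)
    (hVe : Cfsg.IsElementaryAbelian r V) (hV2 : Nat.card V = r ^ 2)
    (hMV : M ≤ normalizer (V : Set G)) : False := by
  have hV1 : V ≠ ⊥ := by
    intro h0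
    rw [h0, Subgroup.card_bot] at hV2
    have : 1 < r ^ 2 := Nat.one_lt_pow (by norm_num) hr.out.one_lt
    omega
  have hNV := normalizer_eq h hM hVM hV1 hMV
  have hmax := max_of_elemAb h hM hrσ hVM hVe hV2
  have hVr : IsPGroup r V := Cfsg.Agent.Helper4.BG10.isPGroup_of_elementary hVe
  obtain ⟨T, hT, hVT⟩ := exists_isSylowIn_ge hVM hVr
  obtain ⟨S, hS, hTS⟩ := exists_isSylowIn_ge (le_top : T ≤ ⊤) hT.2.1
  have hVS : V ≤ S := hVT.trans hTS
  have hS1 : S ≠ ⊥ := fun h0 => hV1 (le_bot_iff.mp (h0 ▸ hVS))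
  have hΩ1 : ozc r S ≠ ⊥ := ozc_ne_bot hS.2.1 hS1
  have hΩV : ozc r S ≤ V := ozc_le_of_max hVS hVe hmax
  have hΩtop : ozc r S ≠ ⊤ := fun h' => hM.1 (top_le_iff.mp (h' ▸ hΩV.trans hVM))
  obtain ⟨H, hH, hNH⟩ := Cfsg.Agent.Helper21.BG10.exists_coatom_normalizer_le h.hS hΩ1 hΩtop
  have hNS : normalizer (S : Set G) ≤ H := (normalizer_le_normalizer_ozc r S).trans hNH
  have hSH : S ≤ H := le_normalizer.trans hNS
  have hSsylH : IsSylowIn r S H := ⟨hSH, hS.2.1, fun Q _ hQ hle => hS.2.2 Q le_top hQ hle⟩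
  have hrH : r ∈ Cfsg.sigma H := mem_sigma_of_isSylowIn hSsylH hS1 hNS
  have hCV : centralizer (V : Set G) ≤ H :=
    (centralizer_le (by exact_mod_cast hΩV)).trans ((centralizer_le_normalizer _).trans hNH)
  have hVH : V ≤ H := hVS.trans hSH
  have hNVH := normalizer_le_of_centralizer_le h hH hrH hVr hV1 hVH hCV
  rw [hNV] at hNVH
  have hHM : H = M := Cfsg.Agent.Lead.BG9.eq_of_coatom_le hM hNVH hH.1
  exact hrσ (hHM ▸ hrH)

end Cfsg.Agent.Helper16.BG11
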