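import Mathlib
import Cfsg.Agent.Helper16.BG11c

set_option autoImplicit false
set_option linter.unusedSectionVars false
set_option linter.unusedVariables false
set_option linter.style.haveILetI false

/-! # Bender–Glauberman §11, part (d): 11.5 and 11.6 -/

namespace Cfsg.Agent.Helper16.BG11

open Subgroup Cfsg
open Cfsg.Agent.Helper14 (IsSylowIn cj cj_apply map_cj_le_iff map_cj_mul map_cj_one map_cj_normalizer
  mem_normalizer_iff_map_cj map_cj_eq_self_of_mem le_normalizer_of_map_cj_le mem_map_cj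
  exists_isSylowIn_ge exists_isSylowIn isSylowIn_of_sylow map_cj_centralizer map_cj_map_cj_inv
  map_cj_inv_map_cj ozc map_cj_ozc)
open Cfsg.Agent.Lead.TT (IsMaxInv)

universe u
variable {G : Type u} [Group G] [Finite G]

theorem isElementaryAbelian_map_cj {r : ℕ} {V : Subgroup G} (hV : Cfsg.IsElementaryAbelian r V)
    (g : G) : Cfsg.IsElementaryAbelian r (V.map (cj g)) := by
  rw [Cfsg.Agent.Helper26.isElementaryAbelian_iff] at hV ⊢
  refine ⟨?_, ?_⟩
  · rintro _ ⟨a, ha, rfl⟩ _ ⟨b, hb, rfl⟩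
    rw [← map_mul, ← map_mul, hV.1 a ha b hb]
  · rintro _ ⟨a, ha, rfl⟩
    rw [← map_pow, hV.2 a ha, map_one]

theorem card_eq_prime_of_lt_sq {p : ℕ} [hp : Fact p.Prime] {Z A : Subgroup G} (hZA : Z ≤ A)
    (hA2 : Nat.card A = p ^ 2) (hZ1 : Z ≠ ⊥) (hZne : Z ≠ A) : Nat.card Z = p := by
  have h1 : Nat.card Z ∣ p ^ 2 := hA2 ▸ Subgroup.card_dvd_of_le hZA
  obtain ⟨k, hk, hkc⟩ := (Nat.dvd_prime_pow hp.out).mp h1
  interval_cases k
  · rw [pow_zero] at hkc
    exact absurd (Subgroup.card_eq_one.mp hkc) hZ1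
  · rw [hkc, pow_one]
  · exact absurd (Subgroup.eq_of_le_of_card_ge hZA (by rw [hkc, hA2])) hZne

namespace Exc

variable {p : ℕ} [hp : Fact p.Prime] {M A A₀ : Subgroup G}

/-- **B&G 11.5, first half**: `A` is central in every Sylow `p`-subgroup of `M` containing it. -/
theorem sylow_le_centralizer (h : BG G) (e : Exc M p A A₀) {P : Subgroup G}
    (hP : IsSylowIn p P M) (hAP : A ≤ P) : P ≤ centralizer (A : Set G) := by
  by_contra hnc
  have hPp := hP.2.1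
  have hP1 : P ≠ ⊥ := fun h0 => e.hA1 (le_bot_iff.mp (h0 ▸ hAP))
  have hZ1 : ozc p P ≠ ⊥ := ozc_ne_bot hPp hP1
  have hZA : ozc p P ≤ A := ozc_le_of_max hAP e.hAe (e.max h)
  have hZc : ozc p P ≤ centralizer (P : Set G) := ozc_le_centralizer p P
  have hZne : ozc p P ≠ A := by
    intro h0
    apply hnc
    rw [← h0]
    exact Subgroup.le_centralizer_iff.mp hZc
  have hZp : Nat.card (ozc p P) = p := card_eq_prime_of_lt_sq hZA e.hA2 hZ1 hZne
  obtain ⟨x, hx, hxM⟩ := e.exists_normalizer_not_mem hP hAP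
  have hxZ : x ∈ normalizer (ozc p P : Set G) := normalizer_le_normalizer_ozc p P hx
  have hA₀Z : A₀ ≠ ozc p P := by
    intro h0
    apply hxM
    apply e.hN
    rw [h0]
    exact hxZ
  have htv := Cfsg.Agent.Helper28.BG11TV.tv_conj_mem p P A A₀ (ozc p P) hPp hAP e.hAe e.hA2 e.hA₀A e.hA₀p hZA hZp hZc hA₀Z
    (fun y hy hyp => (e.mem_iff h y hy.2).mp hyp) hnc
  -- conjugates under `x` of the elements outside `Z` are fixed-point-free
  have hfpf : ∀ a ∈ A, a ∉ ozc p P →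
      Cfsg.sigmaCore M ⊓ centralizer ({x * a * x⁻¹} : Set G) = ⊥ := by
    intro a ha haZ
    obtain ⟨u, hu, hua⟩ := htv a ha haZ
    have ha1 : a ≠ 1 := fun h1 => haZ (h1 ▸ one_mem _)
    have hua1 : u * a * u⁻¹ ≠ 1 := fun h1 => ha1 (conj_eq_one_iff.mp h1)
    have hg : x * u⁻¹ ∈ normalizer (P : Set G) :=
      (normalizer (P : Set G)).mul_mem hx ((normalizer (P : Set G)).inv_mem (le_normalizer hu))
    have hgM : x * u⁻¹ ∉ M := fun hm => hxM (by
      have := M.mul_mem hm (hP.1 hu)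
      simpa using this)
    have := e.fpf_conj h hgM (e.le_map_cj_of_mem_normalizer hP hAP hg) hua hua1
    have he : x * u⁻¹ * (u * a * u⁻¹) * (x * u⁻¹)⁻¹ = x * a * x⁻¹ := by group
    rwa [he] at this
  have hBP : A.map (cj x) ≤ P := by
    have := Subgroup.map_mono (f := cj x) hAP
    rwa [mem_normalizer_iff_map_cj.mp hx] at this
  have hBe : Cfsg.IsElementaryAbelian p (A.map (cj x)) := isElementaryAbelian_map_cj e.hAe x
  haveI : IsMulCommutative (A.map (cj x)) := hBe.1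
  have hBnc : ¬ IsCyclic (A.map (cj x)) :=
    Cfsg.Agent.Lead.BG9.not_isCyclic_of_sq_le hBe (by rw [card_map_cj, e.hA2])
  have hBσ : A.map (cj x) ≤ normalizer (Cfsg.sigmaCore M : Set G) :=
    (hBP.trans hP.1).trans (Cfsg.Agent.H9.BG12.le_normalizer_sigmaCore M)
  have hBcop : (Nat.card (A.map (cj x))).Coprime (Nat.card (Cfsg.sigmaCore M)) := by
    rw [card_map_cj]
    exact e.hcop
  have hgen := Cfsg.Agent.Lead.generated_by_centralizers (A.map (cj x)) (Cfsg.sigmaCore M)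
    hBnc hBσ hBcop
  have hσZ : Cfsg.sigmaCore M ≤ centralizer (ozc p P : Set G) := by
    rw [← hgen]
    apply iSup₂_le
    rintro b ⟨hb, hb1⟩
    obtain ⟨a, ha, hab⟩ := hb
    rw [cj_apply] at hab
    subst hab
    by_cases haZ : a ∈ ozc p P
    · have hbZ : x * a * x⁻¹ ∈ ozc p P := by
        have : x * a * x⁻¹ ∈ (ozc p P).map (cj x) := ⟨a, haZ, rfl⟩
        rwa [mem_normalizer_iff_map_cj.mp hxZ] at this
      have := zpowers_eq_of_card_prime hp.out hZp hbZ hb1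
      rw [← this, Cfsg.Agent.Helper4.BG10.centralizer_zpowers_eq]
      exact inf_le_right
    · rw [hfpf a ha haZ]
      exact bot_le
  -- the maximal subgroup `H`
  obtain ⟨S, hS, hPS⟩ := exists_isSylowIn_ge (le_top : P ≤ ⊤) hPp
  have hS1 : S ≠ ⊥ := fun h0 => hP1 (le_bot_iff.mp (h0 ▸ hPS))
  have hSM : S ⊓ M = P :=
    hP.2.2 (S ⊓ M) inf_le_right (hS.2.1.to_le inf_le_left) (le_inf hPS hP.1)
  have hZS : S ⊓ centralizer (S : Set G) ≤ P ⊓ centralizer (P : Set G) := by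
    apply le_inf
    · rw [← hSM]
      exact le_inf inf_le_left (inf_le_right.trans
        ((centralizer_le (by exact_mod_cast hAP.trans hPS)).trans e.cent_le))
    · exact inf_le_right.trans (centralizer_le (by exact_mod_cast hPS))
  have hΩle : ozc p S ≤ ozc p P := Cfsg.Agent.Helper14.omegaOne_mono p hZS
  have hΩ1 : ozc p S ≠ ⊥ := ozc_ne_bot hS.2.1 hS1
  have hΩtop : ozc p S ≠ ⊤ :=
    fun h' => e.hM.1 (top_le_iff.mp (h' ▸ (hΩle.trans (hZA.trans e.hAM))))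
  obtain ⟨H, hH, hNH⟩ := Cfsg.Agent.Helper21.BG10.exists_coatom_normalizer_le h.hS hΩ1 hΩtop
  have hNS : normalizer (S : Set G) ≤ H := (normalizer_le_normalizer_ozc p S).trans hNH
  have hSH : S ≤ H := le_normalizer.trans hNS
  have hpH : p ∈ Cfsg.sigma H := mem_sigma_of_isSylowIn
    ⟨hSH, hS.2.1, fun Q _ hQ hle => hS.2.2 Q le_top hQ hle⟩ hS1 hNS
  have hσH : Cfsg.sigmaCore M ≤ H :=
    hσZ.trans ((centralizer_le (by exact_mod_cast hΩle)).trans
      ((centralizer_le_normalizer _).trans hNH))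
  have hPH : P ≤ H := hPS.trans hSH
  have hPσ : P ≤ normalizer (Cfsg.sigmaCore M : Set G) :=
    hP.1.trans (Cfsg.Agent.H9.BG12.le_normalizer_sigmaCore M)
  have hcen : Cfsg.sigmaCore M ≤ centralizer (P : Set G) :=
    le_centralizer_of_le_sigmaCore h e.hM hH hpH e.hp hPp hPH hσH le_rfl hPσ
  -- contradiction
  obtain ⟨a, ha, ha1⟩ := exists_mem_ne_one_of_card_prime hp.out e.hA₀p
  have haZ : a ∉ ozc p P := by
    intro haZ
    apply hA₀Z
    rw [← zpowers_eq_of_card_prime hp.out e.hA₀p ha ha1,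
      zpowers_eq_of_card_prime hp.out hZp haZ ha1]
  have h1 := hfpf a (e.hA₀A ha) haZ
  have hbP : x * a * x⁻¹ ∈ P := hBP ⟨a, e.hA₀A ha, rfl⟩
  have h2 : Cfsg.sigmaCore M ≤ centralizer ({x * a * x⁻¹} : Set G) :=
    hcen.trans (centralizer_le (Set.singleton_subset_iff.mpr hbP))
  have h3 : Cfsg.sigmaCore M = ⊥ := by
    rw [← inf_of_le_left h2]
    exact h1
  exact Cfsg.Agent.Helper10.BG16.sigmaCore_ne_bot h.hG h.st1350 h.uniq96 e.hM h3

/-- **B&G 11.5**: the Sylow `p`-subgroups of `M` are abelian. -/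
theorem sylow_comm (h : BG G) (e : Exc M p A A₀) {P : Subgroup G} (hP : IsSylowIn p P M)
    (hAP : A ≤ P) : ∀ x ∈ P, ∀ y ∈ P, x * y = y * x := by
  have hPc := e.sylow_le_centralizer h hP hAP
  obtain ⟨S, hS, hPS⟩ := exists_isSylowIn_ge (le_top : P ≤ ⊤) hP.2.1
  have hAS := hAP.trans hPS
  have hp2 : p ≠ 2 := Cfsg.Agent.H9.BG12.prime_ne_two_of_dvd h.hG e.dvd_card
  have key : ∀ x ∈ S ⊓ centralizer (A : Set G), ∀ y ∈ S ⊓ centralizer (A : Set G),
      x * y = y * x := by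
    by_cases hr : Cfsg.PRankLE p 2 S
    · exact Cfsg.Agent.Helper28.BG11.pg_rank_two p S A hAS e.hAe e.hA2
        (h.s1412 p (Cfsg.Agent.Helper4.BG10.sylowOfTop hS) hr)
    · exact Cfsg.Agent.Helper28.BG11.pg_rank_three p hp2 S A hS.2.1 hr hAS e.hAe e.hA2
        (fun B _ hB hAB => e.max h B hB hAB)
  intro x hx y hy
  exact key x ⟨hPS hx, hPc hx⟩ y ⟨hPS hy, hPc hy⟩

/-- **B&G 11.6(a)**: `A = Ω₁(P)`. -/
theorem omega (h : BG G) (e : Exc M p A A₀) {P : Subgroup G} (hP : IsSylowIn p P M)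
    (hAP : A ≤ P) : ∀ x ∈ P, x ^ p = 1 → x ∈ A :=
  fun x hx hxp => (e.mem_iff h x (e.sylow_le_centralizer h hP hAP hx)).mp hxp

theorem normalizer_sylow_le (h : BG G) (e : Exc M p A A₀) {P : Subgroup G}
    (hP : IsSylowIn p P M) (hAP : A ≤ P) :
    normalizer (P : Set G) ≤ normalizer (A : Set G) := by
  apply le_normalizer_of_map_cj_le
  intro g hg
  rintro _ ⟨a, ha, rfl⟩
  apply e.omega h hP hAP
  · have : cj g a ∈ P.map (cj g) := ⟨a, hAP ha, rfl⟩
    rwa [mem_normalizer_iff_map_cj.mp hg] at this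
  · rw [← map_pow, e.hAe.2 a ha, map_one]

/-- there is `x ∈ N_G(A) \ M` -/
theorem exists_normalizer_A_not_mem (h : BG G) (e : Exc M p A A₀) :
    ∃ x ∈ normalizer (A : Set G), x ∉ M := by
  obtain ⟨P, hP, hAP⟩ := exists_isSylowIn_ge e.hAM e.hAp
  obtain ⟨x, hx, hxM⟩ := e.exists_normalizer_not_mem hP hAP
  exact ⟨x, e.normalizer_sylow_le h hP hAP hx, hxM⟩

theorem fpf_of_mem_normalizer (h : BG G) (e : Exc M p A A₀) {x : G}
    (hx : x ∈ normalizer (A : Set G)) (hxM : x ∉ M) {a : G} (ha : a ∈ A₀) (ha1 : a ≠ 1) :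
    Cfsg.sigmaCore M ⊓ centralizer ({x * a * x⁻¹} : Set G) = ⊥ := by
  apply e.fpf_conj h hxM _ ha ha1
  calc A = A.map (cj x) := (mem_normalizer_iff_map_cj.mp hx).symm
    _ ≤ M.map (cj x) := Subgroup.map_mono e.hAM

/-- **B&G 11.6(b)**: `C_{M_σ}(A) = 1`. -/
theorem cent_inf_eq_bot (h : BG G) (e : Exc M p A A₀) :
    Cfsg.sigmaCore M ⊓ centralizer (A : Set G) = ⊥ := by
  obtain ⟨x, hx, hxM⟩ := e.exists_normalizer_A_not_mem h
  obtain ⟨a, ha, ha1⟩ := exists_mem_ne_one_of_card_prime hp.out e.hA₀p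
  have h1 := e.fpf_of_mem_normalizer h hx hxM ha ha1
  have hb : x * a * x⁻¹ ∈ A := by
    have : x * a * x⁻¹ ∈ A.map (cj x) := ⟨a, e.hA₀A ha, rfl⟩
    rwa [mem_normalizer_iff_map_cj.mp hx] at this
  apply le_bot_iff.mp
  rw [← h1]
  exact inf_le_inf_left _ (centralizer_le (Set.singleton_subset_iff.mpr hb))

/-- **B&G 11.6(c)** (two independent fixed-point-free elements of `A`) -/
theorem exists_fpf_pair (h : BG G) (e : Exc M p A A₀) :
    ∃ b₁ ∈ A, ∃ b₂ ∈ A, b₁ ≠ 1 ∧ b₂ ≠ 1 ∧ b₂ ∉ zpowers b₁ ∧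
      Cfsg.sigmaCore M ⊓ centralizer ({b₁} : Set G) = ⊥ ∧
      Cfsg.sigmaCore M ⊓ centralizer ({b₂} : Set G) = ⊥ := by
  obtain ⟨x, hx, hxM⟩ := e.exists_normalizer_A_not_mem h
  obtain ⟨a, ha, ha1⟩ := exists_mem_ne_one_of_card_prime hp.out e.hA₀p
  have hx2 : x * x ∈ normalizer (A : Set G) := (normalizer (A : Set G)).mul_mem hx hx
  have hx2M : x * x ∉ M := by
    intro hm
    apply hxM
    have hodd : Odd (orderOf x) := h.hodd.of_dvd_nat (orderOf_dvd_natCard x)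
    have hcop : (2 : ℕ).Coprime (orderOf x) := Nat.coprime_two_left.mpr hodd
    obtain ⟨m, hm2⟩ := exists_pow_eq_self_of_coprime hcop
    rw [← hm2, pow_two]
    exact M.pow_mem hm m
  have hmemA : ∀ y ∈ normalizer (A : Set G), y * a * y⁻¹ ∈ A := by
    intro y hy
    have : y * a * y⁻¹ ∈ A.map (cj y) := ⟨a, e.hA₀A ha, rfl⟩
    rwa [mem_normalizer_iff_map_cj.mp hy] at this
  refine ⟨x * a * x⁻¹, hmemA x hx, x * x * a * (x * x)⁻¹, hmemA _ hx2,
    fun h1 => ha1 (conj_eq_one_iff.mp h1), fun h1 => ha1 (conj_eq_one_iff.mp h1), ?_,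
    e.fpf_of_mem_normalizer h hx hxM ha ha1, e.fpf_of_mem_normalizer h hx2 hx2M ha ha1⟩
  intro hmem
  -- `zpowers (x a x⁻¹) = A₀^x` is then normalized by `x`
  have hL : zpowers (x * a * x⁻¹) = A₀.map (cj x) := by
    rw [← zpowers_eq_of_card_prime hp.out e.hA₀p ha ha1, MonoidHom.map_zpowers, cj_apply]
  have hLp : Nat.card (A₀.map (cj x)) = p := by rw [card_map_cj, e.hA₀p]
  have hb2 : x * x * a * (x * x)⁻¹ = cj x (x * a * x⁻¹) := by
    rw [cj_apply]
    group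
  have hb2ne : x * x * a * (x * x)⁻¹ ≠ 1 := fun h1 => ha1 (conj_eq_one_iff.mp h1)
  have h2 : zpowers (x * x * a * (x * x)⁻¹) = (A₀.map (cj x)).map (cj x) := by
    rw [hb2, ← MonoidHom.map_zpowers, hL]
  have h3 : zpowers (x * x * a * (x * x)⁻¹) = A₀.map (cj x) :=
    zpowers_eq_of_card_prime hp.out hLp (hL ▸ hmem) hb2ne
  have h4 : x ∈ normalizer ((A₀.map (cj x) : Subgroup G) : Set G) := by
    rw [mem_normalizer_iff_map_cj, ← h2, h3]
  rw [← map_cj_normalizer, mem_map_cj] at h4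
  apply hxM
  apply e.hN
  simpa using h4

end Exc

end Cfsg.Agent.Helper16.BG11
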