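import Mathlib
import Cfsg.Agent.Helper16.BG11a
import Cfsg.Agent.S1350
import Cfsg.Agent.S1403
import Cfsg.Agent.S1404
import Cfsg.Agent.S1405
import Cfsg.Agent.S1406
import Cfsg.Agent.S1408
import Cfsg.Agent.S1409
import Cfsg.Agent.S1410
import Cfsg.Agent.S1411
import Cfsg.Agent.S1412
import Cfsg.Agent.S1414

set_option autoImplicit false

/-! # The hypothesis bundle `BG G` from the proved statements S1350, S1403–S1414 -/

namespace Cfsg.Agent.Helper16.BG11

universe u

/-- the bundle `BG G` of B&G §9–§10 holds for every minimal simple group of odd order -/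
theorem bg_of_results {G : Type u} [Group G] [Finite G] (hG : Cfsg.IsMinSimpleOddOrder G) :
    BG G where
  hG := hG
  s1403 := fun K hK hK2 hK3 => Cfsg.Agent.S1403.result hG K hK hK2 hK3
  s1404 := fun M hM p _ hp X hXp hX1 hXM => Cfsg.Agent.S1404.result hG M hM p hp X hXp hX1 hXM
  s1405 := fun M hM => Cfsg.Agent.S1405.result hG M hM
  s1350 := fun M hM => Cfsg.Agent.S1350.result hG M hM
  s1406 := fun M hM X hXM hXα hr => Cfsg.Agent.S1406.result hG M hM X hXM hXα hr
  s1408 := fun M hM p _ hp hr2 hr1 => Cfsg.Agent.S1408.result hG M hM p hp hr2 hr1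
  s1409 := fun M hM p _ hp X hX hNX => Cfsg.Agent.S1409.result hG M hM p hp X hX hNX
  s1410 := fun p _ H hH => Cfsg.Agent.S1410.result hG p H hH
  s1411 := fun p _ P V hV => Cfsg.Agent.S1411.result hG p P V hV
  s1412 := fun p _ P hr => Cfsg.Agent.S1412.result hG p P hr
  s1414 := fun M hM => Cfsg.Agent.S1414.result hG M hM

end Cfsg.Agent.Helper16.BG11
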