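import Mathlib
import Cfsg.Agent.Helper16.BG11d
import Cfsg.Agent.Helper16.BG12a
import Cfsg.Agent.Helper18.BG108a
import Cfsg.Agent.Helper29.NilpHall
import Cfsg.Agent.Lead.CoprimeAbelian
import Cfsg.Agent.Helper7.Layer

set_option autoImplicit false
set_option linter.unusedSectionVars false
set_option linter.unusedVariables false
set_option linter.style.haveILetI false

/-! # Bender–Glauberman §11, part (e): tools for 11.7 -/

namespace Cfsg.Agent.Helper16.BG11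

open Subgroup Cfsg
open Cfsg.Agent.Helper14 (IsSylowIn cj cj_apply map_cj_le_iff map_cj_mul map_cj_one map_cj_normalizer
  mem_normalizer_iff_map_cj map_cj_eq_self_of_mem le_normalizer_of_map_cj_le mem_map_cj
  exists_isSylowIn_ge exists_isSylowIn isSylowIn_of_sylow map_cj_centralizer map_cj_map_cj_inv
  map_cj_inv_map_cj ozc map_cj_ozc)
open Cfsg.Agent.Lead.TT (IsMaxInv)

universe u
variable {G : Type u} [Group G] [Finite G]

/-! ### `O_{q'}(M)` -/

/-- `O_{q'}(M)` as a subgroup of `G` -/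
def Kq (M : Subgroup G) (q : ℕ) : Subgroup G := (Cfsg.pPrimeCore q ↥M).map M.subtype

theorem Kq_le (M : Subgroup G) (q : ℕ) : Kq M q ≤ M := Cfsg.Agent.Helper14.map_subtype_le _

theorem le_normalizer_Kq (M : Subgroup G) (q : ℕ) : M ≤ normalizer (Kq M q : Set G) :=
  Cfsg.Agent.Lead.TT.le_normalizer_map_subtype_of_normal M _

theorem card_Kq_coprime (M : Subgroup G) (q : ℕ) : (Nat.card (Kq M q)).Coprime q := by
  unfold Kq
  rw [Subgroup.card_map_of_injective (Subgroup.subtype_injective M)]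
  exact Cfsg.Agent.Helper19.pPrimeCore_coprime q

theorem not_mem_beta_of_not_mem_sigma (h : BG G) {M : Subgroup G} (hM : IsCoatom M) {q : ℕ}
    (hq : q ∉ Cfsg.sigma M) : q ∉ Cfsg.beta M := by
  intro hb
  haveI : Fact q.Prime := ⟨hb.1.1⟩
  exact hq (Cfsg.Agent.Helper4.BG10.alpha_subset_sigma h.hG h.uniq hM hb.1)

theorem not_dvd_index_of_lt (h : BG G) {M : Subgroup G} (hM : IsCoatom M) {q s : ℕ}
    [hq : Fact q.Prime] [hs : Fact s.Prime] (hqσ : q ∉ Cfsg.sigma M) (hqM : q ∣ Nat.card M)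
    (hqs : q < s) : ¬ s ∣ (Cfsg.pPrimeCore q ↥M).index := by
  have hcl := ((h.s1414 M hM).2.2.2.2 q hq.out hqM (not_mem_beta_of_not_mem_sigma h hM hqσ)).2.2
  intro hd
  exact absurd (hcl s hs.out hd) (not_le.mpr hqs)

/-- `s`-subgroups of `M` lie in `O_{q'}(M)` for `s > q`, `q ∈ π(M) \ σ(M)` -/
theorem le_Kq_of_lt (h : BG G) {M X : Subgroup G} (hM : IsCoatom M) {q s : ℕ}
    [hq : Fact q.Prime] [hs : Fact s.Prime] (hqσ : q ∉ Cfsg.sigma M) (hqM : q ∣ Nat.card M)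
    (hqs : q < s) (hX : IsPGroup s X) (hXM : X ≤ M) : X ≤ Kq M q := by
  have hnd := not_dvd_index_of_lt h hM hqσ hqM hqs
  have h1 : X.subgroupOf M ≤ Cfsg.pPrimeCore q ↥M :=
    Cfsg.Agent.Helper16.BG12.le_of_normal_of_not_dvd_index _ hnd _ hX.comap_subtype
  intro x hx
  exact ⟨⟨x, hXM hx⟩, h1 (mem_subgroupOf.mpr hx), rfl⟩

theorem isSylowIn_of_Kq (h : BG G) {M T : Subgroup G} (hM : IsCoatom M) {q s : ℕ}
    [hq : Fact q.Prime] [hs : Fact s.Prime] (hqσ : q ∉ Cfsg.sigma M) (hqM : q ∣ Nat.card M)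
    (hqs : q < s) (hT : IsSylowIn s T (Kq M q)) : IsSylowIn s T M := by
  apply Cfsg.Agent.Helper10.BG16.isSylowIn_of_not_dvd_relIndex' hT (Kq_le M q)
  have : (Kq M q).relIndex M = (Cfsg.pPrimeCore q ↥M).index := by
    unfold Kq Subgroup.relIndex
    rw [Cfsg.Agent.Helper14.subgroupOf_map_subtype']
  rw [this]
  exact not_dvd_index_of_lt h hM hqσ hqM hqs

/-! ### `Ω₁(Z(R))` -/

theorem mem_ozc_iff (r : ℕ) (R : Subgroup G) {x : G} :
    x ∈ ozc r R ↔ x ∈ R ⊓ centralizer (R : Set G) ∧ x ^ r = 1 := by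
  constructor
  · intro hx
    induction hx using Subgroup.closure_induction with
    | mem y hy => exact hy
    | one => exact ⟨one_mem _, one_pow r⟩
    | mul y z _ _ hy hz =>
      refine ⟨mul_mem hy.1 hz.1, ?_⟩
      have hc : Commute y z := (mem_centralizer_iff.mp hz.1.2 y hy.1.1)
      rw [hc.mul_pow, hy.2, hz.2, one_mul]
    | inv y _ hy =>
      exact ⟨inv_mem hy.1, by rw [inv_pow, hy.2, inv_one]⟩
  · intro hx
    exact Subgroup.subset_closure hx

theorem ozc_isElementaryAbelian (r : ℕ) (R : Subgroup G) :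
    Cfsg.IsElementaryAbelian r (ozc r R) := by
  rw [Cfsg.Agent.Helper26.isElementaryAbelian_iff]
  refine ⟨fun a ha b hb => ?_, fun a ha => ((mem_ozc_iff r R).mp ha).2⟩
  have h1 := ((mem_ozc_iff r R).mp ha).1
  have h2 := ((mem_ozc_iff r R).mp hb).1
  exact (mem_centralizer_iff.mp h1.2 b h2.1).symm

theorem card_le_of_pRankLE {M V : Subgroup G} {r k : ℕ} (hVM : V ≤ M)
    (hVe : Cfsg.IsElementaryAbelian r V) (hrk : Cfsg.PRankLE r k M) : Nat.card V ≤ r ^ k := by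
  have hVi := Cfsg.Agent.Helper26.isElementaryAbelian_iff.mp hVe
  have h1 := hrk (V.subgroupOf M)
    ⟨⟨fun a b => Subtype.ext (Subtype.ext (hVi.1 _ a.2 _ b.2))⟩⟩
    (fun a ha => Subtype.ext (by
      have := hVi.2 _ (mem_subgroupOf.mp ha)
      simpa using this))
  rwa [Nat.card_congr (Subgroup.subgroupOfEquivOfLe hVM).toEquiv] at h1

/-! ### (C1) -/

/-- **(C1)**: `b ∈ M` with `b ^ p = 1` acting without fixed points on `M_σ` and on a
`b`-invariant `r`-subgroup `W` of `M` (`r ∉ σ(M)`): then `W` centralizes `M_σ`. -/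
theorem c1 (h : BG G) {M W : Subgroup G} (hM : IsCoatom M) {p r : ℕ} [hp : Fact p.Prime]
    [hr : Fact r.Prime] {b : G} (hbM : b ∈ M) (hbp : b ^ p = 1)
    (hfpf : Cfsg.sigmaCore M ⊓ centralizer ({b} : Set G) = ⊥) (hrσ : r ∉ Cfsg.sigma M)
    (hWM : W ≤ M) (hWr : IsPGroup r W) (hbW : b ∈ normalizer (W : Set G))
    (hWb : W ⊓ centralizer ({b} : Set G) = ⊥) : W ≤ centralizer (Cfsg.sigmaCore M : Set G) := by
  have hWσ : W ≤ normalizer (Cfsg.sigmaCore M : Set G) :=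
    hWM.trans (Cfsg.Agent.H9.BG12.le_normalizer_sigmaCore M)
  have hbσ : b ∈ normalizer (Cfsg.sigmaCore M : Set G) :=
    Cfsg.Agent.H9.BG12.le_normalizer_sigmaCore M hbM
  have hcop : (Nat.card (Cfsg.sigmaCore M)).Coprime r :=
    ((Nat.Prime.coprime_iff_not_dvd hr.out).mpr (not_dvd_card_sigmaCore hrσ)).symm
  have hdisj : Cfsg.sigmaCore M ⊓ W = ⊥ := by
    apply inf_eq_bot_of_primes
    intro q hq h1 h2
    obtain ⟨k, hk⟩ := IsPGroup.iff_card.mp hWr
    rw [hk] at h2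
    have : q = r := (Nat.prime_dvd_prime_iff_eq hq hr.out).mp (hq.dvd_of_dvd_pow h2)
    subst this
    exact not_dvd_card_sigmaCore hrσ h1
  have hbX : b ∈ normalizer ((Cfsg.sigmaCore M ⊔ W : Subgroup G) : Set G) :=
    Cfsg.Agent.Helper10.BG16.mem_normalizer_sup hbσ hbW
  have hfpfX : (Cfsg.sigmaCore M ⊔ W) ⊓ centralizer ({b} : Set G) = ⊥ := by
    rw [eq_bot_iff]
    rintro y ⟨hyX, hyb⟩
    obtain ⟨s, hs, w, hw, rfl⟩ := (Cfsg.Agent.Helper7.mem_sup_of_le_normalizer hWσ).mp hyX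
    have hyb' : b * (s * w) * b⁻¹ = s * w := by
      have := mem_centralizer_singleton_iff.mp hyb
      calc b * (s * w) * b⁻¹ = (s * w * b) * b⁻¹ := by rw [this]
        _ = s * w := by group
    have hs' : b * s * b⁻¹ ∈ Cfsg.sigmaCore M := (mem_normalizer_iff.mp hbσ s).mp hs
    have hw' : b * w * b⁻¹ ∈ W := (mem_normalizer_iff.mp hbW w).mp hw
    have h1 : s⁻¹ * (b * s * b⁻¹) = w * (b * w * b⁻¹)⁻¹ := by
      have e1 : (b * s * b⁻¹) * (b * w * b⁻¹) = s * w := by rw [← hyb']; group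
      calc s⁻¹ * (b * s * b⁻¹)
          = s⁻¹ * ((b * s * b⁻¹) * (b * w * b⁻¹)) * (b * w * b⁻¹)⁻¹ := by group
        _ = s⁻¹ * (s * w) * (b * w * b⁻¹)⁻¹ := by rw [e1]
        _ = w * (b * w * b⁻¹)⁻¹ := by group
    have h2 : s⁻¹ * (b * s * b⁻¹) ∈ Cfsg.sigmaCore M ⊓ W :=
      ⟨(Cfsg.sigmaCore M).mul_mem ((Cfsg.sigmaCore M).inv_mem hs) hs',
        h1 ▸ W.mul_mem hw (W.inv_mem hw')⟩
    rw [hdisj, mem_bot] at h2
    have h3 : b * s * b⁻¹ = s := by
      calc b * s * b⁻¹ = s * (s⁻¹ * (b * s * b⁻¹)) := by group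
        _ = s := by rw [h2, mul_one]
    have h4 : b * w * b⁻¹ = w := by
      have h5 : w * (b * w * b⁻¹)⁻¹ = 1 := by rw [← h1, h2]
      calc b * w * b⁻¹ = (w * (b * w * b⁻¹)⁻¹)⁻¹ * w := by group
        _ = w := by rw [h5, inv_one, one_mul]
    have hsb : s ∈ Cfsg.sigmaCore M ⊓ centralizer ({b} : Set G) := by
      refine ⟨hs, mem_centralizer_singleton_iff.mpr ?_⟩
      calc s * b = (b * s * b⁻¹) * b := by rw [h3]
        _ = b * s := by group
    have hwb : w ∈ W ⊓ centralizer ({b} : Set G) := by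
      refine ⟨hw, mem_centralizer_singleton_iff.mpr ?_⟩
      calc w * b = (b * w * b⁻¹) * b := by rw [h4]
        _ = b * w := by group
    rw [hfpf, mem_bot] at hsb
    rw [hWb, mem_bot] at hwb
    rw [hsb, hwb, mul_one]
    exact one_mem _
  have hnilX := Cfsg.Agent.Helper1.RankOneQ.nilpotent_of_fpf_conj _ hp.out hbX hbp hfpfX
  intro w hw
  rw [mem_centralizer_iff]
  intro s hs
  exact (Cfsg.Agent.Helper29.commute_of_le_nilpotent_of_coprime hnilX
    (le_sup_right : W ≤ Cfsg.sigmaCore M ⊔ W) (le_sup_left : Cfsg.sigmaCore M ≤ _) hWr hcop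
    w hw s hs).symm

theorem le_sup_zpowers_of_card_sq {p : ℕ} [hp : Fact p.Prime] {A : Subgroup G}
    (hAe : Cfsg.IsElementaryAbelian p A) (hA2 : Nat.card A = p ^ 2) {b₁ b₂ : G} (h1 : b₁ ∈ A)
    (h2 : b₂ ∈ A) (hb1 : b₁ ≠ 1) (hb2 : b₂ ∉ zpowers b₁) : A ≤ zpowers b₁ ⊔ zpowers b₂ := by
  have hLA : zpowers b₁ ⊔ zpowers b₂ ≤ A := sup_le (zpowers_le.mpr h1) (zpowers_le.mpr h2)
  by_contra hne
  have hLne : zpowers b₁ ⊔ zpowers b₂ ≠ A := fun h0 => hne h0.ge
  have hL1 : zpowers b₁ ⊔ zpowers b₂ ≠ ⊥ := by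
    intro h0
    have : b₁ ∈ (⊥ : Subgroup G) := h0 ▸ (le_sup_left : zpowers b₁ ≤ _) (mem_zpowers b₁)
    exact hb1 (mem_bot.mp this)
  have hLp := card_eq_prime_of_lt_sq hLA hA2 hL1 hLne
  have := zpowers_eq_of_card_prime hp.out hLp
    ((le_sup_left : zpowers b₁ ≤ _) (mem_zpowers b₁)) hb1
  apply hb2
  rw [this]
  exact (le_sup_right : zpowers b₂ ≤ _) (mem_zpowers b₂)

namespace Exc

variable {p : ℕ} [hp : Fact p.Prime] {M A A₀ : Subgroup G}

/-- an `A`-invariant abelian `r`-subgroup `W` of `M` (`r ∉ σ(M)`, `r ≠ p`) with `C_W(A) = 1`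
centralizes `M_σ` -/
theorem le_centralizer_sigmaCore_of_fpf (h : BG G) (e : Exc M p A A₀) {r : ℕ} [hr : Fact r.Prime]
    (hrp : r ≠ p) (hrσ : r ∉ Cfsg.sigma M) {W : Subgroup G} (hWM : W ≤ M) (hWr : IsPGroup r W)
    (hWc : ∀ x ∈ W, ∀ y ∈ W, x * y = y * x) (hAW : A ≤ normalizer (W : Set G))
    (hWA : W ⊓ centralizer (A : Set G) = ⊥) : W ≤ centralizer (Cfsg.sigmaCore M : Set G) := by
  obtain ⟨b₁, hb₁, b₂, hb₂, hb₁1, hb₂1, hb₂n, hf₁, hf₂⟩ := e.exists_fpf_pair h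
  haveI : IsMulCommutative W := ⟨⟨fun a b => Subtype.ext (hWc _ a.2 _ b.2)⟩⟩
  have hAgen := le_sup_zpowers_of_card_sq e.hAe e.hA2 hb₁ hb₂ hb₁1 hb₂n
  have hB₁A : zpowers b₁ ≤ A := zpowers_le.mpr hb₁
  have hB₁W : zpowers b₁ ≤ normalizer (W : Set G) := hB₁A.trans hAW
  have hcopW : (Nat.card A).Coprime (Nat.card W) := by
    obtain ⟨k, hk⟩ := IsPGroup.iff_card.mp hWr
    rw [e.hA2, hk]
    exact Nat.Coprime.pow 2 k ((Nat.coprime_primes hp.out hr.out).mpr (Ne.symm hrp))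
  have hcop₁ : (Nat.card (zpowers b₁)).Coprime (Nat.card W) :=
    hcopW.coprime_dvd_left (Subgroup.card_dvd_of_le hB₁A)
  obtain ⟨hd1, hd2⟩ := Cfsg.Agent.Lead.coprime_abelian_decomp (zpowers b₁) W hB₁W hcop₁
  rw [Cfsg.Agent.Helper4.BG10.centralizer_zpowers_eq] at hd1 hd2
  have hcomm : b₂ * b₁ = b₁ * b₂ := by
    have hAi := Cfsg.Agent.Helper26.isElementaryAbelian_iff.mp e.hAe
    exact hAi.1 b₂ hb₂ b₁ hb₁
  -- the commutator part
  have hW₁ : ⁅W, zpowers b₁⁆ ≤ centralizer (Cfsg.sigmaCore M : Set G) := by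
    apply c1 h e.hM (e.hAM hb₁) (e.hAe.2 b₁ hb₁) hf₁ hrσ
      ((Cfsg.Agent.Lead.commutator_le_of_le_normalizer hB₁W).trans hWM)
      (hWr.to_le (Cfsg.Agent.Lead.commutator_le_of_le_normalizer hB₁W))
      (Cfsg.Agent.Lead.le_normalizer_commutator_right W (zpowers b₁) (mem_zpowers b₁))
    apply le_bot_iff.mp
    rw [← hd1]
    exact le_inf (le_inf (inf_le_left.trans (Cfsg.Agent.Lead.commutator_le_of_le_normalizer hB₁W))
      inf_le_right) inf_le_left
  -- the centralizer part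
  have hW₂ : W ⊓ centralizer ({b₁} : Set G) ≤ centralizer (Cfsg.sigmaCore M : Set G) := by
    apply c1 h e.hM (e.hAM hb₂) (e.hAe.2 b₂ hb₂) hf₂ hrσ (inf_le_left.trans hWM)
      (hWr.to_le inf_le_left)
    · have h1 : zpowers b₂ ≤ normalizer (W : Set G) := zpowers_le.mpr (hAW hb₂)
      have h2 : zpowers b₂ ≤
          normalizer ((centralizer ({b₁} : Set G) : Subgroup G) : Set G) := by
        apply Cfsg.Agent.Lead.TT.le_normalizer_centralizer_singleton
        intro y hy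
        obtain ⟨k, rfl⟩ := mem_zpowers_iff.mp hy
        have hc : Commute b₂ b₁ := hcomm
        exact (hc.zpow_left k).eq
      exact Cfsg.Agent.Lead.le_normalizer_inf' h1 h2 (mem_zpowers b₂)
    · apply le_bot_iff.mp
      rw [← hWA]
      rintro y ⟨⟨hyW, hy1⟩, hy2⟩
      refine Subgroup.mem_inf.mpr ⟨hyW, ?_⟩
      replace hy1 : y ∈ centralizer ({b₁} : Set G) := hy1
      replace hy2 : y ∈ centralizer ({b₂} : Set G) := hy2
      rw [mem_centralizer_iff]
      intro a ha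
      have h3 : zpowers b₁ ⊔ zpowers b₂ ≤ centralizer ({y} : Set G) := by
        apply sup_le
        · rw [zpowers_le, mem_centralizer_singleton_iff]
          exact (mem_centralizer_singleton_iff.mp hy1).symm
        · rw [zpowers_le, mem_centralizer_singleton_iff]
          exact (mem_centralizer_singleton_iff.mp hy2).symm
      exact mem_centralizer_singleton_iff.mp (h3 (hAgen ha))
  rw [← hd2]
  exact sup_le hW₂ hW₁

end Exc

end Cfsg.Agent.Helper16.BG11
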