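import Mathlib
import Cfsg.Agent.Helper16.BG11e
import Cfsg.Agent.Helper28.BG11SIG
import Cfsg.Agent.Helper18.BG108c
import Cfsg.Agent.Helper9.BG12g

set_option autoImplicit false
set_option linter.unusedSectionVars false
set_option linter.unusedVariables false
set_option linter.style.haveILetI false

/-! # Bender–Glauberman §11, part (f): Theorem 11.7 (`M_σ A ⊴ M`) -/

namespace Cfsg.Agent.Helper16.BG11

open Subgroup Cfsg
open Cfsg.Agent.Helper14 (IsSylowIn cj map_cj_le_iff map_cj_mul map_cj_one map_cj_normalizer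
  mem_normalizer_iff_map_cj map_cj_eq_self_of_mem le_normalizer_of_map_cj_le mem_map_cj
  exists_isSylowIn_ge exists_isSylowIn isSylowIn_of_sylow map_cj_centralizer map_cj_map_cj_inv
  map_cj_inv_map_cj ozc map_cj_ozc cj_apply)
open Cfsg.Agent.Lead.TT (IsMaxInv)

universe u
variable {G : Type u} [Group G] [Finite G]

/-! ### generalities -/

/-- an `r`-subgroup of `G` containing a maximal elementary abelian subgroup of order `r ^ 2`
is narrow -/
theorem isNarrow_of_le {r : ℕ} [hr : Fact r.Prime] (hr2 : r ≠ 2) {Q B : Subgroup G}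
    (hQ : IsPGroup r Q) (hBQ : B ≤ Q) (hBe : Cfsg.IsElementaryAbelian r B)
    (hB2 : Nat.card B = r ^ 2)
    (hmax : ∀ B' : Subgroup G, Cfsg.IsElementaryAbelian r B' → B ≤ B' → B' = B) :
    Cfsg.IsNarrow r ↥Q := by
  by_cases hrk : Cfsg.PRankLE r 2 ↥Q
  · exact Or.inl hrk
  · exact Cfsg.Agent.Helper18.BG108.isNarrow_of_injective r hr2 Q.subtype Q.subtype_injective hQ
      hrk B hBe hB2 (by rw [Subgroup.range_subtype]; exact hBQ)
      (fun B' _ hB' hlt => hlt.ne (hmax B' hB' hlt.le).symm)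

theorem exists_conj_le_of_isSylowIn {r : ℕ} [Fact r.Prime] {T M X : Subgroup G}
    (hT : IsSylowIn r T M) (hXM : X ≤ M) (hX : IsPGroup r X) : ∃ m ∈ M, X.map (cj m) ≤ T := by
  obtain ⟨U, hU, hXU⟩ := exists_isSylowIn_ge hXM hX
  obtain ⟨g, hg, hTU⟩ := hU.exists_conj hT
  exact ⟨g, hg, hTU ▸ Subgroup.map_mono hXU⟩

theorem conj_pow_eq_one {g x : G} {n : ℕ} (hx : x ^ n = 1) : (g * x * g⁻¹) ^ n = 1 := by
  rw [conj_pow, hx, mul_one, mul_inv_cancel]

namespace Exc

variable {p : ℕ} [hp : Fact p.Prime] {M A A₀ : Subgroup G}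

theorem map_cj (e : Exc M p A A₀) {m : G} (hm : m ∈ M) :
    Exc M p (A.map (cj m)) (A₀.map (cj m)) where
  hM := e.hM
  hp := e.hp
  hAM := by
    have := Subgroup.map_mono (f := cj m) e.hAM
    rwa [map_cj_eq_self_of_mem hm] at this
  hAe := isElementaryAbelian_map_cj e.hAe m
  hA2 := by rw [card_map_cj]; exact e.hA2
  hA₀A := Subgroup.map_mono e.hA₀A
  hA₀p := by rw [card_map_cj]; exact e.hA₀p
  hN := by
    rw [← map_cj_normalizer]
    have := Subgroup.map_mono (f := cj m) e.hN
    rwa [map_cj_eq_self_of_mem hm] at this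

/-- the conclusion of B&G 10.11 in our situation -/
theorem le_centralizer_of_sig (h : BG G) (e : Exc M p A A₀) {r : ℕ} [hr : Fact r.Prime]
    (hrp : r ≠ p) (hrσ : r ∉ Cfsg.sigma M) {T B : Subgroup G} (hTM : T ≤ M)
    (hTr : IsPGroup r T) (hAT : A ≤ normalizer (T : Set G)) (hBT : B ≤ T)
    (hBe : Cfsg.IsElementaryAbelian r B) (hB2 : Nat.card B = r ^ 2)
    (hrC : r ∣ Nat.card (centralizer (A : Set G))) : T ≤ centralizer (A : Set G) := by
  obtain ⟨Q, hTQ, hQ⟩ := Cfsg.Agent.Lead.TT.exists_isMaxInv_ge A T hTr hAT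
  have hmax := max_of_elemAb h e.hM hrσ (hBT.trans hTM) hBe hB2
  have hr2 : r ≠ 2 := Cfsg.Agent.H9.BG12.prime_ne_two_of_dvd h.hG
    (hrC.trans (Subgroup.card_subgroup_dvd_card _))
  have hnar : Cfsg.IsNarrow r ↥Q := isNarrow_of_le hr2 hQ.1 (hBT.trans hTQ) hBe hB2 hmax
  obtain ⟨S, hAS, -, -, hS⟩ := Cfsg.Agent.Helper28.BG11.sig_prop h.hG p (h.s1410 p) (h.s1411 p) A
    e.hAe e.hA2 (e.mem_iff h) r hr.out hrp hrC Q
    (Cfsg.Agent.Lead.TT.mem_maxInvSubgroups_of_isMaxInv hQ)
  have hSQ := hS hnar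
  intro t ht
  rw [mem_centralizer_iff]
  intro a ha
  exact (mem_centralizer_iff.mp (hSQ (hAS ha)) t (hTQ ht)).symm

/-- **Lemma R**: a normal `r`-subgroup (`r ≠ p`) of a complement `E ⊇ A` of `M_σ` in `M`
centralizes `A`. -/
theorem normal_rgroup_le_centralizer (h : BG G) (e : Exc M p A A₀) {E R : Subgroup G} {r : ℕ}
    [hr : Fact r.Prime] (hE : Cfsg.IsComplIn E (Cfsg.sigmaCore M) M) (hAE : A ≤ E) (hrp : r ≠ p)
    (hRE : R ≤ E) (hRr : IsPGroup r R) (hER : E ≤ normalizer (R : Set G)) :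
    R ≤ centralizer (A : Set G) := by
  by_cases hR1 : R = ⊥
  · rw [hR1]; exact bot_le
  have hEM : E ≤ M := hE.1
  have hRM : R ≤ M := hRE.trans hEM
  have hAR : A ≤ normalizer (R : Set G) := hAE.trans hER
  have hrσ : r ∉ Cfsg.sigma M := by
    intro hrσ
    have h1 : R ≤ Cfsg.sigmaCore M :=
      Cfsg.Agent.H9.BG12.le_sigmaCore_of_isPGroup h.st1350 e.hM hrσ hRM hRr
    exact hR1 (le_bot_iff.mp (hE.2.2.1 ▸ le_inf hRE h1))
  have hrM : r ∣ Nat.card M :=
    (dvd_card_of_isPGroup_ne_bot hRr hR1).trans (Subgroup.card_dvd_of_le hRM)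
  have hpM : p ∣ Nat.card M :=
    (dvd_card_of_isPGroup_ne_bot e.hAp e.hA1).trans (Subgroup.card_dvd_of_le e.hAM)
  rcases lt_or_gt_of_ne hrp with hlt | hgt
  · -- `r < p`
    have hAK : A ≤ Kq M r := le_Kq_of_lt h e.hM hrσ hrM hlt e.hAp e.hAM
    have h1 : ⁅R, A⁆ ≤ R := Cfsg.Agent.Lead.commutator_le_of_le_normalizer hAR
    have h2 : ⁅R, A⁆ ≤ Kq M r := by
      rw [commutator_comm]
      exact (Subgroup.commutator_mono hAK le_rfl).trans
        (Cfsg.Agent.Lead.commutator_le_of_le_normalizer (hRM.trans (le_normalizer_Kq M r)))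
    have h3 : R ⊓ Kq M r = ⊥ := by
      refine (Subgroup.disjoint_of_coprime_natCard ?_).eq_bot
      obtain ⟨k, hk⟩ := IsPGroup.iff_card.mp hRr
      rw [hk]
      exact Nat.Coprime.pow_left k (card_Kq_coprime M r).symm
    rw [← commutator_eq_bot_iff_le_centralizer, eq_bot_iff, ← h3]
    exact le_inf h1 h2
  · -- `p < r`
    have hRK : R ≤ Kq M p := le_Kq_of_lt h e.hM e.hp hpM hgt hRr hRM
    have hAKn : A ≤ normalizer (Kq M p : Set G) := e.hAM.trans (le_normalizer_Kq M p)
    have hcopK : (Nat.card A).Coprime (Nat.card (Kq M p)) := by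
      rw [e.hA2]; exact Nat.Coprime.pow_left 2 (card_Kq_coprime M p).symm
    obtain ⟨T, hTK, hRT, hAT⟩ :=
      exists_invariant_sylow_ge A (Kq M p) R hAKn hcopK (Or.inl e.hAsolv) r hRK hRr hAR
    have hTM : IsSylowIn r T M := isSylowIn_of_Kq h e.hM e.hp hpM hgt hTK
    have hTle : T ≤ M := hTM.1
    have hTr : IsPGroup r T := hTM.2.1
    obtain ⟨V, hVdef⟩ : ∃ V : Subgroup G, V = ozc r R := ⟨_, rfl⟩
    have hV1 : V ≠ ⊥ := hVdef ▸ ozc_ne_bot hRr hR1
    have hVe : Cfsg.IsElementaryAbelian r V := hVdef ▸ ozc_isElementaryAbelian r R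
    have hVR : V ≤ R := hVdef ▸ (Cfsg.Agent.Helper14.omegaOne_le r _).trans inf_le_left
    have hEV : E ≤ normalizer (V : Set G) := hVdef ▸ hER.trans (normalizer_le_normalizer_ozc r R)
    have hVM : V ≤ M := hVR.trans hRM
    have hVr : IsPGroup r V := hRr.to_le hVR
    have hVc : ∀ x ∈ V, ∀ y ∈ V, x * y = y * x :=
      (Cfsg.Agent.Helper26.isElementaryAbelian_iff.mp hVe).1
    have hrk2 : Cfsg.PRankLE r 2 M := pRankLE_two_of_not_mem_sigma h e.hM hrσ
    have hsig : ∀ B : Subgroup G, B ≤ T → Cfsg.IsElementaryAbelian r B → Nat.card B = r ^ 2 →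
        r ∣ Nat.card (centralizer (A : Set G)) → R ≤ centralizer (A : Set G) :=
      fun B hBT hBe hB2 hrC =>
        hRT.trans (e.le_centralizer_of_sig h hrp hrσ hTle hTr hAT hBT hBe hB2 hrC)
    have hdvdC : ∀ W : Subgroup G, IsPGroup r W → W ⊓ centralizer (A : Set G) ≠ ⊥ →
        r ∣ Nat.card (centralizer (A : Set G)) := fun W hW hne =>
      (dvd_card_of_isPGroup_ne_bot (hW.to_le inf_le_left) hne).trans
        (Subgroup.card_dvd_of_le inf_le_right)
    by_cases hVC : V ⊓ centralizer (A : Set G) = ⊥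
    · -- Case II
      have hAV : A ≤ normalizer (V : Set G) := hAE.trans hEV
      have hVσ : V ≤ centralizer (Cfsg.sigmaCore M : Set G) :=
        e.le_centralizer_sigmaCore_of_fpf h hrp hrσ hVM hVr hVc hAV hVC
      have hMV : M ≤ normalizer (V : Set G) := by
        intro m hm
        obtain ⟨a, ha, b, hb, rfl⟩ := hE.2.2.2 m hm
        refine Subgroup.mul_mem _ (hEV ha) ?_
        apply centralizer_le_normalizer
        rw [mem_centralizer_iff]
        intro v hv
        exact (mem_centralizer_iff.mp (hVσ hv) b hb).symm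
      have hVcard : Nat.card V = r := by
        have hle := card_le_of_pRankLE hVM hVe hrk2
        obtain ⟨k, hk⟩ := IsPGroup.iff_card.mp hVr
        have hk2 : k ≤ 2 := by
          rw [hk] at hle
          exact (Nat.pow_le_pow_iff_right hr.out.one_lt).mp hle
        interval_cases k
        · rw [pow_zero] at hk
          exact absurd (Subgroup.card_eq_one.mp hk) hV1
        · rw [hk, pow_one]
        · exact (no_normal_elemAb_sq h e.hM hrσ hVM hVe hk hMV).elim
      have hVtop : V ≠ ⊤ := by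
        intro h0
        have : M = ⊤ := top_le_iff.mp (h0 ▸ hVM)
        exact e.hM.1 this
      have hNV : normalizer (V : Set G) = M := by
        have hne : normalizer (V : Set G) ≠ ⊤ :=
          Cfsg.Agent.Lead.TT.normalizer_ne_top_of_simple h.hS hV1 hVtop
        by_contra hne2
        exact hne (e.hM.2 _ (lt_of_le_of_ne hMV (Ne.symm hne2)))
      obtain ⟨-, -, Ar, hAre, hAr2, hVAr⟩ := h.s1409 M e.hM r hrσ V hVcard hNV.le
      have hArM : Ar ≤ M := by
        intro x hx
        apply hNV.le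
        apply centralizer_le_normalizer
        rw [mem_centralizer_iff]
        intro v hv
        exact (Cfsg.Agent.Helper26.isElementaryAbelian_iff.mp hAre).1 v (hVAr hv) x hx
      obtain ⟨m, hm, hBT⟩ := exists_conj_le_of_isSylowIn hTM hArM
        (Cfsg.Agent.Helper4.BG10.isPGroup_of_elementary hAre)
      obtain ⟨B, hBdef⟩ : ∃ B : Subgroup G, B = Ar.map (cj m) := ⟨_, rfl⟩
      rw [← hBdef] at hBT
      have hVB : V ≤ B := by
        have h1 : V.map (cj m) = V := mem_normalizer_iff_map_cj.mp (hMV hm)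
        rw [← h1, hBdef]
        exact Subgroup.map_mono hVAr
      have er : Exc M r B V :=
        ⟨e.hM, hrσ, hBT.trans hTle, hBdef ▸ isElementaryAbelian_map_cj hAre m,
          by rw [hBdef, card_map_cj]; exact hAr2, hVB, hVcard, hNV.le⟩
      have hom := er.omega h hTM hBT
      have hAB : A ≤ normalizer (B : Set G) := by
        apply le_normalizer_of_map_cj_le
        rintro a ha _ ⟨x, hx, rfl⟩
        rw [cj_apply]
        have hxT : a * x * a⁻¹ ∈ T := (mem_normalizer_iff.mp (hAT ha) x).mp (hBT hx)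
        exact hom _ hxT (conj_pow_eq_one
          ((Cfsg.Agent.Helper26.isElementaryAbelian_iff.mp er.hAe).2 x hx))
      by_cases hBC : B ⊓ centralizer (A : Set G) = ⊥
      · exfalso
        have hBσ := e.le_centralizer_sigmaCore_of_fpf h hrp hrσ (hBT.trans hTle) er.hAp
          (Cfsg.Agent.Helper26.isElementaryAbelian_iff.mp er.hAe).1 hAB hBC
        have h0 := er.cent_inf_eq_bot h
        apply Cfsg.Agent.Helper10.BG16.sigmaCore_ne_bot h.hG h.st1350 h.uniq96 e.hM
        rw [eq_bot_iff, ← h0]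
        refine le_inf le_rfl (fun s hs => ?_)
        rw [mem_centralizer_iff]
        intro b hb
        exact (mem_centralizer_iff.mp (hBσ hb) s hs).symm
      · exact hsig B hBT er.hAe er.hA2 (hdvdC B er.hAp hBC)
    · -- Case I
      have hrC := hdvdC V hVr hVC
      by_cases hrk : Cfsg.PRankLE r 1 M
      · -- cyclic case
        have hr2 : r ≠ 2 := Cfsg.Agent.H9.BG12.prime_ne_two_of_dvd h.hG
          (hrC.trans (Subgroup.card_subgroup_dvd_card _))
        have hRrk : Cfsg.PRankLE r 1 ↥R :=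
          Cfsg.Agent.Helper7.PRankLE.of_injective (Subgroup.inclusion hRM)
            (Subgroup.inclusion_injective hRM) hrk
        haveI hcyc : IsCyclic ↥R := Cfsg.Agent.Helper16.BG12.isCyclic_of_pRankLE_one hr2 hRr hRrk
        have hRc' : ∀ a b : ↥R, a * b = b * a := fun a b => by
          letI := IsCyclic.commGroup (α := ↥R)
          exact mul_comm a b
        haveI : IsMulCommutative ↥R := ⟨⟨hRc'⟩⟩
        have hRc : ∀ x ∈ R, ∀ y ∈ R, x * y = y * x := fun x hx y hy =>
          congrArg Subtype.val (hRc' ⟨x, hx⟩ ⟨y, hy⟩)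
        have hVcard : Nat.card V = r := by
          have hle := card_le_of_pRankLE hVM hVe hrk
          rw [pow_one] at hle
          have hd := dvd_card_of_isPGroup_ne_bot hVr hV1
          exact le_antisymm hle (Nat.le_of_dvd Nat.card_pos hd)
        have hVA : V ≤ centralizer (A : Set G) := by
          have h1 : V ⊓ centralizer (A : Set G) = V := by
            apply Subgroup.eq_of_le_of_card_ge inf_le_left
            rw [hVcard]
            exact Nat.le_of_dvd Nat.card_pos
              (dvd_card_of_isPGroup_ne_bot (hVr.to_le inf_le_left) hVC)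
          exact h1 ▸ inf_le_right
        have hcopR : (Nat.card A).Coprime (Nat.card R) := by
          obtain ⟨k, hk⟩ := IsPGroup.iff_card.mp hRr
          rw [hk, e.hA2]
          exact Nat.Coprime.pow _ _ ((Nat.coprime_primes hp.out hr.out).mpr (Ne.symm hrp))
        have hAcR : A ≤ centralizer (R : Set G) := by
          apply Cfsg.Agent.Lead.coprime_abelian_centralizes_of_prime_order A R hAR hcopR
          intro v hv hvo a ha
          have hvr : v ^ r = 1 := by
            obtain ⟨k, hk⟩ := (IsPGroup.iff_orderOf.mp hRr) ⟨v, hv⟩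
            rw [Subgroup.orderOf_mk] at hk
            have h1 : orderOf v = r := by
              have := (Nat.prime_dvd_prime_iff_eq hr.out hvo).mp ?_
              · exact this.symm
              · have hk0 : k ≠ 0 := by
                  rintro rfl
                  rw [pow_zero] at hk
                  exact hvo.ne_one hk
                rw [hk]
                exact dvd_pow_self r hk0
            rw [← h1]
            exact pow_orderOf_eq_one v
          have hvV : v ∈ V := by
            rw [hVdef, mem_ozc_iff]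
            refine ⟨Subgroup.mem_inf.mpr ⟨hv, ?_⟩, hvr⟩
            rw [mem_centralizer_iff]
            intro y hy
            exact hRc y hy v hv
          exact mem_centralizer_iff.mp (hVA hvV) a ha
        intro x hx
        rw [mem_centralizer_iff]
        intro a ha
        exact (mem_centralizer_iff.mp (hAcR ha) x hx).symm
      · -- rank two
        obtain ⟨B₀, hB₀M, hB₀e, hB₀2⟩ :=
          Cfsg.Agent.Lead.TT.exists_elementary_of_not_pRankLE' 1 M hrk
        have hB₀c : Nat.card B₀ = r ^ 2 :=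
          le_antisymm (card_le_of_pRankLE hB₀M hB₀e hrk2) hB₀2
        obtain ⟨m, hm, hBT⟩ := exists_conj_le_of_isSylowIn hTM hB₀M
          (Cfsg.Agent.Helper4.BG10.isPGroup_of_elementary hB₀e)
        exact hsig (B₀.map (cj m)) hBT (isElementaryAbelian_map_cj hB₀e m)
          (by rw [card_map_cj]; exact hB₀c) hrC

/-- `E' ≤ C(A)` for a complement `E ⊇ A` of `M_σ` in `M` -/
theorem commutator_le_centralizer (h : BG G) (e : Exc M p A A₀) {E : Subgroup G}
    (hE : Cfsg.IsComplIn E (Cfsg.sigmaCore M) M) (hAE : A ≤ E) :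
    ⁅E, E⁆ ≤ centralizer (A : Set G) := by
  have hnil : Group.IsNilpotent ↥⁅E, E⁆ :=
    Cfsg.Agent.Helper16.BG12.derived_nilpotent hE (h.s1405 M e.hM).2.2.1
      (h.s1405 M e.hM).2.2.2.2
  have hDE : ⁅E, E⁆ ≤ E := Cfsg.Agent.Lead.commutator_le_of_le_normalizer le_normalizer
  have hEn : E ≤ normalizer ((⁅E, E⁆ : Subgroup G) : Set G) := by
    apply le_normalizer_of_map_cj_le
    intro g hg
    rw [Subgroup.map_commutator]
    have h1 : E.map (cj g) = E := map_cj_eq_self_of_mem hg
    rw [h1]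
  apply Cfsg.Agent.Helper16.BG12.le_of_forall_sylow_le
  intro r _
  obtain ⟨P⟩ : Nonempty (Sylow r ↥⁅E, E⁆) := inferInstance
  refine ⟨P, ?_⟩
  have hPs : IsSylowIn r ((P : Subgroup ↥⁅E, E⁆).map (⁅E, E⁆).subtype) ⁅E, E⁆ :=
    isSylowIn_of_sylow P
  obtain ⟨R, hRdef⟩ : ∃ R : Subgroup G, R = (P : Subgroup ↥⁅E, E⁆).map (⁅E, E⁆).subtype :=
    ⟨_, rfl⟩
  rw [← hRdef] at hPs ⊢
  have hRr : IsPGroup r R := hPs.2.1
  have hRE : R ≤ E := hPs.1.trans hDE
  have hER : E ≤ normalizer (R : Set G) :=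
    Cfsg.Agent.H9.BG12.le_normalizer_sylow_of_nilpotent hnil hEn hPs
  by_cases hrp : r = p
  · subst hrp
    obtain ⟨P', hP', hAP'⟩ := exists_isSylowIn_ge hAE e.hAp
    have hrel : E.relIndex M = Nat.card (Cfsg.sigmaCore M) := by
      have h1 := Cfsg.Agent.H9.BG12.card_mul_of_isComplIn hE
      have h2 := Cfsg.Agent.Lead.relIndex_mul_card' hE.1
      have h3 : E.relIndex M * Nat.card E = Nat.card (Cfsg.sigmaCore M) * Nat.card E := by
        rw [h2, mul_comm, h1]
      exact Nat.eq_of_mul_eq_mul_right Nat.card_pos h3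
    have hP'M : IsSylowIn r P' M :=
      Cfsg.Agent.Helper10.BG16.isSylowIn_of_not_dvd_relIndex' hP' hE.1
        (by rw [hrel]; exact not_dvd_card_sigmaCore e.hp)
    have hRP' : R ≤ P' := Cfsg.Agent.Lead.BG8.le_of_isSylowIn_of_normal hP' hRE hER hRr
    exact hRP'.trans (e.sylow_le_centralizer h hP'M hAP')
  · exact e.normal_rgroup_le_centralizer h hE hAE hrp hRE hRr hER

/-- a complement `E ⊇ A` of `M_σ` in `M` normalizes `A` -/
theorem le_normalizer_of_compl (h : BG G) (e : Exc M p A A₀) {E : Subgroup G}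
    (hE : Cfsg.IsComplIn E (Cfsg.sigmaCore M) M) (hAE : A ≤ E) :
    E ≤ normalizer (A : Set G) := by
  have hcomm := e.commutator_le_centralizer h hE hAE
  have hAi := Cfsg.Agent.Helper26.isElementaryAbelian_iff.mp e.hAe
  have hAcA : A ≤ centralizer (A : Set G) := by
    intro a ha
    rw [mem_centralizer_iff]
    intro b hb
    exact hAi.1 b hb a ha
  apply le_normalizer_of_map_cj_le
  rintro g hg _ ⟨a, ha, rfl⟩
  rw [cj_apply]
  have h1 : g * a * g⁻¹ * a⁻¹ ∈ ⁅E, E⁆ := Subgroup.commutator_mem_commutator hg (hAE ha)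
  have h2 : g * a * g⁻¹ ∈ centralizer (A : Set G) := by
    have h3 : g * a * g⁻¹ = (g * a * g⁻¹ * a⁻¹) * a := by group
    rw [h3]
    exact mul_mem (hcomm h1) (hAcA ha)
  exact ((e.mem_iff h) _ h2).mp (conj_pow_eq_one (hAi.2 a ha))

theorem le_normalizer_sup_of_compl (h : BG G) (e : Exc M p A A₀) {E : Subgroup G}
    (hE : Cfsg.IsComplIn E (Cfsg.sigmaCore M) M) (hAE : A ≤ E) :
    M ≤ normalizer ((Cfsg.sigmaCore M ⊔ A : Subgroup G) : Set G) := by
  have hEA := e.le_normalizer_of_compl h hE hAE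
  intro m hm
  obtain ⟨a, ha, b, hb, rfl⟩ := hE.2.2.2 m hm
  refine Subgroup.mul_mem _ ?_ ?_
  · exact Cfsg.Agent.Helper10.BG16.mem_normalizer_sup
      (Cfsg.Agent.H9.BG12.le_normalizer_sigmaCore M (hE.1 ha)) (hEA ha)
  · exact le_normalizer (le_sup_left (a := Cfsg.sigmaCore M) (b := A) hb)

/-- **B&G Theorem 11.7**: `M_σ A` is normal in `M`. -/
theorem le_normalizer_sup (h : BG G) (e : Exc M p A A₀) :
    M ≤ normalizer ((Cfsg.sigmaCore M ⊔ A : Subgroup G) : Set G) := by
  obtain ⟨E, hE⟩ := Cfsg.Agent.H9.BG12.exists_complIn_sigmaCore h.st1350 e.hM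
  have hHall := Cfsg.Agent.H9.BG12.isPiHallOf_compl h.st1350 e.hM hE
  have hAπ : Cfsg.Agent.Lead.IsPiNum (Cfsg.sigma M)ᶜ (Nat.card A) := by
    intro q hq hqd
    rw [e.hA2] at hqd
    have hqp : q = p := (Nat.prime_dvd_prime_iff_eq hq hp.out).mp (hq.dvd_of_dvd_pow hqd)
    rw [hqp]
    exact e.hp
  obtain ⟨m, hm, hAm⟩ :=
    Cfsg.Agent.H9.BG12.exists_conj_le_of_hall (h.solv e.hM.1) hHall e.hAM hAπ
  have h1 := (e.map_cj hm).le_normalizer_sup_of_compl h hE hAm
  have h2 : (Cfsg.sigmaCore M ⊔ A.map (cj m) : Subgroup G) =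
      (Cfsg.sigmaCore M ⊔ A : Subgroup G).map (cj m) := by
    rw [Subgroup.map_sup]
    congr 1
    exact (mem_normalizer_iff_map_cj.mp (Cfsg.Agent.H9.BG12.le_normalizer_sigmaCore M hm)).symm
  rw [h2, ← map_cj_normalizer] at h1
  have h3 := Subgroup.map_mono (f := cj m⁻¹) h1
  rw [map_cj_map_cj_inv, map_cj_eq_self_of_mem (M.inv_mem hm)] at h3
  exact h3

end Exc

end Cfsg.Agent.Helper16.BG11
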