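import Mathlib
import Cfsg.Agent.Helper16.BG11f
import Cfsg.Agent.Helper9.BG12p

set_option autoImplicit false
set_option linter.unusedSectionVars false
set_option linter.unusedVariables false
set_option linter.style.haveILetI false

/-! # Bender–Glauberman 12.3 (case `p ∉ σ(M*)`) and Theorem 12.5 (= S1417) relative to S1416 -/

namespace Cfsg.Agent.Helper16.BG11

open Subgroup Cfsg
open Cfsg.Agent.Helper14 (IsSylowIn cj map_cj_le_iff map_cj_mul map_cj_one map_cj_normalizer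
  mem_normalizer_iff_map_cj map_cj_eq_self_of_mem le_normalizer_of_map_cj_le mem_map_cj
  exists_isSylowIn_ge exists_isSylowIn isSylowIn_of_sylow map_cj_centralizer map_cj_map_cj_inv
  map_cj_inv_map_cj ozc map_cj_ozc cj_apply)
open Cfsg.Agent.H9.BG12 (St1416 St1417)

universe u
variable {G : Type u} [Group G] [Finite G]

/-- second isomorphism theorem, index form -/
theorem relIndex_sup_dvd_card {N A : Subgroup G} (hAN : A ≤ normalizer (N : Set G)) :
    N.relIndex (N ⊔ A) ∣ Nat.card A := by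
  haveI := Subgroup.normal_subgroupOf_of_le_normalizer hAN
  haveI := Subgroup.normal_subgroupOf_sup_of_le_normalizer hAN
  have h1 : N.relIndex (A ⊔ N) = N.relIndex A :=
    Nat.card_congr (QuotientGroup.quotientInfEquivProdNormalizerQuotient A N hAN).toEquiv.symm
  rw [sup_comm, h1]
  exact Subgroup.relIndex_dvd_card N A

namespace Exc

variable {p : ℕ} [hp : Fact p.Prime] {H A A₀ : Subgroup G}

/-- **B&G 12.3, case `p ∉ σ(H)`**: if `(H, A, A₀)` is exceptional, `M ≠ H` is another maximal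
subgroup containing `A` and `D ≤ M_σ ∩ H` is an `A`-invariant `p'`-subgroup, then `A`
centralizes `D`. -/
theorem le_centralizer_of_le_sigmaCore (h : BG G) (e : Exc H p A A₀) {M D : Subgroup G}
    (hM : IsCoatom M) (hMH : M ≠ H) (hAM : A ≤ M) (hDσ : D ≤ Cfsg.sigmaCore M) (hDH : D ≤ H)
    (hAD : A ≤ normalizer (D : Set G)) (hDp : ¬ p ∣ Nat.card D) :
    D ≤ centralizer (A : Set G) := by
  obtain ⟨K, hKdef⟩ : ∃ K : Subgroup G, K = Cfsg.sigmaCore H ⊔ A := ⟨_, rfl⟩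
  have hHK : H ≤ normalizer (K : Set G) := hKdef ▸ e.le_normalizer_sup h
  have hσH : Cfsg.sigmaCore H ≤ H := Cfsg.Agent.H9.BG12.sigmaCore_le H
  have hKH : K ≤ H := hKdef ▸ sup_le hσH e.hAM
  have h1 : ⁅D, A⁆ ≤ D := Cfsg.Agent.Lead.commutator_le_of_le_normalizer hAD
  have h2 : ⁅D, A⁆ ≤ K := by
    rw [commutator_comm]
    exact (Subgroup.commutator_mono (hKdef ▸ le_sup_right : A ≤ K) le_rfl).trans
      (Cfsg.Agent.Lead.commutator_le_of_le_normalizer (hDH.trans hHK))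
  have h3 : D ⊓ K ≤ Cfsg.sigmaCore H := by
    apply Cfsg.Agent.H9.BG12.le_of_coprime_card_relIndex inf_le_right
      (hKdef ▸ le_sup_left : Cfsg.sigmaCore H ≤ K)
      (hKH.trans (Cfsg.Agent.H9.BG12.le_normalizer_sigmaCore H))
    have hd1 : (Cfsg.sigmaCore H).relIndex K ∣ p ^ 2 := by
      rw [hKdef, ← e.hA2]
      exact relIndex_sup_dvd_card e.hAσ
    have hd2 : Nat.card (D ⊓ K : Subgroup G) ∣ Nat.card D := Subgroup.card_dvd_of_le inf_le_left
    have hc : (Nat.card D).Coprime (p ^ 2) :=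
      Nat.Coprime.pow_right 2 ((Nat.Prime.coprime_iff_not_dvd hp.out).mpr hDp).symm
    exact (hc.coprime_dvd_left hd2).coprime_dvd_right hd1
  have h4 : ⁅D, A⁆ ≤ Cfsg.sigmaCore M ⊓ Cfsg.sigmaCore H :=
    le_inf (h1.trans hDσ) ((le_inf h1 h2).trans h3)
  rw [← commutator_eq_bot_iff_le_centralizer, eq_bot_iff]
  by_contra hne
  have hne' : Cfsg.sigmaCore M ⊓ Cfsg.sigmaCore H ≠ ⊥ := by
    intro h0
    exact hne (h0 ▸ h4)
  exact hMH (e.eq_of_sigmaCore_inf_ne_bot h hM hAM hne')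

end Exc

/-- from S1416(b): for `p ∉ σ(M)` there is a line `A₀` of `A` with `N_G(A₀) ≤ M` -/
theorem exists_exc (h1416 : St1416 G) {M A : Subgroup G} (hM : IsCoatom M) {p : ℕ}
    [hp : Fact p.Prime] (hpσ : p ∉ Cfsg.sigma M) (hAM : A ≤ M)
    (hAe : Cfsg.IsElementaryAbelian p A) (hA2 : Nat.card A = p ^ 2) :
    ∃ A₀ : Subgroup G, Exc M p A A₀ := by
  by_contra hcon
  push Not at hcon
  apply hpσ
  refine ((h1416 M hM p A ⟨hAM, hAe, hA2⟩).2 ?_).1
  intro A₀ h1 h2 h3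
  exact hcon A₀ ⟨hM, hpσ, hAM, hAe, hA2, h1, h2, h3.1⟩

/-- **B&G Theorem 12.5** (= S1417) relative to S1416 and the earlier statements. -/
theorem s1417_of (h : BG G) (h1416 : St1416 G) : St1417 G := by
  intro M hM p hp hpτ A hA
  obtain ⟨hAM, hAe, hA2⟩ := hA
  have hpσ : p ∉ Cfsg.sigma M := hpτ.2.1
  obtain ⟨A₀, e⟩ := exists_exc h1416 hM hpσ hAM hAe hA2
  have hAi := Cfsg.Agent.Helper26.isElementaryAbelian_iff.mp hAe
  refine ⟨e.nilpotent h, ?_, e.le_normalizer_sup h, e.cent_inf_eq_bot h, ?_, ?_⟩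
  · -- (b)
    intro P
    have hP' : IsSylowIn p ((P : Subgroup M).map M.subtype) M := isSylowIn_of_sylow P
    refine ⟨?_, ?_⟩
    · obtain ⟨m, hm, hAm⟩ := exists_conj_le_of_isSylowIn hP' hAM e.hAp
      have hc := (e.map_cj hm).sylow_comm h hP' hAm
      refine ⟨⟨fun a b => ?_⟩⟩
      apply Subtype.ext
      apply Subtype.ext
      exact hc _ ⟨a.1, a.2, rfl⟩ _ ⟨b.1, b.2, rfl⟩
    · intro hAP
      refine ⟨fun x hx => ⟨fun hxp => e.omega h hP' hAP x hx hxp, fun hxA => hAi.2 x hxA⟩, ?_⟩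
      obtain ⟨x, hx, hxM⟩ := e.exists_normalizer_not_mem hP' hAP
      exact fun hle => hxM (hle hx)
  · -- (e)
    intro H hH hHM hAH
    obtain ⟨D, hDdef⟩ : ∃ D : Subgroup G, D = Cfsg.sigmaCore M ⊓ H := ⟨_, rfl⟩
    rw [← hDdef]
    have hDσ : D ≤ Cfsg.sigmaCore M := hDdef ▸ inf_le_left
    have hDH : D ≤ H := hDdef ▸ inf_le_right
    have hAD : A ≤ normalizer (D : Set G) := by
      rw [hDdef]
      exact Cfsg.Agent.Lead.le_normalizer_inf' e.hAσ (hAH.trans le_normalizer)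
    have hDp : ¬ p ∣ Nat.card D := fun hd =>
      not_dvd_card_sigmaCore hpσ (hd.trans (Subgroup.card_dvd_of_le hDσ))
    have hDC : D ≤ centralizer (A : Set G) := by
      by_cases hpH : p ∈ Cfsg.sigma H
      · exact le_centralizer_of_le_sigmaCore h hM hH hpH hpσ e.hAp hAH hDH hDσ hAD
      · obtain ⟨A₀', e'⟩ := exists_exc h1416 hH hpH hAH hAe hA2
        exact e'.le_centralizer_of_le_sigmaCore h hM (Ne.symm hHM) hAM hDσ hDH hAD hDp
    rw [eq_bot_iff, ← e.cent_inf_eq_bot h]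
    exact le_inf hDσ hDC
  · -- (f)
    obtain ⟨b₁, hb₁, b₂, hb₂, hb₁1, hb₂1, hb₂n, hf₁, hf₂⟩ := e.exists_fpf_pair h
    refine ⟨zpowers b₁, zpowers_le.mpr hb₁, ?_, ?_⟩
    · rw [Nat.card_zpowers]
      exact orderOf_eq_prime (hAi.2 b₁ hb₁) hb₁1
    · rw [Cfsg.Agent.Helper4.BG10.centralizer_zpowers_eq]
      exact hf₁

end Cfsg.Agent.Helper16.BG11
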