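import Mathlib
import Cfsg.Agent.Helper16.BG125
import Cfsg.Agent.Lead.BG143b
import Cfsg.Agent.Helper29.BG14SP
import Cfsg.Agent.Helper28.BG11SIG
import Cfsg.Agent.Helper23.Cyclic
import Cfsg.Agent.Helper14.ThompsonDih2

set_option autoImplicit false
set_option linter.unusedSectionVars false
set_option linter.unusedVariables false
set_option linter.style.haveILetI false

/-! # Tools for B&G Theorem 14.2 (e), (f), (g) (= S1431) -/

namespace Cfsg.Agent.Helper16.BG14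

open Subgroup Cfsg
open Cfsg.Agent.Helper14 (IsSylowIn cj map_cj_le_iff map_cj_mul map_cj_one map_cj_normalizer
  mem_normalizer_iff_map_cj map_cj_eq_self_of_mem le_normalizer_of_map_cj_le mem_map_cj
  exists_isSylowIn_ge exists_isSylowIn isSylowIn_of_sylow map_cj_centralizer map_cj_map_cj_inv
  map_cj_inv_map_cj ozc map_cj_ozc cj_apply)
open Cfsg.Agent.Helper16.BG11

universe u

/-- frozen statement S1425 -/
def St1425 (G : Type u) [Group G] : Prop :=
  ∀ M : Subgroup G, IsCoatom M → ∀ Y : Subgroup G, Y ≠ ⊥ →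
    (∀ p : ℕ, p.Prime → p ∣ Nat.card Y → p ∈ Cfsg.sigma M) →
    ∃ g : G, Y.map (MulAut.conj g).toMonoidHom ≤ Cfsg.sigmaCore M

variable {G : Type u} [Group G] [Finite G]

/-- `p`-subgroups of `M` are cyclic for `p ∈ κ(M)` -/
theorem isCyclic_of_mem_kappa (h : BG G) {M P : Subgroup G} {s : ℕ} [hs' : Fact s.Prime]
    (hs : s ∈ Cfsg.kappa M) (hPM : P ≤ M) (hP : IsPGroup s P) : IsCyclic ↥P := by
  have h1 : Cfsg.PRankLE s 1 M := Cfsg.Agent.Lead.BG143.pRankLE_one_of_mem_kappa hs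
  have h2 : Cfsg.PRankLE s 1 ↥P :=
    Cfsg.Agent.Helper7.PRankLE.of_injective (Subgroup.inclusion hPM)
      (Subgroup.inclusion_injective hPM) h1
  have hs2 : s ≠ 2 := Cfsg.Agent.H9.BG12.prime_ne_two_of_dvd h.hG
    (hs.2.1.trans (Subgroup.card_subgroup_dvd_card M))
  exact Cfsg.Agent.Helper16.BG12.isCyclic_of_pRankLE_one hs2 hP h2

/-- `U K` is a complement of `M_σ` in `M` -/
theorem isComplIn_sup_of_hall (h : BG G) {M K U : Subgroup G} (hM : IsCoatom M)
    (hK : Cfsg.IsPiHallOf (Cfsg.kappa M) K M)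
    (hU : Cfsg.IsPiHallOf {q | q.Prime ∧ q ∉ Cfsg.kappa M ∧ q ∉ Cfsg.sigma M} U M)
    (hKU : K ≤ normalizer (U : Set G)) : Cfsg.IsComplIn (U ⊔ K) (Cfsg.sigmaCore M) M := by
  have hσ := (h.s1350 M hM).1
  have hcard3 : Nat.card K * Nat.card U * Nat.card (Cfsg.sigmaCore M) = Nat.card M := by
    apply Cfsg.Agent.Helper10.BG16.card_hall3 hK hU hσ
    · intro p hp hq; exact hq.2.1 hp
    · intro p hp hσ'; exact hp.2.2.1 hσ'
    · intro p hp hσ'; exact hp.2.2 hσ'
    · intro p hp hd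
      by_cases h1 : p ∈ Cfsg.kappa M
      · exact Or.inl h1
      · by_cases h2 : p ∈ Cfsg.sigma M
        · exact Or.inr (Or.inr h2)
        · exact Or.inr (Or.inl ⟨hp, h1, h2⟩)
  have hUK : U ⊓ K = ⊥ :=
    inf_eq_bot_of_primes (fun q hq h1 h2 => (hU.2.1 q hq h1).2.1 (hK.2.1 q hq h2))
  have hle : Nat.card U * Nat.card K ≤ Nat.card (U ⊔ K : Subgroup G) :=
    Cfsg.Agent.Helper14.card_mul_card_le_card_sup U K hUK
  have hdvd : Nat.card (U ⊔ K : Subgroup G) ∣ Nat.card U * Nat.card K := by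
    have h1 := relIndex_sup_dvd_card hKU
    have h2 := Cfsg.Agent.Lead.relIndex_mul_card' (le_sup_left : U ≤ U ⊔ K)
    rw [← h2, mul_comm]
    exact Nat.mul_dvd_mul_left _ h1
  have hcard : Nat.card (U ⊔ K : Subgroup G) = Nat.card U * Nat.card K :=
    Nat.le_antisymm (Nat.le_of_dvd (Nat.mul_pos Nat.card_pos Nat.card_pos) hdvd) hle
  apply Cfsg.Agent.Helper10.BG16.isComplIn_of_card (sup_le hU.1 hK.1)
    (Cfsg.Agent.H9.BG12.sigmaCore_le M)
  · apply inf_eq_bot_of_primes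
    intro q hq h1 h2
    rw [hcard] at h1
    have hqσ : q ∈ Cfsg.sigma M := Cfsg.Agent.H9.BG12.mem_sigma_of_dvd_card_sigmaCore hq h2
    rcases (Nat.Prime.dvd_mul hq).mp h1 with h3 | h3
    · exact (hU.2.1 q hq h3).2.2 hqσ
    · exact (hK.2.1 q hq h3).2.2.1 hqσ
  · rw [hcard, ← hcard3]; ring

/-- a group acting coprimely and fixed-point-freely on an abelian group `U`: `U = [U, K]` -/
theorem le_commutator_of_fpf {K U : Subgroup G} [IsMulCommutative U]
    (hKU : K ≤ normalizer (U : Set G)) (hcop : (Nat.card K).Coprime (Nat.card U)) (hK1 : K ≠ ⊥)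
    (hfpf : ∀ k ∈ K, k ≠ 1 → U ⊓ centralizer ({k} : Set G) = ⊥) : U ≤ ⁅U, K⁆ := by
  obtain ⟨-, h2⟩ := Cfsg.Agent.Lead.coprime_abelian_decomp K U hKU hcop
  obtain ⟨k, hk, hk1⟩ : ∃ k ∈ K, k ≠ 1 := by
    by_contra hcon
    push Not at hcon
    exact hK1 ((Subgroup.eq_bot_iff_forall K).mpr hcon)
  have h3 : U ⊓ centralizer (K : Set G) = ⊥ := by
    rw [eq_bot_iff, ← hfpf k hk hk1]
    exact inf_le_inf_left _ (centralizer_le (Set.singleton_subset_iff.mpr hk))
  rw [h3, bot_sup_eq] at h2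
  exact h2.ge

/-- the `q'`-part of `E'` centralizes an `E`-invariant `q`-subgroup of rank at most `2` -/
theorem le_centralizer_of_rank_two (h : BG G) {E S T : Subgroup G} {q : ℕ} [hq : Fact q.Prime]
    (hq2 : q ≠ 2) (hES : E ≤ normalizer (S : Set G)) (hSq : IsPGroup q S)
    (hrk : Cfsg.PRankLE q 2 ↥S) (hTE : T ≤ ⁅E, E⁆) (hTq : (Nat.card T).Coprime q) :
    T ≤ centralizer (S : Set G) := by
  apply Cfsg.Agent.Helper16.BG12.le_of_forall_sylow_le
  intro r hr
  obtain ⟨P⟩ : Nonempty (Sylow r ↥T) := inferInstance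
  refine ⟨P, ?_⟩
  have hPr : IsPGroup r ((P : Subgroup ↥T).map T.subtype) := P.2.map _
  have hPT : (P : Subgroup ↥T).map T.subtype ≤ T := Cfsg.Agent.Helper14.map_subtype_le _
  by_cases hrq : r = q
  · subst hrq
    have h1 : (P : Subgroup ↥T).map T.subtype = ⊥ := by
      by_contra hne
      have hd := (dvd_card_of_isPGroup_ne_bot hPr hne).trans (Subgroup.card_dvd_of_le hPT)
      exact (Nat.Prime.coprime_iff_not_dvd hr.out).mp hTq.symm hd
    rw [h1]; exact bot_le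
  · apply Cfsg.Agent.Helper28.BG11.le_centralizer_of_isNarrow h.hodd (Ne.symm hrq) hq2 hSq
      (Or.inl hrk) hPr
    exact (hPT.trans hTE).trans (Subgroup.commutator_mono hES hES)

end Cfsg.Agent.Helper16.BG14
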