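import Mathlib
import Cfsg.Agent.Helper16.BG142a

set_option autoImplicit false
set_option linter.unusedSectionVars false
set_option linter.unusedVariables false
set_option linter.style.haveILetI false

/-! # B&G Theorem 14.2 (e), (f), (g) (= S1431) relative to 14.2 (a)–(d) (= S1430) -/

namespace Cfsg.Agent.Helper16.BG14

open Subgroup Cfsg
open Cfsg.Agent.Helper14 (IsSylowIn cj map_cj_le_iff map_cj_mul map_cj_one map_cj_normalizer
  mem_normalizer_iff_map_cj map_cj_eq_self_of_mem le_normalizer_of_map_cj_le mem_map_cj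
  exists_isSylowIn_ge exists_isSylowIn isSylowIn_of_sylow map_cj_centralizer map_cj_map_cj_inv
  map_cj_inv_map_cj ozc map_cj_ozc cj_apply)
open Cfsg.Agent.Helper16.BG11
open Cfsg.Agent.H9.BG12 (St1417 St1420 St1423)
open Cfsg.Agent.Helper29.BG14 (St1426 St1429)
open Cfsg.Agent.Lead.BG143 (St1430 St1431)

universe u
variable {G : Type u} [Group G] [Finite G]

theorem exists_coatom_ge_normalizer (h : BG G) {M X : Subgroup G} (hM : IsCoatom M) (hXM : X ≤ M)
    (hX1 : X ≠ ⊥) : ∃ H : Subgroup G, IsCoatom H ∧ normalizer (X : Set G) ≤ H := by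
  have hXt : X ≠ ⊤ := fun h' => hM.1 (top_le_iff.mp (h' ▸ hXM))
  have hN := Cfsg.Agent.Lead.TT.normalizer_ne_top_of_simple h.hS hX1 hXt
  exact (eq_top_or_exists_le_coatom _).resolve_left hN

theorem ne_bot_of_card_prime' {X : Subgroup G} (hX : (Nat.card X).Prime) : X ≠ ⊥ := by
  intro h0
  rw [h0, Subgroup.card_bot] at hX
  exact Nat.not_prime_one hX

/-- the partner `M*` of a Hall `κ(M)`-subgroup `K ≠ 1` -/
theorem exists_partner (h : BG G) (h1430 : St1430 G) {M K : Subgroup G} (hM : IsCoatom M)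
    (hK : Cfsg.IsPiHallOf (Cfsg.kappa M) K M) (hK1 : K ≠ ⊥) :
    ∃ (p : ℕ) (x : G) (H : Subgroup G), p.Prime ∧ p ∈ Cfsg.kappa M ∧ x ∈ K ∧ orderOf x = p ∧
      IsCoatom H ∧ normalizer (zpowers x : Set G) ≤ H ∧ x ∈ Cfsg.sigmaCore H ∧ p ∈ Cfsg.sigma H ∧
      (∀ g : G, M.map (cj g) ≠ H) ∧
      (Cfsg.sigmaCore M ⊓ centralizer (K : Set G)) ≤ H := by
  have hKc : Nat.card K ≠ 1 := fun h1 => hK1 (Subgroup.card_eq_one.mp h1)
  obtain ⟨p, hp, hpd⟩ := Nat.exists_prime_and_dvd hKc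
  haveI : Fact p.Prime := ⟨hp⟩
  obtain ⟨⟨x, hxK⟩, hx⟩ := exists_prime_orderOf_dvd_card' p hpd
  have hxo : orderOf x = p := by rw [← hx, Subgroup.orderOf_mk]
  have hpκ : p ∈ Cfsg.kappa M := hK.2.1 p hp hpd
  have hXK : zpowers x ≤ K := zpowers_le.mpr hxK
  have hXc : Nat.card (zpowers x) = p := by rw [Nat.card_zpowers, hxo]
  have hX1 : zpowers x ≠ ⊥ := ne_bot_of_card_prime' (hXc ▸ hp)
  obtain ⟨H, hH, hNH⟩ := exists_coatom_ge_normalizer h hM (hXK.trans hK.1) hX1
  have hXσ : zpowers x ≤ Cfsg.sigmaCore H :=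
    ((h1430 M hM K hK hK1).2.2 (zpowers x) hXK (hXc ▸ hp)).2.2 H hH hNH
  have hpH : p ∈ Cfsg.sigma H :=
    Cfsg.Agent.H9.BG12.mem_sigma_of_dvd_card_sigmaCore hp (hXc ▸ Subgroup.card_dvd_of_le hXσ)
  refine ⟨p, x, H, hp, hpκ, hxK, hxo, hH, hNH, hXσ (mem_zpowers x), hpH,
    nonconj_of_sigma hpH hpκ.2.2.1, ?_⟩
  refine le_trans ?_ hNH
  refine le_trans ?_ (centralizer_le_normalizer _)
  exact inf_le_right.trans (centralizer_le (by exact_mod_cast hXK))

/-- **Key lemma**: for a subgroup `Y₀` of prime order `q` of `K*`, `C_G(Y₀) ≤ M` and the Sylow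
`q`-subgroups of `M_σ` lie in no other maximal subgroup. -/
theorem key (h : BG G) (h1417 : St1417 G) (h1420 : St1420 G) (h1423 : St1423 G)
    (h1426 : St1426 G) (h1429 : St1429 G) (h1430 : St1430 G) {M K : Subgroup G} (hM : IsCoatom M)
    (hK : Cfsg.IsPiHallOf (Cfsg.kappa M) K M) (hK1 : K ≠ ⊥) {q : ℕ} [hq : Fact q.Prime]
    {y : G} (hyK : y ∈ Cfsg.sigmaCore M ⊓ centralizer (K : Set G)) (hyq : orderOf y = q) :
    centralizer (zpowers y : Set G) ≤ M ∧ ∀ S : Sylow q ↥(Cfsg.sigmaCore M),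
      Cfsg.InUniqueMaximal ((S : Subgroup ↥(Cfsg.sigmaCore M)).map (Cfsg.sigmaCore M).subtype) := by
  have hyσ : y ∈ Cfsg.sigmaCore M := hyK.1
  have hyCK : y ∈ centralizer (K : Set G) := hyK.2
  have hσM : Cfsg.sigmaCore M ≤ M := Cfsg.Agent.H9.BG12.sigmaCore_le M
  have hYc : Nat.card (zpowers y) = q := by rw [Nat.card_zpowers, hyq]
  have hY1 : zpowers y ≠ ⊥ := ne_bot_of_card_prime' (hYc ▸ hq.out)
  have hy1 : y ≠ 1 := fun h0 => hY1 (by rw [h0, zpowers_one_eq_bot])
  have hYq : IsPGroup q (zpowers y) := IsPGroup.of_card (n := 1) (by rw [hYc, pow_one])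
  have hYσ : zpowers y ≤ Cfsg.sigmaCore M := zpowers_le.mpr hyσ
  have hYM : zpowers y ≤ M := hYσ.trans hσM
  have hqσ : q ∈ Cfsg.sigma M :=
    Cfsg.Agent.H9.BG12.mem_sigma_of_dvd_card_sigmaCore hq.out (hYc ▸ Subgroup.card_dvd_of_le hYσ)
  have hq2 : q ≠ 2 := Cfsg.Agent.H9.BG12.prime_ne_two_of_dvd h.hG
    (hqσ.2.1.trans (Subgroup.card_subgroup_dvd_card M))
  by_cases hcase : q ∈ Cfsg.beta M ∨
      zpowers y ≤ ⁅Cfsg.sigmaCore M, Cfsg.sigmaCore M⁆
  · -- Case 1: S1423
    obtain ⟨P₀⟩ : Nonempty (Sylow q ↥(Cfsg.sigmaCore M)) := inferInstance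
    refine ⟨(h1423 M hM q hqσ (zpowers y) hYM hYc P₀ hcase).1.1, fun S => ?_⟩
    exact (h1423 M hM q hqσ (zpowers y) hYM hYc S hcase).2.1
  · -- Case 2
    push Not at hcase
    obtain ⟨hqβ, hYder⟩ := hcase
    obtain ⟨U, hUc, hU, hKU, hfpf⟩ := (h1430 M hM K hK hK1).2.1
    haveI := hUc
    have hE : Cfsg.IsComplIn (U ⊔ K) (Cfsg.sigmaCore M) M := isComplIn_sup_of_hall h hM hK hU hKU
    have h26 := (h1426 M hM (U ⊔ K) hE).1
    -- `U ≠ 1`
    have hU1 : U ≠ ⊥ := by
      intro h0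
      apply hYder
      rw [h0, bot_sup_eq] at h26
      exact (zpowers_le.mpr hyK).trans h26
    -- `M_σ` is nilpotent
    have hnil : Group.IsNilpotent (Cfsg.sigmaCore M) := by
      have hUc1 : Nat.card U ≠ 1 := fun h1 => hU1 (Subgroup.card_eq_one.mp h1)
      obtain ⟨r, hr, hrd⟩ := Nat.exists_prime_and_dvd hUc1
      haveI : Fact r.Prime := ⟨hr⟩
      obtain ⟨-, hrκ, hrσ⟩ := hU.2.1 r hr hrd
      have hrM : r ∣ Nat.card M := hrd.trans (Subgroup.card_dvd_of_le hU.1)
      obtain ⟨Sr⟩ : Nonempty (Sylow r ↥M) := inferInstance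
      exact (h1429 M hM (fun hall => hrκ (hall r hr hrM hrσ)) r hrM
        (fun hmem => hmem.elim hrσ hrκ) Sr).2.2
    -- the Sylow `q`-subgroups of `M_σ` are normal in `M` and have rank at least `3`
    have hSylow : ∀ S : Subgroup G, IsSylowIn q S (Cfsg.sigmaCore M) →
        M ≤ normalizer (S : Set G) ∧ zpowers y ≤ S ∧ ¬ Cfsg.PRankLE q 2 ↥S := by
      intro S hS
      have hMS : M ≤ normalizer (S : Set G) :=
        Cfsg.Agent.H9.BG12.le_normalizer_sylow_of_nilpotent hnil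
          (Cfsg.Agent.H9.BG12.le_normalizer_sigmaCore M) hS
      have hYS : zpowers y ≤ S := by
        obtain ⟨m, hm, hYm⟩ := exists_conj_le_of_isSylowIn hS hYσ hYq
        have h1 : S.map (cj m⁻¹) = S :=
          mem_normalizer_iff_map_cj.mp (hMS (M.inv_mem (hσM hm)))
        rw [map_cj_le_iff, h1] at hYm
        exact hYm
      refine ⟨hMS, hYS, ?_⟩
      intro hrk
      have hcopU : (Nat.card U).Coprime q := by
        apply Nat.Coprime.symm
        rw [Nat.Prime.coprime_iff_not_dvd hq.out]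
        intro hd
        exact (hU.2.1 q hq.out hd).2.2 hqσ
      have hcopKU : (Nat.card K).Coprime (Nat.card U) :=
        Nat.coprime_of_dvd fun r hr h1 h2 => (hU.2.1 r hr h2).2.1 (hK.2.1 r hr h1)
      have hUcomm : U ≤ ⁅U ⊔ K, U ⊔ K⁆ :=
        (le_commutator_of_fpf hKU hcopKU hK1 hfpf).trans
          (Subgroup.commutator_mono le_sup_left le_sup_right)
      have hUS : U ≤ centralizer (S : Set G) :=
        le_centralizer_of_rank_two h hq2 (hE.1.trans hMS) hS.2.1 hrk hUcomm hcopU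
      apply hYder
      refine le_trans ?_ h26
      rw [zpowers_le]
      refine ⟨hyσ, ?_⟩
      show y ∈ centralizer _
      have hle : U ⊔ K ≤ centralizer ({y} : Set G) := by
        refine sup_le ?_ ?_
        · intro u hu
          rw [mem_centralizer_singleton_iff]
          exact (mem_centralizer_iff.mp (hUS hu) y (hYS (mem_zpowers y))).symm
        · intro k hk
          rw [mem_centralizer_singleton_iff]
          exact mem_centralizer_iff.mp hyCK k hk
      rw [mem_centralizer_iff]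
      intro e he
      exact mem_centralizer_singleton_iff.mp (hle he)
    obtain ⟨S₀, hS₀⟩ := exists_isSylowIn (p := q) (Cfsg.sigmaCore M)
    obtain ⟨hMS₀, hYS₀, hrk₀⟩ := hSylow S₀ hS₀
    have hS₀M : S₀ ≤ M := hS₀.1.trans hσM
    have hqα : q ∈ Cfsg.alpha M := ⟨hq.out, fun hr => hrk₀
      (Cfsg.Agent.Helper7.PRankLE.of_injective (Subgroup.inclusion hS₀M)
        (Subgroup.inclusion_injective hS₀M) hr)⟩
    refine ⟨?_, ?_⟩
    · -- `C_G(Y₀) ≤ M`
      obtain ⟨p, x, H, hp, hpκ, hxK, hxo, hH, hNH, hxσ, hpH, hnc, hKH⟩ :=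
        exists_partner h h1430 hM hK hK1
      haveI : Fact p.Prime := ⟨hp⟩
      have hx1 : x ≠ 1 := by
        intro h0
        rw [h0, orderOf_one] at hxo
        exact hp.one_lt.ne hxo
      have hyH : y ∈ H := hKH hyK
      have hyx : y * x = x * y := mem_centralizer_iff.mp hyCK x hxK |>.symm
      have hqH : q ∉ Cfsg.sigma H := fun hqH => alpha_sigma_disjoint h hM hH hnc hqα hqH
      have hHM : H ≠ M := fun h0 => hnc 1 (by rw [map_cj_one, h0])
      rcases Cfsg.Agent.Lead.BG143.mem_kappa_or_mem_tau2 h.hG h.uniq hH hq.out hqH hyH hyq hxσ hx1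
        hyx with hκ | hτ
      · -- `q ∈ κ(H)`
        obtain ⟨K₁, hK₁, hK₁1, hyK₁⟩ :=
          Cfsg.Agent.Lead.BG143.exists_kappa_hall_ge h.hG hH hκ hyH hyq
        obtain ⟨L, hL, hNL⟩ := exists_coatom_ge_normalizer h hM hYM hY1
        have hYL : zpowers y ≤ Cfsg.sigmaCore L :=
          ((h1430 H hH K₁ hK₁ hK₁1).2.2 (zpowers y) (zpowers_le.mpr hyK₁) (hYc ▸ hq.out)).2.2 L hL hNL
        have hqL : q ∈ Cfsg.sigma L :=
          Cfsg.Agent.H9.BG12.mem_sigma_of_dvd_card_sigmaCore hq.out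
            (hYc ▸ Subgroup.card_dvd_of_le hYL)
        have hconj : ∃ g : G, M.map (cj g) = L := by
          by_contra hcon
          push Not at hcon
          exact alpha_sigma_disjoint h hM hL hcon hqα hqL
        obtain ⟨g, hg⟩ := hconj
        have hCL : centralizer (zpowers y : Set G) ≤ L := (centralizer_le_normalizer _).trans hNL
        have hYL' : zpowers y ≤ L := le_normalizer.trans hNL
        have hgL : g⁻¹ ∈ L := by
          apply mem_of_le_map_cj h hL hqL hYq hY1 hYL' hCL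
          rw [← hg, map_cj_map_cj_inv]
          exact hYM
        have hML : M = L := by
          have h1 : L.map (cj g⁻¹) = L := map_cj_eq_self_of_mem hgL
          have h2 : L.map (cj g⁻¹) = M := by rw [← hg, map_cj_map_cj_inv]
          rw [← h2, h1]
        rw [hML]
        exact hCL
      · -- `q ∈ τ₂(H)`: impossible
        exfalso
        obtain ⟨EH, hEH⟩ := Cfsg.Agent.H9.BG12.exists_complIn_sigmaCore h.st1350 hH
        have h20 := ((h1420 H hH EH hEH).2.2.2 y hyH hy1 (by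
          intro r hr hrd
          rw [hyq] at hrd
          rw [(Nat.prime_dvd_prime_iff_eq hr hq.out).mp hrd]
          exact hτ) ⟨hyH, x, hxσ, hx1, hyx⟩).1
        have hS₀q : IsPGroup q S₀ := hS₀.2.1
        have hS₀1 : S₀ ≠ ⊥ := fun h0 => hY1 (le_bot_iff.mp (h0 ▸ hYS₀))
        obtain ⟨z, hz, hz1⟩ : ∃ z ∈ ozc q S₀, z ≠ 1 := by
          by_contra hcon
          push Not at hcon
          exact ozc_ne_bot hS₀q hS₀1 ((Subgroup.eq_bot_iff_forall _).mpr hcon)
        obtain ⟨hzS, hzq⟩ := (mem_ozc_iff q S₀).mp hz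
        have hzS₀ : z ∈ S₀ := hzS.1
        have hzC : z ∈ centralizer (S₀ : Set G) := hzS.2
        have hzy : z * y = y * z :=
          (mem_centralizer_iff.mp hzC y (hYS₀ (mem_zpowers y))).symm
        by_cases hzY : z ∈ zpowers y
        · -- `y` is central in `S₀`, so `S₀ ≤ H` has rank at most 2
          have h1 : zpowers z = zpowers y := zpowers_eq_of_card_prime hq.out hYc hzY hz1
          have hyC : y ∈ centralizer (S₀ : Set G) := by
            have : y ∈ zpowers z := h1 ▸ mem_zpowers y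
            exact (zpowers_le.mpr hzC) this
          have hS₀H : S₀ ≤ H := by
            intro s hs
            apply h20
            rw [mem_centralizer_singleton_iff]
            exact mem_centralizer_iff.mp hyC s hs
          exact hrk₀ (Cfsg.Agent.Helper7.PRankLE.of_injective (Subgroup.inclusion hS₀H)
            (Subgroup.inclusion_injective hS₀H) hτ.2.2.1)
        · -- `A₁ = ⟨y, z⟩ ≤ M ∩ H`
          have hcomm : ∀ a ∈ zpowers y, a * z = z * a := by
            intro a ha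
            exact (mem_centralizer_iff.mp hzC a (hYS₀ ha))
          have hA₁e := Cfsg.Agent.H9.BG12.isElementaryAbelian_sup_zpowers hYc hzq hcomm
          have hA₁c := Cfsg.Agent.H9.BG12.card_sup_zpowers hYc hzq hzY hcomm
          have hA₁M : zpowers y ⊔ zpowers z ≤ M :=
            sup_le hYM (zpowers_le.mpr (hS₀M hzS₀))
          have hA₁H : zpowers y ⊔ zpowers z ≤ H := by
            refine le_trans (sup_le ?_ ?_) h20
            · rw [zpowers_le, mem_centralizer_singleton_iff]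
            · rw [zpowers_le, mem_centralizer_singleton_iff]
              exact hzy
          have h17 := (h1417 H hH q hτ (zpowers y ⊔ zpowers z) ⟨hA₁H, hA₁e, hA₁c⟩).2.2.2.2.1 M hM
            (Ne.symm hHM) hA₁M
          have hxmem : x ∈ Cfsg.sigmaCore H ⊓ M := ⟨hxσ, hK.1 hxK⟩
          rw [h17, Subgroup.mem_bot] at hxmem
          exact hx1 hxmem
    · -- `𝓜(S) = {M}`
      intro S
      have hS : IsSylowIn q ((S : Subgroup ↥(Cfsg.sigmaCore M)).map (Cfsg.sigmaCore M).subtype)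
          (Cfsg.sigmaCore M) := isSylowIn_of_sylow S
      obtain ⟨-, -, hrk⟩ := hSylow _ hS
      apply h.s1403
      · intro h0
        exact hM.1 (top_le_iff.mp (h0 ▸ hS.1.trans hσM))
      · intro hr
        exact hrk (Cfsg.Agent.H9.BG12.pRankLE_succ (hr q hq.out))
      · exact Or.inl (fun hr => hrk (hr q hq.out))

/-- an element of prime order in a nontrivial subgroup -/
theorem exists_prime_order_mem {X : Subgroup G} (hX : X ≠ ⊥) :
    ∃ (q : ℕ) (y : G), q.Prime ∧ y ∈ X ∧ orderOf y = q := by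
  have hXc : Nat.card X ≠ 1 := fun h1 => hX (Subgroup.card_eq_one.mp h1)
  obtain ⟨q, hq, hqd⟩ := Nat.exists_prime_and_dvd hXc
  haveI : Fact q.Prime := ⟨hq⟩
  obtain ⟨⟨y, hyX⟩, hy⟩ := exists_prime_orderOf_dvd_card' q hqd
  exact ⟨q, y, hq, hyX, by rw [← hy, Subgroup.orderOf_mk]⟩

/-- **B&G Theorem 14.2 (e), (f), (g)** (= S1431) relative to S1430 and the earlier statements. -/
theorem s1431_of (h : BG G) (h1417 : St1417 G) (h1420 : St1420 G) (h1423 : St1423 G)
    (h1425 : St1425 G) (h1426 : St1426 G) (h1429 : St1429 G) (h1430 : St1430 G) : St1431 G := by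
  intro M hM K hK hK1
  have hσM : Cfsg.sigmaCore M ≤ M := Cfsg.Agent.H9.BG12.sigmaCore_le M
  -- clause 1
  have hc1 : ∀ g : G, g ∉ M →
      (Cfsg.sigmaCore M ⊓ centralizer (K : Set G)) ⊓ M.map (MulAut.conj g).toMonoidHom = ⊥ := by
    intro g hg
    by_contra hne
    obtain ⟨q, y, hq, hy, hyq⟩ := exists_prime_order_mem hne
    haveI : Fact q.Prime := ⟨hq⟩
    have hyK : y ∈ Cfsg.sigmaCore M ⊓ centralizer (K : Set G) := hy.1
    have hyg : y ∈ M.map (cj g) := hy.2
    have hC := (key h h1417 h1420 h1423 h1426 h1429 h1430 hM hK hK1 hyK hyq).1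
    have hYc : Nat.card (zpowers y) = q := by rw [Nat.card_zpowers, hyq]
    have hY1 : zpowers y ≠ ⊥ := ne_bot_of_card_prime' (hYc ▸ hq)
    have hYq : IsPGroup q (zpowers y) := IsPGroup.of_card (n := 1) (by rw [hYc, pow_one])
    have hYσ : zpowers y ≤ Cfsg.sigmaCore M := zpowers_le.mpr hyK.1
    have hqσ : q ∈ Cfsg.sigma M :=
      Cfsg.Agent.H9.BG12.mem_sigma_of_dvd_card_sigmaCore hq (hYc ▸ Subgroup.card_dvd_of_le hYσ)
    exact hg (mem_of_le_map_cj h hM hqσ hYq hY1 (hYσ.trans hσM) hC (zpowers_le.mpr hyg))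
  refine ⟨hc1, ?_, ?_, ?_⟩
  · -- clause 2
    intro g hgM hgK
    by_contra hne
    obtain ⟨p, x, hp, hx, hxp⟩ := exists_prime_order_mem hne
    haveI : Fact p.Prime := ⟨hp⟩
    have hxK : x ∈ K := hx.1
    have hxKg : x ∈ K.map (cj g) := hx.2
    have hXc : Nat.card (zpowers x) = p := by rw [Nat.card_zpowers, hxp]
    have hXK : zpowers x ≤ K := zpowers_le.mpr hxK
    have hX'K : (zpowers x).map (cj g⁻¹) ≤ K := by
      rw [map_cj_le_iff, inv_inv]
      exact zpowers_le.mpr hxKg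
    have hX'c : Nat.card ((zpowers x).map (cj g⁻¹)) = p := by rw [card_map_cj, hXc]
    have hpκ : p ∈ Cfsg.kappa M := hK.2.1 p hp (hXc ▸ Subgroup.card_dvd_of_le hXK)
    have h30 := (h1430 M hM K hK hK1).2.2
    have hN := (h30 (zpowers x) hXK (hXc ▸ hp)).1
    -- `X'` normalizes `X`
    have hX'N : (zpowers x).map (cj g⁻¹) ≤ normalizer (zpowers x : Set G) := by
      have h1 : K ≤ M ⊓ normalizer (zpowers x : Set G) := hN ▸ le_sup_left
      exact hX'K.trans (h1.trans inf_le_right)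
    have hXp : IsPGroup p (zpowers x) := IsPGroup.of_card (n := 1) (by rw [hXc, pow_one])
    have hX'p : IsPGroup p ((zpowers x).map (cj g⁻¹)) :=
      IsPGroup.of_card (n := 1) (by rw [hX'c, pow_one])
    have hsup : IsPGroup p (zpowers x ⊔ (zpowers x).map (cj g⁻¹) : Subgroup G) :=
      IsPGroup.to_sup_of_normal_left' hXp hX'p hX'N
    have hsupM : zpowers x ⊔ (zpowers x).map (cj g⁻¹) ≤ M := sup_le (hXK.trans hK.1) (hX'K.trans hK.1)
    have hcyc := isCyclic_of_mem_kappa h hpκ hsupM hsup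
    have heq : (zpowers x).map (cj g⁻¹) = zpowers x :=
      Cfsg.Agent.Helper23.eq_of_card_eq_of_isCyclic _ hcyc _ _ le_sup_right le_sup_left
        (by rw [hX'c, hXc])
    have hgN : g⁻¹ ∈ M ⊓ normalizer (zpowers x : Set G) :=
      ⟨M.inv_mem hgM, mem_normalizer_iff_map_cj.mpr heq⟩
    rw [hN] at hgN
    exact hgK (by simpa using (K ⊔ (Cfsg.sigmaCore M ⊓ centralizer (K : Set G))).inv_mem hgN)
  · -- clause 3
    intro p hp hpd S
    haveI : Fact p.Prime := ⟨hp⟩
    obtain ⟨⟨y, hyK⟩, hy⟩ := exists_prime_orderOf_dvd_card' p hpd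
    have hyp : orderOf y = p := by rw [← hy, Subgroup.orderOf_mk]
    have hU := (key h h1417 h1420 h1423 h1426 h1429 h1430 hM hK hK1 hyK hyp).2 S
    have hSσ : (S : Subgroup ↥(Cfsg.sigmaCore M)).map (Cfsg.sigmaCore M).subtype ≤
        Cfsg.sigmaCore M := Cfsg.Agent.Helper14.map_subtype_le _
    refine ⟨hU, hSσ.trans hσM, ?_⟩
    intro hle
    obtain ⟨p', x, H, hp', hpκ, hxK, hxo, hH, hNH, hxσ, hpH, hnc, hKH⟩ :=
      exists_partner h h1430 hM hK hK1
    have hHM : H ≠ M := fun h0 => hnc 1 (by rw [map_cj_one, h0])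
    exact hHM (hU.unique ⟨hH, hle.trans hKH⟩ ⟨hM, hSσ.trans hσM⟩)
  · -- clause 4
    intro Y hYσ hne
    have hY1 : Y ≠ ⊥ := fun h0 => hne (by rw [h0, bot_inf_eq])
    obtain ⟨g, hg⟩ := h1425 M hM Y hY1 hYσ
    obtain ⟨q, y, hq, hy, hyq⟩ := exists_prime_order_mem hne
    have hy1 : y ≠ 1 := by
      intro h0
      rw [h0, orderOf_one] at hyq
      exact hq.one_lt.ne hyq
    have hgM : g⁻¹ ∈ M := by
      by_contra hgM
      have h1 := hc1 g⁻¹ hgM
      have h2 : y ∈ (Cfsg.sigmaCore M ⊓ centralizer (K : Set G)) ⊓ M.map (cj g⁻¹) := by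
        refine ⟨hy.2, ?_⟩
        show y ∈ M.map (cj g⁻¹)
        rw [mem_map_cj, inv_inv]
        exact hσM (hg ⟨y, hy.1, rfl⟩)
      rw [h1, Subgroup.mem_bot] at h2
      exact hy1 h2
    have h3 : (Cfsg.sigmaCore M).map (cj g⁻¹) = Cfsg.sigmaCore M :=
      mem_normalizer_iff_map_cj.mp (Cfsg.Agent.H9.BG12.le_normalizer_sigmaCore M hgM)
    have h4 : Y ≤ (Cfsg.sigmaCore M).map (cj g⁻¹) := (map_cj_le_iff _ _ _).mp hg
    rw [h3] at h4
    exact h4

end Cfsg.Agent.Helper16.BG14
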