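import Mathlib

/-!
# BSW piece LOC (helper21's Brauer–Suzuki–Wall cluster): Mathlib-only local lemmas

* `exists_normal_sylow_of_local` (LOC-1), `le_centralizer_of_local` (LOC-2): Burnside-transfer
  inductions inside a subgroup `T` of `G`;
* `inverts_of_fpf` (LOC-3): a fixed-point-free involution inverts;
* `card_dvd_of_free` (LOC-4): a free conjugation action gives `|E| ∣ |D| - 1`.
-/

namespace Cfsg.Agent.Helper21.Bsw.Loc
variable {G : Type*} [Group G] [Finite G]

/-- Burnside's normal `r`-complement inside a subgroup `T` of `G`, stated inside `G`. -/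
theorem burnside_in (r : ℕ) [Fact r.Prime] (T : Subgroup G)
    (hN : ∀ R : Subgroup G, R ≤ T → IsPGroup r R → R ≠ ⊥ →
      ∀ n ∈ T, n ∈ Subgroup.normalizer (R : Set G) → n ∈ Subgroup.centralizer (R : Set G)) :
    ∃ (M : Subgroup G) (a : ℕ), M ≤ T ∧ (∀ g ∈ T, ∀ x ∈ M, g * x * g⁻¹ ∈ M) ∧
      Nat.card M * r ^ a = Nat.card T ∧ ¬ r ∣ Nat.card M ∧
      (∀ x ∈ T, ∀ m : ℕ, Nat.Coprime m r → x ^ m = 1 → x ∈ M) := by
  classical
  obtain ⟨P⟩ : Nonempty (Sylow r T) := inferInstance
  have hP : Subgroup.normalizer ((P : Subgroup T) : Set T) ≤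
      Subgroup.centralizer ((P : Subgroup T) : Set T) := by
    intro n hn
    by_cases hbot : (P : Subgroup T) = ⊥
    · rw [hbot, Subgroup.mem_centralizer_iff]
      intro h hh
      have : h = 1 := by simpa using hh
      subst this
      simp
    · have hne : (P : Subgroup T).map T.subtype ≠ ⊥ := by
        intro h
        apply hbot
        exact (Subgroup.map_eq_bot_iff_of_injective _ T.subtype_injective).1 h
      have hnorm : (n : G) ∈ Subgroup.normalizer (((P : Subgroup T).map T.subtype : Subgroup G) : Set G) := by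
        rw [Subgroup.mem_normalizer_iff]
        intro h
        rw [Subgroup.mem_normalizer_iff] at hn
        constructor
        · rintro ⟨y, hy, rfl⟩
          exact ⟨n * y * n⁻¹, (hn y).1 hy, by simp⟩
        · rintro ⟨y, hy, hyh⟩
          have hhT : h ∈ T := by
            have h1 : h = (n : G)⁻¹ * (y : G) * (n : G) := by
              have : (y : G) = (n : G) * h * (n : G)⁻¹ := by simpa using hyh
              rw [this]; group
            rw [h1]
            exact T.mul_mem (T.mul_mem (T.inv_mem n.2) y.2) n.2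
          refine ⟨⟨h, hhT⟩, ?_, rfl⟩
          have : n * ⟨h, hhT⟩ * n⁻¹ = y := by
            apply Subtype.ext
            simpa using hyh.symm
          have h2 : n * ⟨h, hhT⟩ * n⁻¹ ∈ (P : Subgroup T) := by rw [this]; exact hy
          exact (hn ⟨h, hhT⟩).2 h2
      have hR := hN ((P : Subgroup T).map T.subtype) (Subgroup.map_subtype_le _)
        (P.2.map _) hne n n.2 hnorm
      rw [Subgroup.mem_centralizer_iff]
      intro y hy
      have := hR (y : G) ⟨y, hy, rfl⟩
      exact Subtype.ext this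
  have hcompl := MonoidHom.ker_transferSylow_isComplement' P hP
  set φ := MonoidHom.transferSylow P hP with hφ
  obtain ⟨a, ha⟩ := IsPGroup.iff_card.1 P.2
  refine ⟨φ.ker.map T.subtype, a, Subgroup.map_subtype_le _, ?_, ?_, ?_, ?_⟩
  · rintro g hg x ⟨y, hy, rfl⟩
    refine ⟨⟨g, hg⟩ * y * ⟨g, hg⟩⁻¹, ?_, by simp⟩
    exact (inferInstance : φ.ker.Normal).conj_mem y hy ⟨g, hg⟩
  · have h1 := hcompl.card_mul_card
    rw [ha] at h1
    rw [Subgroup.card_map_of_injective T.subtype_injective]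
    exact h1
  · rw [Subgroup.card_map_of_injective T.subtype_injective]
    exact MonoidHom.not_dvd_card_ker_transferSylow P hP
  · intro x hx m hm hxm
    refine ⟨⟨x, hx⟩, ?_, rfl⟩
    show (⟨x, hx⟩ : T) ∈ φ.ker
    rw [MonoidHom.mem_ker]
    have h1 : (φ ⟨x, hx⟩) ^ m = 1 := by
      rw [← map_pow]
      have : (⟨x, hx⟩ : T) ^ m = 1 := Subtype.ext (by simpa using hxm)
      rw [this, map_one]
    have h2 : (φ ⟨x, hx⟩) ^ (r ^ a) = 1 := by
      rw [← ha]; exact pow_card_eq_one'
    have h3 : orderOf (φ ⟨x, hx⟩) ∣ Nat.gcd m (r ^ a) :=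
      Nat.dvd_gcd (orderOf_dvd_of_pow_eq_one h1) (orderOf_dvd_of_pow_eq_one h2)
    rw [Nat.Coprime.pow_right a hm] at h3
    exact orderOf_eq_one_iff.1 (Nat.dvd_one.1 h3)

/-- LOC-1 : if N_T(R) ≤ C_T(R) for all r-subgroups R ≤ T, r ≠ p, then T has a normal Sylow
p-subgroup -/
theorem exists_normal_sylow_of_local (p : ℕ) [Fact p.Prime] (T : Subgroup G)
    (hN : ∀ r : ℕ, r.Prime → r ≠ p → ∀ R : Subgroup G, R ≤ T → IsPGroup r R → R ≠ ⊥ →
      ∀ n ∈ T, n ∈ Subgroup.normalizer (R : Set G) → n ∈ Subgroup.centralizer (R : Set G)) :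
    ∃ P : Subgroup G, P ≤ T ∧ IsPGroup p P ∧ (∀ g ∈ T, ∀ x ∈ P, g * x * g⁻¹ ∈ P) ∧
      ∀ x ∈ T, (∃ n : ℕ, x ^ (p ^ n) = 1) → x ∈ P := by
  induction' h : Nat.card T using Nat.strong_induction_on with N ih generalizing T
  by_cases hT : IsPGroup p T
  · exact ⟨T, le_rfl, hT, fun g hg x hx => T.mul_mem (T.mul_mem hg hx) (T.inv_mem hg),
      fun x hx _ => hx⟩
  · have hex : ∃ r : ℕ, r.Prime ∧ r ≠ p ∧ r ∣ Nat.card T := by
      by_contra hcon
      push Not at hcon
      apply hT
      rw [IsPGroup.iff_card]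
      have hpos : Nat.card T ≠ 0 := Nat.card_pos.ne'
      refine ⟨(Nat.card T).primeFactorsList.length, ?_⟩
      exact Nat.eq_prime_pow_of_unique_prime_dvd hpos
        (fun {q} hq hqd => by
          by_contra hqp
          exact hcon q hq hqp hqd)
    obtain ⟨r, hr, hrp, hrd⟩ := hex
    have : Fact r.Prime := ⟨hr⟩
    obtain ⟨M, a, hMT, hMn, hcard, hrM, hMel⟩ := burnside_in r T (hN r hr hrp)
    have hlt : Nat.card M < Nat.card T := by
      rcases Nat.eq_zero_or_pos a with ha | ha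
      · exfalso
        rw [ha, pow_zero, mul_one] at hcard
        rw [hcard] at hrM
        exact hrM hrd
      · rw [← hcard]
        have h1 : 1 < r ^ a := Nat.one_lt_pow ha.ne' hr.one_lt
        have h2 : 0 < Nat.card M := Nat.card_pos
        nlinarith
    obtain ⟨P, hPM, hPp, hPn, hPel⟩ := ih (Nat.card M) (h ▸ hlt) M
      (fun r' hr' hr'p R hRM hR hRne n hnM hnN =>
        hN r' hr' hr'p R (hRM.trans hMT) hR hRne n (hMT hnM) hnN) rfl
    refine ⟨P, hPM.trans hMT, hPp, ?_, ?_⟩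
    · intro g hg x hx
      apply hPel _ (hMn g hg x (hPM hx))
      obtain ⟨k, hk⟩ := hPp ⟨x, hx⟩
      refine ⟨k, ?_⟩
      rw [conj_pow]
      have : x ^ p ^ k = 1 := by
        have := congrArg Subtype.val hk
        simpa using this
      rw [this, mul_one, mul_inv_cancel]
    · rintro x hx ⟨n, hn⟩
      have hcop : Nat.Coprime (p ^ n) r := by
        apply Nat.Coprime.pow_left
        exact (Nat.coprime_primes (Fact.out : p.Prime) hr).2 (Ne.symm hrp)
      exact hPel x (hMel x hx (p ^ n) hcop hn) ⟨n, hn⟩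

/-- LOC-2 -/
theorem le_centralizer_of_local (T : Subgroup G)
    (hN : ∀ r : ℕ, r.Prime → ∀ R : Subgroup G, R ≤ T → IsPGroup r R → R ≠ ⊥ →
      ∀ n ∈ T, n ∈ Subgroup.normalizer (R : Set G) → n ∈ Subgroup.centralizer (R : Set G))
    (hA : ∀ w ∈ T, w ≠ 1 → ∀ g ∈ T, g * w * g⁻¹ ∈ Subgroup.centralizer ({w} : Set G) →
      g ∈ Subgroup.centralizer ({w} : Set G))
    (hT : T ≠ ⊥) : ∃ w ∈ T, w ≠ 1 ∧ T ≤ Subgroup.centralizer ({w} : Set G) := by
  induction' h : Nat.card T using Nat.strong_induction_on with N ih generalizing T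
  have hne1 : Nat.card T ≠ 1 := fun h1 => hT (Subgroup.card_eq_one.1 h1)
  obtain ⟨r, hr, hrd⟩ := Nat.exists_prime_and_dvd hne1
  have : Fact r.Prime := ⟨hr⟩
  obtain ⟨M, a, hMT, hMn, hcard, hrM, hMel⟩ := burnside_in r T (hN r hr)
  have hlt : Nat.card M < Nat.card T := by
    rcases Nat.eq_zero_or_pos a with ha | ha
    · exfalso
      rw [ha, pow_zero, mul_one] at hcard
      rw [hcard] at hrM
      exact hrM hrd
    · rw [← hcard]
      have h1 : 1 < r ^ a := Nat.one_lt_pow ha.ne' hr.one_lt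
      have h2 : 0 < Nat.card M := Nat.card_pos
      nlinarith
  by_cases hM : M = ⊥
  · -- T is an r-group
    have hTr : IsPGroup r T := by
      rw [IsPGroup.iff_card]
      refine ⟨a, ?_⟩
      rw [← hcard, hM, Subgroup.card_bot, one_mul]
    have : Nontrivial T := (Subgroup.nontrivial_iff_ne_bot T).2 hT
    have := hTr.center_nontrivial
    obtain ⟨z, hz⟩ := exists_ne (1 : Subgroup.center T)
    refine ⟨((z : T) : G), (z : T).2, ?_, ?_⟩
    · intro h1
      apply hz
      apply Subtype.ext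
      apply Subtype.ext
      simpa using h1
    · intro g hg
      rw [Subgroup.mem_centralizer_iff]
      intro w hw
      rw [Set.mem_singleton_iff] at hw
      subst hw
      have := Subgroup.mem_center_iff.1 z.2 ⟨g, hg⟩
      have := congrArg Subtype.val this
      simpa using this.symm
  · obtain ⟨w, hwM, hw1, hMw⟩ := ih (Nat.card M) (h ▸ hlt) M
      (fun r' hr' R hRM hR hRne n hnM hnN =>
        hN r' hr' R (hRM.trans hMT) hR hRne n (hMT hnM) hnN)
      (fun w hw hw1 g hg hgw => hA w (hMT hw) hw1 g (hMT hg) hgw) hM rfl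
    refine ⟨w, hMT hwM, hw1, ?_⟩
    intro g hg
    exact hA w (hMT hwM) hw1 g hg (hMw (hMn g hg w hwM))

/-- LOC-3 : a fixed-point-free involution inverts -/
theorem inverts_of_fpf (C : Subgroup G) (u : G) (hu : u * u = 1)
    (hnorm : ∀ c ∈ C, u * c * u⁻¹ ∈ C)
    (hfpf : ∀ c ∈ C, u * c * u⁻¹ = c → c = 1) :
    (∀ c ∈ C, u * c * u⁻¹ = c⁻¹) ∧ ∀ a ∈ C, ∀ b ∈ C, a * b = b * a := by
  have hui : u⁻¹ = u := inv_eq_of_mul_eq_one_right hu
  have huu : ∀ x : G, u * (u * x) = x := fun x => by rw [← mul_assoc, hu, one_mul]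
  let f : C → C := fun c => ⟨(c : G)⁻¹ * (u * c * u⁻¹), C.mul_mem (C.inv_mem c.2) (hnorm c c.2)⟩
  have hinj : Function.Injective f := by
    intro c d hcd
    have h1 : (c : G)⁻¹ * (u * c * u⁻¹) = (d : G)⁻¹ * (u * d * u⁻¹) := congrArg Subtype.val hcd
    have h2 : u * ((d : G) * (c : G)⁻¹) * u⁻¹ = (d : G) * (c : G)⁻¹ := by
      have h3 : u * (c : G) * u⁻¹ = (c : G) * (d : G)⁻¹ * (u * d * u⁻¹) := by
        rw [mul_assoc (c : G), ← h1, mul_inv_cancel_left]
      have h4 : u * ((d : G) * (c : G)⁻¹) * u⁻¹ = (u * d * u⁻¹) * (u * c * u⁻¹)⁻¹ := by group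
      rw [h4, h3]
      group
    have h5 := hfpf _ (C.mul_mem d.2 (C.inv_mem c.2)) h2
    apply Subtype.ext
    have : (d : G) = c := by
      have := mul_inv_eq_one.1 h5
      exact this
    exact this.symm
  have hsurj : Function.Surjective f := Finite.injective_iff_surjective.1 hinj
  have hinv : ∀ c ∈ C, u * c * u⁻¹ = c⁻¹ := by
    intro c hc
    obtain ⟨d, hd⟩ := hsurj ⟨c, hc⟩
    have h1 : (d : G)⁻¹ * (u * d * u⁻¹) = c := congrArg Subtype.val hd
    rw [← h1, hui]
    have : u * ((d : G)⁻¹ * (u * d * u)) * u = (u * (d : G)⁻¹ * u) * d := by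
      simp only [mul_assoc]
      rw [hu, mul_one]
    rw [this]
    rw [mul_inv_rev, mul_inv_rev, mul_inv_rev, inv_inv, hui]
    simp only [mul_assoc]
  refine ⟨hinv, ?_⟩
  intro a ha b hb
  have h1 := hinv (a * b) (C.mul_mem ha hb)
  have h2 : u * (a * b) * u⁻¹ = (u * a * u⁻¹) * (u * b * u⁻¹) := by group
  rw [h2, hinv a ha, hinv b hb] at h1
  have h3 : (a⁻¹ * b⁻¹)⁻¹ = ((a * b)⁻¹)⁻¹ := congrArg (·⁻¹) h1
  simpa using h3.symm

/-- LOC-4 : free action ⇒ the order divides -/
theorem card_dvd_of_free (D E : Subgroup G)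
    (hnorm : ∀ e ∈ E, ∀ d ∈ D, e * d * e⁻¹ ∈ D)
    (hfree : ∀ e ∈ E, ∀ d ∈ D, d ≠ 1 → e * d * e⁻¹ = d → e = 1) :
    Nat.card E ∣ Nat.card D - 1 := by
  classical
  let X : Set G := (D : Set G) \ {1}
  letI : MulAction E X :=
    { smul := fun e x => ⟨(e : G) * x.1 * (e : G)⁻¹, hnorm e e.2 x.1 x.2.1, by
          intro h
          apply x.2.2
          rw [Set.mem_singleton_iff] at h ⊢
          have := congrArg (fun y => (e : G)⁻¹ * y * (e : G)) h
          simpa [mul_assoc] using this⟩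
      one_smul := fun x => Subtype.ext (by
        show ((1 : E) : G) * x.1 * ((1 : E) : G)⁻¹ = x.1
        simp)
      mul_smul := fun a b x => Subtype.ext (by
        show ((a * b : E) : G) * x.1 * ((a * b : E) : G)⁻¹ = (a : G) * ((b : G) * x.1 * (b : G)⁻¹) * (a : G)⁻¹
        simp [mul_assoc]) }
  have hsmul : ∀ (e : E) (x : X), ((e • x : X) : G) = (e : G) * x.1 * (e : G)⁻¹ := fun e x => rfl
  have hstab : ∀ x : X, MulAction.stabilizer E x = ⊥ := by
    intro x
    rw [eq_bot_iff]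
    intro e he
    rw [MulAction.mem_stabilizer_iff] at he
    have h1 : (e : G) * x.1 * (e : G)⁻¹ = x.1 := by rw [← hsmul, he]
    have h2 := hfree e e.2 x.1 x.2.1 (fun h => x.2.2 (Set.mem_singleton_iff.2 h)) h1
    rw [Subgroup.mem_bot]
    exact Subtype.ext h2
  have e := MulAction.selfEquivOrbitsQuotientProd hstab
  have h1 : Nat.card X = Nat.card (Quotient (MulAction.orbitRel E X)) * Nat.card E := by
    rw [Nat.card_congr e, Nat.card_prod]
  have h2 : Nat.card X = Nat.card D - 1 := by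
    rw [_root_.Nat.card_coe_set_eq, Set.ncard_sdiff_singleton_of_mem (by exact D.one_mem),
      ← _root_.Nat.card_coe_set_eq]
    rfl
  rw [← h2, h1]
  exact Dvd.intro_left _ rfl

end Cfsg.Agent.Helper21.Bsw.Loc
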