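import Mathlib

/-!
# S4221 (M. Hall): 4-transitive groups whose 4-point stabilizer has odd order.
Shared definitions for the pieces (driver: helper16).  Plan: departures/helper16_s4221_pieces.md
-/

namespace Cfsg.Agent.Helper16.H4

open MulAction

variable {G : Type*} [Group G] {Ω : Type*} [MulAction G Ω]

/-- `t` acts on the 4-tuple `y` as the permutation `π` of the indices: `t • y i = y (π i)`. -/
def Pat (π : Equiv.Perm (Fin 4)) (t : G) (y : Fin 4 ↪ Ω) : Prop := ∀ i, t • y i = y (π i)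

/-- `(y0)(y1)(y2 y3)` -/
def πA : Equiv.Perm (Fin 4) := Equiv.swap 2 3
/-- `(y0 y1)(y2)(y3)` -/
def πA' : Equiv.Perm (Fin 4) := Equiv.swap 0 1
/-- `(y0 y1)(y2 y3)` -/
def πB : Equiv.Perm (Fin 4) := Equiv.swap 0 1 * Equiv.swap 2 3
/-- `(y0 y2)(y1 y3)` -/
def πC : Equiv.Perm (Fin 4) := Equiv.swap 0 2 * Equiv.swap 1 3

variable (G) in
/-- number of elements of square one acting on `y` as `π`. -/
noncomputable def cnt (π : Equiv.Perm (Fin 4)) (y : Fin 4 ↪ Ω) : ℕ :=
  Nat.card {t : G // t * t = 1 ∧ Pat π t y}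

/-- `p = (s,t)`: commuting elements of square one, `s` acting on `y` as `π`, `t` as `ρ`. -/
def PairPat (π ρ : Equiv.Perm (Fin 4)) (p : G × G) (y : Fin 4 ↪ Ω) : Prop :=
  p.1 * p.1 = 1 ∧ p.2 * p.2 = 1 ∧ p.1 * p.2 = p.2 * p.1 ∧ Pat π p.1 y ∧ Pat ρ p.2 y

/-- some point is fixed by the first component and moved by the second. -/
def Mixed (Ω : Type*) [MulAction G Ω] (p : G × G) : Prop := ∃ ω : Ω, p.1 • ω = ω ∧ p.2 • ω ≠ ω

variable (G) in
noncomputable def cnt2 (π ρ : Equiv.Perm (Fin 4)) (y : Fin 4 ↪ Ω) : ℕ :=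
  Nat.card {p : G × G // PairPat π ρ p y}

variable (G) in
noncomputable def cnt2m (π ρ : Equiv.Perm (Fin 4)) (y : Fin 4 ↪ Ω) : ℕ :=
  Nat.card {p : G × G // PairPat π ρ p y ∧ Mixed Ω p}

/-- number of fixed points. -/
noncomputable def fixN (Ω : Type*) [MulAction G Ω] (t : G) : ℕ := Nat.card {ω : Ω // t • ω = ω}

variable (G Ω) in
/-- the standing hypothesis. -/
structure Hyp : Prop where
  trans : IsMultiplyPretransitive G Ω 4
  odd : ∀ y : Fin 4 ↪ Ω, Odd (Nat.card (stabilizer G y))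

/-- reindexing a 4-tuple. -/
def reidx (σ : Equiv.Perm (Fin 4)) (y : Fin 4 ↪ Ω) : Fin 4 ↪ Ω := σ.toEmbedding.trans y

@[simp] lemma reidx_apply (σ : Equiv.Perm (Fin 4)) (y : Fin 4 ↪ Ω) (i : Fin 4) :
    reidx σ y i = y (σ i) := rfl

lemma pat_one_iff (t : G) (y : Fin 4 ↪ Ω) : Pat 1 t y ↔ t ∈ stabilizer G y := by
  rw [mem_stabilizer_iff]
  constructor
  · intro h; ext i; simpa [Function.Embedding.smul_apply] using h i
  · intro h i
    have := congrArg (fun z : Fin 4 ↪ Ω => z i) h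
    simpa [Function.Embedding.smul_apply] using this

lemma pat_mul {π ρ : Equiv.Perm (Fin 4)} {s t : G} {y : Fin 4 ↪ Ω}
    (hs : Pat π s y) (ht : Pat ρ t y) : Pat (π * ρ) (s * t) y := by
  intro i
  rw [mul_smul, ht i, hs (ρ i)]; rfl

lemma pat_inv {π : Equiv.Perm (Fin 4)} {s : G} {y : Fin 4 ↪ Ω}
    (hs : Pat π s y) : Pat π⁻¹ s⁻¹ y := by
  intro i
  rw [inv_smul_eq_iff, hs (π⁻¹ i)]; simp

/-- two elements with the same pattern differ by an element of the stabilizer. -/
lemma pat_iff_mem_stabilizer {π : Equiv.Perm (Fin 4)} {a t : G} {y : Fin 4 ↪ Ω}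
    (ha : Pat π a y) : Pat π t y ↔ a⁻¹ * t ∈ stabilizer G y := by
  rw [← pat_one_iff]
  constructor
  · intro ht
    have := pat_mul (pat_inv ha) ht
    simpa using this
  · intro h
    have := pat_mul ha h
    simpa using this

/-- an element permuting the points of `y` normalizes the stabilizer of `y`. -/
lemma conj_mem_stabilizer {π : Equiv.Perm (Fin 4)} {a : G} {y : Fin 4 ↪ Ω}
    (ha : Pat π a y) {h : G} (hh : h ∈ stabilizer G y) : a * h * a⁻¹ ∈ stabilizer G y := by
  rw [← pat_one_iff] at hh ⊢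
  have := pat_mul (pat_mul ha hh) (pat_inv ha)
  simpa using this

lemma pat_reidx {π σ : Equiv.Perm (Fin 4)} {t : G} {y : Fin 4 ↪ Ω} :
    Pat (σ * π * σ⁻¹) t y ↔ Pat π t (reidx σ y) := by
  constructor
  · intro h i
    have := h (σ i)
    simpa using this
  · intro h i
    have := h (σ⁻¹ i)
    simpa using this

lemma pat_conj {π : Equiv.Perm (Fin 4)} {t : G} {y : Fin 4 ↪ Ω} (g : G) :
    Pat π (g * t * g⁻¹) (g • y) ↔ Pat π t y := by
  constructor
  · intro h i
    have := h i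
    simp only [Function.Embedding.smul_apply, mul_smul, inv_smul_smul] at this
    exact smul_left_cancel g this
  · intro h i
    simp only [Function.Embedding.smul_apply, mul_smul, inv_smul_smul, h i]

lemma πA_mul_πA' : πA * πA' = πB := by decide
lemma πB_mul_πC : πB * πC = Equiv.swap 0 3 * Equiv.swap 1 2 := by decide

end Cfsg.Agent.Helper16.H4
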