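import Mathlib
import Cfsg.Agent.Helper2.S2096.Defs

set_option autoImplicit false
set_option linter.unusedSectionVars false

/-! S2096/S2097 piece YMAP (driver helper2; helper16): the canonical lift `Y` maps to the root
element. -/

namespace Cfsg.Agent.S2096P

open Cfsg.Agent.S3352P Cfsg.Agent.S3351P Cfsg.Agent.S2086P
open scoped commutatorElement

variable {n : ℕ} {F : Type*} [Field F] [Fintype F] {G : Type*} [Group G] {E : Type*} [Group E]
  {X : J n → J n → F → G}

/-- YMAP -/
theorem map_Y (hX : DRel X) (ψ : E →* G) (hψ : Function.Surjective ψ) (hn : 3 ≤ n) {a b : J n}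
    (hab : IsRoot a b) (t : F) : ψ (Y X ψ hψ hn a b t) = X a b t := by
  unfold Y
  rw [map_cl ψ hψ, commutatorElement_def, ← cm_def,
    hX.mul a (th hn a b) b (isRoot_left_th hn a b) (isRoot_th_right hn a b) hab t 1, mul_one]

end Cfsg.Agent.S2096P
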