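import Mathlib
import Cfsg.Agent.Helper14.GLk.Defs
import Cfsg.Agent.Helper14.SLk.Defs

/-! S2479 piece DETSUM: determinant of a direct sum of endomorphisms. -/

set_option autoImplicit false
set_option linter.style.haveILetI false

open Polynomial DirectSum Cfsg.Agent.S2478P

universe u

namespace Cfsg.Agent.S2479P


theorem DETSUM.det_blockDiagonal' {R : Type*} [CommRing R] {ι : Type*} [Fintype ι] [DecidableEq ι]
    {n : ι → Type*} [∀ i, Fintype (n i)] [∀ i, DecidableEq (n i)]
    (M : ∀ i, Matrix (n i) (n i) R) :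
    (Matrix.blockDiagonal' M).det = ∏ i, (M i).det := by
  classical
  letI : LinearOrder ι := LinearOrder.lift' (Fintype.equivFin ι) (Fintype.equivFin ι).injective
  rw [(Matrix.blockTriangular_blockDiagonal' M).det_fintype]
  refine Finset.prod_congr rfl fun k _ => ?_
  let e : n k ≃ {a : Σ i, n i // a.1 = k} :=
    { toFun := fun x => ⟨⟨k, x⟩, rfl⟩
      invFun := fun a => a.2 ▸ a.1.2
      left_inv := fun x => rfl
      right_inv := by
        rintro ⟨⟨i, x⟩, h⟩
        cases h
        rfl }
  rw [← Matrix.det_reindex_self e.symm]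
  congr 1
  ext x y
  simp [Matrix.toSquareBlock_def, Matrix.blockDiagonal'_apply, e]

theorem det_mapRange {R : Type*} [CommRing R] {ι : Type*} [Fintype ι] [DecidableEq ι]
    (N : ι → Type*) [∀ i, AddCommGroup (N i)] [∀ i, Module R (N i)] [∀ i, Module.Free R (N i)]
    [∀ i, Module.Finite R (N i)] (φ : ∀ i, N i →ₗ[R] N i) :
    LinearMap.det (DFinsupp.mapRange.linearMap φ : (⨁ i, N i) →ₗ[R] ⨁ i, N i) =
      ∏ i, LinearMap.det (φ i) := by
  classical
  let b : ∀ i, Module.Basis (Module.Free.ChooseBasisIndex R (N i)) R (N i) :=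
    fun i => Module.Free.chooseBasis R (N i)
  let B : Module.Basis (Σ i, Module.Free.ChooseBasisIndex R (N i)) R (Π₀ i, N i) := DFinsupp.basis b
  have hB : ∀ j c, B ⟨j, c⟩ = DFinsupp.single j (b j c) := by
    intro j c
    apply B.repr.injective
    rw [Module.Basis.repr_self]
    ext ⟨i, a⟩
    simp only [B, DFinsupp.basis]
    by_cases h : j = i
    · subst h
      by_cases hc : c = a
      · subst hc
        simp
      · have : (⟨j, c⟩ : Σ i, Module.Free.ChooseBasisIndex R (N i)) ≠ ⟨j, a⟩ := by
          intro h; apply hc; simpa using h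
        simp [hc, this]
    · have : (⟨j, c⟩ : Σ i, Module.Free.ChooseBasisIndex R (N i)) ≠ ⟨i, a⟩ := by
        intro h'; apply h; exact congrArg Sigma.fst h'
      simp [h, this]
  have hrepr : ∀ (x : Π₀ i, N i) i a, B.repr x ⟨i, a⟩ = (b i).repr (x i) a := by
    intro x i a
    simp [B, DFinsupp.basis]
  have h1 : LinearMap.toMatrix B B (DFinsupp.mapRange.linearMap φ) =
      Matrix.blockDiagonal' (fun i => LinearMap.toMatrix (b i) (b i) (φ i)) := by
    ext ⟨i, a⟩ ⟨j, c⟩
    rw [LinearMap.toMatrix_apply, Matrix.blockDiagonal'_apply, hB, hrepr,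
      DFinsupp.mapRange.linearMap_apply, DFinsupp.mapRange_single]
    by_cases h : i = j
    · subst h
      simp [LinearMap.toMatrix_apply]
    · simp [h, DFinsupp.single_eq_of_ne h]
  rw [← LinearMap.det_toMatrix B, h1, DETSUM.det_blockDiagonal']
  exact Finset.prod_congr rfl fun i _ => LinearMap.det_toMatrix (b i) (φ i)

end Cfsg.Agent.S2479P
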