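import Mathlib
import Cfsg.Prelude.Def_Classical
import Cfsg.Agent.Helper13.S2496Defs

/-! S2496 piece GENERATOR (helper16). -/

set_option autoImplicit false
set_option linter.unusedSectionVars false

namespace Cfsg.Agent.S2496P

section frob

variable {F K : Type*} [Field F] [Fintype F] [Field K] [Algebra F K] [Finite K] {p : ℕ}
  [Fact p.Prime] [CharP F p] [CharP K p] {f q : ℕ}

/-- GENERATOR: an element of `K` of any order dividing `|K| - 1 = q^(2h) - 1` -/
theorem exists_orderOf_eq (hq : q = p ^ f) (hF : Fintype.card F = q ^ 2) {h : ℕ}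
    (hK : Module.finrank F K = h) (hh : 1 ≤ h) (m : ℕ) (hm : m ∣ q ^ (2 * h) - 1) :
    ∃ s : K, orderOf s = m := by
  classical
  have : Fintype K := Fintype.ofFinite K
  have hcardK : Fintype.card K = q ^ (2 * h) := by
    rw [Module.card_eq_pow_finrank (K := F) (V := K), hK, hF, ← pow_mul]
  obtain ⟨g, hg⟩ := IsCyclic.exists_generator (α := Kˣ)
  have hord : orderOf g = q ^ (2 * h) - 1 := by
    rw [orderOf_eq_card_of_forall_mem_zpowers hg, Nat.card_eq_fintype_card, Fintype.card_units,
      hcardK]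
  have hpos : 0 < q ^ (2 * h) - 1 := by
    have := Fintype.one_lt_card (α := K)
    omega
  obtain ⟨k, hk⟩ := hm
  have hk0 : k ≠ 0 := by
    rintro rfl
    omega
  refine ⟨((g ^ k : Kˣ) : K), ?_⟩
  rw [orderOf_units, orderOf_pow_of_dvd hk0 (by rw [hord, hk]; exact Dvd.intro_left m rfl), hord, hk]
  exact Nat.mul_div_cancel m (Nat.pos_of_ne_zero hk0)

end frob

end Cfsg.Agent.S2496P
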