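import Mathlib
import Cfsg.Prelude.Def_Classical
import Cfsg.Agent.Helper13.S2496Defs

/-! S2496 piece FROB (helper16): the maps `x ↦ x ^ q` on `F` and on `K`. -/

set_option autoImplicit false
set_option linter.unusedSectionVars false

namespace Cfsg.Agent.S2496P

section frob

variable {F K : Type*} [Field F] [Fintype F] [Field K] [Algebra F K] [Finite K] {p : ℕ}
  [Fact p.Prime] [CharP F p] [CharP K p] {f q : ℕ}

/-- FROB -/
theorem frob_frob_F (hq : q = p ^ f) (hF : Fintype.card F = q ^ 2) (c : F) :
    frob F p f (frob F p f c) = c := by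
  rw [frob_apply, frob_apply, ← pow_mul, ← hq, ← sq, ← hF]
  exact FiniteField.pow_card c

theorem frob_F_ne_id (hq : q = p ^ f) (hF : Fintype.card F = q ^ 2) :
    frob F p f ≠ RingHom.id F := by
  classical
  intro hid
  have hq2 : 2 ≤ q := by
    by_contra hcon
    have h1 : q ^ 2 ≤ 1 := by
      have : q ≤ 1 := by omega
      calc q ^ 2 ≤ 1 ^ 2 := Nat.pow_le_pow_left this 2
        _ = 1 := one_pow 2
    have := Fintype.one_lt_card (α := F)
    omega
  obtain ⟨g, hg⟩ := IsCyclic.exists_generator (α := Fˣ)
  have hord : orderOf g = q ^ 2 - 1 := by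
    rw [orderOf_eq_card_of_forall_mem_zpowers hg, Nat.card_eq_fintype_card, Fintype.card_units, hF]
  have h1 : (g : F) ^ q = (g : F) := by
    have := congrArg (fun φ : F →+* F => φ (g : F)) hid
    simp only [RingHom.id_apply] at this
    rw [frob_apply, ← hq] at this
    exact this
  have h2 : g ^ (q - 1) = 1 := by
    apply Units.ext
    rw [Units.val_pow_eq_pow_val, Units.val_one]
    have h3 : (g : F) ^ (q - 1) * (g : F) = (g : F) := by
      rw [← pow_succ, Nat.sub_add_cancel (by omega)]
      exact h1
    have hne : (g : F) ≠ 0 := g.ne_zero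
    exact mul_right_cancel₀ hne (by rw [h3, one_mul])
  have h4 : q ^ 2 - 1 ∣ q - 1 := hord ▸ orderOf_dvd_of_pow_eq_one h2
  have h5 : q ^ 2 - 1 ≤ q - 1 := Nat.le_of_dvd (by omega) h4
  have h6 : q ^ 2 = q * q := sq q
  have h7 : 2 * q ≤ q * q := Nat.mul_le_mul_right q hq2
  omega

theorem frob_algebraMap (c : F) :
    frob K p f (algebraMap F K c) = algebraMap F K (frob F p f c) := by
  rw [frob_apply, frob_apply, map_pow]

theorem frob_K_bijective : Function.Bijective (frob K p f) :=
  Finite.injective_iff_bijective.mp (frob K p f).injective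

theorem norm_frob (s : K) :
    Algebra.norm F (frob K p f s) = frob F p f (Algebra.norm F s) := by
  rw [frob_apply, frob_apply, map_pow]

end frob

end Cfsg.Agent.S2496P
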