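import Mathlib

/-!
# S3174 / S3175 : common definitions

`T` is a finite `2`-group with `|T| ≥ 2^14`, `|Z_4(T)| = 16`, `W = C_T(Z_3(T))`, `|Φ(W)| ≤ 8` and
`Φ(W)` inside every subgroup of `W` of index at most `16`.  Blueprint:
`departures/helper16_S3174_blueprint.md`.
-/

set_option autoImplicit false

namespace Cfsg.Agent.S3174P

open scoped commutatorElement

variable {T : Type*} [Group T]

/-- the `i`-th term of the upper central series of `T` -/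
abbrev Zi (T : Type*) [Group T] (i : ℕ) : Subgroup T := Subgroup.upperCentralSeries T i

/-- the Frattini subgroup of `W`, as a subgroup of `T` -/
def fr (W : Subgroup T) : Subgroup T := (frattini ↥W).map W.subtype

/-- `M = C_T(Z_2(T))` -/
abbrev Mc (T : Type*) [Group T] : Subgroup T :=
  Subgroup.centralizer ((Subgroup.upperCentralSeries T 2 : Subgroup T) : Set T)

/-- the hypotheses of S3174 -/
structure Hyp (T : Type*) [Group T] [Finite T] (W : Subgroup T) : Prop where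
  hT : IsPGroup 2 T
  ha : 2 ^ 14 ≤ Nat.card T
  hb : Nat.card ↥(Subgroup.upperCentralSeries T 4) = 16
  hW : W = Subgroup.centralizer ((Subgroup.upperCentralSeries T 3 : Subgroup T) : Set T)
  hc : Nat.card ↥(frattini ↥W) ≤ 8
  hd : ∀ U : Subgroup ↥W, U.index ≤ 16 → frattini ↥W ≤ U

/-- what is known after the counting step -/
structure Cfg0 (T : Type*) [Group T] [Finite T] (W : Subgroup T) : Prop where
  hT : IsPGroup 2 T
  hW : W = Subgroup.centralizer ((Zi T 3 : Subgroup T) : Set T)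
  nW : W.Normal
  c1 : Nat.card ↥(Zi T 1) = 2
  c2 : Nat.card ↥(Zi T 2) = 4
  c3 : Nat.card ↥(Zi T 3) = 8
  c4 : Nat.card ↥(Zi T 4) = 16
  idx : W.index = 8
  cW : Nat.card ↥W = 2 ^ 11
  cT : Nat.card T = 2 ^ 14
  ZW : Zi T 3 ≤ W
  frZ : fr W = Zi T 3
  sq : ∀ x ∈ W, x ^ 2 ∈ Zi T 3
  cm : ∀ x ∈ W, ∀ y ∈ W, ⁅x, y⁆ ∈ Zi T 3
  hd : ∀ U : Subgroup T, U ≤ W → U.relIndex W ≤ 16 → Zi T 3 ≤ U

/-- `Cfg0` together with `W' = Z_3` elementary abelian -/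
structure Cfg (T : Type*) [Group T] [Finite T] (W : Subgroup T) : Prop extends Cfg0 T W where
  dr : (commutator ↥W).map W.subtype = Zi T 3
  ex : ∀ z ∈ Zi T 3, z ^ 2 = 1

/-- the elements of `W` fixed modulo the normal subgroup `Z` by every element of `G` -/
def fixMod (W Z G : Subgroup T) [Z.Normal] : Subgroup T where
  carrier := {y | y ∈ W ∧ ∀ g ∈ G, ⁅g, y⁆ ∈ Z}
  one_mem' := ⟨W.one_mem, fun g _ => by simp⟩
  mul_mem' := by
    rintro a b ⟨ha, ha'⟩ ⟨hb, hb'⟩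
    refine ⟨W.mul_mem ha hb, fun g hg => ?_⟩
    have h : ⁅g, a * b⁆ = ⁅g, a⁆ * (a * ⁅g, b⁆ * a⁻¹) := by
      simp only [commutatorElement_def]; group
    rw [h]
    exact Z.mul_mem (ha' g hg) (‹Z.Normal›.conj_mem _ (hb' g hg) a)
  inv_mem' := by
    rintro a ⟨ha, ha'⟩
    refine ⟨W.inv_mem ha, fun g hg => ?_⟩
    have h : ⁅g, a⁻¹⁆ = a⁻¹ * (⁅g, a⁆)⁻¹ * a⁻¹⁻¹ := by
      simp only [commutatorElement_def]; group
    rw [h]
    exact ‹Z.Normal›.conj_mem _ (Z.inv_mem (ha' g hg)) a⁻¹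

theorem mem_fixMod (W Z G : Subgroup T) [Z.Normal] (y : T) :
    y ∈ fixMod W Z G ↔ y ∈ W ∧ ∀ g ∈ G, ⁅g, y⁆ ∈ Z := Iff.rfl


/-- the elements `g` with `⁅g, y⁆ ∈ Z` form a subgroup (for normal `Z`) -/
def commIn (Z : Subgroup T) [Z.Normal] (y : T) : Subgroup T where
  carrier := {g | ⁅g, y⁆ ∈ Z}
  one_mem' := by simp
  mul_mem' := by
    intro a b ha hb
    have h : ⁅a * b, y⁆ = a * ⁅b, y⁆ * a⁻¹ * ⁅a, y⁆ := by
      simp only [commutatorElement_def]; group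
    show ⁅a * b, y⁆ ∈ Z
    rw [h]
    exact Z.mul_mem (‹Z.Normal›.conj_mem _ hb a) ha
  inv_mem' := by
    intro a ha
    have h : ⁅a⁻¹, y⁆ = a⁻¹ * (⁅a, y⁆)⁻¹ * a⁻¹⁻¹ := by
      simp only [commutatorElement_def]; group
    show ⁅a⁻¹, y⁆ ∈ Z
    rw [h]
    exact ‹Z.Normal›.conj_mem _ (Z.inv_mem ha) a⁻¹

theorem mem_commIn (Z : Subgroup T) [Z.Normal] (y g : T) : g ∈ commIn Z y ↔ ⁅g, y⁆ ∈ Z := Iff.rfl

theorem mem_fixMod_zpowers (W Z : Subgroup T) [Z.Normal] (t y : T) :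
    y ∈ fixMod W Z (Subgroup.zpowers t) ↔ y ∈ W ∧ ⁅t, y⁆ ∈ Z := by
  constructor
  · rintro ⟨hy, h⟩
    exact ⟨hy, h t (Subgroup.mem_zpowers t)⟩
  · rintro ⟨hy, h⟩
    refine ⟨hy, fun g hg => ?_⟩
    have hle : Subgroup.zpowers t ≤ commIn Z y := by
      rw [Subgroup.zpowers_le]; exact h
    exact hle hg

/-- `Û = Z_3 · [W, C_T(Z_2)]` -/
def Uh (W : Subgroup T) : Subgroup T :=
  Zi T 3 ⊔ Subgroup.closure {y | ∃ x ∈ W, ∃ t ∈ Mc T, y = ⁅x, t⁆}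

end Cfsg.Agent.S3174P
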