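import Mathlib
import Cfsg.Agent.Helper1.S3401Defs

set_option autoImplicit false
set_option linter.style.haveILetI false

/-! # S3401 piece SYL: Sylow 2-subgroups by cardinality (toolkit). -/

namespace Cfsg.Agent.S3401P

theorem SYL.isPGroup {G : Type*} [Group G] {X P : Subgroup G} (h : IsSyl2 X P) :
    IsPGroup 2 P := by
  have hc := h.2
  have hne : Nat.card P ≠ 0 := by rw [hc]; positivity
  haveI : Finite P := Nat.finite_of_card_ne_zero hne
  exact IsPGroup.of_card hc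

theorem SYL.card_dvd {G : Type*} [Group G] [Finite G] {X P R : Subgroup G} (h : IsSyl2 X P)
    (hRX : R ≤ X) (hR : IsPGroup 2 R) : Nat.card R ∣ Nat.card P := by
  haveI : Fact (Nat.Prime 2) := ⟨Nat.prime_two⟩
  obtain ⟨j, hj⟩ := hR.exists_card_eq
  rw [h.2, hj]
  apply pow_dvd_pow
  have hdvd : 2 ^ j ∣ Nat.card X := by rw [← hj]; exact Subgroup.card_dvd_of_le hRX
  have hX : Nat.card X ≠ 0 := Nat.card_pos.ne'
  exact (Nat.Prime.pow_dvd_iff_le_factorization Nat.prime_two hX).mp hdvd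

theorem SYL.exists_le {G : Type*} [Group G] [Finite G] (X R : Subgroup G) (hRX : R ≤ X)
    (hR : IsPGroup 2 R) : ∃ P : Subgroup G, IsSyl2 X P ∧ R ≤ P := by
  haveI : Fact (Nat.Prime 2) := ⟨Nat.prime_two⟩
  have hR' : IsPGroup 2 (R.subgroupOf X) := hR.comap_subtype
  obtain ⟨Q, hQ⟩ := hR'.exists_le_sylow
  refine ⟨(Q : Subgroup X).map X.subtype, ⟨?_, ?_⟩, ?_⟩
  · exact Subgroup.map_subtype_le _
  · rw [Subgroup.card_map_of_injective X.subtype_injective]
    exact Sylow.card_eq_multiplicity Q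
  · intro r hr
    refine ⟨⟨r, hRX hr⟩, hQ ?_, rfl⟩
    exact Subgroup.mem_subgroupOf.mpr hr

theorem SYL.conj {G : Type*} [Group G] [Finite G] {X P P' : Subgroup G} (hP : IsSyl2 X P)
    (hP' : IsSyl2 X P') : ∃ x ∈ X, ∀ g : G, g ∈ P' ↔ x⁻¹ * g * x ∈ P := by
  haveI : Fact (Nat.Prime 2) := ⟨Nat.prime_two⟩
  have hc : ∀ A : Subgroup G, IsSyl2 X A →
      Nat.card (A.subgroupOf X) = 2 ^ (Nat.card X).factorization 2 := by
    intro A hA
    rw [← hA.2]
    exact Nat.card_congr (Subgroup.subgroupOfEquivOfLe hA.1).toEquiv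
  let Q : Sylow 2 X := Sylow.ofCard (P.subgroupOf X) (hc P hP)
  let Q' : Sylow 2 X := Sylow.ofCard (P'.subgroupOf X) (hc P' hP')
  obtain ⟨x, hx⟩ := MulAction.exists_smul_eq X Q Q'
  refine ⟨(x : G), x.2, fun g => ?_⟩
  have key : ∀ y : X, y ∈ (Q' : Subgroup X) ↔ x⁻¹ * y * x ∈ (Q : Subgroup X) := by
    intro y
    rw [← hx, Sylow.coe_subgroup_smul, Subgroup.mem_pointwise_smul_iff_inv_smul_mem,
      MulAut.smul_def, ← map_inv, MulAut.conj_apply, inv_inv]
  constructor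
  · intro hg
    have hgX : g ∈ X := hP'.1 hg
    have h1 : (⟨g, hgX⟩ : X) ∈ (Q' : Subgroup X) := Subgroup.mem_subgroupOf.mpr hg
    have h2 := (key ⟨g, hgX⟩).mp h1
    exact Subgroup.mem_subgroupOf.mp h2
  · intro hg
    have hgX' : (x : G)⁻¹ * g * x ∈ X := hP.1 hg
    have hgX : g ∈ X := by
      have := X.mul_mem (X.mul_mem x.2 hgX') (X.inv_mem x.2)
      simpa [mul_assoc] using this
    have h2 : x⁻¹ * (⟨g, hgX⟩ : X) * x ∈ (Q : Subgroup X) := Subgroup.mem_subgroupOf.mpr hg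
    have h1 := (key ⟨g, hgX⟩).mpr h2
    exact Subgroup.mem_subgroupOf.mp h1

theorem SYL.mono {G : Type*} [Group G] [Finite G] {X Y P : Subgroup G} (hP : IsSyl2 X P)
    (hPY : P ≤ Y) (hYX : Y ≤ X) : IsSyl2 Y P := by
  refine ⟨hPY, ?_⟩
  rw [hP.2]
  congr 1
  have hX : Nat.card X ≠ 0 := Nat.card_pos.ne'
  have hY : Nat.card Y ≠ 0 := Nat.card_pos.ne'
  have h1 : (Nat.card Y).factorization 2 ≤ (Nat.card X).factorization 2 :=
    (Nat.factorization_le_iff_dvd hY hX).mpr (Subgroup.card_dvd_of_le hYX) 2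
  have h2 : 2 ^ (Nat.card X).factorization 2 ∣ Nat.card Y := by
    rw [← hP.2]; exact Subgroup.card_dvd_of_le hPY
  have h3 : (Nat.card X).factorization 2 ≤ (Nat.card Y).factorization 2 :=
    (Nat.Prime.pow_dvd_iff_le_factorization Nat.prime_two hY).mp h2
  exact le_antisymm h3 h1

end Cfsg.Agent.S3401P
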