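import Mathlib
import Cfsg.Prelude.Def_ClassicalGeometry
import Cfsg.Agent.Helper23.S5961Defs

/-! S5955 (driver helper16): shared definitions.

* `IsYSp B y r` : `B` alternating and nondegenerate, `y` an isometry with `y ^ r = 1`.
* `prodB B₁ B₂` : the orthogonal sum of two bilinear forms on `V₁ × V₂`.
* `shiftL F r`, `shiftB F r`, `Aug F r`, `augS F r`, `augB F r` : the augmentation space
  `{u : ZMod r → F | ∑ u = 0}` with the shift `(S u) a = u (a + 1)` and the alternating form
  `∑ a, (u (a + 1) * v a - u a * v (a + 1))`.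
-/

set_option autoImplicit false

namespace Cfsg.Agent.S5955P

open Cfsg.Agent.Helper2.SympInvol Cfsg.Agent.Helper2.SympUnits

/-- an alternating nondegenerate space with an isometry `y`, `y ^ r = 1` -/
structure IsYSp {F V : Type*} [Field F] [AddCommGroup V] [Module F V]
    (B : LinearMap.BilinForm F V) (y : Module.End F V) (r : ℕ) : Prop where
  alt : ∀ v, B v v = 0
  nondeg : Nondeg B ⊤
  isom : ∀ u v, B (y u) (y v) = B u v
  pow : y ^ r = 1

/-- the orthogonal sum of two bilinear forms -/
def prodB {F V₁ V₂ : Type*} [Field F] [AddCommGroup V₁] [Module F V₁] [AddCommGroup V₂]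
    [Module F V₂] (B₁ : LinearMap.BilinForm F V₁) (B₂ : LinearMap.BilinForm F V₂) :
    LinearMap.BilinForm F (V₁ × V₂) :=
  B₁.compl₁₂ (LinearMap.fst F V₁ V₂) (LinearMap.fst F V₁ V₂) +
    B₂.compl₁₂ (LinearMap.snd F V₁ V₂) (LinearMap.snd F V₁ V₂)

theorem prodB_apply {F V₁ V₂ : Type*} [Field F] [AddCommGroup V₁] [Module F V₁]
    [AddCommGroup V₂] [Module F V₂] (B₁ : LinearMap.BilinForm F V₁)
    (B₂ : LinearMap.BilinForm F V₂) (u v : V₁ × V₂) :
    prodB B₁ B₂ u v = B₁ u.1 v.1 + B₂ u.2 v.2 := rfl

section Aug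

variable (F : Type*) [Field F] (r : ℕ) [NeZero r]

/-- the shift `(S u) a = u (a + 1)` on `ZMod r → F` -/
def shiftL : Module.End F (ZMod r → F) := LinearMap.funLeft F F (fun a : ZMod r => a + 1)

theorem shiftL_apply (u : ZMod r → F) (a : ZMod r) : shiftL F r u a = u (a + 1) := rfl

/-- the alternating form `∑ a, (u (a + 1) * v a - u a * v (a + 1))` on `ZMod r → F` -/
def shiftB : LinearMap.BilinForm F (ZMod r → F) :=
  LinearMap.mk₂ F (fun u v => ∑ a : ZMod r, (u (a + 1) * v a - u a * v (a + 1)))
    (fun u u' v => by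
      simp only [Pi.add_apply]
      rw [← Finset.sum_add_distrib]
      exact Finset.sum_congr rfl fun a _ => by ring)
    (fun c u v => by
      simp only [Pi.smul_apply, smul_eq_mul]
      rw [Finset.mul_sum]
      exact Finset.sum_congr rfl fun a _ => by ring)
    (fun u v v' => by
      simp only [Pi.add_apply]
      rw [← Finset.sum_add_distrib]
      exact Finset.sum_congr rfl fun a _ => by ring)
    (fun c u v => by
      simp only [Pi.smul_apply, smul_eq_mul]
      rw [Finset.mul_sum]
      exact Finset.sum_congr rfl fun a _ => by ring)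

theorem shiftB_apply (u v : ZMod r → F) :
    shiftB F r u v = ∑ a : ZMod r, (u (a + 1) * v a - u a * v (a + 1)) := rfl

/-- the augmentation space `{u | ∑ a, u a = 0}` -/
def Aug : Submodule F (ZMod r → F) where
  carrier := {u | ∑ a : ZMod r, u a = 0}
  add_mem' := by
    intro u v hu hv
    show ∑ a : ZMod r, (u + v) a = 0
    simp only [Pi.add_apply]
    rw [Finset.sum_add_distrib, show ∑ a : ZMod r, u a = 0 from hu,
      show ∑ a : ZMod r, v a = 0 from hv, add_zero]
  zero_mem' := by
    show ∑ a : ZMod r, (0 : ZMod r → F) a = 0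
    simp
  smul_mem' := by
    intro c u hu
    show ∑ a : ZMod r, (c • u) a = 0
    simp only [Pi.smul_apply, smul_eq_mul]
    rw [← Finset.mul_sum, show ∑ a : ZMod r, u a = 0 from hu, mul_zero]

theorem mem_Aug (u : ZMod r → F) : u ∈ Aug F r ↔ ∑ a : ZMod r, u a = 0 := Iff.rfl

theorem shiftL_mem_Aug (u : ZMod r → F) (hu : u ∈ Aug F r) : shiftL F r u ∈ Aug F r := by
  rw [mem_Aug] at hu ⊢
  simp only [shiftL_apply]
  rw [← hu]
  exact Fintype.sum_equiv (Equiv.addRight (1 : ZMod r)) _ _ (fun a => rfl)

/-- the shift on the augmentation space -/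
def augS : Module.End F (Aug F r) := (shiftL F r).restrict (shiftL_mem_Aug F r)

/-- the alternating form on the augmentation space -/
def augB : LinearMap.BilinForm F (Aug F r) := (shiftB F r).restrict (Aug F r)

theorem augS_coe (u : Aug F r) : ((augS F r u : Aug F r) : ZMod r → F) = shiftL F r u := rfl

theorem augB_apply (u v : Aug F r) :
    augB F r u v = shiftB F r (u : ZMod r → F) (v : ZMod r → F) := rfl

end Aug

end Cfsg.Agent.S5955P
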