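import Mathlib

set_option autoImplicit false

namespace Cfsg.Agent.Helper16

open Subgroup

section
variable {G : Type*} [Group G]

/-- the set of conjugacy classes of involutions -/
def invClassSet (G : Type*) [Group G] : Set (ConjClasses G) :=
  {C | ∃ t : G, orderOf t = 2 ∧ ConjClasses.mk t = C}

/-- if `m` swaps `x` and `y` by conjugation, then so does any odd power of `m` -/
theorem conj_odd_pow_of_swap {m x y : G} (h1 : m * x * m⁻¹ = y) (h2 : m * y * m⁻¹ = x) (j : ℕ) :
    m ^ (2 * j + 1) * x * (m ^ (2 * j + 1))⁻¹ = y := by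
  have hc : Commute (m ^ 2) x := by
    have : m ^ 2 * x * (m ^ 2)⁻¹ = x := by
      rw [pow_two]
      calc m * m * x * (m * m)⁻¹ = m * (m * x * m⁻¹) * m⁻¹ := by simp [mul_assoc]
        _ = x := by rw [h1, h2]
    exact mul_inv_eq_iff_eq_mul.mp this
  have hc' : Commute ((m ^ 2) ^ j) x := hc.pow_left j
  have e : m ^ (2 * j + 1) = m * (m ^ 2) ^ j := by
    rw [← pow_mul, pow_succ']
  rw [e]
  calc m * (m ^ 2) ^ j * x * (m * (m ^ 2) ^ j)⁻¹
      = m * ((m ^ 2) ^ j * x * ((m ^ 2) ^ j)⁻¹) * m⁻¹ := by simp [mul_assoc]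
    _ = m * x * m⁻¹ := by rw [hc'.eq]; simp
    _ = y := h1

end

section
variable {G : Type*} [Group G] [Finite G] (P : Sylow 2 G)

/-- a 2-element normalizing a Sylow 2-subgroup lies in it -/
theorem two_elt_normalizer_mem (m : G) (hm : m ∈ normalizer ((P : Subgroup G) : Set G)) (k : ℕ)
    (hk : m ^ (2 ^ k) = 1) : m ∈ P := by
  have : Fact (Nat.Prime 2) := ⟨Nat.prime_two⟩
  have hz : IsPGroup 2 (zpowers m) := by
    rintro ⟨w, hw⟩
    obtain ⟨i, rfl⟩ := mem_zpowers_iff.mp hw
    refine ⟨k, ?_⟩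
    apply Subtype.ext
    rw [Subgroup.coe_pow, Subgroup.coe_one]
    show (m ^ i) ^ 2 ^ k = 1
    rw [← zpow_natCast, ← zpow_mul, mul_comm, zpow_mul, zpow_natCast, hk, one_zpow]
  have h := hz.inf_normalizer_sylow P
  have hmem : m ∈ zpowers m ⊓ normalizer (P : Set G) :=
    ⟨mem_zpowers m, hm⟩
  rw [h] at hmem
  exact hmem.2

variable (hP : IsKleinFour (P : Subgroup G))
include hP

theorem klein_mul_self {x : G} (hx : x ∈ P) : x * x = 1 := by
  have := IsKleinFour.mul_self (G := (P : Subgroup G)) ⟨x, hx⟩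
  exact congrArg Subtype.val this

theorem klein_comm {x y : G} (hx : x ∈ P) (hy : y ∈ P) : x * y = y * x := by
  have := (IsKleinFour.isMulCommutative (G := (P : Subgroup G))).is_comm.comm ⟨x, hx⟩ ⟨y, hy⟩
  exact congrArg Subtype.val this

theorem klein_eq_mul {x y z : G} (hx : x ∈ P) (hy : y ∈ P) (hz : z ∈ P) (hx1 : x ≠ 1) (hy1 : y ≠ 1)
    (hxy : x ≠ y) (hz1 : z ≠ 1) (hzx : z ≠ x) (hzy : z ≠ y) : z = x * y := by
  have := IsKleinFour.eq_mul_of_ne_all (G := (P : Subgroup G)) (x := ⟨x, hx⟩) (y := ⟨y, hy⟩)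
    (z := ⟨z, hz⟩) (by simpa [Subtype.ext_iff] using hx1) (by simpa [Subtype.ext_iff] using hy1)
    (by simpa [Subtype.ext_iff] using hxy) (by simpa [Subtype.ext_iff] using hz1)
    (by simpa [Subtype.ext_iff] using hzx) (by simpa [Subtype.ext_iff] using hzy)
  exact congrArg Subtype.val this

/-- fusion in a Klein four Sylow 2-subgroup: if two distinct involutions of `P` are conjugate,
all three are. -/
theorem klein_fusion {x y : G} (hx : x ∈ P) (hy : y ∈ P) (hx1 : x ≠ 1) (hy1 : y ≠ 1) (hxy : x ≠ y)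
    (hc : IsConj x y) : IsConj x (x * y) := by
  have : Fact (Nat.Prime 2) := ⟨Nat.prime_two⟩
  have : IsMulCommutative (P : Subgroup G) := IsKleinFour.isMulCommutative
  obtain ⟨c, hc'⟩ := isConj_iff.mp hc
  have hy' : (c⁻¹)⁻¹ * x * c⁻¹ ∈ P := by rw [inv_inv, hc']; exact hy
  obtain ⟨n, hn, hn'⟩ := P.conj_eq_normalizer_conj_of_mem x c⁻¹ hx hy'
  rw [inv_inv, hc'] at hn'
  -- m = n⁻¹ normalizes P and maps x to y
  set m := n⁻¹ with hm
  have hmN : m ∈ normalizer ((P : Subgroup G) : Set G) := Subgroup.inv_mem _ hn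
  have hmx : m * x * m⁻¹ = y := by rw [hm, inv_inv]; exact hn'.symm
  have hmyP : m * y * m⁻¹ ∈ P := (mem_normalizer_iff.mp hmN y).mp hy
  have hmy1 : m * y * m⁻¹ ≠ 1 := by
    intro h
    apply hy1
    have := congrArg (fun t => m⁻¹ * t * m) h
    simpa [mul_assoc] using this
  have hmyy : m * y * m⁻¹ ≠ y := by
    intro h
    apply hxy
    have := h.trans hmx.symm
    have := congrArg (fun t => m⁻¹ * t * m) this
    simpa [mul_assoc] using this.symm
  by_cases hswap : m * y * m⁻¹ = x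
  · -- contradiction: an odd power of m is a 2-element swapping x and y
    exfalso
    have hpos : 0 < orderOf m := orderOf_pos m
    obtain ⟨k, r, hr, hkr⟩ := Nat.exists_eq_two_pow_mul_odd (Nat.pos_iff_ne_zero.mp hpos)
    obtain ⟨j, hj⟩ := hr
    have h1 := conj_odd_pow_of_swap hmx hswap j
    rw [← hj] at h1
    have hmrN : m ^ r ∈ normalizer ((P : Subgroup G) : Set G) := Subgroup.pow_mem _ hmN r
    have hk : (m ^ r) ^ (2 ^ k) = 1 := by
      rw [← pow_mul, mul_comm, ← hkr]; exact pow_orderOf_eq_one m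
    have hmrP := two_elt_normalizer_mem P (m ^ r) hmrN k hk
    have := klein_comm P hP hmrP hx
    rw [this, mul_inv_cancel_right] at h1
    exact hxy h1
  · have hz : m * y * m⁻¹ = x * y :=
      klein_eq_mul P hP hx hy hmyP hx1 hy1 hxy hmy1 hswap hmyy
    have h2 : IsConj y (x * y) := isConj_iff.mpr ⟨m, hz⟩
    exact hc.trans h2

/-- existence of generators of the Klein four Sylow subgroup -/
theorem klein_exists_gens : ∃ a b : G, a ∈ P ∧ b ∈ P ∧ a ≠ 1 ∧ b ≠ 1 ∧ a ≠ b := by
  classical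
  haveI : Fintype (P : Subgroup G) := Fintype.ofFinite _
  have hcard : 2 < Fintype.card (P : Subgroup G) := by
    rw [IsKleinFour.card_four']; norm_num
  obtain ⟨a, b, c, hab, hac, hbc⟩ := Fintype.two_lt_card_iff.mp hcard
  by_cases ha : a = 1
  · subst ha
    exact ⟨b, c, b.2, c.2, fun h => hab (Subtype.ext h).symm, fun h => hac (Subtype.ext h).symm,
      fun h => hbc (Subtype.ext h)⟩
  · by_cases hb : b = 1
    · subst hb
      exact ⟨a, c, a.2, c.2, fun h => ha (Subtype.ext h), fun h => hbc (Subtype.ext h).symm,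
        fun h => hac (Subtype.ext h)⟩
    · exact ⟨a, b, a.2, b.2, fun h => ha (Subtype.ext h), fun h => hb (Subtype.ext h),
        fun h => hab (Subtype.ext h)⟩

/-- every involution is conjugate to one of `a`, `b`, `a*b` -/
theorem klein_invol_conj {a b : G} (ha : a ∈ P) (hb : b ∈ P) (ha1 : a ≠ 1) (hb1 : b ≠ 1)
    (hab : a ≠ b) (t : G) (ht : orderOf t = 2) :
    IsConj t a ∨ IsConj t b ∨ IsConj t (a * b) := by
  have : Fact (Nat.Prime 2) := ⟨Nat.prime_two⟩
  have hz : IsPGroup 2 (zpowers t) := by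
    apply IsPGroup.of_card (n := 1)
    rw [Nat.card_zpowers, ht, pow_one]
  obtain ⟨Q, hQ⟩ := hz.exists_le_sylow
  obtain ⟨g, rfl⟩ := MulAction.exists_smul_eq G P Q
  have htQ : t ∈ ((g • P : Sylow 2 G) : Subgroup G) := hQ (mem_zpowers t)
  rw [Sylow.smul_def, Sylow.pointwise_smul_def, Subgroup.mem_pointwise_smul_iff_inv_smul_mem] at htQ
  have htP : g⁻¹ * t * g ∈ (P : Subgroup G) := by simpa [MulAut.smul_def] using htQ
  set z := g⁻¹ * t * g with hzdef
  have hconj : IsConj t z := isConj_iff.mpr ⟨g⁻¹, by rw [inv_inv]⟩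
  have hz1 : z ≠ 1 := by
    intro h
    have : t = 1 := by
      have := congrArg (fun w => g * w * g⁻¹) h
      simpa [hzdef, mul_assoc] using this
    rw [this, orderOf_one] at ht
    norm_num at ht
  by_cases h1 : z = a
  · left; rwa [← h1]
  · by_cases h2 : z = b
    · right; left; rwa [← h2]
    · right; right
      rwa [← klein_eq_mul P hP ha hb htP ha1 hb1 hab hz1 h1 h2]

/-- the dichotomy: either all involutions are conjugate, or `a`, `b`, `a*b` are pairwise
non-conjugate. -/
theorem klein_dichotomy {a b : G} (ha : a ∈ P) (hb : b ∈ P) (ha1 : a ≠ 1) (hb1 : b ≠ 1)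
    (hab : a ≠ b) :
    (IsConj a b ∧ IsConj a (a * b)) ∨
      (¬ IsConj a b ∧ ¬ IsConj a (a * b) ∧ ¬ IsConj b (a * b)) := by
  have habP : a * b ∈ P := P.mul_mem ha hb
  have hab1 : a * b ≠ 1 := by
    intro h
    apply hab
    have := klein_mul_self P hP hb
    calc a = a * (b * b) := by rw [this, mul_one]
      _ = (a * b) * b := by rw [mul_assoc]
      _ = b := by rw [h, one_mul]
  have haab : a ≠ a * b := by
    intro h
    apply hb1
    have : a * 1 = a * b := by rw [mul_one]; exact h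
    exact (mul_left_cancel this).symm
  have hbab : b ≠ a * b := by
    intro h
    apply ha1
    have : 1 * b = a * b := by rw [one_mul]; exact h
    exact (mul_right_cancel this).symm
  have e1 : a * (a * b) = b := by rw [← mul_assoc, klein_mul_self P hP ha, one_mul]
  have e2 : b * (a * b) = a := by
    rw [klein_comm P hP ha hb, ← mul_assoc, klein_mul_self P hP hb, one_mul]
  by_cases h1 : IsConj a b
  · left; exact ⟨h1, klein_fusion P hP ha hb ha1 hb1 hab h1⟩
  · by_cases h2 : IsConj a (a * b)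
    · exfalso
      have := klein_fusion P hP ha habP ha1 hab1 haab h2
      rw [e1] at this
      exact h1 this
    · by_cases h3 : IsConj b (a * b)
      · exfalso
        have := klein_fusion P hP hb habP hb1 hab1 hbab h3
        rw [e2] at this
        exact h1 this.symm
      · right; exact ⟨h1, h2, h3⟩

theorem klein_invClassSet_eq {a b : G} (ha : a ∈ P) (hb : b ∈ P) (ha1 : a ≠ 1) (hb1 : b ≠ 1)
    (hab : a ≠ b) :
    invClassSet G = {ConjClasses.mk a, ConjClasses.mk b, ConjClasses.mk (a * b)} := by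
  have habP : a * b ∈ P := P.mul_mem ha hb
  have hord : ∀ x : G, x ∈ P → x ≠ 1 → orderOf x = 2 := by
    intro x hx hx1
    apply orderOf_eq_prime
    · rw [pow_two]; exact klein_mul_self P hP hx
    · exact hx1
  have hab1 : a * b ≠ 1 := by
    intro h
    apply hab
    have := klein_mul_self P hP hb
    calc a = a * (b * b) := by rw [this, mul_one]
      _ = (a * b) * b := by rw [mul_assoc]
      _ = b := by rw [h, one_mul]
  ext C
  simp only [invClassSet, Set.mem_ofPred_eq, Set.mem_insert_iff, Set.mem_singleton_iff]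
  constructor
  · rintro ⟨t, ht, rfl⟩
    rcases klein_invol_conj P hP ha hb ha1 hb1 hab t ht with h | h | h
    · left; exact ConjClasses.mk_eq_mk_iff_isConj.mpr h
    · right; left; exact ConjClasses.mk_eq_mk_iff_isConj.mpr h
    · right; right; exact ConjClasses.mk_eq_mk_iff_isConj.mpr h
  · rintro (rfl | rfl | rfl)
    · exact ⟨a, hord a ha ha1, rfl⟩
    · exact ⟨b, hord b hb hb1, rfl⟩
    · exact ⟨a * b, hord _ habP hab1, rfl⟩

/-- number of classes of involutions in the fused case -/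
theorem klein_card_one {a b : G} (ha : a ∈ P) (hb : b ∈ P) (ha1 : a ≠ 1) (hb1 : b ≠ 1)
    (hab : a ≠ b) (h1 : IsConj a b) (h2 : IsConj a (a * b)) : (invClassSet G).ncard = 1 := by
  rw [klein_invClassSet_eq P hP ha hb ha1 hb1 hab]
  have e1 : ConjClasses.mk b = ConjClasses.mk a := ConjClasses.mk_eq_mk_iff_isConj.mpr h1.symm
  have e2 : ConjClasses.mk (a * b) = ConjClasses.mk a := ConjClasses.mk_eq_mk_iff_isConj.mpr h2.symm
  rw [e1, e2]
  simp

theorem klein_card_three {a b : G} (ha : a ∈ P) (hb : b ∈ P) (ha1 : a ≠ 1) (hb1 : b ≠ 1)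
    (hab : a ≠ b) (h1 : ¬ IsConj a b) (h2 : ¬ IsConj a (a * b)) (h3 : ¬ IsConj b (a * b)) :
    (invClassSet G).ncard = 3 := by
  rw [klein_invClassSet_eq P hP ha hb ha1 hb1 hab]
  rw [Set.ncard_eq_three]
  exact ⟨_, _, _, fun h => h1 (ConjClasses.mk_eq_mk_iff_isConj.mp h),
    fun h => h2 (ConjClasses.mk_eq_mk_iff_isConj.mp h),
    fun h => h3 (ConjClasses.mk_eq_mk_iff_isConj.mp h), rfl⟩

/-- in the three-class case there is no fusion in `P` -/
theorem klein_no_fusion_of_card_three (h3 : (invClassSet G).ncard = 3) {x y : G} (hx : x ∈ P)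
    (hy : y ∈ P) (hx1 : x ≠ 1) (hy1 : y ≠ 1) (hc : IsConj x y) : x = y := by
  by_contra hxy
  have h1 := klein_card_one P hP hx hy hx1 hy1 hxy hc (klein_fusion P hP hx hy hx1 hy1 hxy hc)
  omega

/-- three classes implies `N(P) ≤ C(P)` -/
theorem klein_normalizer_le_centralizer (h3 : (invClassSet G).ncard = 3) :
    normalizer (P : Set G) ≤ centralizer (P : Set G) := by
  intro n hn
  rw [mem_centralizer_iff]
  intro x hx
  have hx : x ∈ (P : Subgroup G) := hx
  by_cases hx1 : x = 1
  · rw [hx1]; simp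
  · have hyP : n * x * n⁻¹ ∈ (P : Subgroup G) := (mem_normalizer_iff.mp hn x).mp hx
    have hy1 : n * x * n⁻¹ ≠ 1 := by
      intro h
      apply hx1
      have := congrArg (fun t => n⁻¹ * t * n) h
      simpa [mul_assoc] using this
    have hc : IsConj x (n * x * n⁻¹) := isConj_iff.mpr ⟨n, rfl⟩
    have := klein_no_fusion_of_card_three P hP h3 hx hyP hx1 hy1 hc
    calc x * n = n * x * n⁻¹ * n := by rw [← this]
      _ = n * x := by simp

/-- a normal complement prevents fusion -/
theorem klein_no_fusion_of_complement (N : Subgroup G) [N.Normal]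
    (hN : Subgroup.IsComplement' N (P : Subgroup G)) {x y : G} (hx : x ∈ P)
    (hy : y ∈ P) (hc : IsConj x y) : x = y := by
  have : Fact (Nat.Prime 2) := ⟨Nat.prime_two⟩
  obtain ⟨c, hc'⟩ := isConj_iff.mp hc
  have hcard : Nat.card (G ⧸ N) = 2 ^ 2 := by
    have h1 := hN.card_mul
    have h2 := Subgroup.card_eq_card_quotient_mul_card_subgroup N
    have h4 : Nat.card (P : Subgroup G) = 4 := IsKleinFour.card_four
    have hNpos : 0 < Nat.card N := Nat.card_pos
    rw [← h1, h4, mul_comm] at h2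
    have := Nat.eq_of_mul_eq_mul_right hNpos h2
    omega
  have hcomm := IsPGroup.commutative_of_card_eq_prime_sq hcard
  have hmem : y * x⁻¹ ∈ N := by
    rw [← QuotientGroup.eq_one_iff, ← hc']
    simp only [QuotientGroup.mk_mul, QuotientGroup.mk_inv]
    rw [hcomm (↑c) (↑x)]
    simp
  have hmemP : y * x⁻¹ ∈ (P : Subgroup G) := P.mul_mem hy (P.inv_mem hx)
  have hbot : y * x⁻¹ ∈ N ⊓ (P : Subgroup G) := ⟨hmem, hmemP⟩
  rw [hN.disjoint.eq_bot, Subgroup.mem_bot] at hbot
  exact (mul_inv_eq_one.mp hbot).symm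

end

end Cfsg.Agent.Helper16
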