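import Mathlib
import Cfsg.Agent.Helper10.S2092.DefsP
import Cfsg.Agent.Helper27.S2092COMMPOS
import Cfsg.Agent.Helper27.S2092COMMNEG

set_option autoImplicit false
set_option linter.unusedSectionVars false
set_option linter.unusedVariables false

/-! S2092, part P (driver helper10), piece NORM: the rank one group of a simple root normalizes `Û_s`. -/

namespace Cfsg.Agent.S2092P

open scoped commutatorElement
open Matrix Cfsg.Agent.S3352P Cfsg.Agent.S2096P Cfsg.Agent.S2094P Cfsg.Agent.RGD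

variable {n : ℕ} {F : Type*} [Field F] {M : Type*} [Group M] {Ys : J n → J n → F → M}
  {Yl : J n → F → M} {π : M →* Matrix (J n) (J n) F}

namespace NORM

/-- conjugation by `z` maps `UhE s` into itself, if it does so on the generators -/
theorem conj_mem_of_gen {D : Datum M (RootB n)} {s : RootB n} {z : M}
    (hz : ∀ r : RootB n, D.Pos r → r ≠ s → r ≠ D.alt s → ∀ x ∈ D.U r, z * x * z⁻¹ ∈ D.UhE s)
    {y : M} (hy : y ∈ D.UhE s) : z * y * z⁻¹ ∈ D.UhE s := by
  unfold Datum.UhE at hy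
  induction hy using Subgroup.closure_induction with
  | mem x hx =>
    obtain ⟨r, hr, h1, h2, hx⟩ := hx
    exact hz r hr h1 h2 x hx
  | one =>
    rw [mul_one, mul_inv_cancel]
    exact one_mem _
  | mul x y _ _ hx hy =>
    have : z * (x * y) * z⁻¹ = (z * x * z⁻¹) * (z * y * z⁻¹) := by group
    rw [this]
    exact mul_mem hx hy
  | inv x _ hx =>
    have : z * x⁻¹ * z⁻¹ = (z * x * z⁻¹)⁻¹ := by group
    rw [this]
    exact inv_mem hx

end NORM

open NORM

/-- NORM -/
theorem GP_conj_mem_UhE (hY : CRel Ys Yl) {s : RootB n} (hs : s.1.Simple) {g : M}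
    (hg : g ∈ GP (datumC Ys Yl) s) {y : M} (hy : y ∈ (datumC Ys Yl).UhE s) :
    g * y * g⁻¹ ∈ (datumC Ys Yl).UhE s := by
  have key : ∀ g ∈ GP (datumC Ys Yl) s, (∀ y ∈ (datumC Ys Yl).UhE s,
      g * y * g⁻¹ ∈ (datumC Ys Yl).UhE s) ∧ ∀ y ∈ (datumC Ys Yl).UhE s,
      g⁻¹ * y * g ∈ (datumC Ys Yl).UhE s := by
    intro g hg
    unfold GP at hg
    induction hg using Subgroup.closure_induction with
    | mem z hz =>
      have hgen : ∀ z : M, (z ∈ (datumC Ys Yl).U s ∨ z ∈ (datumC Ys Yl).U ((datumC Ys Yl).neg s)) →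
          ∀ y ∈ (datumC Ys Yl).UhE s, z * y * z⁻¹ ∈ (datumC Ys Yl).UhE s := by
        intro z hz y hy
        apply conj_mem_of_gen _ hy
        intro r hr h1 h2 x hx
        rcases hz with hz | hz
        · exact comm_mem_UhE_pos hY hs hz hr h1 h2 hx
        · exact comm_mem_UhE_neg hY hs hz hr h1 h2 hx
      have hz' : z ∈ (datumC Ys Yl).U s ∨ z ∈ (datumC Ys Yl).U ((datumC Ys Yl).neg s) := hz
      have hzi : z⁻¹ ∈ (datumC Ys Yl).U s ∨ z⁻¹ ∈ (datumC Ys Yl).U ((datumC Ys Yl).neg s) := by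
        rcases hz' with h | h
        · exact Or.inl (inv_mem h)
        · exact Or.inr (inv_mem h)
      refine ⟨hgen z hz', fun y hy => ?_⟩
      have := hgen z⁻¹ hzi y hy
      rwa [inv_inv] at this
    | one =>
      refine ⟨fun y hy => ?_, fun y hy => ?_⟩ <;> simpa using hy
    | mul a b _ _ ha hb =>
      refine ⟨fun y hy => ?_, fun y hy => ?_⟩
      · have : a * b * y * (a * b)⁻¹ = a * (b * y * b⁻¹) * a⁻¹ := by group
        rw [this]
        exact ha.1 _ (hb.1 y hy)
      · have : (a * b)⁻¹ * y * (a * b) = b⁻¹ * (a⁻¹ * y * a) * b := by group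
        rw [this]
        exact hb.2 _ (ha.2 y hy)
    | inv a _ ha =>
      refine ⟨fun y hy => ?_, fun y hy => ?_⟩
      · rw [inv_inv]
        exact ha.2 y hy
      · rw [inv_inv]
        exact ha.1 y hy
  exact (key g hg).1 y hy

end Cfsg.Agent.S2092P
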