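import Mathlib
import Cfsg.Agent.Helper10.S2092.DefsP
import Cfsg.Agent.Helper22.S2094RBCOMB
import Cfsg.Agent.Helper23.S2092PBASIC
import Cfsg.Agent.Helper29.S2092RELABEL
import Cfsg.Agent.Helper29.S2092MODELW
import Cfsg.Agent.Helper13.S2092MCONJ
import Cfsg.Agent.Helper18.S2092INJPOS
import Cfsg.Agent.Helper16.S2092NORM

set_option autoImplicit false
set_option linter.unusedSectionVars false
set_option linter.unusedVariables false

/-! S2092, part P (driver helper10), piece SOFTC: a Weyl element of a simple root `s` conjugates the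
root elements of a root `≠ ±s` as the reflection does (soft argument: injectivity on `Û`). -/

namespace Cfsg.Agent.S2092P

open scoped commutatorElement
open Matrix Cfsg.Agent.S3352P Cfsg.Agent.S2096P Cfsg.Agent.S2094P Cfsg.Agent.RGD

variable {n : ℕ} {F : Type*} [Field F] {M : Type*} [Group M] {Ys : J n → J n → F → M}
  {Yl : J n → F → M} {π : M →* Matrix (J n) (J n) F}

namespace SOFTC

theorem UhE_le_Uh (D : Datum M (RootB n)) (s : RootB n) : D.UhE s ≤ D.Uh := by
  unfold Datum.UhE Datum.Uh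
  apply Subgroup.closure_mono
  rintro g ⟨r, hr, -, -, hg⟩
  exact ⟨r, hr, hg⟩

/-- the soft argument -/
theorem soft [Finite F] (hn : 2 ≤ n) (h : PHyp Ys Yl π) {s : RootB n} (hs : s.1.Simple) {g : M}
    (hg : g ∈ GP (datumC Ys Yl) s) {x y : M} (hx : x ∈ (datumC Ys Yl).UhE s)
    (hy : y ∈ (datumC Ys Yl).Uh) (hπ : π g * π x = π y * π g) : g * x * g⁻¹ = y := by
  have h1 : g * x * g⁻¹ ∈ (datumC Ys Yl).Uh :=
    UhE_le_Uh _ s (GP_conj_mem_UhE h.rel hs hg hx)
  have h2 : (g * x * g⁻¹)⁻¹ * y ∈ (datumC Ys Yl).Uh := mul_mem (inv_mem h1) hy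
  have h3 : π ((g * x * g⁻¹)⁻¹ * y) = 1 := by
    have e : π (g * x * g⁻¹) = π y := by
      rw [map_mul, map_mul, hπ, mul_assoc, ← map_mul, mul_inv_cancel, map_one, mul_one]
    rw [map_mul, ← e, ← map_mul, inv_mul_cancel, map_one]
  have := eq_one_of_mem_Uh_c hn h h2 h3
  exact (inv_mul_eq_one.1 this)

theorem pi_xr (h : PHyp Ys Yl π) {r : RB n} (hr : r.Valid) (u : F) :
    π (xr Ys Yl r u) = xrm r u := by
  cases r with
  | lg a b => exact h.pis a b hr u
  | sh a => exact h.pil a u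

theorem xr_ngs (r : RB n) (u : F) : xr (ngs Ys) (ngl Yl) (r.map ng) u = xr Ys Yl r u := by
  cases r with
  | lg a b => simp only [RB.map, xr, ngs, ng_ng]
  | sh a => simp only [RB.map, xr, ngl, ng_ng]

theorem ng_ngEquivariant : NgEquivariant (ng : J n → J n) := fun _ => rfl

theorem pos_map_ng {r : RB n} (hr : r.Valid) : (r.map ng).Pos ↔ ¬ r.Pos := by
  rw [← RB.pos_neg' hr]
  cases r with
  | lg a b =>
    show rk (ng a) < rk (ng b) ↔ rk b < rk a
    have ha := POSCOMB.rk_ng' a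
    have hb := POSCOMB.rk_ng' b
    have ha' := POSCOMB.rk_lt a
    have hb' := POSCOMB.rk_lt b
    omega
  | sh a =>
    show (∃ i, ng a = Sum.inl i) ↔ ∃ i, ng a = Sum.inl i
    exact Iff.rfl

theorem valid_map_ng {r : RB n} (hr : r.Valid) : (r.map ng).Valid := by
  cases r with
  | lg a b =>
    obtain ⟨h1, h2⟩ := hr
    exact ⟨fun e => h1 (ng_injective e), fun e => h2 (by rw [ng_ng] at e; rw [← e, ng_ng])⟩
  | sh a => trivial

theorem map_ng_eq (r : RB n) : r.map ng = r.neg.alt := by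
  cases r with
  | lg a b => rfl
  | sh a => rfl

theorem GP_ngs (hY : CRel Ys Yl) (s : RootB n) :
    GP (datumC (ngs Ys) (ngl Yl)) s = GP (datumC Ys Yl) s := by
  unfold GP
  rw [U_ngs hY, U_ngs hY]
  have e : (datumC Ys Yl).neg ((datumC (ngs Ys) (ngl Yl)).neg s) = s :=
    Subtype.ext (RB.neg_neg' s.1)
  rw [e, Set.union_comm]

end SOFTC

open SOFTC

/-- SOFTC -/
theorem nS_conj_ne [Finite F] (hn : 2 ≤ n) (h : PHyp Ys Yl π) {s : RootB n} (hs : s.1.Simple) {m : M}
    (hm : m ∈ (datumC Ys Yl).nS s) {r : RootB n} (h1 : r ≠ s) (h2 : r ≠ (datumC Ys Yl).alt s)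
    (h3 : r ≠ (datumC Ys Yl).neg s) (h4 : r ≠ (datumC Ys Yl).alt ((datumC Ys Yl).neg s)) :
    ∃ η : F, η ≠ 0 ∧ ∀ u : F, m * xr Ys Yl r.1 u * m⁻¹ = xr Ys Yl (r.1.map s.1.perm) (η * u) := by
  obtain ⟨t, ht, hπm⟩ := pi_nS h s hm
  obtain ⟨η, hη, hconj⟩ := mW_conj (s := s.1) (r := r.1) s.2 r.2 ht
  refine ⟨η, hη, fun u => ?_⟩
  have hvr' : (r.1.map s.1.perm).Valid := RB.valid_map s.1.perm_ngEquivariant r.2
  -- `m` lies in the rank one group
  have hmGP : m ∈ GP (datumC Ys Yl) s := by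
    obtain ⟨τ, hτ, rfl⟩ := (mem_nS_iff h.rel s).1 hm
    have e1 : xr Ys Yl s.1 τ ∈ GP (datumC Ys Yl) s :=
      Subgroup.subset_closure (Or.inl ((mem_U_iff h.rel s).2 ⟨τ, rfl⟩))
    have e2 : xr Ys Yl s.1.neg (-τ⁻¹) ∈ GP (datumC Ys Yl) s :=
      Subgroup.subset_closure (Or.inr ((mem_U_iff h.rel ((datumC Ys Yl).neg s)).2 ⟨-τ⁻¹, rfl⟩))
    exact mul_mem (mul_mem e1 e2) e1
  -- the matrix identity
  have hmat : π m * π (xr Ys Yl r.1 u) = π (xr Ys Yl (r.1.map s.1.perm) (η * u)) * π m := by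
    rw [hπm, pi_xr h r.2, pi_xr h hvr']
    exact hconj u
  by_cases hp : r.1.Pos
  · -- positive roots
    apply soft hn h hs hmGP _ _ hmat
    · exact Subgroup.subset_closure ⟨r, hp, h1, h2, (mem_U_iff h.rel r).2 ⟨u, rfl⟩⟩
    · have hp' : (r.1.map s.1.perm).Pos :=
        RB.pos_map_perm hs r.2 hp (fun e => h1 (Subtype.ext e)) (fun e => h2 (Subtype.ext e))
      exact Subgroup.subset_closure ⟨⟨_, hvr'⟩, hp', (mem_U_iff h.rel ⟨_, hvr'⟩).2 ⟨η * u, rfl⟩⟩
  · -- negative roots: the relabelled family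
    have h' : PHyp (ngs Ys) (ngl Yl) ((ngmHom n F).comp π) := PHyp.ng h
    have hmGP' : m ∈ GP (datumC (ngs Ys) (ngl Yl)) s := by
      rw [GP_ngs h.rel]
      exact hmGP
    have hq : (r.1.map ng).Valid := valid_map_ng r.2
    have hq' : ((r.1.map s.1.perm).map ng).Valid := valid_map_ng hvr'
    have hx : xr (ngs Ys) (ngl Yl) (r.1.map ng) u ∈ (datumC (ngs Ys) (ngl Yl)).UhE s := by
      refine Subgroup.subset_closure ⟨⟨_, hq⟩, (pos_map_ng r.2).2 hp, ?_, ?_,
        (mem_U_iff h'.rel ⟨_, hq⟩).2 ⟨u, rfl⟩⟩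
      · intro e
        have e' : r.1.neg.alt = s.1 := by
          rw [← map_ng_eq]
          exact congrArg Subtype.val e
        apply h4
        apply Subtype.ext
        show r.1 = s.1.neg.alt
        rw [← e', RB.neg_alt', RB.neg_neg', RB.alt_alt']
      · intro e
        have e' : r.1.neg.alt = s.1.alt := by
          rw [← map_ng_eq]
          exact congrArg Subtype.val e
        apply h3
        apply Subtype.ext
        show r.1 = s.1.neg
        have e'' := congrArg RB.alt e'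
        rw [RB.alt_alt', RB.alt_alt'] at e''
        rw [← e'', RB.neg_neg']
    have hnp : ¬ (r.1.map s.1.perm).Pos := by
      rw [← RB.pos_neg' hvr', ← RB.map_neg s.1.perm_ngEquivariant]
      apply RB.pos_map_perm hs (RB.valid_neg r.2) ((RB.pos_neg' r.2).2 hp)
      · intro e
        apply h3
        apply Subtype.ext
        show r.1 = s.1.neg
        rw [← e, RB.neg_neg']
      · intro e
        apply h4
        apply Subtype.ext
        show r.1 = s.1.neg.alt
        rw [← RB.neg_alt', ← e, RB.neg_neg']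
    have hy : xr (ngs Ys) (ngl Yl) ((r.1.map s.1.perm).map ng) (η * u) ∈
        (datumC (ngs Ys) (ngl Yl)).Uh :=
      Subgroup.subset_closure ⟨⟨_, hq'⟩, (pos_map_ng hvr').2 hnp,
        (mem_U_iff h'.rel ⟨_, hq'⟩).2 ⟨η * u, rfl⟩⟩
    have hmat' : ((ngmHom n F).comp π) m * ((ngmHom n F).comp π) (xr (ngs Ys) (ngl Yl) (r.1.map ng) u) =
        ((ngmHom n F).comp π) (xr (ngs Ys) (ngl Yl) ((r.1.map s.1.perm).map ng) (η * u)) *
          ((ngmHom n F).comp π) m := by
      rw [xr_ngs, xr_ngs]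
      simp only [MonoidHom.comp_apply]
      rw [← map_mul (ngmHom n F), ← map_mul (ngmHom n F), hmat]
    have := soft hn h' hs hmGP' hx hy hmat'
    rw [xr_ngs, xr_ngs] at this
    exact this

end Cfsg.Agent.S2092P
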