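import Mathlib
import Cfsg.Agent.Helper10.S2092.DefsT
import Cfsg.Agent.Helper2.S2400.MainB2
import Cfsg.Agent.Helper22.S2092B2CS
import Cfsg.Agent.Helper20.S2092LIFTB2

set_option autoImplicit false
set_option linter.unusedSectionVars false
set_option linter.unusedVariables false
set_option linter.unusedSimpArgs false

/-! S2092, part T (driver helper10), piece CIRC3: the relations on the circle for the lifts, `|F| = 3`. -/

namespace Cfsg.Agent.S2092P

open scoped commutatorElement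
open Cfsg.Agent.S3352P Cfsg.Agent.S2096P Cfsg.Agent.S2400P
open Cfsg.Agent.S2086P (CL cl)

variable {n : ℕ} {F : Type*} [Field F] {G : Type*} [Group G] {E : Type*} [Group E]

namespace CIRC3

theorem isRoot_ll {i j : Fin n} (hij : i ≠ j) : IsRoot (Sum.inl i : J n) (Sum.inl j) :=
  ⟨fun h => hij (Sum.inl_injective h), fun h => by simp at h⟩

theorem isRoot_lr {i j : Fin n} (hij : i ≠ j) : IsRoot (Sum.inl i : J n) (Sum.inr j) :=
  ⟨fun h => by simp at h, fun h => by
    simp only [ng_inr] at h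
    exact hij (Sum.inl_injective h)⟩

theorem isRoot_rl {i j : Fin n} (hij : i ≠ j) : IsRoot (Sum.inr i : J n) (Sum.inl j) :=
  ⟨fun h => by simp at h, fun h => by
    simp only [ng_inl] at h
    exact hij (Sum.inr_injective h)⟩

theorem isRoot_rr {i j : Fin n} (hij : i ≠ j) : IsRoot (Sum.inr i : J n) (Sum.inr j) :=
  ⟨fun h => hij (Sum.inr_injective h), fun h => by simp at h⟩

end CIRC3

open CIRC3

/-- CIRC3 -/
theorem circ_of_eLift_three [Fintype F] (h3 : Fintype.card F = 3) (S : CnT n F G) (ψ : E →* G)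
    (hψ : Function.Surjective ψ) (hc : ψ.ker ≤ Subgroup.center E) {Ys : J n → J n → F → E}
    {Yl : J n → F → E} (h : ELift S ψ Ys Yl)
    (horth : ∀ a b, IsRoot a b → ∀ s t : F, ⁅Ys a b s, Ys b (ng a) t⁆ = Yl a (2 * s * t))
    (i j : Fin n) (hij : i ≠ j) : Circ (cE1 F) (cE2 F) (cE3 F) (cX Ys Yl i j) := by

  obtain ⟨B, hBX, hBH, hB1, hB2, hB3⟩ := exists_b2c_of_cnT S i j hij
  have hY : Lift B ψ (cX Ys Yl i j) := lift_of_eLift S ψ h i j hij B hBX hBH
  have h2 : (2 : F) ≠ 0 := two_ne_zero_of_card_three h3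
  have hv0 : (-1 : F) ≠ 0 := neg_ne_zero.2 one_ne_zero
  have hv1 : (-1 : F) ≠ 1 := by
    intro h'
    apply h2
    have : (2 : F) = 1 - (-1) := by ring
    rw [this, h']; ring
  have h45 := clr_45 B ψ hψ hc hv0 hv1
  have hsame := clr_same_of_card_three B ψ hψ hc h3
  have hLL := clr_LL_of_odd B ψ hψ hc h2 hsame h45
  -- the flips
  have hji : j ≠ i := fun h' => hij h'.symm
  have F1 : ∀ u : F, Ys (Sum.inl i) (Sum.inr j) u = Ys (Sum.inl j) (Sum.inr i) u := by
    intro u
    have := h.flip (Sum.inl j) (Sum.inr i) (isRoot_lr hji) u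
    simp only [ng_inr, ng_inl, sgF_inl, sgF_inr] at this
    rw [this]; congr 1; ring
  have F2 : ∀ u : F, Ys (Sum.inr j) (Sum.inr i) u = Ys (Sum.inl i) (Sum.inl j) (-u) := by
    intro u
    have := h.flip (Sum.inl i) (Sum.inl j) (isRoot_ll hij) u
    simp only [ng_inr, ng_inl, sgF_inl, sgF_inr] at this
    rw [this]; congr 1; ring
  have F3 : ∀ u : F, Ys (Sum.inr i) (Sum.inr j) u = Ys (Sum.inl j) (Sum.inl i) (-u) := by
    intro u
    have := h.flip (Sum.inl j) (Sum.inl i) (isRoot_ll hji) u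
    simp only [ng_inr, ng_inl, sgF_inl, sgF_inr] at this
    rw [this]; congr 1; ring
  have F4 : ∀ u : F, Ys (Sum.inr j) (Sum.inl i) u = Ys (Sum.inr i) (Sum.inl j) u := by
    intro u
    have := h.flip (Sum.inr i) (Sum.inl j) (isRoot_rl hij) u
    simp only [ng_inr, ng_inl, sgF_inl, sgF_inr] at this
    rw [this]; congr 1; ring
  have hII : ∀ k, IsS k → ∀ s : ZMod 8, s = 1 ∨ s = -1 → ∀ t u,
      ⁅cX Ys Yl i j k t, cX Ys Yl i j (k + 2 * s) u⁆ =
        cX Ys Yl i j (k + s) (2 * B.e3 k s * t * u) := by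
    intro k hk s hs t u
    rw [hB3]
    have hk4 : ∀ k : ZMod 8, IsS k → k = 0 ∨ k = 2 ∨ k = 4 ∨ k = 6 := by decide
    have e01 : cE3 F 0 1 = 1 := by
      unfold cE3; have : E3 0 1 = 1 := by decide
      rw [this]; simp
    have e07 : cE3 F 0 (-1) = 1 := by
      unfold cE3; have : E3 0 (-1) = 1 := by decide
      rw [this]; simp
    have e21 : cE3 F 2 1 = 1 := by
      unfold cE3; have : E3 2 1 = 1 := by decide
      rw [this]; simp
    have e27 : cE3 F 2 (-1) = -1 := by
      unfold cE3; have : E3 2 (-1) = -1 := by decide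
      rw [this]; simp
    have e41 : cE3 F 4 1 = -1 := by
      unfold cE3; have : E3 4 1 = -1 := by decide
      rw [this]; simp
    have e47 : cE3 F 4 (-1) = -1 := by
      unfold cE3; have : E3 4 (-1) = -1 := by decide
      rw [this]; simp
    have e61 : cE3 F 6 1 = -1 := by
      unfold cE3; have : E3 6 1 = -1 := by decide
      rw [this]; simp
    have e67 : cE3 F 6 (-1) = 1 := by
      unfold cE3; have : E3 6 (-1) = 1 := by decide
      rw [this]; simp
    rcases hk4 k hk with rfl | rfl | rfl | rfl <;> rcases hs with rfl | rfl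
    · -- (0, 1)
      show ⁅Ys (Sum.inl i) (Sum.inl j) t, Ys (Sum.inl i) (Sum.inr j) u⁆ =
        Yl (Sum.inl i) (2 * cE3 F 0 1 * t * u)
      rw [e01, F1]
      have := horth _ _ (isRoot_ll hij) t u
      rw [ng_inl] at this
      rw [this]
      congr 1; ring
    · -- (0, -1)
      show ⁅Ys (Sum.inl i) (Sum.inl j) t, Ys (Sum.inr i) (Sum.inl j) u⁆ =
        Yl (Sum.inr j) (-(2 * cE3 F 0 (-1) * t * u))
      have hf : Ys (Sum.inl i) (Sum.inl j) t = Ys (Sum.inr j) (Sum.inr i) (-t) := by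
        rw [F2, neg_neg]
      rw [e07, hf]
      have := horth _ _ (isRoot_rr hji) (-t) u
      rw [ng_inr] at this
      rw [this]
      congr 1; ring
    · -- (2, 1)
      show ⁅Ys (Sum.inl i) (Sum.inr j) t, Ys (Sum.inl j) (Sum.inl i) u⁆ =
        Yl (Sum.inl j) (-(2 * cE3 F 2 1 * t * u))
      have hf : Ys (Sum.inl j) (Sum.inl i) u = Ys (Sum.inr i) (Sum.inr j) (-u) := by
        rw [F3, neg_neg]
      rw [e21, F1, hf]
      have := horth _ _ (isRoot_lr hji) t (-u)
      rw [ng_inl] at this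
      rw [this]
      congr 1; ring
    · -- (2, -1)
      show ⁅Ys (Sum.inl i) (Sum.inr j) t, Ys (Sum.inl i) (Sum.inl j) u⁆ =
        Yl (Sum.inl i) (2 * cE3 F 2 (-1) * t * u)
      have hf : Ys (Sum.inl i) (Sum.inl j) u = Ys (Sum.inr j) (Sum.inr i) (-u) := by
        rw [F2, neg_neg]
      rw [e27, hf]
      have := horth _ _ (isRoot_lr hij) t (-u)
      rw [ng_inl] at this
      rw [this]
      congr 1; ring
    · -- (4, 1)
      show ⁅Ys (Sum.inl j) (Sum.inl i) t, Ys (Sum.inr i) (Sum.inl j) u⁆ =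
        Yl (Sum.inr i) (2 * cE3 F 4 1 * t * u)
      have hf : Ys (Sum.inl j) (Sum.inl i) t = Ys (Sum.inr i) (Sum.inr j) (-t) := by
        rw [F3, neg_neg]
      rw [e41, hf, ← F4]
      have := horth _ _ (isRoot_rr hij) (-t) u
      rw [ng_inr] at this
      rw [this]
      congr 1; ring
    · -- (4, -1)
      show ⁅Ys (Sum.inl j) (Sum.inl i) t, Ys (Sum.inl i) (Sum.inr j) u⁆ =
        Yl (Sum.inl j) (-(2 * cE3 F 4 (-1) * t * u))
      rw [e47]
      have := horth _ _ (isRoot_ll hji) t u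
      rw [ng_inl] at this
      rw [this]
      congr 1; ring
    · -- (6, 1)
      show ⁅Ys (Sum.inr i) (Sum.inl j) t, Ys (Sum.inl i) (Sum.inl j) u⁆ =
        Yl (Sum.inr j) (-(2 * cE3 F 6 1 * t * u))
      rw [e61, ← F4]
      have := horth _ _ (isRoot_rl hji) t u
      rw [ng_inr] at this
      rw [this]
      congr 1; ring
    · -- (6, -1)
      show ⁅Ys (Sum.inr i) (Sum.inl j) t, Ys (Sum.inl j) (Sum.inl i) u⁆ =
        Yl (Sum.inr i) (2 * cE3 F 6 (-1) * t * u)
      rw [e67]
      have := horth _ _ (isRoot_rl hij) t u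
      rw [ng_inr] at this
      rw [this]
      congr 1; ring
  have hI := relI_of_relII B ψ hψ hc hv0 hv1 hY h45 hII
  have := circ_of_lift B ψ hY h45 hLL hII hI
  rw [hB1, hB2, hB3] at this
  exact this

end Cfsg.Agent.S2092P
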