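import Mathlib
import Cfsg.Agent.Helper10.S2092.DefsT
import Cfsg.Agent.Helper2.S2400.MainB2
import Cfsg.Agent.Helper22.S2092CIRC2REL
import Cfsg.Agent.Helper18.S2092ORTHBI
import Cfsg.Agent.Helper20.S2092ORTH3

set_option autoImplicit false
set_option linter.unusedSectionVars false
set_option linter.unusedVariables false

/-! S2092, part T (driver helper10), piece ELIFT3: for `|F| = 3` the commutators `qYl` complete
equivariant lifts of the short root elements to equivariant lifts of all root elements. -/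

namespace Cfsg.Agent.S2092P

open scoped commutatorElement
open Cfsg.Agent.S3352P Cfsg.Agent.S2096P Cfsg.Agent.S2400P
open Cfsg.Agent.S2086P (CL cl)

variable {n : ℕ} {F : Type*} [Field F] {G : Type*} [Group G] {E : Type*} [Group E]

namespace ELIFT3

theorem conj_comm (e x y : E) : e * ⁅x, y⁆ * e⁻¹ = ⁅e * x * e⁻¹, e * y * e⁻¹⁆ := by
  simp only [commutatorElement_def]
  group

end ELIFT3

/-- ELIFT3 -/
theorem eLift_of_three [Fintype F] (h3 : Fintype.card F = 3) (hn : 2 ≤ n) (S : CnT n F G)
    (ψ : E →* G) (hψ : Function.Surjective ψ) (hc : ψ.ker ≤ Subgroup.center E)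
    {Ys : J n → J n → F → E} (h : ELiftS S ψ Ys) : ELift S ψ Ys (qYl hn Ys) := by
  have h2 : (2 : F) ≠ 0 := two_ne_zero_of_card_three h3
  have hF : 3 ≤ Fintype.card F := by omega
  have hroot : ∀ a : J n, IsRoot a (pt hn a) := fun a =>
    isRoot_iff_ab.2 (fun h' => ab_pt_ne hn a h'.symm)
  have hroot' : ∀ a : J n, IsRoot (pt hn a) (ng a) := fun a =>
    isRoot_iff_ab.2 (by rw [ab_ng]; exact ab_pt_ne hn a)
  have hrel : CRel S.Xs S.Xl := cRel_of_cRelC hn S.rel
  refine ⟨h.maps, ?_, h.adds, ?_, h.conjs, ?_, h.flip⟩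
  · -- mapl
    intro a t
    unfold qYl
    rw [map_commutatorElement, h.maps _ _ (hroot a), h.maps _ _ (hroot' a), hrel.orthC _ _ (hroot a)]
    congr 1
    field_simp
  · -- addl
    intro a s t
    unfold qYl
    have := (orth_biadd hF S ψ hψ hc h a (pt hn a) (hroot a)).1 (s / 2) (t / 2) 1
    rw [← this]
    congr 2
    ring
  · -- conjl
    intro e d he a t
    unfold qYl
    rw [ELIFT3.conj_comm, h.conjs e d he _ _ (hroot a), h.conjs e d he _ _ (hroot' a),
      orth_of_eLiftS h3 hn S ψ hψ hc h a (pt hn a) (hroot a)]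
    unfold qYl
    congr 2
    rw [chi_ng]
    have hp := chi_ne_zero d (pt hn a) (F := F)
    have ha := chi_ne_zero d a (F := F)
    field_simp

end Cfsg.Agent.S2092P
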