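import Mathlib
import Cfsg.Agent.Helper10.S2548Defs
import Cfsg.Agent.Helper10.MatBNC
import Cfsg.Agent.Helper10.S2548PRES
import Cfsg.Agent.Helper10.S2548ROOTOM
import Cfsg.Agent.Helper17.S2548SUPP
import Cfsg.Agent.Helper20.S2548N0
import Cfsg.Agent.Helper20.S2548N0LOW

set_option autoImplicit false
open scoped Matrix

/-! S2548 piece RTLE (helper16): the root elements lie in `⟨B ∩ Ω, s_j⟩`. -/

namespace Cfsg.Agent.S2548P

open Cfsg.Agent.MatBN
open Cfsg.Agent.S2546P (E)

variable {K : Type*} [Field K] {n : ℕ}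

namespace RTLE

theorem rho_eq_mat (b : OmJ K n) : rho n b = mat n (b : OJ K n) := rfl

theorem Rt_le [Fintype K] (hn : n % 2 = 0) (hn4 : 4 ≤ n) (hne : ¬ (n = 4 ∧ Fintype.card K = 2))
    (s : Fin (n / 2) → OmJ K n) (hs : ∀ j, rho n (s j) = sMat n j) (g : OmJ K n)
    (hg : (g : OJ K n) ∈ Rt (K := K) n) :
    g ∈ Subgroup.closure ({b : OmJ K n | IsTri (rho n b)} ∪ Set.range s) := by
  set C : Subgroup (OmJ K n) :=
    Subgroup.closure ({b : OmJ K n | IsTri (rho n b)} ∪ Set.range s) with hC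
  obtain ⟨n₀, hn₀, hmon⟩ := N0.exists_n0 hn hn4 s hs
  have hn₀C : n₀ ∈ C :=
    Subgroup.closure_mono (Set.subset_union_right) hn₀
  have hle : Rt (K := K) n ≤ C.map (OmJ K n).subtype := by
    unfold Rt
    rw [Subgroup.closure_le]
    rintro x ⟨i, k, hik, t, ht⟩
    obtain ⟨g', hg'⟩ := ROOTOM.exists_xR_mem_Om hn hn4 hne hik t
    have hx : x = (g' : OJ K n) := by
      apply PRES.mat_injective
      rw [ht, ← rho_eq_mat, hg']
    rw [hx]
    refine ⟨g', ?_, rfl⟩
    rcases Nat.lt_or_ge i k with hlt | hge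
    · apply Subgroup.subset_closure
      left
      show IsTri (rho n g')
      rw [hg']
      exact (SUPP.isUni_xR hn hik hlt t).1
    · have hki : k < i := lt_of_le_of_ne hge (Ne.symm hik.2.2.1)
      have hb : n₀ * g' * n₀⁻¹ ∈ C := by
        apply Subgroup.subset_closure
        left
        show IsTri (rho n (n₀ * g' * n₀⁻¹))
        rw [map_mul, map_mul, hg']
        have := N0LOW.n0_low hn hn4 (n₀ : OJ K n) hmon hik hki t
        exact this
      have : g' = n₀⁻¹ * (n₀ * g' * n₀⁻¹) * n₀ := by group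
      rw [this]
      exact C.mul_mem (C.mul_mem (C.inv_mem hn₀C) hb) hn₀C
  obtain ⟨c, hc, hcg⟩ := hle hg
  have : c = g := Subtype.ext hcg
  rw [← this]
  exact hc

end RTLE

end Cfsg.Agent.S2548P
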