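import Mathlib
import Cfsg.Agent.Helper10.S2548Defs
import Cfsg.Agent.Helper10.MatBNC
import Cfsg.Agent.Helper23.S2546MONALG
import Cfsg.Agent.Helper10.S2548MONCONJ
import Cfsg.Agent.Helper18.S2548MONREV
import Cfsg.Agent.Helper18.S2548RMAT

set_option autoImplicit false
open scoped Matrix

/-! S2548 piece MONNORM (helper16): monomial isometries (in particular `Mid`) normalise `Rt`. -/

namespace Cfsg.Agent.S2548P

open Cfsg.Agent.MatBN
open Cfsg.Agent.S2546P (E)

variable {K : Type*} [Field K] {n : ℕ}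

namespace MONNORM

theorem mat_inv_mul (h : OJ K n) : mat n h * mat n h⁻¹ = 1 := by
  rw [← map_mul, mul_inv_cancel, map_one]

/-- monomial isometries normalise `Rt` -/
theorem mon_normalizes (hn : n % 2 = 0) (h : OJ K n) (π : Equiv.Perm (Fin n)) (hh : Mon (mat n h) π)
    (g : OJ K n) (hg : g ∈ Rt (K := K) n) : h * g * h⁻¹ ∈ Rt (K := K) n := by
  unfold Rt at hg ⊢
  induction hg using Subgroup.closure_induction with
  | mem x hx =>
    obtain ⟨i, k, hik, t, ht⟩ := hx
    have hi := hik.1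
    have hk := hik.2.1
    obtain ⟨t', -, ht'⟩ := MONCONJ.mon_conj hn h π hh ⟨i, hi⟩ ⟨k, hk⟩ hik t
    apply Subgroup.subset_closure
    refine ⟨(π ⟨i, hi⟩).val, (π ⟨k, hk⟩).val, MONREV.mon_isRt hn h π hh ⟨i, hi⟩ ⟨k, hk⟩ hik, t', ?_⟩
    rw [map_mul, map_mul, ht]
    exact ht'
  | one =>
    rw [mul_one, mul_inv_cancel]
    exact Subgroup.one_mem _
  | mul x y _ _ hx hy =>
    have : h * (x * y) * h⁻¹ = (h * x * h⁻¹) * (h * y * h⁻¹) := by group
    rw [this]
    exact Subgroup.mul_mem _ hx hy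
  | inv x _ hx =>
    have : h * x⁻¹ * h⁻¹ = (h * x * h⁻¹)⁻¹ := by group
    rw [this]
    exact Subgroup.inv_mem _ hx

theorem Mid_normalizes (hn : n % 2 = 0) (hn2 : 2 ≤ n) (h : OJ K n) (hh : h ∈ Mid (K := K) n)
    (g : OJ K n) (hg : g ∈ Rt (K := K) n) : h * g * h⁻¹ ∈ Rt (K := K) n := by
  have key : ∀ h : OJ K n, h ∈ Mid (K := K) n → ∀ g : OJ K n, g ∈ Rt (K := K) n →
      h * g * h⁻¹ ∈ Rt (K := K) n ∧ h⁻¹ * g * h ∈ Rt (K := K) n := by
    intro h hh
    unfold Mid at hh
    induction hh using Subgroup.closure_induction with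
    | mem x hx =>
      intro g hg
      have hmon : ∃ π : Equiv.Perm (Fin n), Mon (mat n x) π := by
        rcases hx with hx | hx
        · exact ⟨1, IsDg.mon hx (mat_inv_mul x)⟩
        · refine ⟨midSwap n, ?_⟩
          have hx' : mat n x = rMat n := hx
          rw [hx']
          exact RMAT.mon_rMat hn hn2
      obtain ⟨π, hπ⟩ := hmon
      refine ⟨mon_normalizes hn x π hπ g hg, ?_⟩
      have hπ' : Mon (mat n x⁻¹) π⁻¹ := Mon.of_mul_eq_one hπ (mat_inv_mul x)
      have := mon_normalizes hn x⁻¹ π⁻¹ hπ' g hg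
      rwa [inv_inv] at this
    | one =>
      intro g hg
      simp only [inv_one, mul_one, one_mul]
      exact ⟨hg, hg⟩
    | mul x y _ _ hx hy =>
      intro g hg
      constructor
      · have : x * y * g * (x * y)⁻¹ = x * (y * g * y⁻¹) * x⁻¹ := by group
        rw [this]
        exact (hx _ (hy g hg).1).1
      · have : (x * y)⁻¹ * g * (x * y) = y⁻¹ * (x⁻¹ * g * x) * y := by group
        rw [this]
        exact (hy _ (hx g hg).2).2
    | inv x _ hx =>
      intro g hg
      constructor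
      · have := (hx g hg).2
        rwa [inv_inv]
      · have := (hx g hg).1
        rwa [inv_inv]
  exact (key h hh g hg).1

end MONNORM

end Cfsg.Agent.S2548P
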