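import Mathlib
import Cfsg.Agent.Helper14.S2481.Defs

set_option autoImplicit false

/-! S2481 piece KDBLOCK (driver helper14; helper16): the kernel of `r^k` on `F[X]/(p^e)`. -/

namespace Cfsg.Agent.S2481P

open Polynomial

universe u

variable {F : Type u} [Field F]

namespace KDBLOCK

/-- abbreviation for the quotient module -/
abbrev Q (g : F[X]) : Type u := F[X] ⧸ Submodule.span F[X] {g}

theorem mk_eq_zero_iff (g a : F[X]) :
    (Submodule.Quotient.mk a : Q g) = 0 ↔ g ∣ a := by
  rw [Submodule.Quotient.mk_eq_zero]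
  exact Ideal.mem_span_singleton

/-- multiplication by `c` on the quotient, as an `F`-linear map -/
noncomputable abbrev mulMap (g c : F[X]) : Q g →ₗ[F] Q g :=
  (LinearMap.lsmul F[X] (Q g) c).restrictScalars F

theorem mulMap_mk (g c a : F[X]) : mulMap g c (Submodule.Quotient.mk a) = Submodule.Quotient.mk (c * a) := by
  show c • (Submodule.Quotient.mk a : Q g) = _
  rw [← Submodule.Quotient.mk_smul, smul_eq_mul]

theorem ker_eq_bot_of_coprime {g c : F[X]} (h : IsCoprime g c) : LinearMap.ker (mulMap g c) = ⊥ := by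
  rw [LinearMap.ker_eq_bot']
  intro x hx
  obtain ⟨a, rfl⟩ := Submodule.Quotient.mk_surjective _ x
  rw [mulMap_mk, mk_eq_zero_iff] at hx
  rw [mk_eq_zero_iff]
  exact h.dvd_of_dvd_mul_left hx

/-- the map `F[X]/(p^m) → F[X]/(p^e)`, `b ↦ p^(e-m) b` -/
noncomputable def incl (p : F[X]) (e m : ℕ) (hm : m ≤ e) : Q (p ^ m) →ₗ[F] Q (p ^ e) :=
  (Submodule.liftQ (Submodule.span F[X] {p ^ m})
    ((Submodule.mkQ (Submodule.span F[X] {p ^ e})).comp (LinearMap.lsmul F[X] F[X] (p ^ (e - m))))
    (by
      rw [Submodule.span_le]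
      intro x hx
      rw [Set.mem_singleton_iff] at hx
      rw [SetLike.mem_coe, LinearMap.mem_ker, LinearMap.comp_apply, Submodule.mkQ_apply,
        LinearMap.lsmul_apply, smul_eq_mul, hx, ← pow_add, Nat.sub_add_cancel hm]
      exact (mk_eq_zero_iff (p ^ e) (p ^ e)).mpr dvd_rfl)).restrictScalars F

theorem incl_mk (p : F[X]) (e m : ℕ) (hm : m ≤ e) (b : F[X]) :
    incl p e m hm (Submodule.Quotient.mk b) = Submodule.Quotient.mk (p ^ (e - m) * b) := rfl

theorem incl_injective {p : F[X]} (hp0 : p ≠ 0) (e m : ℕ) (hm : m ≤ e) :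
    Function.Injective (incl p e m hm) := by
  rw [← LinearMap.ker_eq_bot, LinearMap.ker_eq_bot']
  intro x hx
  obtain ⟨b, rfl⟩ := Submodule.Quotient.mk_surjective _ x
  rw [incl_mk, mk_eq_zero_iff] at hx
  rw [mk_eq_zero_iff]
  have h1 : p ^ e = p ^ (e - m) * p ^ m := by rw [← pow_add, Nat.sub_add_cancel hm]
  rw [h1] at hx
  exact (mul_dvd_mul_iff_left (pow_ne_zero _ hp0)).mp hx

theorem range_incl {p : F[X]} (hp0 : p ≠ 0) (e k : ℕ) :
    LinearMap.range (incl p e (min e k) (min_le_left e k)) = LinearMap.ker (mulMap (p ^ e) (p ^ k)) := by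
  apply le_antisymm
  · rintro _ ⟨x, rfl⟩
    obtain ⟨b, rfl⟩ := Submodule.Quotient.mk_surjective _ x
    rw [LinearMap.mem_ker, incl_mk, mulMap_mk, mk_eq_zero_iff, ← mul_assoc, ← pow_add]
    apply Dvd.dvd.mul_right
    apply pow_dvd_pow
    have := min_le_right e k
    omega
  · intro x hx
    obtain ⟨a, rfl⟩ := Submodule.Quotient.mk_surjective _ x
    rw [LinearMap.mem_ker, mulMap_mk, mk_eq_zero_iff] at hx
    rcases le_total e k with hek | hke
    · refine ⟨Submodule.Quotient.mk a, ?_⟩
      rw [incl_mk]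
      have : e - min e k = 0 := by rw [min_eq_left hek, Nat.sub_self]
      rw [this, pow_zero, one_mul]
    · have hmin : min e k = k := min_eq_right hke
      have h1 : p ^ e = p ^ k * p ^ (e - k) := by rw [← pow_add, Nat.add_sub_cancel' hke]
      rw [h1] at hx
      obtain ⟨b, hb⟩ := (mul_dvd_mul_iff_left (pow_ne_zero _ hp0)).mp hx
      refine ⟨Submodule.Quotient.mk b, ?_⟩
      rw [incl_mk, hmin, hb]

end KDBLOCK

open KDBLOCK

open Classical in
theorem finrank_ker_block {p r : F[X]} (hp : p.Monic) (hpi : Irreducible p) (hr : r.Monic)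
    (hri : Irreducible r) (e k : ℕ) :
    Module.finrank F (LinearMap.ker
      ((LinearMap.lsmul F[X] (F[X] ⧸ Submodule.span F[X] {p ^ e}) (r ^ k)).restrictScalars F)) =
      if p = r then p.natDegree * min e k else 0 := by
  by_cases hpr : p = r
  · subst hpr
    rw [if_pos rfl]
    have h1 := range_incl hp.ne_zero e k
    change Module.finrank F (LinearMap.ker (mulMap (p ^ e) (p ^ k))) = _
    rw [← h1, LinearMap.finrank_range_of_inj (incl_injective hp.ne_zero e _ (min_le_left e k)),
      finrank_quotient_span_eq_natDegree' (hp.pow _), natDegree_pow, mul_comm]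
  · rw [if_neg hpr]
    have hcop : IsCoprime p r := by
      rw [hpi.coprime_iff_not_dvd]
      intro hdvd
      apply hpr
      exact eq_of_monic_of_associated hp hr (hpi.associated_of_dvd hri hdvd)
    have h2 : IsCoprime (p ^ e) (r ^ k) := hcop.pow
    change Module.finrank F (LinearMap.ker (mulMap (p ^ e) (r ^ k))) = 0
    rw [ker_eq_bot_of_coprime h2]
    exact finrank_bot F _

end Cfsg.Agent.S2481P
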