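import Mathlib
import Cfsg.Agent.Helper14.S2481.Defs
import Cfsg.Agent.Helper16.S2481KDBLOCK

set_option autoImplicit false

/-! S2481 piece KDSUM (driver helper14; helper16): the dimension of the kernel of `r(g)^k` read off
the primary decomposition of the `F[X]`-module of `g`. -/

namespace Cfsg.Agent.S2481P

open Polynomial DirectSum

universe u

variable {F : Type u} [Field F]

namespace KDSUM

/-- kernels correspond under a linear equivalence intertwining two endomorphisms -/
theorem finrank_ker_eq_of_equiv {V W : Type*} [AddCommGroup V] [Module F V] [AddCommGroup W]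
    [Module F W] (E : V ≃ₗ[F] W) (a : V →ₗ[F] V) (b : W →ₗ[F] W) (h : ∀ v, E (a v) = b (E v)) :
    Module.finrank F (LinearMap.ker a) = Module.finrank F (LinearMap.ker b) := by
  have h1 : (LinearMap.ker a).map (E : V →ₗ[F] W) = LinearMap.ker b := by
    ext x
    rw [Submodule.mem_map_equiv, LinearMap.mem_ker, LinearMap.mem_ker]
    constructor
    · intro hx
      have := h (E.symm x)
      rw [hx, map_zero, E.apply_symm_apply] at this
      exact this.symm
    · intro hx
      apply E.injective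
      rw [h, E.apply_symm_apply, hx, map_zero]
  rw [← h1]
  exact (E.submoduleMap (LinearMap.ker a)).finrank_eq

/-- the kernel of a diagonal map on a product is the product of the kernels -/
noncomputable def kerPiEquiv {ι : Type*} {M : ι → Type*} [∀ i, AddCommGroup (M i)]
    [∀ i, Module F (M i)] (b : ∀ i, M i →ₗ[F] M i) :
    LinearMap.ker (LinearMap.pi fun i => (b i).comp (LinearMap.proj i)) ≃ₗ[F]
      (∀ i, LinearMap.ker (b i)) where
  toFun x i := ⟨x.1 i, by
    have h := x.2
    rw [LinearMap.mem_ker] at h ⊢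
    exact congrFun h i⟩
  map_add' x y := by
    ext i
    rfl
  map_smul' c x := by
    ext i
    rfl
  invFun y := ⟨fun i => (y i).1, by
    rw [LinearMap.mem_ker]
    ext i
    exact LinearMap.mem_ker.mp (y i).2⟩
  left_inv x := by
    ext i
    rfl
  right_inv y := by
    ext i
    rfl

theorem finrank_ker_pi {ι : Type*} [Fintype ι] {M : ι → Type*} [∀ i, AddCommGroup (M i)]
    [∀ i, Module F (M i)] [∀ i, Module.Finite F (M i)] (b : ∀ i, M i →ₗ[F] M i) :
    Module.finrank F (LinearMap.ker (LinearMap.pi fun i => (b i).comp (LinearMap.proj i))) =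
      ∑ i, Module.finrank F (LinearMap.ker (b i)) := by
  rw [(kerPiEquiv b).finrank_eq, Module.finrank_pi_fintype]

end KDSUM

open KDSUM KDBLOCK

open Classical in
theorem kd_eq_sum {n : ℕ} (g : Matrix (Fin n) (Fin n) F) {ι : Type u} [Fintype ι] (p : ι → F[X])
    (e : ι → ℕ) (hp : ∀ i, (p i).Monic ∧ Irreducible (p i))
    (Φ : Nonempty (Module.AEval' (Matrix.toLin' g) ≃ₗ[F[X]]
      ⨁ i, F[X] ⧸ Submodule.span F[X] {p i ^ e i}))
    {r : F[X]} (hr : r.Monic) (hri : Irreducible r) (k : ℕ) :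
    kd g r k = ∑ i, if p i = r then r.natDegree * min (e i) k else 0 := by
  obtain ⟨Φ⟩ := Φ
  have hfin : ∀ i, Module.Finite F (F[X] ⧸ Submodule.span F[X] {p i ^ e i}) := fun i =>
    ((hp i).1.pow (e i)).finite_quotient
  set a := Matrix.toLin' g with ha
  let E1 : (Fin n → F) ≃ₗ[F] Module.AEval' a := Module.AEval'.of a
  let E2 : Module.AEval' a ≃ₗ[F] ⨁ i, F[X] ⧸ Submodule.span F[X] {p i ^ e i} :=
    Φ.restrictScalars F
  let E3 : (⨁ i, F[X] ⧸ Submodule.span F[X] {p i ^ e i}) ≃ₗ[F]
      (∀ i, F[X] ⧸ Submodule.span F[X] {p i ^ e i}) :=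
    DirectSum.linearEquivFunOnFintype F ι (fun i => F[X] ⧸ Submodule.span F[X] {p i ^ e i})
  let E : (Fin n → F) ≃ₗ[F] (∀ i, F[X] ⧸ Submodule.span F[X] {p i ^ e i}) :=
    E1 ≪≫ₗ (E2 ≪≫ₗ E3)
  have hE : ∀ v, E (Polynomial.aeval a (r ^ k) v) =
      (LinearMap.pi fun i => (mulMap (p i ^ e i) (r ^ k)).comp (LinearMap.proj i)) (E v) := by
    intro v
    ext i
    have h1 : E1 (Polynomial.aeval a (r ^ k) v) = (r ^ k) • E1 v :=
      Module.AEval.of_aeval_smul a (r ^ k) v
    have h2 : E2 ((r ^ k) • E1 v) = (r ^ k) • E2 (E1 v) := map_smul Φ (r ^ k) (E1 v)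
    show E3 (E2 (E1 (Polynomial.aeval a (r ^ k) v))) i = (r ^ k) • (E3 (E2 (E1 v)) i)
    rw [h1, h2]
    rfl
  unfold kd
  rw [finrank_ker_eq_of_equiv E _ _ hE, finrank_ker_pi]
  apply Finset.sum_congr rfl
  intro i _
  rw [finrank_ker_block (hp i).1 (hp i).2 hr hri (e i) k]
  by_cases h : p i = r
  · rw [if_pos h, if_pos h, h]
  · rw [if_neg h, if_neg h]

end Cfsg.Agent.S2481P
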