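import Mathlib

/-! S3805 piece KERABS (Mathlib only). -/

set_option autoImplicit false

namespace Cfsg.Agent.S3805P

section Abstract

variable {I : Type*} [Fintype I] [DecidableEq I]

/-- local copy of the norm 3 support lemma -/
theorem KERABS_norm_three (m : I → ℤ) (h : ∑ χ, m χ * m χ = 3) :
    ∃ x y z : I, x ≠ y ∧ x ≠ z ∧ y ≠ z ∧ (m x = 1 ∨ m x = -1) ∧ (m y = 1 ∨ m y = -1) ∧
      (m z = 1 ∨ m z = -1) ∧ ∀ w, w ≠ x → w ≠ y → w ≠ z → m w = 0 := by
  classical
  have hle : ∀ χ, m χ * m χ ≤ 3 := by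
    intro χ
    rw [← h]
    exact Finset.single_le_sum (f := fun χ => m χ * m χ) (fun i _ => mul_self_nonneg (m i))
      (Finset.mem_univ χ)
  have hcase : ∀ χ, m χ = 0 ∨ m χ = 1 ∨ m χ = -1 := by
    intro χ
    have h1 := hle χ
    have h2 : m χ < 2 := by nlinarith
    have h3 : -2 < m χ := by nlinarith
    omega
  have hind : ∀ χ, m χ * m χ = if m χ ≠ 0 then 1 else 0 := by
    intro χ
    rcases hcase χ with h0 | h0 | h0 <;> simp [h0]
  have hcard : (Finset.univ.filter (fun χ => m χ ≠ 0)).card = 3 := by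
    have : ∑ χ, m χ * m χ = ((Finset.univ.filter (fun χ => m χ ≠ 0)).card : ℤ) := by
      rw [Finset.sum_congr rfl (fun χ _ => hind χ)]
      rw [Finset.sum_boole]
    rw [this] at h
    exact_mod_cast h
  obtain ⟨x, y, z, hxy, hxz, hyz, hS⟩ := Finset.card_eq_three.mp hcard
  have hmem : ∀ w, m w ≠ 0 ↔ (w = x ∨ w = y ∨ w = z) := by
    intro w
    have : w ∈ Finset.univ.filter (fun χ => m χ ≠ 0) ↔ w ∈ ({x, y, z} : Finset I) := by rw [hS]
    simpa using this
  have hpm : ∀ w, m w ≠ 0 → (m w = 1 ∨ m w = -1) := by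
    intro w hw
    rcases hcase w with h0 | h0 | h0
    · exact absurd h0 hw
    · exact Or.inl h0
    · exact Or.inr h0
  refine ⟨x, y, z, hxy, hxz, hyz, hpm x ((hmem x).mpr (Or.inl rfl)),
    hpm y ((hmem y).mpr (Or.inr (Or.inl rfl))), hpm z ((hmem z).mpr (Or.inr (Or.inr rfl))), ?_⟩
  intro w h1 h2 h3
  by_contra hw
  rcases (hmem w).mp hw with h | h | h
  · exact h1 h
  · exact h2 h
  · exact h3 h

/-- sum over a function supported on three points -/
theorem KERABS_sum_three {M : Type*} [AddCommMonoid M] (x y z : I) (hxy : x ≠ y) (hxz : x ≠ z)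
    (hyz : y ≠ z) (f : I → M) (hf : ∀ w, w ≠ x → w ≠ y → w ≠ z → f w = 0) :
    ∑ χ, f χ = f x + f y + f z := by
  classical
  rw [← Finset.sum_subset (Finset.subset_univ ({x, y, z} : Finset I))]
  · rw [Finset.sum_insert, Finset.sum_insert, Finset.sum_singleton, add_assoc]
    · simpa using hyz
    · simp [hxy, hxz]
  · intro w _ hw
    simp only [Finset.mem_insert, Finset.mem_singleton, not_or] at hw
    exact hf w hw.1 hw.2.1 hw.2.2

/-- the core computation -/
theorem KERABS_core (d2 d3 : ℕ) (v2 v3 : ℂ) (h2 : 0 < d2) (h3 : 0 < d3)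
    (hdeg : (1 : ℂ) + (d2 : ℂ) - (d3 : ℂ) = 0) (hval : (1 : ℂ) + v2 - v3 = 0)
    (hpsi : (1 : ℂ) + v2 * v2 / (d2 : ℂ) - v3 * v3 / (d3 : ℂ) = 0) : v2 = (d2 : ℂ) := by
  have hd2 : (d2 : ℂ) ≠ 0 := by exact_mod_cast h2.ne'
  have hd3 : (d3 : ℂ) ≠ 0 := by exact_mod_cast h3.ne'
  have e3 : (d3 : ℂ) = 1 + d2 := by linear_combination -hdeg
  have ev : v3 = 1 + v2 := by linear_combination -hval
  rw [ev, e3] at hpsi
  have hd3' : (1 + (d2 : ℂ)) ≠ 0 := by rw [← e3]; exact hd3
  field_simp at hpsi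
  have : ((d2 : ℂ) - v2) ^ 2 = 0 := by linear_combination hpsi
  have h0 : (d2 : ℂ) - v2 = 0 := by simpa using this
  linear_combination -h0

/-- **KERABS.** -/
theorem kernel_abs (one : I) (d : I → ℕ) (v : I → ℂ) (m : I → ℤ)
    (hd : ∀ χ, 0 < d χ) (hd1 : d one = 1) (hv1 : v one = 1) (hm1 : m one = 1)
    (hnorm : ∑ χ, m χ * m χ = 3) (hdeg : ∑ χ, (m χ : ℂ) * (d χ : ℂ) = 0)
    (hval : ∑ χ, (m χ : ℂ) * v χ = 0)
    (hpsi : ∑ χ, (m χ : ℂ) * v χ * v χ / (d χ : ℂ) = 0) :
    ∃ χ, χ ≠ one ∧ v χ = (d χ : ℂ) := by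
  classical
  obtain ⟨x, y, z, hxy, hxz, hyz, hx, hy, hz, hrest⟩ := KERABS_norm_three m hnorm
  -- general statement with `one` in first position
  have key : ∀ a b : I, one ≠ a → one ≠ b → a ≠ b → (m a = 1 ∨ m a = -1) → (m b = 1 ∨ m b = -1) →
      (∀ w, w ≠ one → w ≠ a → w ≠ b → m w = 0) → ∃ χ, χ ≠ one ∧ v χ = (d χ : ℂ) := by
    intro a b h1a h1b hab ha hb hr
    have s1 := KERABS_sum_three one a b h1a h1b hab (fun χ => (m χ : ℂ) * (d χ : ℂ))
      (fun w h1 h2 h3 => by simp [hr w h1 h2 h3])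
    have s2 := KERABS_sum_three one a b h1a h1b hab (fun χ => (m χ : ℂ) * v χ)
      (fun w h1 h2 h3 => by simp [hr w h1 h2 h3])
    have s3 := KERABS_sum_three one a b h1a h1b hab (fun χ => (m χ : ℂ) * v χ * v χ / (d χ : ℂ))
      (fun w h1 h2 h3 => by simp [hr w h1 h2 h3])
    rw [hdeg] at s1
    rw [hval] at s2
    rw [hpsi] at s3
    simp only [hm1, hd1, hv1, Int.cast_one, Nat.cast_one, mul_one, div_one] at s1 s2 s3
    have hda := hd a
    have hdb := hd b
    rcases ha with ha | ha <;> rcases hb with hb | hb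
    · -- both positive: impossible
      exfalso
      rw [ha, hb] at s1
      push_cast at s1
      have : (0 : ℂ) = ((1 + d a + d b : ℕ) : ℂ) := by push_cast; linear_combination s1
      have h0 : (1 + d a + d b : ℕ) = 0 := by exact_mod_cast this.symm
      omega
    · -- a positive, b negative
      refine ⟨a, fun h => h1a h.symm, ?_⟩
      rw [ha, hb] at s1 s2 s3
      apply KERABS_core (d a) (d b) (v a) (v b) hda hdb
      · push_cast at s1; linear_combination -s1
      · push_cast at s2; linear_combination -s2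
      · push_cast at s3; linear_combination -s3
    · refine ⟨b, fun h => h1b h.symm, ?_⟩
      rw [ha, hb] at s1 s2 s3
      apply KERABS_core (d b) (d a) (v b) (v a) hdb hda
      · push_cast at s1; linear_combination -s1
      · push_cast at s2; linear_combination -s2
      · push_cast at s3; linear_combination -s3
    · -- both negative: 1 = d a + d b impossible
      exfalso
      rw [ha, hb] at s1
      push_cast at s1
      have : ((d a + d b : ℕ) : ℂ) = ((1 : ℕ) : ℂ) := by push_cast; linear_combination s1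
      have h0 : d a + d b = 1 := by exact_mod_cast this
      omega
  -- `one` is in the support
  have h1ne : m one ≠ 0 := by rw [hm1]; exact one_ne_zero
  have hone : one = x ∨ one = y ∨ one = z := by
    by_contra hcon
    push Not at hcon
    exact h1ne (hrest one hcon.1 hcon.2.1 hcon.2.2)
  rcases hone with rfl | rfl | rfl
  · exact key y z hxy hxz hyz hy hz hrest
  · exact key x z hxy.symm hyz hxz hx hz (fun w h1 h2 h3 => hrest w h2 h1 h3)
  · exact key x y hxz.symm hyz.symm hxy hx hy (fun w h1 h2 h3 => hrest w h2 h3 h1)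

end Abstract

end Cfsg.Agent.S3805P
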