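import Mathlib
import Cfsg.Agent.Helper16.S3805KERABS
import Cfsg.Agent.Helper25.S3805FUSEDA0
import Cfsg.Agent.Helper25.S3805FUSEDA1
import Cfsg.Agent.Helper25.S3805FUSEDB0

/-! S3805 piece FUSEDABS. -/

set_option autoImplicit false

namespace Cfsg.Agent.S3805P

section Abstract

variable {I : Type*} [Fintype I] [DecidableEq I]

/-- the final parity contradiction -/
theorem FUSEDABS_parity (D ξ w : ℤ) (hD : D = 4 * ξ ^ 2) (hDpos : 0 < D) (hw : w = ξ ∨ w = -ξ)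
    (h : 8 * (D - w) ^ 2 = 9 * D * (1 + D)) : False := by
  have hξ : ξ ≠ 0 := by
    rintro rfl
    rw [hD] at hDpos
    simp at hDpos
  have h2 : 4 * ξ ^ 2 ≠ 0 := by positivity
  rcases hw with hw | hw
  · -- 8 (4ξ² - ξ)² = 36 ξ² (1 + 4 ξ²)
    rw [hD, hw] at h
    have h1 : 4 * ξ ^ 2 * (4 * ξ ^ 2 + 16 * ξ + 7) = 0 := by linear_combination (-1 : ℤ) * h
    have h3 : 4 * ξ ^ 2 + 16 * ξ + 7 = 0 := by
      rcases mul_eq_zero.mp h1 with h | h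
      · exact absurd h h2
      · exact h
    omega
  · rw [hD, hw] at h
    have h1 : 4 * ξ ^ 2 * (4 * ξ ^ 2 - 16 * ξ + 7) = 0 := by linear_combination (-1 : ℤ) * h
    have h3 : 4 * ξ ^ 2 - 16 * ξ + 7 = 0 := by
      rcases mul_eq_zero.mp h1 with h | h
      · exact absurd h h2
      · exact h
    omega

/-- **FUSEDABS.** The contradiction in the fused case, abstract form. -/
theorem fused_abs (one : I) (Λ : I → I) (d : I → ℕ) (v : I → ℤ)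
    (mA0 mA1 mB0 : I → ℤ) (κ : ℚ)
    (hΛΛ : ∀ χ, Λ (Λ χ) = χ) (hdΛ : ∀ χ, d (Λ χ) = d χ) (hvΛ : ∀ χ, v (Λ χ) = - v χ)
    (hd : ∀ χ, 0 < d χ) (hd1 : d one = 1) (hv1 : v one = 1)
    (hA0n : ∑ χ, mA0 χ * mA0 χ = 3) (hA0one : mA0 one = 1) (hA0lam : mA0 (Λ one) = 1)
    (hA0d : ∑ χ, mA0 χ * (d χ : ℤ) = 0) (hA0v : ∑ χ, mA0 χ * v χ = 0)
    (hA0psi : ∑ χ, (mA0 χ : ℚ) * (v χ : ℚ) ^ 2 / (d χ : ℚ) = 8 * κ)
    (hA1n : ∑ χ, mA1 χ * mA1 χ = 3) (hA1Λ : ∀ χ, mA1 (Λ χ) = mA1 χ)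
    (hA1d : ∑ χ, mA1 χ * (d χ : ℤ) = 0)
    (hA1psi : ∑ χ, (mA1 χ : ℚ) * (v χ : ℚ) ^ 2 / (d χ : ℚ) = 2 * κ)
    (hB0n : ∑ χ, mB0 χ * mB0 χ = 3) (hB0one : mB0 one = 1)
    (hB0d : ∑ χ, mB0 χ * (d χ : ℤ) = 0) (hB0v : ∑ χ, mB0 χ * v χ = 0)
    (hB0Λ : ∑ χ, mB0 χ * mB0 (Λ χ) = 0)
    (hB0psi : ∑ χ, (mB0 χ : ℚ) * (v χ : ℚ) ^ 2 / (d χ : ℚ) = 9 / 2 * κ)
    (hAB : ∑ χ, mA1 χ * mB0 χ = 1) : False := by
  classical
  have hκ : κ = 1 / 4 := fused_A0 one Λ d v mA0 κ hvΛ hdΛ hd hd1 hv1 hA0n hA0one hA0lam hA0d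
    hA0v hA0psi
  have hA1psi' : ∑ χ, (mA1 χ : ℚ) * (v χ : ℚ) ^ 2 / (d χ : ℚ) = 1 / 2 := by
    rw [hA1psi, hκ]; norm_num
  have hB0psi' : ∑ χ, (mB0 χ : ℚ) * (v χ : ℚ) ^ 2 / (d χ : ℚ) = 9 / 8 := by
    rw [hB0psi, hκ]; norm_num
  obtain ⟨χ₁, χ₂, hΛ1, hΛ2, h12, h12', hm1, hm2, hm2', hrestA, hdχ₂⟩ :=
    fused_A1 Λ d v mA1 hΛΛ hvΛ hdΛ hd hA1n hA1Λ hA1d hA1psi'
  obtain ⟨c₂, c₃, hc2, hc3, hc23, hmc2, hmc3, hrestB, hΛc2, hΛc3, hquad⟩ :=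
    fused_B0 one Λ d v mB0 hΛΛ hvΛ hdΛ hd hd1 hv1 hB0n hB0one hB0d hB0v hB0Λ hB0psi'
  -- `mA1 one = 0`
  have hone1 : one ≠ χ₁ := by
    rintro rfl
    have := hvΛ one
    rw [hΛ1, hv1] at this
    omega
  have hone2 : one ≠ χ₂ := by
    rintro rfl
    rw [hd1, hv1] at hdχ₂
    norm_num at hdχ₂
  have hone2' : one ≠ Λ χ₂ := by
    intro h
    have h1 : d χ₂ = 1 := by rw [← hdΛ χ₂, ← h, hd1]
    rw [h1] at hdχ₂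
    have : (1 : ℤ) = 4 * v χ₂ ^ 2 := by exact_mod_cast hdχ₂
    omega
  have hA1one : mA1 one = 0 := hrestA one hone1 hone2 hone2'
  -- values of `mA1`
  have hvals : ∀ w, Λ w ≠ w → (mA1 w = 0 ∨ (mA1 w = 1 ∧ (w = χ₂ ∨ w = Λ χ₂))) := by
    intro w hw
    by_cases h1 : w = χ₁
    · exact absurd (h1 ▸ hΛ1) hw
    by_cases h2 : w = χ₂
    · exact Or.inr ⟨h2 ▸ hm2, Or.inl h2⟩
    by_cases h3 : w = Λ χ₂
    · exact Or.inr ⟨h3 ▸ hm2', Or.inr h3⟩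
    exact Or.inl (hrestA w h1 h2 h3)
  -- the scalar product
  have hsum := KERABS_sum_three one c₂ c₃ hc2.symm hc3.symm hc23 (fun χ => mA1 χ * mB0 χ)
    (fun w h1 h2 h3 => by simp [hrestB w h1 h2 h3])
  rw [hAB] at hsum
  simp only [hA1one, hmc2, hmc3, zero_mul, zero_add, mul_one, mul_neg] at hsum
  have hc2χ : c₂ = χ₂ ∨ c₂ = Λ χ₂ := by
    rcases hvals c₂ hΛc2 with h | ⟨-, h⟩
    · rcases hvals c₃ hΛc3 with h' | ⟨h', -⟩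
      · omega
      · omega
    · exact h
  have hDpos : (0 : ℤ) < (d c₂ : ℤ) := by exact_mod_cast hd c₂
  rcases hc2χ with h | h
  · exact FUSEDABS_parity (d c₂ : ℤ) (v χ₂) (v c₂) (by rw [h]; exact hdχ₂) hDpos
      (Or.inl (by rw [h])) hquad
  · exact FUSEDABS_parity (d c₂ : ℤ) (v χ₂) (v c₂) (by rw [h, hdΛ]; exact hdχ₂) hDpos
      (Or.inr (by rw [h, hvΛ])) hquad

end Abstract

end Cfsg.Agent.S3805P
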