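import Mathlib
import Cfsg.Agent.Helper10.S4017Defs

/-!
# S4017 piece A3ARITH: the arithmetic contradiction of Case A, `a ≥ 3` branch

`2 I = (p + 1) E + (p - 1)` and `E ∣ I`, so `E ∣ p - 1`, impossible for `E = p ^ k`, `k ≥ 1`.
-/

set_option autoImplicit false

namespace Cfsg.Agent.S4017P

theorem A3ARITH (p a E I S G0 : ℕ) (hp : p.Prime) (hp2 : p ≠ 2) (ha : 2 ^ a = p + 1)
    (hE : ∃ k : ℕ, 1 ≤ k ∧ E = p ^ k) (hEG : E ∣ G0) (hG0 : 0 < G0)
    (h1 : I * 2 ^ a = G0) (h2 : S = I * (I - p)) (h3 : 2 * E * S = G0 * (E - 1) * E) (hS : 0 < S) :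
    False := by
  obtain ⟨k, hk, rfl⟩ := hE
  have hp3 : 3 ≤ p := by
    have := hp.two_le
    omega
  have hEpos : 0 < p ^ k := pow_pos hp.pos k
  have hpE : p ≤ p ^ k := by
    calc p = p ^ 1 := (pow_one p).symm
      _ ≤ p ^ k := Nat.pow_le_pow_right hp.pos hk
  -- `p < I`
  have hIp : p < I := by
    by_contra hle
    have : I - p = 0 := by omega
    rw [this, mul_zero] at h2
    omega
  have hIpos : 0 < I := by omega
  obtain ⟨d, rfl⟩ : ∃ d, I = p + d := ⟨I - p, by omega⟩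
  have hd : (p + d) - p = d := by omega
  rw [hd] at h2
  -- cancel `E`
  have h3' : 2 * S = G0 * (p ^ k - 1) := by
    have : p ^ k * (2 * S) = p ^ k * (G0 * (p ^ k - 1)) := by
      calc p ^ k * (2 * S) = 2 * p ^ k * S := by ring
        _ = G0 * (p ^ k - 1) * p ^ k := h3
        _ = p ^ k * (G0 * (p ^ k - 1)) := by ring
    exact Nat.eq_of_mul_eq_mul_left hEpos this
  -- `2 d = (p + 1) (E - 1)`
  have h4 : 2 * d = (p + 1) * (p ^ k - 1) := by
    have : (p + d) * (2 * d) = (p + d) * ((p + 1) * (p ^ k - 1)) := by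
      calc (p + d) * (2 * d) = 2 * ((p + d) * d) := by ring
        _ = 2 * S := by rw [h2]
        _ = G0 * (p ^ k - 1) := h3'
        _ = (p + d) * 2 ^ a * (p ^ k - 1) := by rw [h1]
        _ = (p + d) * ((p + 1) * (p ^ k - 1)) := by rw [ha]; ring
    exact Nat.eq_of_mul_eq_mul_left hIpos this
  -- `E ∣ I`
  have hcop : Nat.Coprime (p ^ k) (p + 1) := by
    apply Nat.Coprime.pow_left
    rw [Nat.coprime_self_add_right]
    exact Nat.coprime_one_right p
  have hEI : p ^ k ∣ p + d := by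
    have : p ^ k ∣ (p + d) * (p + 1) := by rw [← ha, h1]; exact hEG
    exact hcop.dvd_of_dvd_mul_right this
  -- `2 I = (p + 1) E + (p - 1)`
  obtain ⟨e, he⟩ : ∃ e, p ^ k = e + 1 := ⟨p ^ k - 1, by omega⟩
  have h5 : 2 * (p + d) = (p + 1) * p ^ k + (p - 1) := by
    have h6 : p ^ k - 1 = e := by omega
    rw [h6] at h4
    rw [he]
    have : p - 1 + 1 = p := by omega
    nlinarith [h4, this]
  have hdvd : p ^ k ∣ p - 1 := by
    have h7 : p ^ k ∣ (p + 1) * p ^ k + (p - 1) := by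
      rw [← h5]; exact Dvd.dvd.mul_left hEI 2
    exact (Nat.dvd_add_right (Dvd.intro_left (p + 1) rfl)).1 h7
  have := Nat.le_of_dvd (by omega) hdvd
  omega

end Cfsg.Agent.S4017P
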