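import Mathlib
import Cfsg.Agent.Helper2.S3086Defs
import Cfsg.Agent.Helper2.S3086Basic

/-! S3086 board, row DIH: a dihedral group `⟨g⟩⟨s⟩` in characteristic 2 with `g` fixed-point-free on `W`:
`s` acts freely on `W`. -/

set_option autoImplicit false

namespace Cfsg.Agent.S3086P

universe u

theorem DIH_aux_char2 {p : ℕ} {V : Type u} [AddCommGroup V] [Module (ZMod p) V] (hp : p = 2) (v : V) :
    v + v = 0 := by
  have h : ((1 : ZMod p) + 1) • v = v + v := by rw [add_smul, one_smul]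
  rw [← h]
  have : ((1 : ZMod p) + 1) = 0 := by
    subst hp
    decide
  rw [this, zero_smul]

variable {p : ℕ} [Fact p.Prime] {V : Type u} [AddCommGroup V] [Module (ZMod p) V] [Finite V]

omit [Finite V] in
/-- rank–nullity for the restriction of an endomorphism to a subspace, in terms of cardinalities -/
theorem DIH_aux_card (f : Module.End (ZMod p) V) (W : Submodule (ZMod p) V) :
    Nat.card ↥W = Nat.card ↥(W ⊓ LinearMap.ker f) * Nat.card ↥(W.map f) := by
  have h1 := Submodule.card_eq_card_quotient_mul_card (LinearMap.ker (f.domRestrict W))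
  have h2 : Nat.card (↥W ⧸ LinearMap.ker (f.domRestrict W)) = Nat.card ↥(W.map f) := by
    rw [← LinearMap.range_domRestrict]
    exact Nat.card_congr (LinearMap.quotKerEquivRange (f.domRestrict W)).toEquiv
  have h3 : Nat.card ↥(LinearMap.ker (f.domRestrict W)) = Nat.card ↥(W ⊓ LinearMap.ker f) := by
    apply Nat.card_congr
    refine ⟨fun w => ⟨(w.1 : V), ⟨w.1.2, ?_⟩⟩, fun w => ⟨⟨w.1, w.2.1⟩, ?_⟩, ?_, ?_⟩
    · have h := LinearMap.mem_ker.mp w.2
      exact LinearMap.mem_ker.mpr h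
    · have h : f (w : V) = 0 := LinearMap.mem_ker.mp w.2.2
      exact LinearMap.mem_ker.mpr h
    · intro w; rfl
    · intro w; rfl
  rw [h1, h2, h3]

/-- DIH (M): a dihedral group `⟨g⟩⟨s⟩` (`g` of odd order, fixed-point-free on the invariant subspace `W`) in characteristic 2: `s` acts freely on `W`. -/
theorem DIH (hp : p = 2) {s g : GLV p V} (hs : s * s = 1) (hsg : s * g * s⁻¹ = g⁻¹) (hodd : Odd (orderOf g))
    (W : Submodule (ZMod p) V) (hsW : s ∈ stabS W) (hgW : g ∈ stabS W) (hfpf : ∀ w ∈ W, g w = w → w = 0) :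
    W ⊓ LinearMap.ker (Nop s) = W.map (Nop s) ∧ Nat.card ↥W = Nat.card ↥(W ⊓ LinearMap.ker (Nop s)) ^ 2 := by
  have h2 : ∀ v : V, v + v = 0 := DIH_aux_char2 hp
  have hss : ∀ v : V, s (s v) = v := by
    intro v
    have := congrArg (fun t : GLV p V => t v) hs
    simpa using this
  -- `s g⁻¹ = g s`
  have hsg' : ∀ v : V, s (g⁻¹ v) = g (s v) := by
    intro v
    have e : s * g⁻¹ = g * s := by
      have : s * g⁻¹ = (s * g * s⁻¹)⁻¹ * s := by group
      rw [this, hsg, inv_inv]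
    have := congrArg (fun t : GLV p V => t v) e
    simpa using this
  have hginv : ∀ v : V, g (g⁻¹ v) = v := fun v => g.apply_symm_apply v
  -- `g` is a power of `g²`
  have hgpow : ∀ w : V, g (g w) = w → g w = w := by
    intro w hw
    obtain ⟨k, hk⟩ := hodd
    have h1 : ∀ n : ℕ, (g ^ (2 * n)) w = w := by
      intro n
      induction n with
      | zero => simp
      | succ n ih =>
        have : g ^ (2 * (n + 1)) = g ^ (2 * n) * (g * g) := by
          rw [mul_add, pow_add, mul_one, pow_two]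
        rw [this]
        show (g ^ (2 * n)) (g (g w)) = w
        rw [hw, ih]
    have h3 : g ^ (2 * k + 1) = 1 := by rw [← hk]; exact pow_orderOf_eq_one g
    have h4 : (g ^ (2 * k + 1)) w = g w := by
      rw [pow_succ']
      show g ((g ^ (2 * k)) w) = g w
      rw [h1 k]
    rw [h3] at h4
    exact h4.symm
  -- `[W,s] ≤ C_W(s)`
  have hIC : W.map (Nop s) ≤ W ⊓ LinearMap.ker (Nop s) := by
    rintro _ ⟨w, hw, rfl⟩
    have hsw : s w ∈ W := (hsW w).mp hw
    refine ⟨?_, ?_⟩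
    · rw [Nop_apply]; exact W.sub_mem hsw hw
    · apply LinearMap.mem_ker.mpr
      rw [Nop_apply, Nop_apply, map_sub, hss]
      have e : w - s w - (s w - w) = (w + w) - (s w + s w) := by abel
      rw [e, h2, h2, sub_zero]
  -- the injection `C × C → W`
  have hinj : Nat.card (↥(W ⊓ LinearMap.ker (Nop s)) × ↥(W ⊓ LinearMap.ker (Nop s))) ≤ Nat.card ↥W := by
    apply Nat.card_le_card_of_injective
      (fun c : ↥(W ⊓ LinearMap.ker (Nop s)) × ↥(W ⊓ LinearMap.ker (Nop s)) =>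
        (⟨(c.1 : V) + g (c.2 : V), W.add_mem c.1.2.1 ((hgW _).mp c.2.2.1)⟩ : ↥W))
    rintro ⟨⟨c₁, hc₁W, hc₁⟩, ⟨c₂, hc₂W, hc₂⟩⟩ ⟨⟨d₁, hd₁W, hd₁⟩, ⟨d₂, hd₂W, hd₂⟩⟩ h
    have h' : c₁ + g c₂ = d₁ + g d₂ := congrArg Subtype.val h
    replace hc₁ : s c₁ = c₁ := mem_ker_Nop.mp hc₁
    replace hc₂ : s c₂ = c₂ := mem_ker_Nop.mp hc₂
    replace hd₁ : s d₁ = d₁ := mem_ker_Nop.mp hd₁
    replace hd₂ : s d₂ = d₂ := mem_ker_Nop.mp hd₂
    -- `w = c₁ - d₁ = g (d₂ - c₂)`
    have hw1 : c₁ - d₁ = g (d₂ - c₂) := by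
      rw [map_sub]
      have : c₁ - d₁ = (c₁ + g c₂) - d₁ - g c₂ := by abel
      rw [this, h']; abel
    have hwW : c₁ - d₁ ∈ W := W.sub_mem hc₁W hd₁W
    have hsw : s (c₁ - d₁) = c₁ - d₁ := by rw [map_sub, hc₁, hd₁]
    have hgw : g⁻¹ (c₁ - d₁) = d₂ - c₂ := by
      rw [hw1]; exact g.symm_apply_apply _
    have hsgw : s (g⁻¹ (c₁ - d₁)) = g⁻¹ (c₁ - d₁) := by rw [hgw, map_sub, hd₂, hc₂]
    have h5 : g (c₁ - d₁) = g⁻¹ (c₁ - d₁) := by
      rw [← hsgw, hsg', hsw]
    have h6 : g (g (c₁ - d₁)) = c₁ - d₁ := by rw [h5, hginv]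
    have h7 : c₁ - d₁ = 0 := hfpf _ hwW (hgpow _ h6)
    have h8 : d₂ - c₂ = 0 := by
      have : g (d₂ - c₂) = 0 := by rw [← hw1, h7]
      have h9 := congrArg (fun v => g⁻¹ v) this
      simp only [map_zero] at h9
      rw [← h9]; exact (g.symm_apply_apply _).symm
    have e1 : c₁ = d₁ := sub_eq_zero.mp h7
    have e2 : c₂ = d₂ := (sub_eq_zero.mp h8).symm
    subst e1; subst e2; rfl
  rw [Nat.card_prod] at hinj
  have hcard := DIH_aux_card (Nop s) W
  have hCpos : 0 < Nat.card ↥(W ⊓ LinearMap.ker (Nop s)) := Nat.card_pos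
  -- `|I| ≤ |C|`
  have hIle : Nat.card ↥(W.map (Nop s)) ≤ Nat.card ↥(W ⊓ LinearMap.ker (Nop s)) :=
    Nat.card_le_card_of_injective (Submodule.inclusion hIC) (Submodule.inclusion_injective hIC)
  have hCle : Nat.card ↥(W ⊓ LinearMap.ker (Nop s)) ≤ Nat.card ↥(W.map (Nop s)) := by
    rw [hcard] at hinj
    exact Nat.le_of_mul_le_mul_left hinj hCpos
  have hIeq : Nat.card ↥(W.map (Nop s)) = Nat.card ↥(W ⊓ LinearMap.ker (Nop s)) := le_antisymm hIle hCle
  refine ⟨?_, ?_⟩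
  · symm
    apply Submodule.toAddSubgroup_injective
    apply AddSubgroup.eq_of_le_of_card_ge (Submodule.toAddSubgroup_mono hIC)
    exact hCle
  · rw [hcard, hIeq, pow_two]

end Cfsg.Agent.S3086P
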