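import Mathlib
import Cfsg.Prelude.Def_ClassicalGeometry
import Cfsg.Prelude.Def_GeometricClasses
import Cfsg.Agent.Helper16.S5955Defs
import Cfsg.Agent.Helper21.OCm

/-! S5972 (driver helper16): shared definitions.

* `oB d F` : the polar form of `Cfsg.quadFormOdd d F` as a bilinear form
  (`oB d F v v = 2 * quadFormOdd d F v`).
* `IsYO B y r` : `B` symmetric and nondegenerate, `y` an isometry with `y ^ r = 1`.
* `tw B y` : the twisted form `tw B y u v = B (y u) v - B u (y v)`.  If `B` is symmetric and `y` is
  an isometry then `tw B y` is alternating and `y`-invariant (and conversely); on a `y`-invariant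
  subspace `W` without fixed vectors (`y` of odd order, `2 ≠ 0`) `W` is totally isotropic for `B`
  iff it is so for `tw B y`.  This transfers the whole symplectic theory `S5955P` to symmetric forms.
-/

set_option autoImplicit false

namespace Cfsg.Agent.S5972P

open Cfsg.Agent.Helper2.SympInvol Cfsg.Agent.Helper2.SympUnits Cfsg.Agent.S2614
  Cfsg.Agent.Helper21.OC

/-- the polar form of the standard odd-dimensional quadratic form -/
noncomputable def oB (d : ℕ) (F : Type*) [Field F] :
    LinearMap.BilinForm F (Unit ⊕ (Fin d ⊕ Fin d) → F) :=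
  QuadraticMap.polarBilin (QfOdd d F)

theorem oB_apply (d : ℕ) (F : Type*) [Field F] (u v : Unit ⊕ (Fin d ⊕ Fin d) → F) :
    oB d F u v = QuadraticMap.polar (Cfsg.quadFormOdd d F) u v := by
  rw [← QfOdd_coe]
  rfl

theorem oB_symm (d : ℕ) (F : Type*) [Field F] (u v : Unit ⊕ (Fin d ⊕ Fin d) → F) :
    oB d F u v = oB d F v u := by
  rw [oB_apply, oB_apply, QuadraticMap.polar_comm]

theorem oB_self (d : ℕ) (F : Type*) [Field F] (v : Unit ⊕ (Fin d ⊕ Fin d) → F) :
    oB d F v v = 2 * Cfsg.quadFormOdd d F v := by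
  have h := QuadraticMap.polar_self (QfOdd d F) v
  rw [← QfOdd_coe]
  show QuadraticMap.polar (QfOdd d F) v v = _
  rw [h]
  simp

theorem oB_nondeg (d : ℕ) (F : Type*) [Field F] (h2 : (2 : F) ≠ 0) : Nondeg (oB d F) ⊤ := by
  intro m _ hm0
  by_contra hcon
  push Not at hcon
  have hnd := QfOdd_nondeg_of h2 d
  apply hm0
  apply hnd.1
  intro v
  exact hcon v trivial

/-- totally singular = totally isotropic for the polar form (odd characteristic) -/
theorem ts_iff_orth (d : ℕ) (F : Type*) [Field F] (h2 : (2 : F) ≠ 0)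
    (W : Submodule F (Unit ⊕ (Fin d ⊕ Fin d) → F)) :
    (∀ w ∈ W, Cfsg.quadFormOdd d F w = 0) ↔ Orth (oB d F) W W := by
  constructor
  · intro h u hu v hv
    rw [oB_apply]
    unfold QuadraticMap.polar
    rw [h _ (W.add_mem hu hv), h u hu, h v hv]
    simp
  · intro h w hw
    have h1 := h w hw w hw
    rw [oB_self] at h1
    exact (mul_eq_zero.mp h1).resolve_left h2

/-- an isometry of `quadFormOdd` preserves the polar form -/
theorem oB_isometry (d : ℕ) (F : Type*) [Field F]
    (f : (Unit ⊕ (Fin d ⊕ Fin d) → F) →ₗ[F] (Unit ⊕ (Fin d ⊕ Fin d) → F))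
    (hf : ∀ v, Cfsg.quadFormOdd d F (f v) = Cfsg.quadFormOdd d F v)
    (u v : Unit ⊕ (Fin d ⊕ Fin d) → F) : oB d F (f u) (f v) = oB d F u v := by
  rw [oB_apply, oB_apply]
  unfold QuadraticMap.polar
  rw [← map_add, hf, hf, hf]

/-- the twisted form `B (y u) v - B u (y v)` -/
def tw {F V : Type*} [Field F] [AddCommGroup V] [Module F V] (B : LinearMap.BilinForm F V)
    (y : Module.End F V) : LinearMap.BilinForm F V :=
  B.compl₁₂ y LinearMap.id - B.compl₁₂ LinearMap.id y

theorem tw_apply {F V : Type*} [Field F] [AddCommGroup V] [Module F V]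
    (B : LinearMap.BilinForm F V) (y : Module.End F V) (u v : V) :
    tw B y u v = B (y u) v - B u (y v) := rfl

/-- `tw B y` is alternating when `B` is symmetric -/
theorem tw_alt {F V : Type*} [Field F] [AddCommGroup V] [Module F V]
    (B : LinearMap.BilinForm F V) (hsymm : ∀ u v, B u v = B v u) (y : Module.End F V) (v : V) :
    tw B y v v = 0 := by
  rw [tw_apply, hsymm (y v) v, sub_self]

/-- `tw B y` is symmetric when `B` is alternating -/
theorem tw_symm_of_alt {F V : Type*} [Field F] [AddCommGroup V] [Module F V]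
    (B : LinearMap.BilinForm F V) (halt : ∀ v, B v v = 0) (y : Module.End F V) (u v : V) :
    tw B y u v = tw B y v u := by
  have hskew : ∀ a b, B a b = - B b a := by
    intro a b
    have h := halt (a + b)
    rw [map_add, map_add, LinearMap.add_apply, LinearMap.add_apply, halt a, halt b,
      zero_add, add_zero] at h
    exact eq_neg_of_add_eq_zero_right h
  rw [tw_apply, tw_apply, hskew (y u) v, hskew u (y v)]
  ring

/-- a symmetric nondegenerate space with an isometry `y`, `y ^ r = 1` -/
structure IsYO {F V : Type*} [Field F] [AddCommGroup V] [Module F V]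
    (B : LinearMap.BilinForm F V) (y : Module.End F V) (r : ℕ) : Prop where
  symm : ∀ u v, B u v = B v u
  nondeg : Nondeg B ⊤
  isom : ∀ u v, B (y u) (y v) = B u v
  pow : y ^ r = 1

end Cfsg.Agent.S5972P
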