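import Mathlib
import Cfsg.Agent.Helper19.Sp4.F4

set_option autoImplicit false

/-! Shared definitions for the S3157 drive: a non-abelian group `T` of order 64 with a
fixed-point-free automorphism `ρ` of order 3 inverted by an involutory automorphism `x`. -/

namespace Cfsg.Agent.Helper16.S64

open scoped commutatorElement

/-- a fixed-point-free automorphism with cube the identity -/
structure Fpf3 {T : Type*} [Group T] (ρ : MulAut T) : Prop where
  cube : ∀ t, ρ (ρ (ρ t)) = t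
  fpf : ∀ t, ρ t = t → t = 1

/-- the standard consequences of `Fpf3` in a finite group -/
structure Fpf3Facts {T : Type*} [Group T] (ρ : MulAut T) : Prop extends Fpf3 ρ where
  prod : ∀ t, t * ρ t * ρ (ρ t) = 1
  comm : ∀ t, t * ρ t = ρ t * t
  coset : ∀ (N : Subgroup T), (∀ n ∈ N, ρ n ∈ N) → ∀ t, t⁻¹ * ρ t ∈ N → t ∈ N
  card_mod : ∀ (N : Subgroup T), (∀ n ∈ N, ρ n ∈ N) → Nat.card N % 3 = 1

/-- the class-two commutator calculus -/
structure Cl2Facts {T : Type*} [Group T] (ρ : MulAut T) : Prop where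
  central : ∀ s t u : T, ⁅s, t⁆ * u = u * ⁅s, t⁆
  mul_left : ∀ a b c : T, ⁅a * b, c⁆ = ⁅a, c⁆ * ⁅b, c⁆
  mul_right : ∀ a b c : T, ⁅a, b * c⁆ = ⁅a, b⁆ * ⁅a, c⁆
  inv_swap : ∀ a b : T, ⁅a, b⁆⁻¹ = ⁅b, a⁆
  rho_rho : ∀ s t : T, ⁅ρ s, ρ t⁆ = ρ ⁅s, t⁆
  rho_left : ∀ s t : T, ⁅ρ s, t⁆ = ρ (ρ ⁅s, t⁆)
  rho_right : ∀ s t : T, ⁅s, ρ t⁆ = ρ (ρ ⁅s, t⁆)
  comm_sq : ∀ s t : T, ⁅s, t⁆ * ⁅s, t⁆ = 1
  center_sq : ∀ z ∈ Subgroup.center T, z * z = 1
  sq_central : ∀ t u : T, (t * t) * u = u * (t * t)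
  sq_mul : ∀ s t : T, (s * t) * (s * t) = (s * s) * (t * t) * ⁅t, s⁆

/-- the involution `x` inverting `ρ` -/
structure XData {T : Type*} [Group T] (ρ x : MulAut T) : Prop where
  invol : ∀ t, x (x t) = t
  inv_rho : ∀ t, x (ρ (x t)) = ρ (ρ t)

/-- the action of `x` on the centre: `z0` is the unique nontrivial fixed point -/
structure ZData {T : Type*} [Group T] (x : MulAut T) (z0 : T) : Prop where
  mem : z0 ∈ Subgroup.center T
  ne_one : z0 ≠ 1
  fixed : x z0 = z0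
  only : ∀ z ∈ Subgroup.center T, x z = z → z = 1 ∨ z = z0
  norm : ∀ z ∈ Subgroup.center T, z * x z = 1 ∨ z * x z = z0
  norm_surj : ∃ z1 ∈ Subgroup.center T, z1 * x z1 = z0

/-- the Heisenberg group (upper unitriangular `3 × 3` matrices) over a commutative ring -/
@[ext] structure Heis (R : Type*) where
  a : R
  b : R
  c : R

namespace Heis

variable {R : Type*} [CommRing R]

instance : Mul (Heis R) := ⟨fun p q => ⟨p.a + q.a, p.b + q.b, p.c + q.c + p.a * q.b⟩⟩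
instance : One (Heis R) := ⟨⟨0, 0, 0⟩⟩
instance : Inv (Heis R) := ⟨fun p => ⟨-p.a, -p.b, -p.c + p.a * p.b⟩⟩

@[simp] theorem mul_a (p q : Heis R) : (p * q).a = p.a + q.a := rfl
@[simp] theorem mul_b (p q : Heis R) : (p * q).b = p.b + q.b := rfl
@[simp] theorem mul_c (p q : Heis R) : (p * q).c = p.c + q.c + p.a * q.b := rfl
@[simp] theorem one_a : (1 : Heis R).a = 0 := rfl
@[simp] theorem one_b : (1 : Heis R).b = 0 := rfl
@[simp] theorem one_c : (1 : Heis R).c = 0 := rfl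
@[simp] theorem inv_a (p : Heis R) : (p⁻¹).a = -p.a := rfl
@[simp] theorem inv_b (p : Heis R) : (p⁻¹).b = -p.b := rfl
@[simp] theorem inv_c (p : Heis R) : (p⁻¹).c = -p.c + p.a * p.b := rfl

instance : Group (Heis R) :=
  Group.ofLeftAxioms
    (by intro p q r; ext <;> simp <;> ring)
    (by intro p; ext <;> simp)
    (by intro p; ext <;> simp)

/-- `Heis R ≃ R × R × R` -/
def equivProd : Heis R ≃ R × R × R where
  toFun p := (p.a, p.b, p.c)
  invFun t := ⟨t.1, t.2.1, t.2.2⟩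
  left_inv _ := rfl
  right_inv _ := rfl

end Heis

/-- the concrete field with four elements used in the drive -/
abbrev F4 := Cfsg.Agent.Helper19.Sp4.F4

theorem card_heis_F4 : Nat.card (Heis F4) = 64 := by
  rw [Nat.card_congr Heis.equivProd, Nat.card_prod, Nat.card_prod, Nat.card_eq_fintype_card,
    Cfsg.Agent.Helper19.Sp4.F4.card_eq]

end Cfsg.Agent.Helper16.S64
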