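import Mathlib

set_option autoImplicit false

namespace Cfsg.Agent.Helper16

open MonoidHom MulAction Subgroup

/-- the sign-type homomorphism attached to a subgroup of index two -/
noncomputable def indexTwoHom {S : Type*} [Group S] (M : Subgroup S) (hM : M.index = 2) :
    S →* ℤˣ := by
  classical
  exact
  { toFun := fun x => if x ∈ M then 1 else -1
    map_one' := by simp [M.one_mem]
    map_mul' := by
      intro a b
      have := Subgroup.mul_mem_iff_of_index_two hM (a := a) (b := b)
      by_cases ha : a ∈ M <;> by_cases hb : b ∈ M <;> simp [ha, hb, this] }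

theorem indexTwoHom_apply_of_mem {S : Type*} [Group S] (M : Subgroup S) (hM : M.index = 2)
    {x : S} (hx : x ∈ M) : indexTwoHom M hM x = 1 := by
  classical
  show (if x ∈ M then (1 : ℤˣ) else -1) = 1
  rw [if_pos hx]

theorem indexTwoHom_apply_of_not_mem {S : Type*} [Group S] (M : Subgroup S) (hM : M.index = 2)
    {x : S} (hx : x ∉ M) : indexTwoHom M hM x = -1 := by
  classical
  show (if x ∈ M then (1 : ℤˣ) else -1) = -1
  rw [if_neg hx]

/-- a homomorphism to `ℤˣ` from a group without subgroups of index 2 is trivial -/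
theorem hom_units_int_trivial {G : Type*} [Group G] (hG : ∀ H : Subgroup G, H.index ≠ 2)
    (f : G →* ℤˣ) (g : G) : f g = 1 := by
  by_contra hne
  apply hG f.ker
  rw [Subgroup.index_eq_two_iff]
  refine ⟨g, fun b => ?_⟩
  have hg : f g = -1 := (Int.units_eq_one_or (f g)).resolve_left hne
  rw [MonoidHom.mem_ker, MonoidHom.mem_ker, map_mul, hg]
  rcases Int.units_eq_one_or (f b) with h | h
  · rw [h]; simp [Xor']
  · rw [h]; simp [Xor']

section
variable {G : Type*} [Group G] [Finite G]

/-- generalized Thompson transfer lemma -/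
theorem thompson_transfer_general (hG : ∀ H : Subgroup G, H.index ≠ 2) (S : Subgroup G)
    (hSodd : Odd S.index) (M' : Subgroup S) (hM' : M'.index = 2) (x : G) (n : ℕ) (hn : 1 ≤ n)
    (hxn : orderOf x = 2 ^ n) (hord : ∀ y : S, y ∉ M' → 2 ^ (n - 1) < orderOf (y : G)) :
    ∃ g : G, ∃ h : g * x * g⁻¹ ∈ S, (⟨g * x * g⁻¹, h⟩ : S) ∈ M' := by
  classical
  by_contra hcon
  push Not at hcon
  have hcon' : ∀ y : S, (∃ g : G, (y : G) = g * x * g⁻¹) → y ∉ M' := by
    rintro ⟨y, hy⟩ ⟨g, hg⟩
    simp only at hg
    subst hg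
    exact hcon g hy
  let ϕ := indexTwoHom M' hM'
  have := Fintype.ofFinite (Quotient (orbitRel (zpowers x) (G ⧸ S)))
  have htr : transfer ϕ x = 1 := hom_units_int_trivial hG (transfer ϕ) x
  rw [transfer_eq_prod_quotient_orbitRel_zpowers_quot] at htr
  have hidx := Subgroup.index_eq_sum_minimalPeriod S x
  -- evaluate each factor
  have hfac : ∀ q : Quotient (orbitRel (zpowers x) (G ⧸ S)),
      ϕ ⟨q.out.out⁻¹ * x ^ Function.minimalPeriod (x • ·) q.out * q.out.out,
        QuotientGroup.out_conj_pow_minimalPeriod_mem S x q.out⟩ =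
      if Function.minimalPeriod (x • ·) q.out = 1 then -1 else 1 := by
    intro q
    set r := Function.minimalPeriod (x • ·) q.out with hr
    have hdvd : r ∣ orderOf x := MulAction.period_dvd_orderOf x q.out
    rw [hxn] at hdvd
    obtain ⟨k, hk, hrk⟩ := (Nat.dvd_prime_pow Nat.prime_two).mp hdvd
    by_cases h1 : r = 1
    · rw [if_pos h1]
      apply indexTwoHom_apply_of_not_mem
      apply hcon'
      refine ⟨q.out.out⁻¹, ?_⟩
      simp only
      rw [← hr, h1, pow_one, inv_inv]
    · rw [if_neg h1]
      apply indexTwoHom_apply_of_mem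
      by_contra hnm
      have h2 := hord _ hnm
      simp only at h2
      have hkpos : 1 ≤ k := by
        rcases k with _ | k
        · exfalso; apply h1; rw [hrk, pow_zero]
        · omega
      have hord2 : orderOf (q.out.out⁻¹ * x ^ r * q.out.out) = 2 ^ (n - k) := by
        have hsc : SemiconjBy q.out.out⁻¹ (x ^ r) (q.out.out⁻¹ * x ^ r * q.out.out) := by
          show q.out.out⁻¹ * x ^ r = q.out.out⁻¹ * x ^ r * q.out.out * q.out.out⁻¹
          group
        rw [← hsc.orderOf_eq, orderOf_pow' x (by rw [hrk]; positivity), hxn, hrk,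
          Nat.gcd_eq_right (pow_dvd_pow 2 hk), Nat.pow_div hk (by norm_num)]
      rw [hord2] at h2
      have : 2 ^ (n - k) ≤ 2 ^ (n - 1) := Nat.pow_le_pow_right (by norm_num) (by omega)
      omega
  rw [Finset.prod_congr rfl (fun q _ => hfac q), Finset.prod_ite, Finset.prod_const_one, mul_one,
    Finset.prod_const] at htr
  -- parity of the number of fixed points
  have hpar : Odd (Finset.univ.filter (fun q : Quotient (orbitRel (zpowers x) (G ⧸ S)) =>
      Function.minimalPeriod (x • ·) q.out = 1)).card := by
    rw [hidx] at hSodd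
    rw [Nat.odd_iff] at hSodd ⊢
    rw [Finset.sum_nat_mod] at hSodd
    have hmod : ∀ q : Quotient (orbitRel (zpowers x) (G ⧸ S)),
        Function.minimalPeriod (x • ·) q.out % 2 =
          if Function.minimalPeriod (x • ·) q.out = 1 then 1 else 0 := by
      intro q
      have hdvd : Function.minimalPeriod (x • ·) q.out ∣ orderOf x :=
        MulAction.period_dvd_orderOf x q.out
      rw [hxn] at hdvd
      obtain ⟨k, hk, hrk⟩ := (Nat.dvd_prime_pow Nat.prime_two).mp hdvd
      rw [hrk]
      rcases k with _ | k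
      · simp
      · have : 2 ^ (k + 1) ≠ 1 := by
          have : 2 ≤ 2 ^ (k + 1) := by
            calc 2 = 2 ^ 1 := by norm_num
              _ ≤ 2 ^ (k + 1) := Nat.pow_le_pow_right (by norm_num) (by omega)
          omega
        rw [if_neg this, pow_succ]; simp
    rw [Finset.sum_congr rfl (fun q _ => hmod q), Finset.sum_boole] at hSodd
    simpa using hSodd
  rw [hpar.neg_one_pow] at htr
  exact absurd htr (by decide)

end

end Cfsg.Agent.Helper16
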