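import Mathlib
import Cfsg.Agent.Lead.ZGroupCoprime

/-!
# Odd-order Z-groups inverted modulo the commutator subgroup

Pure group theory used for Zassenhaus groups with two-point stabilizers of odd order.
-/

set_option autoImplicit false

namespace Cfsg.Agent.Helper16.ZassOdd

open Subgroup
open scoped commutatorElement

variable {G : Type*} [Group G]

theorem eq_one_of_eq_inv_of_isPGroup {q : ℕ} (hq : q.Prime) (hq2 : q ≠ 2) {Q : Subgroup G}
    (hQ : IsPGroup q Q) {y : G} (hy : y ∈ Q) (h : y = y⁻¹) : y = 1 := by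
  obtain ⟨k, hk⟩ := hQ ⟨y, hy⟩
  have hk' : y ^ (q ^ k) = 1 := by
    have := congrArg Subtype.val hk
    simpa using this
  have h2 : y ^ 2 = 1 := by
    rw [pow_two]
    nth_rewrite 2 [h]
    exact mul_inv_cancel y
  have h1 : orderOf y ∣ Nat.gcd 2 (q ^ k) :=
    Nat.dvd_gcd (orderOf_dvd_of_pow_eq_one h2) (orderOf_dvd_of_pow_eq_one hk')
  have hcop : Nat.gcd 2 (q ^ k) = 1 := by
    apply Nat.Coprime.pow_right
    exact (Nat.coprime_primes Nat.prime_two hq).mpr (Ne.symm hq2)
  rw [hcop, Nat.dvd_one, orderOf_eq_one_iff] at h1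
  exact h1

/-- `g` normalizes the cyclic `q`-group `Q` (`q` odd), `g²` centralizes `Q`, and `g` does not
centralize `Q`: then `g` inverts `Q`. -/
theorem inverts_of_sq_centralizes [Finite G] {q : ℕ} [hq : Fact q.Prime] (hq2 : q ≠ 2)
    {Q : Subgroup G} [hQc : IsCyclic Q] (hQ : IsPGroup q Q) {g : G}
    (hgN : g ∈ normalizer (Q : Set G)) (hg2 : g * g ∈ centralizer (Q : Set G))
    (hgC : g ∉ centralizer (Q : Set G)) : ∀ y ∈ Q, g * y * g⁻¹ = y⁻¹ := by
  have hcomm : IsMulCommutative Q := IsCyclic.isMulCommutative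
  have hconj : ∀ y ∈ Q, g * y * g⁻¹ ∈ Q := fun y hy => (mem_normalizer_iff.mp hgN y).mp hy
  have hsq : ∀ y ∈ Q, g * (g * y * g⁻¹) * g⁻¹ = y := by
    intro y hy
    have := hg2 y hy
    -- y * (g*g) = (g*g) * y
    calc g * (g * y * g⁻¹) * g⁻¹ = (g * g * y) * (g⁻¹ * g⁻¹) := by group
      _ = (y * (g * g)) * (g⁻¹ * g⁻¹) := by rw [this]
      _ = y := by group
  -- fixed and inverted subgroups
  let U : Subgroup G :=
    { carrier := {y | y ∈ Q ∧ g * y * g⁻¹ = y}
      one_mem' := ⟨Q.one_mem, by group⟩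
      mul_mem' := by
        rintro y z ⟨hy, hy'⟩ ⟨hz, hz'⟩
        refine ⟨Q.mul_mem hy hz, ?_⟩
        calc g * (y * z) * g⁻¹ = (g * y * g⁻¹) * (g * z * g⁻¹) := by group
          _ = y * z := by rw [hy', hz']
      inv_mem' := by
        rintro y ⟨hy, hy'⟩
        refine ⟨Q.inv_mem hy, ?_⟩
        calc g * y⁻¹ * g⁻¹ = (g * y * g⁻¹)⁻¹ := by group
          _ = y⁻¹ := by rw [hy'] }
  let W : Subgroup G :=
    { carrier := {y | y ∈ Q ∧ g * y * g⁻¹ = y⁻¹}
      one_mem' := ⟨Q.one_mem, by group⟩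
      mul_mem' := by
        rintro y z ⟨hy, hy'⟩ ⟨hz, hz'⟩
        refine ⟨Q.mul_mem hy hz, ?_⟩
        calc g * (y * z) * g⁻¹ = (g * y * g⁻¹) * (g * z * g⁻¹) := by group
          _ = y⁻¹ * z⁻¹ := by rw [hy', hz']
          _ = z⁻¹ * y⁻¹ := setLike_mul_comm (s := Q) (Q.inv_mem hy) (Q.inv_mem hz)
          _ = (y * z)⁻¹ := by group
      inv_mem' := by
        rintro y ⟨hy, hy'⟩
        refine ⟨Q.inv_mem hy, ?_⟩
        calc g * y⁻¹ * g⁻¹ = (g * y * g⁻¹)⁻¹ := by group
          _ = y⁻¹⁻¹ := by rw [hy'] }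
  have hUQ : U ≤ Q := fun y hy => hy.1
  have hWQ : W ≤ Q := fun y hy => hy.1
  have hUW : U ⊓ W = ⊥ := by
    rw [eq_bot_iff]
    rintro y ⟨⟨hy, hy1⟩, ⟨-, hy2⟩⟩
    rw [mem_bot]
    exact eq_one_of_eq_inv_of_isPGroup hq.out hq2 hQ hy (hy1.symm.trans hy2)
  have hUmem : ∀ y ∈ Q, y * (g * y * g⁻¹) ∈ U := by
    intro y hy
    refine ⟨Q.mul_mem hy (hconj y hy), ?_⟩
    calc g * (y * (g * y * g⁻¹)) * g⁻¹ = (g * y * g⁻¹) * (g * (g * y * g⁻¹) * g⁻¹) := by group
      _ = (g * y * g⁻¹) * y := by rw [hsq y hy]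
      _ = y * (g * y * g⁻¹) := setLike_mul_comm (s := Q) (hconj y hy) hy
  have hWmem : ∀ y ∈ Q, y * (g * y * g⁻¹)⁻¹ ∈ W := by
    intro y hy
    refine ⟨Q.mul_mem hy (Q.inv_mem (hconj y hy)), ?_⟩
    calc g * (y * (g * y * g⁻¹)⁻¹) * g⁻¹ = (g * y * g⁻¹) * (g * (g * y * g⁻¹) * g⁻¹)⁻¹ := by group
      _ = (g * y * g⁻¹) * y⁻¹ := by rw [hsq y hy]
      _ = y⁻¹ * (g * y * g⁻¹) := setLike_mul_comm (s := Q) (hconj y hy) (Q.inv_mem hy)
      _ = (y * (g * y * g⁻¹)⁻¹)⁻¹ := by
        rw [mul_inv_rev, inv_inv]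
        exact setLike_mul_comm (s := Q) (Q.inv_mem hy) (hconj y hy)
  rcases Cfsg.Agent.Lead.eq_bot_or_eq_bot_of_isCyclic_pgroup hQ hUQ hWQ hUW with hU | hW
  · intro y hy
    have := hUmem y hy
    rw [hU, mem_bot] at this
    exact (eq_inv_of_mul_eq_one_right this)
  · exfalso
    apply hgC
    intro y hy
    have := hWmem y hy
    rw [hW, mem_bot] at this
    have h1 : y = g * y * g⁻¹ := by
      have := eq_inv_of_mul_eq_one_left this
      rwa [inv_inv] at this
    calc y * g = (g * y * g⁻¹) * g := by rw [← h1]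
      _ = g * y := by group


theorem normalizer_le_normalizer_commutator (H : Subgroup G) :
    normalizer (H : Set G) ≤ normalizer ((⁅H, H⁆ : Subgroup G) : Set G) := by
  have key : ∀ g ∈ normalizer (H : Set G), ∀ n ∈ (⁅H, H⁆ : Subgroup G),
      g * n * g⁻¹ ∈ (⁅H, H⁆ : Subgroup G) := by
    intro g hg n hn
    have h1 : (⁅H, H⁆ : Subgroup G).map (MulAut.conj g).toMonoidHom = ⁅H, H⁆ := by
      rw [map_commutator]
      have h2 : H.map (MulAut.conj g).toMonoidHom = H := by
        ext x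
        constructor
        · rintro ⟨y, hy, rfl⟩
          exact (mem_normalizer_iff.mp hg y).mp hy
        · intro hx
          refine ⟨g⁻¹ * x * g, ?_, ?_⟩
          · have := (mem_normalizer_iff.mp (inv_mem hg) x).mp hx
            rwa [inv_inv] at this
          · simp [MulAut.conj_apply]; group
      rw [h2]
    rw [← h1]
    exact ⟨n, hn, by simp [MulAut.conj_apply]⟩
  intro g hg
  rw [mem_normalizer_iff]
  intro n
  constructor
  · exact key g hg n
  · intro h
    have := key g⁻¹ (inv_mem hg) _ h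
    rw [inv_inv] at this
    have e : g⁻¹ * (g * n * g⁻¹) * g = n := by group
    rwa [e] at this


theorem mem_of_sq_mem_of_odd [Finite G] {K : Subgroup G} {y : G} (hy : Odd (orderOf y))
    (h : y * y ∈ K) : y ∈ K := by
  obtain ⟨m, hm⟩ := hy
  have : y = (y * y) ^ (m + 1) := by
    rw [← pow_two, ← pow_mul]
    have e : 2 * (m + 1) = orderOf y + 1 := by omega
    rw [e, pow_succ, pow_orderOf_eq_one, one_mul]
  rw [this]
  exact K.pow_mem h _

/-- Main group-theoretic lemma: an odd-order Z-group `H`, normalized by `t` with `t² ∈ H`, such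
that for every prime `q` dividing `|H|` some Sylow `q`-subgroup `Q` of `H` has
`N_G(Q) ⊆ H ∪ tH` and `N_G(Q) ≠ C_G(Q)`, is cyclic and inverted by `t`. -/
theorem zgroup_inverted [Finite G] (H : Subgroup G) [hZ : IsZGroup H] (hodd : Odd (Nat.card H))
    (t : G) (ht : t ∈ normalizer (H : Set G)) (htt : t * t ∈ H)
    (hQ : ∀ q : ℕ, q.Prime → q ∣ Nat.card H → ∃ Q : Subgroup G, Q ≤ H ∧ IsPGroup q Q ∧
      ¬ q ∣ Q.relIndex H ∧ (∀ g ∈ normalizer (Q : Set G), g ∈ H ∨ ∃ h ∈ H, g = t * h) ∧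
      ∃ g ∈ normalizer (Q : Set G), g ∉ centralizer (Q : Set G)) :
    IsCyclic H ∧ ∀ y ∈ H, t * y * t⁻¹ = y⁻¹ := by
  set C : Subgroup G := ⁅H, H⁆ with hC
  have hCH : C ≤ H := commutator_le_self H
  have hCmap : (commutator H).map H.subtype = C := map_subtype_commutator H
  have hCcyc : IsCyclic C := by
    have h1 : IsCyclic (commutator H) := IsZGroup.isCyclic_commutator H
    have e : (commutator H) ≃* C :=
      ((commutator H).equivMapOfInjective H.subtype H.subtype_injective).trans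
        (MulEquiv.subgroupCongr hCmap)
    exact isCyclic_of_surjective e e.surjective
  have hCcomm : IsMulCommutative C := IsCyclic.isMulCommutative
  have hcop : (Nat.card C).Coprime (C.relIndex H) := by
    have h1 := IsZGroup.coprime_commutator_index H
    have h2 : Nat.card C = Nat.card (commutator H) := by
      rw [← hCmap, card_map_of_injective H.subtype_injective]
    have h3 : C.relIndex H = (commutator H).index := by
      rw [relIndex, ← hCmap]
      congr 1
      ext x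
      rw [mem_subgroupOf, mem_map]
      constructor
      · rintro ⟨y, hy, hyx⟩
        have : y = x := Subtype.ext hyx
        rwa [← this]
      · intro hx
        exact ⟨x, hx, rfl⟩
    rw [h2, h3]; exact h1
  have hnormC : normalizer (H : Set G) ≤ normalizer (C : Set G) :=
    normalizer_le_normalizer_commutator H
  have htC : t ∈ normalizer (C : Set G) := hnormC ht
  have hHC : H ≤ normalizer (C : Set G) := le_normalizer.trans hnormC
  have hconjC : ∀ g ∈ normalizer (C : Set G), ∀ c ∈ C, g * c * g⁻¹ ∈ C :=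
    fun g hg c hc => (mem_normalizer_iff.mp hg c).mp hc
  have hconjH : ∀ y ∈ H, t * y * t⁻¹ ∈ H := fun y hy => (mem_normalizer_iff.mp ht y).mp hy
  have htinvH : ∀ y ∈ H, t⁻¹ * y * t ∈ H := fun y hy => by
    have := (mem_normalizer_iff.mp (inv_mem ht) y).mp hy
    rwa [inv_inv] at this
  have hoddy : ∀ y ∈ H, Odd (orderOf y) := by
    intro y hy
    have h1 : orderOf y ∣ Nat.card H := by
      have := orderOf_dvd_natCard (⟨y, hy⟩ : H)
      rwa [Subgroup.orderOf_mk] at this
    exact hodd.of_dvd_nat h1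
  -- the subgroup of elements inverted modulo C
  let I : Subgroup G :=
    { carrier := {y | y ∈ H ∧ t * y * t⁻¹ * y ∈ C}
      one_mem' := ⟨H.one_mem, by
        have : t * 1 * t⁻¹ * 1 = (1 : G) := by group
        rw [this]; exact C.one_mem⟩
      mul_mem' := by
        rintro y z ⟨hy, hy'⟩ ⟨hz, hz'⟩
        refine ⟨H.mul_mem hy hz, ?_⟩
        have e : t * (y * z) * t⁻¹ * (y * z) =
            (t * y * t⁻¹ * y) * (y⁻¹ * (t * z * t⁻¹ * z) * y⁻¹⁻¹) * ⁅y⁻¹, z⁻¹⁆ := by
          rw [commutatorElement_def]; group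
        rw [e]
        refine C.mul_mem (C.mul_mem hy' ?_) ?_
        · exact hconjC _ (hHC (H.inv_mem hy)) _ hz'
        · exact commutator_mem_commutator (H.inv_mem hy) (H.inv_mem hz)
      inv_mem' := by
        rintro y ⟨hy, hy'⟩
        refine ⟨H.inv_mem hy, ?_⟩
        have e : t * y⁻¹ * t⁻¹ * y⁻¹ = y * (t * y * t⁻¹ * y)⁻¹ * y⁻¹ := by group
        rw [e]
        exact hconjC _ (hHC hy) _ (C.inv_mem hy') }
  have hIH : I ≤ H := fun y hy => hy.1
  have hCI : C ≤ I := by
    intro c hc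
    exact ⟨hCH hc, C.mul_mem (hconjC t htC c hc) hc⟩
  have hIeq : H ≤ I := by
    by_contra hcon
    have h1 : I.relIndex H ≠ 1 := fun h => hcon (relIndex_eq_one.mp h)
    obtain ⟨q, hq, hqd⟩ := Nat.exists_prime_and_dvd h1
    have : Fact q.Prime := ⟨hq⟩
    have hqC : q ∣ C.relIndex H := by
      rw [← relIndex_mul_relIndex C I H hCI hIH]
      exact Dvd.dvd.mul_left hqd _
    have hqC' : ¬ q ∣ Nat.card C := by
      intro h
      have := Nat.dvd_gcd h hqC
      rw [hcop.gcd_eq_one] at this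
      exact hq.one_lt.ne' (Nat.dvd_one.mp this)
    have hqH : q ∣ Nat.card H := hqd.trans (relIndex_dvd_card I H)
    have hq2 : q ≠ 2 := by
      rintro rfl
      exact (Nat.not_even_iff_odd.mpr hodd) (even_iff_two_dvd.mpr hqH)
    obtain ⟨Q, hQH, hQp, hQidx, hQN, g, hgN, hgC⟩ := hQ q hq hqH
    have hQC : Q ⊓ C = ⊥ := by
      rw [← card_eq_one]
      rcases (hQp.to_le inf_le_left : IsPGroup q (Q ⊓ C : Subgroup G)).card_eq_or_dvd with h | h
      · exact h
      · exact absurd (h.trans (card_dvd_of_le inf_le_right)) hqC'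
    have hNH : ∀ h ∈ H, h ∈ normalizer (Q : Set G) → h ∈ centralizer (Q : Set G) := by
      intro h hh hhN x hx
      have h1 : h * x * h⁻¹ * x⁻¹ ∈ Q ⊓ C := by
        refine ⟨Q.mul_mem ((mem_normalizer_iff.mp hhN x).mp hx) (Q.inv_mem hx), ?_⟩
        have : h * x * h⁻¹ * x⁻¹ = ⁅h, x⁆ := by rw [commutatorElement_def]
        rw [this]
        exact commutator_mem_commutator hh (hQH hx)
      rw [hQC, mem_bot] at h1
      calc x * h = (h * x * h⁻¹ * x⁻¹) * x * h := by rw [h1, one_mul]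
        _ = h * x := by group
    have hgH : g ∉ H := fun h => hgC (hNH g h hgN)
    obtain ⟨h, hh, rfl⟩ := (hQN g hgN).resolve_left hgH
    have hg2H : t * h * (t * h) ∈ H := by
      have e : t * h * (t * h) = (t * t) * (t⁻¹ * h * t) * h := by group
      rw [e]
      exact H.mul_mem (H.mul_mem htt (htinvH h hh)) hh
    have hg2 : t * h * (t * h) ∈ centralizer (Q : Set G) :=
      hNH _ hg2H ((normalizer (Q : Set G)).mul_mem hgN hgN)
    have : IsCyclic Q := by
      have h1 : IsPGroup q (Q.subgroupOf H) := hQp.comap_subtype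
      have h2 : IsCyclic (Q.subgroupOf H) := h1.isCyclic_of_isZGroup
      have e : (Q.subgroupOf H) ≃* Q := subgroupOfEquivOfLe hQH
      exact isCyclic_of_surjective e e.surjective
    have hinv := inverts_of_sq_centralizes hq2 hQp hgN hg2 hgC
    have hQI : Q ≤ I := by
      intro x hx
      refine ⟨hQH hx, ?_⟩
      have hxH := hQH hx
      have h1 := hinv x hx
      -- t h x h⁻¹ t⁻¹ = x⁻¹
      set c' : G := ⁅x⁻¹, h⁆ with hc'
      have hc'C : c' ∈ C := commutator_mem_commutator (H.inv_mem hxH) hh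
      have e : t * x * t⁻¹ * x = x⁻¹ * (t * c' * t⁻¹)⁻¹ * x⁻¹⁻¹ := by
        have e1 : t * x * t⁻¹ = (t * h * x * (t * h)⁻¹) * (t * c' * t⁻¹)⁻¹ := by
          rw [hc', commutatorElement_def]; group
        rw [e1, h1]; group
      rw [e]
      exact hconjC _ (hHC (H.inv_mem hxH)) _ (C.inv_mem (hconjC t htC c' hc'C))
    apply hQidx
    rw [← relIndex_mul_relIndex Q I H hQI hIH]
    exact Dvd.dvd.mul_left hqd _
  have step1 : ∀ y ∈ H, t * y * t⁻¹ * y ∈ C := fun y hy => (hIeq hy).2
  -- H centralizes C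
  have step2 : H ≤ centralizer (C : Set G) := by
    intro y hy
    apply mem_of_sq_mem_of_odd (hoddy y hy)
    have h1 : ⁅t, y⁆ ∈ centralizer (C : Set G) :=
      Cfsg.Agent.Lead.commutator_mem_centralizer_of_isCyclic C htC (hHC hy)
    have h2 : t * y * t⁻¹ * y ∈ centralizer (C : Set G) :=
      (le_centralizer_iff_isMulCommutative.mpr hCcomm) (step1 y hy)
    have e : y * y = ⁅t, y⁆⁻¹ * (t * y * t⁻¹ * y) := by
      rw [commutatorElement_def]; group
    rw [e]
    exact (centralizer (C : Set G)).mul_mem ((centralizer (C : Set G)).inv_mem h1) h2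
  -- H is nilpotent, hence cyclic
  have hnil : Group.IsNilpotent H := by
    apply Subgroup.isNilpotent_of_ker_le_center (Abelianization.of (G := H))
    rw [Abelianization.ker_of]
    · intro x hx
      rw [mem_center_iff]
      intro z
      have hxC : (x : G) ∈ C := by
        rw [← hCmap]; exact ⟨x, hx, rfl⟩
      have := step2 z.2 (x : G) hxC
      exact Subtype.ext this.symm
  have hcyc : IsCyclic H := inferInstance
  refine ⟨hcyc, ?_⟩
  have hcomm : IsMulCommutative H := IsCyclic.isMulCommutative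
  have hCbot : C = ⊥ := by
    rw [hC, commutator_eq_bot_iff_le_centralizer]
    exact le_centralizer_iff_isMulCommutative.mpr hcomm
  intro y hy
  have := step1 y hy
  rw [hCbot, mem_bot] at this
  exact eq_inv_of_mul_eq_one_left this

end Cfsg.Agent.Helper16.ZassOdd
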