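import Mathlib
import Cfsg.Prelude.Def_LieExceptional
import Cfsg.Agent.Helper16.ZassOdd
import Cfsg.Agent.Helper5.Zassenhaus
import Cfsg.Agent.Helper5.Zassenhaus2
import Cfsg.Agent.Helper1.FrobGroup
import Cfsg.Agent.Helper1.FpfCompl

/-!
# Zassenhaus groups whose two-point stabilizers have odd order
-/

set_option autoImplicit false

namespace Cfsg.Agent.Helper16.ZassOdd

open Cfsg MulAction Subgroup
open Cfsg.Agent.Helper5.Zassenhaus

variable {G Ω : Type*} [Group G] [MulAction G Ω]

/-- the two-point stabilizer is a Frobenius complement in the point stabilizer -/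
theorem isFrobeniusComplement_two_point (hZ : IsZassenhausGroup G Ω) {a b : Ω} (hab : a ≠ b) :
    IsFrobeniusComplement
      ((stabilizer G a ⊓ stabilizer G b : Subgroup G).subgroupOf (stabilizer G a)) := by
  refine ⟨?_, ?_, ?_⟩
  · obtain ⟨x, hx1, hxa, hxb⟩ := exists_ne_one_fix2 hZ hab
    intro h
    have hx : (⟨x, hxa⟩ : stabilizer G a) ∈
        (stabilizer G a ⊓ stabilizer G b : Subgroup G).subgroupOf (stabilizer G a) := by
      rw [mem_subgroupOf]; exact ⟨hxa, hxb⟩
    rw [h, mem_bot] at hx
    exact hx1 (congrArg Subtype.val hx)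
  · obtain ⟨c, hca, hcb⟩ := exists_third hZ hab
    obtain ⟨g, hga, hgb⟩ := two_trans hZ hab hca.symm
    intro h
    have hg : (⟨g, hga⟩ : stabilizer G a) ∈
        (stabilizer G a ⊓ stabilizer G b : Subgroup G).subgroupOf (stabilizer G a) := by
      rw [h]; exact mem_top _
    rw [mem_subgroupOf] at hg
    have : g • b = b := hg.2
    exact hcb (hgb.symm.trans this)
  · intro g hg
    rw [eq_bot_iff]
    intro x hx
    rw [mem_bot]
    obtain ⟨hx1, hx2⟩ := mem_inf.mp hx
    rw [mem_subgroupOf] at hx1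
    obtain ⟨y, hy, hyx⟩ := hx2
    rw [SetLike.mem_coe, mem_subgroupOf] at hy
    have hgb : (g : G) • b ≠ b := by
      intro h
      apply hg
      rw [mem_subgroupOf]
      exact ⟨g.2, h⟩
    have hga : (g : G) • a = a := g.2
    have hgba : (g : G) • b ≠ a := by
      intro h
      have h' : (g : G) • b = (g : G) • a := h.trans hga.symm
      exact hab (smul_left_cancel _ h').symm
    have hxg : (x : G) • ((g : G) • b) = (g : G) • b := by
      have e : (x : G) = (g : G) * (y : G) * (g : G)⁻¹ := by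
        rw [← hyx]; simp [MulAut.smul_def, MulAut.conj_apply]
      rw [e, mul_smul, mul_smul, inv_smul_smul]
      have : (y : G) • b = b := hy.2
      rw [this]
    have hx : (x : G) = 1 :=
      eq_one_of_fix3 hZ hab hgb.symm hgba.symm hx1.1 hx1.2 hxg
    exact Subtype.ext hx

/-- odd `p`-subgroups of the two-point stabilizer of a finite Zassenhaus group are cyclic -/
theorem pgroup_isCyclic [Finite G] (hZ : IsZassenhausGroup G Ω) {a b : Ω} (hab : a ≠ b)
    {p : ℕ} [hp : Fact p.Prime] (hp2 : p ≠ 2) (Q : Subgroup G) (hQ : IsPGroup p Q)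
    (hQH : Q ≤ stabilizer G a ⊓ stabilizer G b) : IsCyclic Q := by
  set S := stabilizer G a with hS
  set HS := (stabilizer G a ⊓ stabilizer G b : Subgroup G).subgroupOf S with hHS
  have hF : IsFrobeniusComplement HS := isFrobeniusComplement_two_point hZ hab
  obtain ⟨N, hN, hNn, -⟩ := Cfsg.Agent.S0035.result HS hF
  have hfpf := Cfsg.Agent.Helper1.FrobGroup.fpf_form hF hN
  have hN1 := Cfsg.Agent.Helper1.FrobGroup.kernel_ne_bot hF hN
  have hQS : Q ≤ S := hQH.trans inf_le_left
  have hQp : IsPGroup p (Q.subgroupOf S) := hQ.comap_subtype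
  have hle : Q.subgroupOf S ≤ HS := by
    intro x hx
    rw [mem_subgroupOf] at hx ⊢
    exact hQH hx
  have h1 := Cfsg.Agent.Helper1.fpf_pgroup_cyclic_or_quaternion hN1 (Q.subgroupOf S) hQp
    (fun x hx hx1 => hfpf x (hle hx) hx1)
  have h2 : IsCyclic (Q.subgroupOf S) := h1.resolve_right (fun h => hp2 h.1)
  have e : (Q.subgroupOf S) ≃* Q := subgroupOfEquivOfLe hQS
  exact isCyclic_of_surjective e e.surjective


/-- elements normalizing a nontrivial subgroup of the two-point stabilizer preserve `{a,b}` -/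
theorem normalizer_cases (hZ : IsZassenhausGroup G Ω) {a b : Ω} (hab : a ≠ b)
    {Q : Subgroup G} (hQ1 : Q ≠ ⊥) (hQH : Q ≤ stabilizer G a ⊓ stabilizer G b) {g : G}
    (hg : g ∈ normalizer (Q : Set G)) :
    (g • a = a ∧ g • b = b) ∨ (g • a = b ∧ g • b = a) := by
  obtain ⟨x', hx'⟩ := Subgroup.ne_bot_iff_exists_ne_one.mp hQ1
  obtain ⟨x, hxQ, hx1⟩ : ∃ x : G, x ∈ Q ∧ x ≠ 1 :=
    ⟨(x' : G), x'.2, fun h => hx' (Subtype.ext h)⟩
  have hxa : x • a = a := (hQH hxQ).1
  have hxb : x • b = b := (hQH hxQ).2
  have hy : g⁻¹ * x * g ∈ Q := (mem_normalizer_iff''.mp hg x).mp hxQ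
  have hya : (g⁻¹ * x * g) • a = a := (hQH hy).1
  have hyb : (g⁻¹ * x * g) • b = b := (hQH hy).2
  have hfix : ∀ c : Ω, (g⁻¹ * x * g) • c = c → x • (g • c) = g • c := by
    intro c hc
    have e : x * g = g * (g⁻¹ * x * g) := by group
    rw [← mul_smul, e, mul_smul, hc]
  have h1 := fixed_of_fix2 hZ hab hx1 hxa hxb (hfix a hya)
  have h2 := fixed_of_fix2 hZ hab hx1 hxa hxb (hfix b hyb)
  have hne : g • a ≠ g • b := fun h => hab (smul_left_cancel g h)
  rcases h1 with h1 | h1 <;> rcases h2 with h2 | h2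
  · exact absurd (h1.trans h2.symm) hne
  · exact Or.inl ⟨h1, h2⟩
  · exact Or.inr ⟨h1, h2⟩
  · exact absurd (h1.trans h2.symm) hne

theorem swap_conj_mem {a b : Ω} {s h : G} (hsa : s • a = b) (hsb : s • b = a)
    (hh : h ∈ stabilizer G a ⊓ stabilizer G b) :
    s * h * s⁻¹ ∈ stabilizer G a ⊓ stabilizer G b := by
  have hia : s⁻¹ • a = b := by rw [← hsb, inv_smul_smul]
  have hib : s⁻¹ • b = a := by rw [← hsa, inv_smul_smul]
  have hha : h • a = a := hh.1
  have hhb : h • b = b := hh.2
  refine mem_inf.mpr ⟨?_, ?_⟩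
  · rw [mem_stabilizer_iff, mul_smul, mul_smul, hia, hhb, hsb]
  · rw [mem_stabilizer_iff, mul_smul, mul_smul, hib, hha, hsa]

theorem main [Finite G] [Fintype Ω] (hZ : IsZassenhausGroup G Ω) {a b : Ω} (hab : a ≠ b)
    (hodd : Odd (Nat.card ↥(stabilizer G a ⊓ stabilizer G b)))
    (hnil : ∀ q : ℕ, q.Prime → q ∣ Nat.card ↥(stabilizer G a ⊓ stabilizer G b) →
      ¬ ∃ N : Subgroup G, N.Normal ∧ N.index = q ^ (Nat.card G).factorization q) :
    IsCyclic ↥(stabilizer G a ⊓ stabilizer G b) ∧
    Subgroup.centralizer ((stabilizer G a ⊓ stabilizer G b : Subgroup G) : Set G) =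
      stabilizer G a ⊓ stabilizer G b ∧
    ∀ s : G, s • a = b → s • b = a → ∀ h ∈ stabilizer G a ⊓ stabilizer G b,
      s * h * s⁻¹ = h⁻¹ := by
  classical
  set H : Subgroup G := stabilizer G a ⊓ stabilizer G b with hH
  have hH1 : H ≠ ⊥ := by
    obtain ⟨x, hx1, hxa, hxb⟩ := exists_ne_one_fix2 hZ hab
    intro h
    have : x ∈ H := ⟨hxa, hxb⟩
    rw [h, mem_bot] at this
    exact hx1 this
  have hnot2 : ¬ 2 ∣ Nat.card H := fun h => (Nat.not_even_iff_odd.mpr hodd) (even_iff_two_dvd.mpr h)
  have hZG : IsZGroup H := by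
    constructor
    intro p hp P
    have : Fact p.Prime := ⟨hp⟩
    by_cases hp2 : p = 2
    · subst hp2
      have h1 : Nat.card P = 1 := by
        rcases P.isPGroup'.card_eq_or_dvd with h | h
        · exact h
        · exact absurd (h.trans (card_dvd_of_le (le_top : (P : Subgroup H) ≤ ⊤)) |>.trans
            (by rw [card_top])) hnot2
      have : Subsingleton P := (Nat.card_eq_one_iff_unique.mp h1).1
      exact isCyclic_of_subsingleton
    · have h1 : IsCyclic ((P : Subgroup H).map H.subtype) :=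
        pgroup_isCyclic hZ hab hp2 _ (P.isPGroup'.map H.subtype) (map_subtype_le _)
      have e : (P : Subgroup H) ≃* ((P : Subgroup H).map H.subtype) :=
        (P : Subgroup H).equivMapOfInjective H.subtype H.subtype_injective
      exact isCyclic_of_surjective e.symm e.symm.surjective
  obtain ⟨t, hta, htb⟩ := two_trans hZ hab hab.symm
  have htia : t⁻¹ • a = b := by rw [← htb, inv_smul_smul]
  have htib : t⁻¹ • b = a := by rw [← hta, inv_smul_smul]
  have ht : t ∈ normalizer (H : Set G) := by
    rw [mem_normalizer_iff]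
    intro h
    constructor
    · exact swap_conj_mem hta htb
    · intro hh
      have := swap_conj_mem htia htib hh
      rw [inv_inv] at this
      have e : t⁻¹ * (t * h * t⁻¹) * t = h := by group
      rwa [e] at this
  have htt : t * t ∈ H := by
    refine mem_inf.mpr ⟨?_, ?_⟩
    · rw [mem_stabilizer_iff, mul_smul, hta, htb]
    · rw [mem_stabilizer_iff, mul_smul, htb, hta]
  have hswapmem : ∀ g : G, g • a = b → g • b = a → ∃ h ∈ H, g = t * h := by
    intro g hga hgb
    refine ⟨t⁻¹ * g, mem_inf.mpr ⟨?_, ?_⟩, by group⟩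
    · rw [mem_stabilizer_iff, mul_smul, hga, htib]
    · rw [mem_stabilizer_iff, mul_smul, hgb, htia]
  have hn3 : 3 ≤ Fintype.card Ω := Cfsg.Agent.Helper5.Zassenhaus.three_le_card hZ
  have hcardG := Cfsg.Agent.Helper5.Zassenhaus.card_group hZ hab
  have hQ : ∀ q : ℕ, q.Prime → q ∣ Nat.card H → ∃ Q : Subgroup G, Q ≤ H ∧ IsPGroup q Q ∧
      ¬ q ∣ Q.relIndex H ∧ (∀ g ∈ normalizer (Q : Set G), g ∈ H ∨ ∃ h ∈ H, g = t * h) ∧
      ∃ g ∈ normalizer (Q : Set G), g ∉ centralizer (Q : Set G) := by
    intro q hq hqH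
    have : Fact q.Prime := ⟨hq⟩
    have hq2 : q ≠ 2 := by rintro rfl; exact hnot2 hqH
    have hq3 : 3 ≤ q := by
      have := hq.two_le
      omega
    let Q₀ : Sylow q H := default
    set Q : Subgroup G := (Q₀ : Subgroup H).map H.subtype with hQdef
    have hQH : Q ≤ H := map_subtype_le _
    have hQp : IsPGroup q Q := Q₀.isPGroup'.map H.subtype
    have hQcard : Nat.card Q = q ^ (Nat.card H).factorization q := by
      rw [hQdef, card_map_of_injective H.subtype_injective]
      exact Q₀.card_eq_multiplicity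
    have hfpos : 0 < (Nat.card H).factorization q :=
      hq.factorization_pos_of_dvd Nat.card_pos.ne' hqH
    have hQ1 : Q ≠ ⊥ := by
      intro h
      rw [h, card_bot] at hQcard
      have : 1 < q ^ (Nat.card H).factorization q := Nat.one_lt_pow hfpos.ne' hq.one_lt
      omega
    -- the congruence n ≡ 2 mod q
    have hmod : Fintype.card Ω ≡ 2 [MOD q] := by
      have h1 := hQp.card_modEq_card_fixedPoints Ω
      have h2 : fixedPoints Q Ω = ({a, b} : Set Ω) := by
        ext c
        simp only [mem_fixedPoints, Set.mem_insert_iff, Set.mem_singleton_iff]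
        constructor
        · intro hc
          obtain ⟨x, hx1⟩ := Subgroup.ne_bot_iff_exists_ne_one.mp hQ1
          have hx1' : (x : G) ≠ 1 := fun h => hx1 (Subtype.ext h)
          exact fixed_of_fix2 hZ hab hx1' (hQH x.2).1 (hQH x.2).2 (hc x)
        · rintro (rfl | rfl) x
          · exact (hQH x.2).1
          · exact (hQH x.2).2
      have h3 : Nat.card (fixedPoints Q Ω) = 2 := by
        rw [h2]
        rw [Nat.card_coe_set_eq]
        exact Set.ncard_pair hab
      rw [h3, Nat.card_eq_fintype_card] at h1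
      exact h1
    have hqn : ¬ q ∣ Fintype.card Ω := by
      intro h
      have := (hmod.dvd_iff (dvd_refl q)).mp h
      have := Nat.le_of_dvd (by norm_num) this
      omega
    have hqn1 : ¬ q ∣ Fintype.card Ω - 1 := by
      intro h
      have h1 : Fintype.card Ω - 1 + 1 ≡ 1 + 1 [MOD q] := by
        have e : Fintype.card Ω - 1 + 1 = Fintype.card Ω := by omega
        rw [e]; exact hmod
      have h2 : Fintype.card Ω - 1 ≡ 1 [MOD q] := Nat.ModEq.add_right_cancel' 1 h1
      have := (h2.dvd_iff (dvd_refl q)).mp h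
      have := Nat.le_of_dvd (by norm_num) this
      omega
    have hfact : (Nat.card G).factorization q = (Nat.card H).factorization q := by
      rw [hcardG, ← hH]
      have hn0 : Fintype.card Ω ≠ 0 := by omega
      have hn10 : Fintype.card Ω - 1 ≠ 0 := by omega
      rw [Nat.factorization_mul (Nat.mul_ne_zero hn0 hn10) Nat.card_pos.ne',
        Nat.factorization_mul hn0 hn10]
      simp only [Finsupp.coe_add, Pi.add_apply]
      rw [Nat.factorization_eq_zero_of_not_dvd hqn, Nat.factorization_eq_zero_of_not_dvd hqn1]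
      simp
    let P : Sylow q G := Sylow.ofCard Q (by rw [hQcard, hfact])
    have hPQ : (P : Subgroup G) = Q := Sylow.coe_ofCard _ _
    refine ⟨Q, hQH, hQp, ?_, ?_, ?_⟩
    · intro h
      apply P.not_dvd_index
      rw [hPQ, ← relIndex_mul_index hQH]
      exact Dvd.dvd.mul_right h _
    · intro g hg
      rcases normalizer_cases hZ hab hQ1 hQH hg with ⟨h1, h2⟩ | ⟨h1, h2⟩
      · exact Or.inl ⟨h1, h2⟩
      · exact Or.inr (hswapmem g h1 h2)
    · by_contra hcon
      push Not at hcon
      have hP : normalizer ((P : Subgroup G) : Set G) ≤ centralizer ((P : Subgroup G) : Set G) := by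
        rw [hPQ]
        intro g hg
        exact hcon g hg
      have hcomp := MonoidHom.ker_transferSylow_isComplement' P hP
      apply hnil q hq hqH
      refine ⟨(MonoidHom.transferSylow P hP).ker, inferInstance, ?_⟩
      have h1 := hcomp.symm.index_eq_card
      rw [h1]
      exact P.card_eq_multiplicity
  obtain ⟨hcyc, hinv⟩ := zgroup_inverted H hodd t ht htt hQ
  have hcomm : IsMulCommutative H := IsCyclic.isMulCommutative
  refine ⟨hcyc, ?_, ?_⟩
  · apply le_antisymm
    · intro g hg
      have hgN : g ∈ normalizer (H : Set G) := centralizer_le_normalizer _ hg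
      rcases normalizer_cases hZ hab hH1 le_rfl hgN with h | ⟨h1, h2⟩
      · exact h
      · exfalso
        obtain ⟨h', hh', rfl⟩ := hswapmem g h1 h2
        apply hH1
        rw [eq_bot_iff]
        intro y hy
        rw [mem_bot]
        have hy2 : Odd (orderOf y) := by
          have h1 : orderOf y ∣ Nat.card H := by
            have := orderOf_dvd_natCard (⟨y, hy⟩ : H)
            rwa [Subgroup.orderOf_mk] at this
          exact hodd.of_dvd_nat h1
        have e1 : t * h' * y = y * (t * h') := (hg y hy).symm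
        have e2 : h' * y = y * h' := setLike_mul_comm (s := H) hh' hy
        have e3 : t * y * t⁻¹ = y := by
          calc t * y * t⁻¹ = (t * h' * y) * h'⁻¹ * t⁻¹ := by
                rw [mul_assoc t h' y, e2]; group
            _ = y * (t * h') * h'⁻¹ * t⁻¹ := by rw [e1]
            _ = y := by group
        have e4 : y = y⁻¹ := e3.symm.trans (hinv y hy)
        have e5 : y * y = 1 := by
          nth_rewrite 2 [e4]; exact mul_inv_cancel y
        have : y ∈ (⊥ : Subgroup G) := mem_of_sq_mem_of_odd hy2 (by rw [e5]; exact one_mem _)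
        exact mem_bot.mp this
    · exact le_centralizer_iff_isMulCommutative.mpr hcomm
  · intro s hsa hsb y hy
    obtain ⟨h', hh', rfl⟩ := hswapmem s hsa hsb
    have e2 : h' * y = y * h' := setLike_mul_comm (s := H) hh' hy
    calc t * h' * y * (t * h')⁻¹ = t * (h' * y) * h'⁻¹ * t⁻¹ := by group
      _ = t * (y * h') * h'⁻¹ * t⁻¹ := by rw [e2]
      _ = t * y * t⁻¹ := by group
      _ = y⁻¹ := hinv y hy

end Cfsg.Agent.Helper16.ZassOdd
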