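import Mathlib
import Cfsg.Agent.Helper2.S2094.DefsR
import Cfsg.Agent.Helper22.S2094CONJLS
import Cfsg.Agent.Helper26.S2094CONJSL
import Cfsg.Agent.Helper26.S2094CONJSS1
import Cfsg.Agent.Helper27.S2094CONJSS2

set_option autoImplicit false
set_option linter.unusedSectionVars false
set_option linter.unusedVariables false

/-! S2094 chapter R (driver helper2), piece NSCONJB: the Weyl elements of the long and of the short
roots permute the root subgroups. -/

namespace Cfsg.Agent.S2094P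

open Matrix Cfsg.Agent.S3352P Cfsg.Agent.S3351P Cfsg.Agent.S2096P Cfsg.Agent.RGD

variable {n : ℕ} {F : Type*} [Field F] {M : Type*} [Group M] {X : J n → J n → F → M}
  {Ys : J n → F → M}

namespace NSCONJB

theorem sw_of_ne {a b c : J n} (h1 : c ≠ a) (h2 : c ≠ b) (h3 : c ≠ ng a) (h4 : c ≠ ng b) :
    sw a b c = c := by
  unfold sw
  rw [Equiv.Perm.mul_apply, Equiv.swap_apply_of_ne_of_ne h3 h4, Equiv.swap_apply_of_ne_of_ne h1 h2]

theorem sc_self (a : J n) : sc a a = ng a := by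
  unfold sc
  exact Equiv.swap_apply_left _ _

theorem sc_ng (a : J n) : sc a (ng a) = a := by
  unfold sc
  exact Equiv.swap_apply_right _ _

theorem sc_of_ne {a c : J n} (h1 : c ≠ a) (h2 : c ≠ ng a) : sc a c = c := by
  unfold sc
  exact Equiv.swap_apply_of_ne_of_ne h1 h2

end NSCONJB

open NSCONJB

/-- NSCONJB -/
theorem wX_conj_mem_U [Finite F] (hn : 3 ≤ n) (hB : BRel X Ys) {a b : J n} (hab : IsRoot a b)
    {t : F} (ht : t ≠ 0) {r : RB n} (hr : r.Valid) {x : M} (hx : x ∈ r.U X Ys) :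
    wX X a b t * x * (wX X a b t)⁻¹ ∈ (r.map (sw a b)).U X Ys := by
  cases r with
  | lg c d =>
    have hcd : IsRoot c d := hr
    obtain ⟨u, rfl⟩ := (mem_U_lg hB hcd).1 hx
    obtain ⟨η, _, h⟩ := wX_conj hn hB.dX hab ht hcd
    show _ ∈ (RB.lg (sw a b c) (sw a b d) : RB n).U X Ys
    rw [mem_U_lg hB (isRoot_sw hcd)]
    exact ⟨η * u, h u⟩
  | sh c =>
    obtain ⟨u, rfl⟩ := (mem_U_sh hB c).1 hx
    show _ ∈ (RB.sh (sw a b c) : RB n).U X Ys
    rw [mem_U_sh hB]
    by_cases h1 : c = a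
    · subst h1
      rw [WCONJ.sw_left _ _ hab]
      exact ⟨_, wX_conj_Ys_fst hB hab ht u⟩
    by_cases h2 : c = b
    · subst h2
      rw [WCONJ.sw_right _ _ hab]
      exact ⟨_, wX_conj_Ys_snd hB hab ht u⟩
    by_cases h3 : c = ng a
    · subst h3
      rw [sw_ng, WCONJ.sw_left _ _ hab]
      exact ⟨_, wX_conj_Ys_ng_fst hB hab ht u⟩
    by_cases h4 : c = ng b
    · subst h4
      rw [sw_ng, WCONJ.sw_right _ _ hab]
      exact ⟨_, wX_conj_Ys_ng_snd hB hab ht u⟩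
    rw [sw_of_ne h1 h2 h3 h4]
    exact ⟨_, wX_conj_Ys_of_ne hB hab t h1 h2 h3 h4 u⟩

theorem wY_conj_mem_U (hn : 3 ≤ n) (hB : BRel X Ys) (a : J n) {t : F} (ht : t ≠ 0) {r : RB n}
    (hr : r.Valid) {x : M} (hx : x ∈ r.U X Ys) :
    wY Ys a t * x * (wY Ys a t)⁻¹ ∈ (r.map (sc a)).U X Ys := by
  cases r with
  | lg c d =>
    have hcd : IsRoot c d := hr
    obtain ⟨u, rfl⟩ := (mem_U_lg hB hcd).1 hx
    show _ ∈ (RB.lg (sc a c) (sc a d) : RB n).U X Ys
    have hv : IsRoot (sc a c) (sc a d) :=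
      RB.valid_map (r := RB.lg c d) (sc_ngEquivariant a) hcd
    rw [mem_U_lg hB hv]
    by_cases h1 : c = a
    · subst h1
      have hd1 : d ≠ c := fun h => hcd.1 h.symm
      have hd2 : d ≠ ng c := fun h => hcd.2 (by rw [h, ng_ng])
      rw [sc_self, sc_of_ne hd1 hd2]
      exact ⟨_, wY_conj_X_fst hB hcd ht u⟩
    by_cases h2 : c = ng a
    · subst h2
      have had : IsRoot a d := by
        have := isRoot_ng_left' hcd
        rwa [ng_ng] at this
      have hd1 : d ≠ a := fun h => had.1 h.symm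
      have hd2 : d ≠ ng a := fun h => hcd.1 h.symm
      rw [sc_ng, sc_of_ne hd1 hd2]
      exact ⟨_, wY_conj_X_ng_fst hB had ht u⟩
    by_cases h3 : d = a
    · subst h3
      rw [sc_of_ne h1 h2, sc_self]
      exact ⟨_, wY_conj_X_snd hB hcd ht u⟩
    by_cases h4 : d = ng a
    · subst h4
      have hca : IsRoot c a := by
        have := isRoot_ng_right' hcd
        rwa [ng_ng] at this
      rw [sc_of_ne h1 h2, sc_ng]
      exact ⟨_, wY_conj_X_ng_snd hB hca ht u⟩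
    rw [sc_of_ne h1 h2, sc_of_ne h3 h4]
    exact ⟨_, wY_conj_X_of_ne hB a t hcd h1 h2 h3 h4 u⟩
  | sh c =>
    obtain ⟨u, rfl⟩ := (mem_U_sh hB c).1 hx
    show _ ∈ (RB.sh (sc a c) : RB n).U X Ys
    rw [mem_U_sh hB]
    by_cases h1 : c = a
    · subst h1
      rw [sc_self]
      exact ⟨_, wY_conj_Ys_self hn hB c ht u⟩
    by_cases h2 : c = ng a
    · subst h2
      rw [sc_ng]
      exact ⟨_, wY_conj_Ys_ng hn hB a ht u⟩
    rw [sc_of_ne h1 h2]
    have hac : IsRoot a c := ⟨fun h => h1 h.symm, fun h => h2 (by rw [h, ng_ng])⟩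
    exact ⟨_, wY_conj_Ys_of_ne hB hac ht u⟩

end Cfsg.Agent.S2094P
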