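import Mathlib
import Cfsg.Agent.Helper2.S2094.DefsR
import Cfsg.Agent.Helper16.S2094NSCONJB

set_option autoImplicit false
set_option linter.unusedSectionVars false
set_option linter.unusedVariables false

/-! S2094 chapter R (driver helper2), piece TCONJB: the torus `HhB` normalizes the root
subgroups. -/

namespace Cfsg.Agent.S2094P

open Matrix Cfsg.Agent.S3352P Cfsg.Agent.S3351P Cfsg.Agent.S2096P Cfsg.Agent.RGD

variable {n : ℕ} {F : Type*} [Field F] {M : Type*} [Group M] {X : J n → J n → F → M}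
  {Ys : J n → F → M}

namespace TCONJB

theorem wX_inv_eq (hX : DRel X) {a b : J n} (hab : IsRoot a b) (t : F) :
    (wX X a b t)⁻¹ = wX X a b (-t) := by
  unfold wX
  rw [_root_.mul_inv_rev, _root_.mul_inv_rev, WCONJ.X_inv hX hab, WCONJ.X_inv hX hab.symm,
    neg_neg, inv_neg, neg_neg, mul_assoc]

theorem wY_inv_eq (hB : BRel X Ys) (a : J n) (t : F) : (wY Ys a t)⁻¹ = wY Ys a (-t) := by
  unfold wY
  rw [_root_.mul_inv_rev, _root_.mul_inv_rev, Ys_inv hB, Ys_inv hB, inv_neg, mul_assoc]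

/-- `g` normalizes all the root subgroups, and so does its inverse -/
def Nrm (X : J n → J n → F → M) (Ys : J n → F → M) (g : M) : Prop :=
  ∀ r : RB n, r.Valid → ∀ x ∈ r.U X Ys, g * x * g⁻¹ ∈ r.U X Ys ∧ g⁻¹ * x * g ∈ r.U X Ys

theorem nrm_tX [Finite F] (hn : 3 ≤ n) (hB : BRel X Ys) {a b : J n} (hab : IsRoot a b) {t : F}
    (ht : t ≠ 0) : Nrm X Ys (tX X a b t) := by
  intro r hr x hx
  have hv : (r.map (sw a b)).Valid := RB.valid_map (sw_ngEquivariant a b) hr
  have hmm : (r.map (sw a b)).map (sw a b) = r := RB.map_map_perm (RB.lg a b) r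
  have h1 : (1 : F) ≠ 0 := one_ne_zero
  have hm1 : (-1 : F) ≠ 0 := neg_ne_zero.mpr one_ne_zero
  have hmt : (-t : F) ≠ 0 := neg_ne_zero.mpr ht
  constructor
  · have e1 := wX_conj_mem_U hn hB hab hm1 hr hx
    have e2 := wX_conj_mem_U hn hB hab ht hv e1
    rw [hmm] at e2
    have : tX X a b t * x * (tX X a b t)⁻¹ =
        wX X a b t * (wX X a b (-1) * x * (wX X a b (-1))⁻¹) * (wX X a b t)⁻¹ := by
      unfold tX; group
    rw [this]; exact e2
  · have e1 := wX_conj_mem_U hn hB hab hmt hr hx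
    have e2 := wX_conj_mem_U hn hB hab h1 hv e1
    rw [hmm] at e2
    have : (tX X a b t)⁻¹ * x * tX X a b t =
        wX X a b 1 * (wX X a b (-t) * x * (wX X a b (-t))⁻¹) * (wX X a b 1)⁻¹ := by
      unfold tX
      rw [_root_.mul_inv_rev, wX_inv_eq hB.dX hab (-t), neg_neg, wX_inv_eq hB.dX hab (-1), neg_neg,
        wX_inv_eq hB.dX hab 1, wX_inv_eq hB.dX hab t]
      group
    rw [this]; exact e2

theorem nrm_tY (hn : 3 ≤ n) (hB : BRel X Ys) (a : J n) {t : F} (ht : t ≠ 0) :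
    Nrm X Ys (tY Ys a t) := by
  intro r hr x hx
  have hv : (r.map (sc a)).Valid := RB.valid_map (sc_ngEquivariant a) hr
  have hmm : (r.map (sc a)).map (sc a) = r := RB.map_map_perm (RB.sh a) r
  have h1 : (1 : F) ≠ 0 := one_ne_zero
  have hm1 : (-1 : F) ≠ 0 := neg_ne_zero.mpr one_ne_zero
  have hmt : (-t : F) ≠ 0 := neg_ne_zero.mpr ht
  constructor
  · have e1 := wY_conj_mem_U hn hB a hm1 hr hx
    have e2 := wY_conj_mem_U hn hB a ht hv e1
    rw [hmm] at e2
    have : tY Ys a t * x * (tY Ys a t)⁻¹ =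
        wY Ys a t * (wY Ys a (-1) * x * (wY Ys a (-1))⁻¹) * (wY Ys a t)⁻¹ := by
      unfold tY; group
    rw [this]; exact e2
  · have e1 := wY_conj_mem_U hn hB a hmt hr hx
    have e2 := wY_conj_mem_U hn hB a h1 hv e1
    rw [hmm] at e2
    have : (tY Ys a t)⁻¹ * x * tY Ys a t =
        wY Ys a 1 * (wY Ys a (-t) * x * (wY Ys a (-t))⁻¹) * (wY Ys a 1)⁻¹ := by
      unfold tY
      rw [_root_.mul_inv_rev, wY_inv_eq hB a (-t), neg_neg, wY_inv_eq hB a (-1), neg_neg,
        wY_inv_eq hB a 1, wY_inv_eq hB a t]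
      group
    rw [this]; exact e2

theorem nrm_of_mem [Finite F] (hn : 3 ≤ n) (hB : BRel X Ys) {h : M} (hh : h ∈ HhB X Ys) :
    Nrm X Ys h := by
  unfold HhB at hh
  induction hh using Subgroup.closure_induction with
  | mem g hg =>
    rcases hg with ⟨a, b, t, hab, ht, rfl⟩ | ⟨a, t, ht, rfl⟩
    · exact nrm_tX hn hB hab ht
    · exact nrm_tY hn hB a ht
  | one =>
    intro r hr x hx
    simp only [inv_one, mul_one, one_mul]
    exact ⟨hx, hx⟩
  | mul g k _ _ hg hk =>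
    intro r hr x hx
    constructor
    · have e1 := (hk r hr x hx).1
      have e2 := (hg r hr _ e1).1
      have : g * k * x * (g * k)⁻¹ = g * (k * x * k⁻¹) * g⁻¹ := by group
      rw [this]; exact e2
    · have e1 := (hg r hr x hx).2
      have e2 := (hk r hr _ e1).2
      have : (g * k)⁻¹ * x * (g * k) = k⁻¹ * (g⁻¹ * x * g) * k := by group
      rw [this]; exact e2
  | inv g _ hg =>
    intro r hr x hx
    have := hg r hr x hx
    rw [inv_inv]
    exact ⟨this.2, this.1⟩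

end TCONJB

open TCONJB

/-- TCONJB -/
theorem HhB_conj_X [Finite F] (hn : 3 ≤ n) (hB : BRel X Ys) {h : M} (hh : h ∈ HhB X Ys)
    {c d : J n} (hcd : IsRoot c d) (u : F) : ∃ u' : F, h * X c d u * h⁻¹ = X c d u' := by
  have := (nrm_of_mem hn hB hh (RB.lg c d) hcd (X c d u) ((mem_U_lg hB hcd).2 ⟨u, rfl⟩)).1
  exact (mem_U_lg hB hcd).1 this

theorem HhB_conj_Ys [Finite F] (hn : 3 ≤ n) (hB : BRel X Ys) {h : M} (hh : h ∈ HhB X Ys)
    (c : J n) (u : F) : ∃ u' : F, h * Ys c u * h⁻¹ = Ys c u' := by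
  have := (nrm_of_mem hn hB hh (RB.sh c) trivial (Ys c u) ((mem_U_sh hB c).2 ⟨u, rfl⟩)).1
  exact (mem_U_sh hB c).1 this

end Cfsg.Agent.S2094P
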