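import Cfsg.Agent.Helper21.S2293DEFS
import Cfsg.Agent.Helper21.S2286FIN

/-! S2293 piece TORUS4 (driver helper21; helper16): the torus `T = ⟨h1, h2⟩` of a `C2Data` is abelian;
`na`, `nb`, `c` act on `tor i j = h1^i h2^j` by `(i, j) ↦ (j, i)`, `(i, -j)`, `(-j, i)`; `tor i j` acts on
`φa`, `φb` by `ω^(i-j)`, `ω^(2j)`. Twin of `S2287TORUS` (helper19). -/

namespace Cfsg.Agent.Helper21.S2293

open Multiplicative Cfsg.Agent.Helper21.S2286

variable {F : Type*} [Field F] {P : Type*} [Group P] (D : C2Data F P)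

namespace C2Data

namespace TORUS4

variable {F : Type*} [Field F] {P : Type*} [Group P]

/-- `g` acts on the root group `φ` by the unit `lam` -/
def Act (φ : Multiplicative F →* P) (g : P) (lam : Fˣ) : Prop :=
  ∀ a : F, g * φ (ofAdd a) * g⁻¹ = φ (ofAdd ((lam : F) * a))

theorem act_one (φ : Multiplicative F →* P) : Act φ 1 1 := by
  intro a
  rw [one_mul, inv_one, mul_one, Units.val_one, one_mul]

theorem act_mul {φ : Multiplicative F →* P} {g g' : P} {lam lam' : Fˣ} (hg : Act φ g lam)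
    (hg' : Act φ g' lam') : Act φ (g * g') (lam * lam') := by
  intro a
  have e : g * g' * φ (ofAdd a) * (g * g')⁻¹ = g * (g' * φ (ofAdd a) * g'⁻¹) * g⁻¹ := by
    group
  rw [e, hg', hg, Units.val_mul, mul_assoc]

theorem act_inv {φ : Multiplicative F →* P} {g : P} {lam : Fˣ} (hg : Act φ g lam) :
    Act φ g⁻¹ lam⁻¹ := by
  intro a
  have h1 := hg (((lam⁻¹ : Fˣ) : F) * a)
  rw [← mul_assoc, ← Units.val_mul, mul_inv_cancel, Units.val_one, one_mul] at h1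
  rw [← h1, inv_inv]
  group

theorem act_zpow {φ : Multiplicative F →* P} {g : P} {lam : Fˣ} (hg : Act φ g lam) (n : ℤ) :
    Act φ (g ^ n) (lam ^ n) := by
  induction n using Int.induction_on with
  | zero =>
    rw [zpow_zero, zpow_zero]
    exact act_one φ
  | succ n ih =>
    rw [zpow_add_one, zpow_add_one]
    exact act_mul ih hg
  | pred n ih =>
    rw [zpow_sub_one, zpow_sub_one]
    exact act_mul ih (act_inv hg)

theorem conj_zpow' (g x : P) (n : ℤ) : g * x ^ n * g⁻¹ = (g * x * g⁻¹) ^ n :=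
  (_root_.conj_zpow).symm

theorem conj_mul' (g x y : P) : g * (x * y) * g⁻¹ = (g * x * g⁻¹) * (g * y * g⁻¹) := by
  group

end TORUS4

theorem tor_mul (i j i' j' : ℤ) : D.tor i j * D.tor i' j' = D.tor (i + i') (j + j') := by
  unfold tor
  have hc : D.h2 ^ j * D.h1 ^ i' = D.h1 ^ i' * D.h2 ^ j := (D.h12.zpow_zpow i' j).symm.eq
  calc D.h1 ^ i * D.h2 ^ j * (D.h1 ^ i' * D.h2 ^ j')
      = D.h1 ^ i * (D.h2 ^ j * D.h1 ^ i') * D.h2 ^ j' := by simp only [mul_assoc]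
    _ = D.h1 ^ i * (D.h1 ^ i' * D.h2 ^ j) * D.h2 ^ j' := by rw [hc]
    _ = (D.h1 ^ i * D.h1 ^ i') * (D.h2 ^ j * D.h2 ^ j') := by simp only [mul_assoc]
    _ = D.h1 ^ (i + i') * D.h2 ^ (j + j') := by rw [zpow_add, zpow_add]

theorem tor_zero : D.tor 0 0 = 1 := by
  unfold tor
  rw [zpow_zero, zpow_zero, one_mul]

theorem tor_inv (i j : ℤ) : (D.tor i j)⁻¹ = D.tor (-i) (-j) := by
  apply inv_eq_of_mul_eq_one_right
  rw [tor_mul, add_neg_cancel, add_neg_cancel, tor_zero]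

theorem na_tor (i j : ℤ) : D.na * D.tor i j * D.na⁻¹ = D.tor j i := by
  unfold tor
  rw [TORUS4.conj_mul', TORUS4.conj_zpow', TORUS4.conj_zpow', D.na_h1, D.na_h2]
  exact (D.h12.zpow_zpow j i).symm.eq

theorem nb_tor (i j : ℤ) : D.nb * D.tor i j * D.nb⁻¹ = D.tor i (-j) := by
  unfold tor
  rw [TORUS4.conj_mul', TORUS4.conj_zpow', TORUS4.conj_zpow', D.nb_h1, D.nb_h2, inv_zpow']

theorem c_tor (i j : ℤ) : D.c * D.tor i j * D.c⁻¹ = D.tor (-j) i := by
  have e : D.c * D.tor i j * D.c⁻¹ = D.na * (D.nb * D.tor i j * D.nb⁻¹) * D.na⁻¹ := by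
    unfold c
    group
  rw [e, nb_tor, na_tor]

theorem tor_phia (i j : ℤ) (a : F) :
    D.tor i j * D.φa (ofAdd a) * (D.tor i j)⁻¹ = D.φa (ofAdd ((D.ω : F) ^ (i - j) * a)) := by
  have hh1 : TORUS4.Act D.φa D.h1 D.ω := D.h1a
  have hh2 : TORUS4.Act D.φa D.h2 D.ω⁻¹ := D.h2a
  have h1 := TORUS4.act_mul (TORUS4.act_zpow hh1 i) (TORUS4.act_zpow hh2 j)
  have h2 := h1 a
  have e : ((D.ω ^ i * (D.ω⁻¹) ^ j : Fˣ) : F) = (D.ω : F) ^ (i - j) := by
    rw [← Units.val_zpow_eq_zpow_val]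
    congr 1
    rw [sub_eq_add_neg, zpow_add, zpow_neg, inv_zpow]
  rw [e] at h2
  exact h2

theorem tor_phib (i j : ℤ) (b : F) :
    D.tor i j * D.φb (ofAdd b) * (D.tor i j)⁻¹ = D.φb (ofAdd ((D.ω : F) ^ (2 * j) * b)) := by
  have hh1 : TORUS4.Act D.φb D.h1 1 := by
    intro b
    rw [Units.val_one, one_mul]
    exact D.h1b b
  have hh2 : TORUS4.Act D.φb D.h2 (D.ω ^ 2) := by
    intro b
    rw [Units.val_pow_eq_pow_val]
    exact D.h2b b
  have h1 := TORUS4.act_mul (TORUS4.act_zpow hh1 i) (TORUS4.act_zpow hh2 j)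
  have h2 := h1 b
  have e : (((1 : Fˣ) ^ i * (D.ω ^ 2) ^ j : Fˣ) : F) = (D.ω : F) ^ (2 * j) := by
    rw [← Units.val_zpow_eq_zpow_val]
    congr 1
    rw [one_zpow, one_mul, zpow_mul]
    rfl
  rw [e] at h2
  exact h2

theorem c4_tor : D.c ^ 4 = D.tor D.M D.M := by
  unfold c tor
  exact D.c4

theorem c4_comm_phia (a : F) : Commute (D.c ^ 4) (D.φa (ofAdd a)) := by
  have h := tor_phia D D.M D.M a
  rw [sub_self, zpow_zero, one_mul, ← c4_tor] at h
  exact mul_inv_eq_iff_eq_mul.mp h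

theorem c4_comm_phib (b : F) : Commute (D.c ^ 4) (D.φb (ofAdd b)) := by
  have h := tor_phib D D.M D.M b
  have e : (D.ω : F) ^ (2 * D.M) = 1 := by
    rw [mul_comm, zpow_mul, ← Units.val_zpow_eq_zpow_val, D.hM]
    simp
  rw [e, one_mul, ← c4_tor] at h
  exact mul_inv_eq_iff_eq_mul.mp h

end C2Data

end Cfsg.Agent.Helper21.S2293
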