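import Cfsg.Agent.Helper21.S2293DEFS
import Cfsg.Agent.Helper21.S2286FIN
import Cfsg.Agent.Helper9.S2286WEYL
import Cfsg.Agent.Helper16.S2293TORUS4

/-! S2293 piece WEYL4 (driver helper21; helper16): the rank one Weyl relations of a `C2Data` for all
parameters (`Cfsg.Agent.Helper21.S2286.weyl_odd` twice) and `tor i j = 1` when `ω^i = ω^j = 1`.
Twin of `S2287WEYL3` (helper19). -/

namespace Cfsg.Agent.Helper21.S2293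

open Multiplicative Cfsg.Agent.Helper21.S2286

variable {F : Type*} [Field F] {P : Type*} [Group P] (D : C2Data F P)

namespace C2Data

namespace WEYL4

variable {F : Type*} [Field F] {P : Type*} [Group P]

/-- the second seed of `weyl_odd` from the first one, by conjugating with `s⁻¹` -/
theorem hw2_of (ω : Fˣ) (φ : Multiplicative F →* P) (h t s : P)
    (hs : TORUS4.Act φ s ω) (hh : TORUS4.Act φ h (ω ^ 2))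
    (hst : s⁻¹ * t * (s⁻¹)⁻¹ = h⁻¹ * t) (hth : t * h * t⁻¹ = h⁻¹)
    (w1 : t * φ (ofAdd 1) * t⁻¹ = φ (ofAdd (-1)) * t * φ (ofAdd (-1))) :
    t * φ (ofAdd ((ω⁻¹ : Fˣ) : F)) * t⁻¹ =
      φ (ofAdd (-(ω : F))) * h * t * φ (ofAdd (-(ω : F))) := by
  have hact : TORUS4.Act φ s⁻¹ ω⁻¹ := TORUS4.act_inv hs
  have hA : s⁻¹ * φ (ofAdd 1) * (s⁻¹)⁻¹ = φ (ofAdd ((ω⁻¹ : Fˣ) : F)) := by
    rw [hact 1, mul_one]
  have hN : s⁻¹ * φ (ofAdd (-1)) * (s⁻¹)⁻¹ = φ (ofAdd (-((ω⁻¹ : Fˣ) : F))) := by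
    rw [hact (-1), mul_neg, mul_one]
  have key : (h⁻¹ * t) * φ (ofAdd ((ω⁻¹ : Fˣ) : F)) * (h⁻¹ * t)⁻¹ =
      φ (ofAdd (-((ω⁻¹ : Fˣ) : F))) * (h⁻¹ * t) * φ (ofAdd (-((ω⁻¹ : Fˣ) : F))) := by
    rw [← hst, ← hA, ← hN]
    have e1 : s⁻¹ * t * (s⁻¹)⁻¹ * (s⁻¹ * φ (ofAdd 1) * (s⁻¹)⁻¹) *
        (s⁻¹ * t * (s⁻¹)⁻¹)⁻¹ =
        s⁻¹ * (t * φ (ofAdd 1) * t⁻¹) * (s⁻¹)⁻¹ := by group
    have e2 : s⁻¹ * φ (ofAdd (-1)) * (s⁻¹)⁻¹ * (s⁻¹ * t * (s⁻¹)⁻¹) *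
        (s⁻¹ * φ (ofAdd (-1)) * (s⁻¹)⁻¹) =
        s⁻¹ * (φ (ofAdd (-1)) * t * φ (ofAdd (-1))) * (s⁻¹)⁻¹ := by group
    rw [e1, e2, w1]
  have hW : h * φ (ofAdd (-((ω⁻¹ : Fˣ) : F))) * h⁻¹ = φ (ofAdd (-(ω : F))) := by
    rw [hh]
    congr 2
    have h0 : (ω : F) ≠ 0 := Units.ne_zero _
    rw [Units.val_pow_eq_pow_val, Units.val_inv_eq_inv_val]
    field_simp
  have hth' : t * h⁻¹ = h * t := by
    have e : t * h⁻¹ = (t * h * t⁻¹)⁻¹ * t := by group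
    rw [e, hth, inv_inv]
  have e1 : t * φ (ofAdd ((ω⁻¹ : Fˣ) : F)) * t⁻¹ =
      h * ((h⁻¹ * t) * φ (ofAdd ((ω⁻¹ : Fˣ) : F)) * (h⁻¹ * t)⁻¹) * h⁻¹ := by group
  rw [e1, key]
  have e2 : h * (φ (ofAdd (-((ω⁻¹ : Fˣ) : F))) * (h⁻¹ * t) *
      φ (ofAdd (-((ω⁻¹ : Fˣ) : F)))) * h⁻¹ =
      (h * φ (ofAdd (-((ω⁻¹ : Fˣ) : F))) * h⁻¹) * (t * h⁻¹) *
        (h * φ (ofAdd (-((ω⁻¹ : Fˣ) : F))) * h⁻¹) := by group
  rw [e2, hW, hth']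
  simp only [mul_assoc]

end WEYL4

namespace WEYL4

/-- `h1 * h2⁻¹ = tor 1 (-1)` -/
theorem hA_eq : D.h1 * D.h2⁻¹ = D.tor 1 (-1) := by
  unfold tor
  rw [zpow_one, zpow_neg, zpow_one]

theorem hA_zpow (j : ℤ) : (D.h1 * D.h2⁻¹) ^ j = D.tor j (-j) := by
  unfold tor
  rw [(D.h12.inv_right).mul_zpow, inv_zpow']

theorem hA_act : TORUS4.Act D.φa (D.h1 * D.h2⁻¹) (D.ω ^ 2) := by
  intro a
  rw [hA_eq, tor_phia]
  congr 2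
  rw [Units.val_pow_eq_pow_val]
  have : (1 : ℤ) - (-1) = ((2 : ℕ) : ℤ) := by norm_num
  rw [this, zpow_natCast]

theorem na_hA : D.na * (D.h1 * D.h2⁻¹) * D.na⁻¹ = (D.h1 * D.h2⁻¹)⁻¹ := by
  rw [hA_eq, na_tor, tor_inv]
  norm_num

theorem h1inv_na : D.h1⁻¹ * D.na * (D.h1⁻¹)⁻¹ = (D.h1 * D.h2⁻¹)⁻¹ * D.na := by
  have h1 : D.na * D.h1 = D.h2 * D.na := by
    rw [← D.na_h1]
    group
  rw [inv_inv, mul_assoc, h1, mul_inv_rev, inv_inv]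
  have h2 : D.h1⁻¹ * D.h2 = D.h2 * D.h1⁻¹ := (D.h12.inv_left).eq
  rw [← mul_assoc, h2]

/-- the full output of `weyl_odd` for the short root `α` -/
theorem weyl_a_full :
    (∀ a : F, a ≠ 0 → ∃ (a' : F) (j : ℤ) (b' : F),
      D.na * D.φa (ofAdd a) * D.na⁻¹ =
        D.φa (ofAdd a') * (D.h1 * D.h2⁻¹) ^ j * D.na * D.φa (ofAdd b')) ∧
    (∀ j : ℤ, D.ω ^ j = 1 → (D.h1 * D.h2⁻¹) ^ j = 1) ∧
    D.na * D.na = (D.h1 * D.h2⁻¹) ^ (-D.M) ∧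
      (∀ a : F, Commute ((D.h1 * D.h2⁻¹) ^ (-D.M)) (D.φa (ofAdd a))) :=
  weyl_odd D.ω D.hω D.φa (D.h1 * D.h2⁻¹) D.na
    (fun a => by
      have := hA_act D a
      rw [Units.val_pow_eq_pow_val] at this
      exact this)
    (na_hA D) D.wa
    (hw2_of D.ω D.φa (D.h1 * D.h2⁻¹) D.na D.h1 D.h1a (hA_act D) (h1inv_na D) (na_hA D) D.wa)
    D.M D.hM

/-- the full output of `weyl_odd` for the long root `β` -/
theorem weyl_b_full :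
    (∀ b : F, b ≠ 0 → ∃ (a' : F) (j : ℤ) (b' : F),
      D.nb * D.φb (ofAdd b) * D.nb⁻¹ =
        D.φb (ofAdd a') * D.h2 ^ j * D.nb * D.φb (ofAdd b')) ∧
    (∀ j : ℤ, D.ω ^ j = 1 → D.h2 ^ j = 1) ∧
    D.nb * D.nb = D.h2 ^ (-D.M) ∧ (∀ b : F, Commute (D.h2 ^ (-D.M)) (D.φb (ofAdd b))) :=
  weyl_odd D.ω D.hω D.φb D.h2 D.nb D.h2b D.nb_h2 D.wb1 D.wb2 D.M D.hM

theorem h2_zpow (j : ℤ) : D.h2 ^ j = D.tor 0 j := by
  unfold tor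
  rw [zpow_zero, one_mul]

end WEYL4

/-! ## piece WEYL4 -/
/-- rank one relations for `α` (`weyl_odd` with `h := h1 * h2⁻¹ = tor 1 (-1)`, `t := na`; the
second seed is obtained from `wa` by conjugating with `h1⁻¹`, as in `S2287WEYL3`). -/
theorem weyl_a :
    (∀ a : F, a ≠ 0 → ∃ (a' : F) (j : ℤ) (b' : F),
      D.na * D.φa (ofAdd a) * D.na⁻¹ =
        D.φa (ofAdd a') * D.tor j (-j) * D.na * D.φa (ofAdd b')) ∧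
    D.na * D.na = D.tor (-D.M) D.M := by
  obtain ⟨h1, _, h3, _⟩ := WEYL4.weyl_a_full D
  refine ⟨?_, ?_⟩
  · intro a ha
    obtain ⟨a', j, b', hj⟩ := h1 a ha
    refine ⟨a', j, b', ?_⟩
    rw [hj, WEYL4.hA_zpow]
  · rw [h3, WEYL4.hA_zpow, neg_neg]

/-- rank one relations for `β` (`weyl_odd` with `h := h2`, `t := nb`, seeds `wb1`, `wb2`). -/
theorem weyl_b :
    (∀ b : F, b ≠ 0 → ∃ (a' : F) (j : ℤ) (b' : F),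
      D.nb * D.φb (ofAdd b) * D.nb⁻¹ =
        D.φb (ofAdd a') * D.tor 0 j * D.nb * D.φb (ofAdd b')) ∧
    D.nb * D.nb = D.tor 0 (-D.M) := by
  obtain ⟨h1, _, h3, _⟩ := WEYL4.weyl_b_full D
  refine ⟨?_, ?_⟩
  · intro b hb
    obtain ⟨a', j, b', hj⟩ := h1 b hb
    refine ⟨a', j, b', ?_⟩
    rw [hj, WEYL4.h2_zpow]
  · rw [h3, WEYL4.h2_zpow]

theorem tor_eq_one (i j : ℤ) (hi : D.ω ^ i = 1) (hj : D.ω ^ j = 1) : D.tor i j = 1 := by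
  have ka := (WEYL4.weyl_a_full D).2.1
  have kb := (WEYL4.weyl_b_full D).2.1
  have h1 : D.h1 ^ i = 1 := by
    have e : D.h1 ^ i = (D.h1 * D.h2⁻¹) ^ i * D.h2 ^ i := by
      rw [(D.h12.inv_right).mul_zpow, inv_zpow', mul_assoc, ← zpow_add, neg_add_cancel, zpow_zero,
        mul_one]
    rw [e, ka i hi, kb i hi, one_mul]
  unfold tor
  rw [h1, kb j hj, one_mul]

end C2Data

end Cfsg.Agent.Helper21.S2293
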