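import Mathlib
import Cfsg.Agent.Helper2.S3086Defs
import Cfsg.Agent.Helper2.S3086Basic
import Cfsg.Agent.Helper7.Quasisimple

/-! S3086 board, row QS1: quasisimple subgroups (of an arbitrary group), parts a–d. -/

set_option autoImplicit false

namespace Cfsg.Agent.S3086P

universe u

section QS
variable {G : Type*} [Group G] {K : Subgroup G}

/-- QSa (S): quasisimple groups are not abelian. -/
theorem QS_not_comm (hK : Cfsg.IsQuasisimple ↥K) : ¬ ∀ x ∈ K, ∀ y ∈ K, x * y = y * x := by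
  intro h
  apply Cfsg.Agent.Helper7.IsQuasisimple.not_isMulCommutative hK
  refine ⟨⟨?_⟩⟩
  rintro ⟨x, hx⟩ ⟨y, hy⟩
  exact Subtype.ext (h x hx y hy)

/-- QSb (M): a proper subgroup of `K` normalised by `K` is central in `K`. -/
theorem QS_normal_central (hK : Cfsg.IsQuasisimple ↥K) {N : Subgroup G} (hN : N ≤ K) (hne : N ≠ K)
    (hnorm : ∀ k ∈ K, ∀ n ∈ N, k * n * k⁻¹ ∈ N) : ∀ n ∈ N, ∀ k ∈ K, n * k = k * n := by
  have hnormal : (N.subgroupOf K).Normal := by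
    refine ⟨?_⟩
    rintro ⟨n, hnK⟩ hn ⟨k, hk⟩
    rw [Subgroup.mem_subgroupOf] at hn ⊢
    exact hnorm k hk n hn
  rcases Cfsg.Agent.Helper7.IsQuasisimple.normal_eq_top_or_le_center hK (N.subgroupOf K) with h | h
  · exfalso
    apply hne
    rw [Subgroup.subgroupOf_eq_top] at h
    exact le_antisymm hN h
  · intro n hn k hk
    have h1 : (⟨n, hN hn⟩ : ↥K) ∈ Subgroup.center ↥K := h (Subgroup.mem_subgroupOf.mpr hn)
    rw [Subgroup.mem_center_iff] at h1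
    have h2 := h1 ⟨k, hk⟩
    exact (congrArg Subtype.val h2).symm

theorem QS1_aux_hom_trivial (hK : Cfsg.IsQuasisimple ↥K) {C : Type*} [CommGroup C] (f : ↥K →* C) (x : ↥K) :
    f x = 1 := by
  have h1 : commutator ↥K ≤ f.ker := Abelianization.commutator_subset_ker f
  rw [hK.1.commutator_eq_top] at h1
  exact h1 (Subgroup.mem_top x)

theorem QS1_aux_conj_comm {b x y u w : G} (hx : b * x * b⁻¹ = x * u) (hy : b * y * b⁻¹ = y * w)
    (huy : u * y = y * u) (huw : u * w = w * u) (hwx : w * x⁻¹ = x⁻¹ * w) :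
    b * (x * y * x⁻¹ * y⁻¹) = (x * y * x⁻¹ * y⁻¹) * b := by
  have e : b * (x * y * x⁻¹ * y⁻¹) * b⁻¹ = (b * x * b⁻¹) * (b * y * b⁻¹) * (b * x * b⁻¹)⁻¹ * (b * y * b⁻¹)⁻¹ := by
    group
  have h : b * (x * y * x⁻¹ * y⁻¹) * b⁻¹ = x * y * x⁻¹ * y⁻¹ := by
    rw [e, hx, hy]
    calc x * u * (y * w) * (x * u)⁻¹ * (y * w)⁻¹
        = x * (u * y) * w * u⁻¹ * x⁻¹ * w⁻¹ * y⁻¹ := by group
      _ = x * (y * u) * w * u⁻¹ * x⁻¹ * w⁻¹ * y⁻¹ := by rw [huy]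
      _ = x * y * (u * w) * u⁻¹ * x⁻¹ * w⁻¹ * y⁻¹ := by group
      _ = x * y * (w * u) * u⁻¹ * x⁻¹ * w⁻¹ * y⁻¹ := by rw [huw]
      _ = x * y * (w * x⁻¹) * w⁻¹ * y⁻¹ := by group
      _ = x * y * (x⁻¹ * w) * w⁻¹ * y⁻¹ := by rw [hwx]
      _ = x * y * x⁻¹ * y⁻¹ := by group
  calc b * (x * y * x⁻¹ * y⁻¹) = (b * (x * y * x⁻¹ * y⁻¹) * b⁻¹) * b := by group
    _ = _ := by rw [h]

/-- QSc (M): if `b` normalises `K` and `[K,b] ≤ Z(K)` then `b` centralises `K` (three subgroups lemma). -/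
theorem QS_comm_central (hK : Cfsg.IsQuasisimple ↥K) {b : G} (hb : ∀ x ∈ K, b * x * b⁻¹ ∈ K)
    (hc : ∀ x ∈ K, ∀ y ∈ K, (x⁻¹ * (b * x * b⁻¹)) * y = y * (x⁻¹ * (b * x * b⁻¹))) : ∀ x ∈ K, b * x = x * b := by
  have hle : commutator ↥K ≤ (Subgroup.centralizer ({b} : Set G)).subgroupOf K := by
    rw [commutator_def, Subgroup.commutator_le]
    rintro ⟨x, hx⟩ - ⟨y, hy⟩ -
    rw [Subgroup.mem_subgroupOf, Subgroup.mem_centralizer_iff]
    intro c hc'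
    rw [Set.mem_singleton_iff] at hc'
    subst hc'
    show c * (x * y * x⁻¹ * y⁻¹) = (x * y * x⁻¹ * y⁻¹) * c
    have hu : x⁻¹ * (c * x * c⁻¹) ∈ K := K.mul_mem (K.inv_mem hx) (hb x hx)
    have hw : y⁻¹ * (c * y * c⁻¹) ∈ K := K.mul_mem (K.inv_mem hy) (hb y hy)
    refine QS1_aux_conj_comm (u := x⁻¹ * (c * x * c⁻¹)) (w := y⁻¹ * (c * y * c⁻¹)) (by group) (by group)
      (hc x hx y hy) (hc x hx _ hw) (hc y hy x⁻¹ (K.inv_mem hx))
  rw [hK.1.commutator_eq_top] at hle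
  intro x hx
  have h1 : (⟨x, hx⟩ : ↥K) ∈ (Subgroup.centralizer ({b} : Set G)).subgroupOf K := hle (Subgroup.mem_top _)
  rw [Subgroup.mem_subgroupOf, Subgroup.mem_centralizer_iff] at h1
  exact h1 b rfl

theorem QS1_aux_pow_conj {b : G} (hb : ∀ x ∈ K, b * x * b⁻¹ ∈ K) (n : ℕ) : ∀ x ∈ K, b ^ n * x * (b ^ n)⁻¹ ∈ K := by
  induction n with
  | zero => intro x hx; simpa using hx
  | succ n ih =>
    intro x hx
    have h1 := hb _ (ih x hx)
    have e : b ^ (n + 1) * x * (b ^ (n + 1))⁻¹ = b * (b ^ n * x * (b ^ n)⁻¹) * b⁻¹ := by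
      rw [pow_succ']; group
    rw [e]; exact h1

theorem QS1_aux_zpow_conj [Finite G] {b : G} (hb : ∀ x ∈ K, b * x * b⁻¹ ∈ K) (j : ℤ) :
    ∀ x ∈ K, b ^ j * x * b ^ (-j) ∈ K := by
  intro x hx
  have hpos : (0 : ℤ) < (orderOf b : ℤ) := by exact_mod_cast orderOf_pos b
  have h1 : b ^ j = b ^ (j % (orderOf b : ℤ)).toNat := by
    rw [← zpow_natCast, Int.toNat_of_nonneg (Int.emod_nonneg _ hpos.ne'), zpow_mod_orderOf]
  rw [zpow_neg, h1]
  exact QS1_aux_pow_conj hb _ x hx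

/-- QSd (M): if `b` normalises but does not centralise `K` then `K = [K,⟨b⟩]` is generated by the commutators `x⁻¹ (bʲ x b⁻ʲ)`. -/
theorem QS_gen_comm [Finite G] (hK : Cfsg.IsQuasisimple ↥K) {b : G} (hb : ∀ x ∈ K, b * x * b⁻¹ ∈ K)
    (hn : ¬ ∀ x ∈ K, b * x = x * b) :
    Subgroup.closure {y | ∃ x ∈ K, ∃ j : ℤ, y = x⁻¹ * (b ^ j * x * b ^ (-j))} = K := by
  set N := Subgroup.closure {y | ∃ x ∈ K, ∃ j : ℤ, y = x⁻¹ * (b ^ j * x * b ^ (-j))} with hNdef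
  have hNK : N ≤ K := by
    rw [hNdef, Subgroup.closure_le]
    rintro y ⟨x, hx, j, rfl⟩
    exact K.mul_mem (K.inv_mem hx) (QS1_aux_zpow_conj hb j x hx)
  by_contra hne
  apply hn
  -- `N` is normalised by `K`
  have hnorm : ∀ k ∈ K, ∀ n ∈ N, k * n * k⁻¹ ∈ N := by
    intro k hk n hn'
    induction hn' using Subgroup.closure_induction with
    | mem y hy =>
      obtain ⟨x, hx, j, rfl⟩ := hy
      have e : k * (x⁻¹ * (b ^ j * x * b ^ (-j))) * k⁻¹ =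
          ((x * k⁻¹)⁻¹ * (b ^ j * (x * k⁻¹) * b ^ (-j))) * ((k⁻¹)⁻¹ * (b ^ j * k⁻¹ * b ^ (-j)))⁻¹ := by
        rw [zpow_neg]; group
      rw [e]
      refine N.mul_mem (Subgroup.subset_closure ⟨x * k⁻¹, K.mul_mem hx (K.inv_mem hk), j, rfl⟩) (N.inv_mem ?_)
      exact Subgroup.subset_closure ⟨k⁻¹, K.inv_mem hk, j, rfl⟩
    | one => simp
    | mul y z _ _ hy hz =>
      have e : k * (y * z) * k⁻¹ = (k * y * k⁻¹) * (k * z * k⁻¹) := by group
      rw [e]; exact N.mul_mem hy hz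
    | inv y _ hy =>
      have e : k * y⁻¹ * k⁻¹ = (k * y * k⁻¹)⁻¹ := by group
      rw [e]; exact N.inv_mem hy
  have hcen := QS_normal_central hK hNK hne hnorm
  apply QS_comm_central hK hb
  intro x hx y hy
  have hmem : x⁻¹ * (b * x * b⁻¹) ∈ N := by
    apply Subgroup.subset_closure
    refine ⟨x, hx, 1, ?_⟩
    rw [zpow_neg, zpow_one]
  exact hcen _ hmem y hy

end QS

end Cfsg.Agent.S3086P
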