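import Mathlib
import Cfsg.Agent.Helper2.S3086Defs
import Cfsg.Agent.Helper2.S3086Basic

/-! S3086 board, row HYPB: basic consequences of `Hyp`. -/

set_option autoImplicit false

namespace Cfsg.Agent.S3086P

universe u

variable {p : ℕ} [Fact p.Prime] {V : Type u} [AddCommGroup V] [Module (ZMod p) V] [Finite V]

variable {K A : Subgroup (GLV p V)}

theorem HYPB_aux_comm (H : Hyp p V K A) {a b : GLV p V} (ha : a ∈ A) (hb : b ∈ A) : a * b = b * a := by
  have := H.hAel.1.is_comm.comm ⟨a, ha⟩ ⟨b, hb⟩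
  exact congrArg Subtype.val this

theorem HYPB_aux_cjg_inj {a : GLV p V} {K L : Subgroup (GLV p V)} (h : cjg a K = cjg a L) : K = L := by
  have := congrArg (cjg a⁻¹) h
  rwa [cjg_mul, cjg_mul, inv_mul_cancel, cjg_one, cjg_one] at this

/-- HYPB (M): basic consequences of `Hyp`: conjugates of `K` under `A` are pairwise equal or commuting. -/
theorem Hyp.conj_pair (H : Hyp p V K A) {a a' : GLV p V} (ha : a ∈ A) (ha' : a' ∈ A) :
    cjg a K = cjg a' K ∨ CommS (cjg a K) (cjg a' K) := by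
  have hc : a⁻¹ * a' ∈ A := A.mul_mem (A.inv_mem ha) ha'
  have e : cjg a (cjg (a⁻¹ * a') K) = cjg a' K := by
    rw [cjg_mul, mul_inv_cancel_left]
  rcases H.hcomm _ hc with h | h
  · left
    rw [← e, h]
  · right
    have := CommS.cjg h a
    rwa [e] at this

/-- HYPB2 (S/M) -/
theorem Hyp.norm_conj (H : Hyp p V K A) {a b : GLV p V} (ha : a ∈ A) (hb : b ∈ A) :
    (cjg b (cjg a K) = cjg a K ↔ cjg b K = K) ∧
      ((∀ x ∈ cjg a K, b * x = x * b) ↔ ∀ x ∈ K, b * x = x * b) := by
  have hab : a * b = b * a := HYPB_aux_comm H ha hb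
  have e : cjg b (cjg a K) = cjg a (cjg b K) := by rw [cjg_mul, cjg_mul, hab]
  refine ⟨?_, ?_⟩
  · rw [e]
    constructor
    · intro h; exact HYPB_aux_cjg_inj h
    · intro h; rw [h]
  · constructor
    · intro h x hx
      have h1 := h _ (conj_mem_cjg (a := a) hx)
      -- `b (a x a⁻¹) = (a x a⁻¹) b`
      have e1 : b * x = a⁻¹ * (b * (a * x * a⁻¹)) * a := by
        have : a⁻¹ * (b * (a * x * a⁻¹)) * a = a⁻¹ * (b * a) * x := by group
        rw [this, ← hab]; group
      have e2 : x * b = a⁻¹ * ((a * x * a⁻¹) * b) * a := by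
        have : a⁻¹ * ((a * x * a⁻¹) * b) * a = x * (a⁻¹ * (b * a)) := by group
        rw [this, ← hab]; group
      rw [e1, e2, h1]
    · intro h x hx
      rw [mem_cjg] at hx
      have h1 := h _ hx
      have e1 : b * x = a * (b * (a⁻¹ * x * a)) * a⁻¹ := by
        have : a * (b * (a⁻¹ * x * a)) * a⁻¹ = (a * b) * a⁻¹ * x := by group
        rw [this, hab]; group
      have e2 : x * b = a * ((a⁻¹ * x * a) * b) * a⁻¹ := by
        have : a * ((a⁻¹ * x * a) * b) * a⁻¹ = x * ((a * b) * a⁻¹) := by group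
        rw [this, hab]; group
      rw [e1, e2, h1]

end Cfsg.Agent.S3086P
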