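import Mathlib
import Cfsg.Agent.Helper11.S4409Defs
import Cfsg.Agent.Helper11.S4409Q0
import Cfsg.Agent.Helper4.S4409AB8
import Cfsg.Agent.Helper1.UniqueOrderP

/-! Board `s4409pieces`, row Q4 (helper16): `q8_hasA`. -/

set_option autoImplicit false
set_option linter.unusedVariables false
set_option linter.unusedSectionVars false

namespace Cfsg.Agent.S4409P

open Subgroup
open scoped commutatorElement

variable {S : Type*} [Group S] [Finite S]

omit [Finite S] in
/-- the cyclic group generated by a `2`-element is a `2`-group. -/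
theorem Q4_aux_zpowers_pgroup (g : S) (n : ℕ) (h : g ^ (2 ^ n) = 1) : IsPGroup 2 ↥(zpowers g) := by
  rintro ⟨z, hz⟩
  refine ⟨n, ?_⟩
  apply Subtype.ext
  obtain ⟨k, rfl⟩ := Subgroup.mem_zpowers_iff.mp hz
  change (g ^ k) ^ (2 ^ n) = 1
  rw [← zpow_natCast, ← zpow_mul, mul_comm, zpow_mul, zpow_natCast, h, one_zpow]

/-- Q4 -/
theorem q8_hasA (Y : Subgroup S) (hY : IsQ8 Y) (c : S) (hc : c ∈ centralizer (Y : Set S)) (hcY : c ∉ Y)
    (hc2 : ∃ n : ℕ, c ^ (2 ^ n) = 1) : HasA (Y ⊔ zpowers c) := by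
  have : Fact (Nat.Prime 2) := ⟨Nat.prime_two⟩
  obtain ⟨h8, ζ, hζY, hζ1, hζ2, hsq⟩ := hY
  obtain ⟨x, hxY, hx1, hxζ, -, -⟩ := Q0_aux_exists_not_mem Y h8 1 ζ 1 1
  have hx2 : x * x = ζ := ((hsq x hxY).resolve_left hx1).resolve_left hxζ
  have hxnc : ¬ ∀ y ∈ Y, y * x = x * y := fun h => by
    rcases Q0_aux_central h8 hζY hζ1 hζ2 hsq hxY h with h | h
    exacts [hx1 h, hxζ h]
  have hcx : x * c = c * x := (mem_centralizer_iff.mp hc) x hxY
  obtain ⟨n, hn⟩ := hc2
  have hx4 : x ^ (2 ^ 2) = 1 := by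
    have : x ^ (2 ^ 2) = (x * x) * (x * x) := by
      norm_num [pow_succ, mul_assoc]
    rw [this, hx2, hζ2]
  have hx2' : ¬ x ^ (2 ^ 1) = 1 := by
    have : x ^ (2 ^ 1) = x * x := by norm_num [pow_succ]
    rw [this, hx2]; exact hζ1
  have hordx : orderOf x = 2 ^ 2 := orderOf_eq_prime_pow hx2' hx4
  set B : Subgroup S := zpowers x ⊔ zpowers c with hBdef
  have hxB : zpowers x ≤ B := le_sup_left
  have hcB : zpowers c ≤ B := le_sup_right
  have hxYle : zpowers x ≤ Y := zpowers_le.mpr hxY
  have hBle : B ≤ Y ⊔ zpowers c := sup_le_sup_right hxYle _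
  refine HasA.mono ?_ hBle
  -- `B` is abelian
  have hBcent : B ≤ centralizer ({x, c} : Set S) := by
    apply sup_le
    · rw [zpowers_le, mem_centralizer_iff]
      intro m hm
      rcases hm with rfl | hm
      · rfl
      · rw [Set.mem_singleton_iff] at hm; subst hm; exact hcx.symm
    · rw [zpowers_le, mem_centralizer_iff]
      intro m hm
      rcases hm with rfl | hm
      · exact hcx
      · rw [Set.mem_singleton_iff] at hm; subst hm; rfl
  have hab : IsAb B := by
    intro a ha b hb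
    have ha' := mem_centralizer_iff.mp (hBcent ha)
    have hxa : x * a = a * x := ha' x (by simp)
    have hca : c * a = a * c := ha' c (by simp)
    have hBa : B ≤ centralizer ({a} : Set S) := by
      apply sup_le
      · rw [zpowers_le, mem_centralizer_iff]
        intro m hm
        rw [Set.mem_singleton_iff] at hm; subst hm; exact hxa.symm
      · rw [zpowers_le, mem_centralizer_iff]
        intro m hm
        rw [Set.mem_singleton_iff] at hm; subst hm; exact hca.symm
    exact (mem_centralizer_iff.mp (hBa hb)) a (by simp)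
  -- `B` is a `2`-group
  have hPx : IsPGroup 2 ↥(zpowers x) := Q4_aux_zpowers_pgroup x 2 hx4
  have hPc : IsPGroup 2 ↥(zpowers c) := Q4_aux_zpowers_pgroup c n hn
  have hnorm : zpowers x ≤ Subgroup.normalizer ((zpowers c : Subgroup S) : Set S) := by
    refine le_trans ?_ (Subgroup.centralizer_le_normalizer ((zpowers c : Subgroup S) : Set S))
    rw [zpowers_le, mem_centralizer_iff]
    intro m hm
    obtain ⟨k, rfl⟩ := Subgroup.mem_zpowers_iff.mp hm
    exact ((Commute.zpow_right (show Commute x c from hcx) k).eq).symm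
  have hPB : IsPGroup 2 ↥B := IsPGroup.to_sup_of_normal_right' hPx hPc hnorm
  -- `B` is not cyclic
  have hnc : ¬ IsCyclic ↥B := by
    intro hcyc
    rcases Cfsg.Agent.Helper1.le_total_of_isCyclic_isPGroup B hcyc hPB (zpowers x) (zpowers c) hxB hcB
      with h | h
    · apply hxnc
      have hxc : x ∈ centralizer (Y : Set S) := (zpowers_le.mpr hc) (h (mem_zpowers x))
      intro y hy
      exact (mem_centralizer_iff.mp hxc) y hy
    · exact hcY (hxYle (h (mem_zpowers c)))
  -- `|B| ≥ 8`
  have h8B : 8 ≤ Nat.card ↥B := by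
    obtain ⟨k, hk⟩ := hPB.exists_card_eq
    have hcx4 : Nat.card ↥(zpowers x) = 4 := by
      rw [Nat.card_zpowers, hordx]; norm_num
    have hdvd : Nat.card ↥(zpowers x) ∣ Nat.card ↥B := Subgroup.card_dvd_of_le hxB
    rw [hcx4, hk] at hdvd
    have hk2 : 2 ≤ k := by
      by_contra hlt
      push Not at hlt
      interval_cases k <;> norm_num at hdvd
    have hk3 : k ≠ 2 := by
      intro h2
      rw [h2] at hk
      have heq : zpowers x = B := eq_of_le_of_card_ge hxB (by rw [hk, hcx4]; norm_num)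
      exact hcY (hxYle (heq ▸ hcB (mem_zpowers c)))
    have : 2 ^ 3 ≤ 2 ^ k := Nat.pow_le_pow_right (by norm_num) (by omega)
    rw [hk]; omega
  exact hasA_of_abelian B hPB hab hnc h8B

end Cfsg.Agent.S4409P
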