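import Mathlib
import Cfsg.Agent.Helper11.S4409Defs
import Cfsg.Agent.Helper11.S4409Q0
import Cfsg.Agent.Helper11.Q8Aut
import Cfsg.Agent.Helper17.S4409F2

/-! Board `s4409pieces`, row Q5 (helper16): `q8_iso`. -/

set_option autoImplicit false
set_option linter.unusedVariables false
set_option linter.unusedSectionVars false

namespace Cfsg.Agent.S4409P

open Subgroup
open scoped commutatorElement

variable {S : Type*} [Group S] [Finite S]

omit [Finite S] in
/-- powers of the conjugation automorphism. -/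
theorem Q5_aux_pow (P : Subgroup S) (k : S) (hk : k ∈ normalizer (P : Set S)) (n : ℕ) (y : ↥P) :
    ((((F2_aux_conj P k hk : MulAut ↥P) ^ n) y : ↥P) : S) = k ^ n * (y : S) * (k ^ n)⁻¹ := by
  induction n generalizing y with
  | zero => simp
  | succ n ih =>
    rw [pow_succ, MulAut.mul_apply, ih]
    change k ^ n * (k * (y : S) * k⁻¹) * (k ^ n)⁻¹ = _
    rw [pow_succ]
    group

/-- Q5 (`Cfsg.Agent.Helper11.Q8Aut.q8_of_aut`) -/
theorem q8_iso (Y K : Subgroup S) (hY : IsQ8 Y) (hK : Odd (Nat.card ↥K)) (hKY : K ≤ normalizer (Y : Set S))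
    (hne : ⁅Y, K⁆ ≠ ⊥) : Nonempty (↥Y ≃* QuaternionGroup 2) := by
  obtain ⟨hZ2, hDer, _, _, hnab⟩ := q8_basic Y hY
  apply Cfsg.Agent.Helper11.Q8Aut.q8_of_aut hY.isPGroup
  · intro h
    exact hnab ((isAb_iff Y).mpr h)
  · have h1 : (commutator ↥Y).map Y.subtype = Der Y := Subgroup.map_subtype_commutator Y
    have h2 : Nat.card ↥(commutator ↥Y) = 2 := by
      rw [← hZ2, ← hDer, ← h1]
      exact (Subgroup.card_map_of_injective (Subgroup.subtype_injective Y)).symm
    have h3 := Subgroup.card_mul_index (commutator ↥Y)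
    rw [h2, hY.1] at h3
    omega
  · intro hAut
    have hex : ∃ y ∈ Y, ∃ k ∈ K, ⁅y, k⁆ ≠ 1 := by
      by_contra hcon
      push Not at hcon
      apply hne
      rw [eq_bot_iff, Subgroup.commutator_le]
      intro y hy k hk
      rw [Subgroup.mem_bot]
      exact hcon y hy k hk
    obtain ⟨y, hy, k, hk, hyk⟩ := hex
    have hkN : k ∈ normalizer (Y : Set S) := hKY hk
    set α : MulAut ↥Y := F2_aux_conj Y k hkN with hα
    obtain ⟨m, hm⟩ := hAut α
    have hkK : k ^ Nat.card ↥K = 1 := by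
      have := pow_card_eq_one' (G := ↥K) (x := ⟨k, hk⟩)
      exact congrArg Subtype.val this
    have hαK : α ^ Nat.card ↥K = 1 := by
      apply MulEquiv.ext
      intro z
      apply Subtype.ext
      rw [Q5_aux_pow, hkK]
      simp
    have hd1 : orderOf α ∣ 2 ^ m := orderOf_dvd_of_pow_eq_one hm
    have hd2 : orderOf α ∣ Nat.card ↥K := orderOf_dvd_of_pow_eq_one hαK
    have hcop : Nat.Coprime (2 ^ m) (Nat.card ↥K) :=
      Nat.Coprime.pow_left m (Nat.coprime_two_left.mpr hK)
    have h1 : orderOf α = 1 := Nat.eq_one_of_dvd_coprimes hcop hd1 hd2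
    have hα1 : α = 1 := orderOf_eq_one_iff.mp h1
    apply hyk
    have h2 := Q5_aux_pow Y k hkN 1 ⟨y, hy⟩
    rw [pow_one, ← hα, hα1] at h2
    simp only [MulAut.one_apply, pow_one] at h2
    -- h2 : y = k * y * k⁻¹
    rw [commutatorElement_def]
    calc y * k * y⁻¹ * k⁻¹ = y * (k * y * k⁻¹)⁻¹ := by group
      _ = y * y⁻¹ := by rw [← h2]
      _ = 1 := mul_inv_cancel y

end Cfsg.Agent.S4409P
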