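import Mathlib
import Cfsg.Agent.Helper11.S4409Defs
import Cfsg.Agent.Helper17.S4409F2

/-! Board `s4409pieces`, row TY (helper16): `exists_max_inv`. -/

set_option autoImplicit false
set_option linter.unusedVariables false
set_option linter.unusedSectionVars false

namespace Cfsg.Agent.S4409P

open Subgroup
open scoped commutatorElement

variable {S : Type*} [Group S] [Finite S]

/-- `Φ(P) ≠ P` for a nontrivial finite subgroup `P` (a maximal subgroup exists). -/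
theorem TY_aux_fr_ne (P : Subgroup S) (hne : P ≠ ⊥) : Fr P ≠ P := by
  intro h
  have hnt : Nontrivial ↥P := (Subgroup.nontrivial_iff_ne_bot P).mpr hne
  have hnt' : Nontrivial (Subgroup ↥P) := Subgroup.nontrivial_iff.mpr hnt
  obtain ⟨M, hM⟩ := IsCoatomic.exists_coatom (α := Subgroup ↥P)
  have h1 : frattini ↥P ≤ M := Order.radical_le_coatom hM
  have h2 : frattini ↥P = ⊤ := by
    rw [eq_top_iff]
    intro x _
    have hx : (x : S) ∈ Fr P := by rw [h]; exact x.2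
    obtain ⟨y, hy, hyx⟩ := hx
    have : y = x := Subtype.ext hyx
    rw [← this]; exact hy
  rw [h2] at h1
  exact hM.1 (top_le_iff.mp h1)

/-- TY : a maximal proper `K`-invariant subgroup containing `Φ(X)`. -/
theorem exists_max_inv (X K : Subgroup S) (hX : IsPGroup 2 ↥X) (hne : X ≠ ⊥) (hKX : K ≤ normalizer (X : Set S)) :
    ∃ Y : Subgroup S, Fr X ≤ Y ∧ Y ≤ X ∧ Y ≠ X ∧ K ≤ normalizer (Y : Set S) ∧
      ∀ H : Subgroup S, Y ≤ H → H ≤ X → K ≤ normalizer (H : Set S) → H = Y ∨ H = X := by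
  classical
  let 𝒮 : Set (Subgroup S) := {H | Fr X ≤ H ∧ H ≤ X ∧ H ≠ X ∧ K ≤ normalizer (H : Set S)}
  have hfin : 𝒮.Finite := Set.toFinite _
  have hne𝒮 : 𝒮.Nonempty :=
    ⟨Fr X, le_rfl, Fr_le X, TY_aux_fr_ne X hne, fun k hk => fr_inv X k (hKX hk)⟩
  obtain ⟨Y, hY𝒮, hYmax⟩ := hfin.exists_maximal hne𝒮
  obtain ⟨h1, h2, h3, h4⟩ := hY𝒮
  refine ⟨Y, h1, h2, h3, h4, ?_⟩
  intro H hYH hHX hKH
  by_cases hH : H = X
  · exact Or.inr hH
  · left
    have hH𝒮 : H ∈ 𝒮 := ⟨h1.trans hYH, hHX, hH, hKH⟩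
    exact le_antisymm (hYmax hH𝒮 hYH) hYH

end Cfsg.Agent.S4409P
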