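import Mathlib
import Cfsg.Agent.S0713
import Cfsg.Agent.Helper4.S0679J

set_option autoImplicit false
set_option linter.unusedSectionVars false
set_option linter.unusedVariables false

/-! # S0679 (driver helper13, chapter (6) designer helper18): piece FIXONLY (helper16). -/

namespace Cfsg.Agent.S0679P

open Equiv MulAction

variable {α : Type*} [Fintype α] [DecidableEq α] {G : Subgroup (Equiv.Perm α)}

/-- An element of a group of order 9 fixing three points of an 11-set, not the identity, with no
3-cycle allowed, has support of size exactly 6. -/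
theorem FIXONLY.supp6 (h11 : Fintype.card α = 11) (h2 : IsMultiplyPretransitive G α 2)
    (hA : ¬ alternatingGroup α ≤ G) {t : Perm α} (htG : t ∈ G) (h9 : orderOf t ∣ 9)
    (ht1 : t ≠ 1) {u v w : α} (huv : u ≠ v) (huw : u ≠ w) (hvw : v ≠ w)
    (hu : t u = u) (hv : t v = v) (hw : t w = w) : t.support.card = 6 := by
  classical
  -- support has at most 8 points
  have hs8 : t.support.card ≤ 8 := by
    have hsub : t.support ⊆ Finset.univ \ {u, v, w} := by
      intro a ha
      rw [Equiv.Perm.mem_support] at ha
      simp only [Finset.mem_sdiff, Finset.mem_univ, true_and, Finset.mem_insert,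
        Finset.mem_singleton, not_or]
      refine ⟨?_, ?_, ?_⟩ <;> rintro rfl <;> exact ha ‹_›
    have hc := Finset.card_le_card hsub
    have h3 : ({u, v, w} : Finset α).card = 3 := by
      rw [Finset.card_insert_of_notMem, Finset.card_insert_of_notMem, Finset.card_singleton]
      · simpa using hvw
      · simp [huv, huw]
    rw [Finset.card_sdiff_of_subset (Finset.subset_univ _), Finset.card_univ, h11, h3] at hc
    omega
  -- every cycle length is 3
  have hall : ∀ n ∈ t.cycleType, n = 3 := by
    intro n hn
    have h2n := Equiv.Perm.two_le_of_mem_cycleType hn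
    have hdvd : n ∣ 9 := (Equiv.Perm.dvd_of_mem_cycleType hn).trans h9
    have hle : n ≤ 8 := by
      have := Multiset.le_sum_of_mem hn
      rw [Equiv.Perm.sum_cycleType] at this
      omega
    have : n ∈ Nat.divisors 9 := Nat.mem_divisors.mpr ⟨hdvd, by norm_num⟩
    have hd : Nat.divisors 9 = {1, 3, 9} := by decide
    rw [hd] at this
    simp only [Finset.mem_insert, Finset.mem_singleton] at this
    omega
  have hrep : t.cycleType = Multiset.replicate (Multiset.card t.cycleType) 3 :=
    Multiset.eq_replicate_card.mpr hall
  have hsum : t.support.card = Multiset.card t.cycleType * 3 := by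
    rw [← Equiv.Perm.sum_cycleType, hrep, Multiset.sum_replicate, Multiset.card_replicate,
      smul_eq_mul]
  have hj0 : Multiset.card t.cycleType ≠ 0 := by
    intro h0
    rw [Multiset.card_eq_zero, Equiv.Perm.cycleType_eq_zero] at h0
    exact ht1 h0
  have hj1 : Multiset.card t.cycleType ≠ 1 := by
    intro h1
    have hc : t.IsCycle := Equiv.Perm.card_cycleType_eq_one.mp h1
    have h3 : t.support.card = 3 := by rw [hsum, h1]
    exact J h11 h2 hA htG hc (by rw [h3]; norm_num) (by omega)
  omega

/-- FIXONLY (M) = (6.1): a subgroup `T ≤ G` of order 9 fixes at most 2 points. -/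
theorem FIXONLY (h11 : Fintype.card α = 11) (h2 : IsMultiplyPretransitive G α 2)
    (hA : ¬ alternatingGroup α ≤ G) (T : Subgroup (Perm α)) (hTG : T ≤ G) (hT : Nat.card T = 9)
    {u v w : α} (huv : u ≠ v) (huw : u ≠ w) (hvw : v ≠ w) (hu : ∀ t ∈ T, t u = u) (hv : ∀ t ∈ T, t v = v) :
    ∃ t ∈ T, t w ≠ w := by
  classical
  by_contra hcon
  push Not at hcon
  -- `hcon : ∀ t ∈ T, t w = w`
  have : Fintype T := Fintype.ofFinite T
  have hTc : Fintype.card T = 9 := by rw [← Nat.card_eq_fintype_card]; exact hT
  -- fixed point counts
  have hfix : ∀ t : T, Fintype.card (fixedBy α t) = if t = 1 then 11 else 5 := by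
    intro t
    have hcard : Fintype.card (fixedBy α t) = Fintype.card α - (t : Perm α).support.card := by
      have h1 : Fintype.card (fixedBy α t) = ((t : Perm α).supportᶜ).card := by
        rw [← Fintype.card_coe]
        apply Fintype.card_congr
        refine Equiv.subtypeEquivRight ?_
        intro a
        simp only [mem_fixedBy, Finset.mem_compl, Equiv.Perm.mem_support, not_not]
        rfl
      rw [h1, Finset.card_compl]
    rw [hcard, h11]
    split_ifs with h1
    · subst h1
      simp
    · have hne : (t : Perm α) ≠ 1 := by
        intro h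
        apply h1
        exact Subtype.ext h
      have h9 : orderOf (t : Perm α) ∣ 9 := by
        rw [Subgroup.orderOf_coe, ← hT]
        exact orderOf_dvd_natCard t
      have := FIXONLY.supp6 h11 h2 hA (hTG t.2) h9 hne huv huw hvw (hu _ t.2) (hv _ t.2)
        (hcon _ t.2)
      rw [this]
  have hB := MulAction.sum_card_fixedBy_eq_card_orbits_mul_card_group T α
  rw [hTc] at hB
  have hsum : (∑ t : T, Fintype.card (fixedBy α t)) = 51 := by
    rw [Finset.sum_congr rfl (fun t _ => hfix t)]
    rw [Finset.sum_ite, Finset.sum_const, Finset.sum_const]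
    have hf1 : (Finset.univ.filter (fun t : T => t = 1)).card = 1 := by
      rw [Finset.filter_eq' ]
      simp
    have hf2 : (Finset.univ.filter (fun t : T => ¬ t = 1)).card = 8 := by
      have := Finset.card_filter_add_card_filter_not (s := (Finset.univ : Finset T))
        (fun t : T => t = 1)
      rw [Finset.filter_not] at this ⊢
      rw [Finset.card_sdiff_of_subset (Finset.filter_subset _ _), hf1, Finset.card_univ, hTc]
    rw [hf1, hf2]
    rfl
  rw [hsum] at hB
  omega

end Cfsg.Agent.S0679P
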