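import Cfsg.Agent.Helper12.S5683Lib
import Cfsg.Agent.Helper4.S5683RATCOORD

set_option autoImplicit false
set_option linter.unusedSectionVars false
set_option linter.unusedVariables false

/-! S5683 piece INTER2 (driver helper12): the common line of two distinct rational planes is
rational. -/

namespace Cfsg.Agent.S5683P

open Matrix Cfsg.Agent.Helper28.Sg Cfsg.Agent.Helper28.Spin Cfsg.Agent.Helper12.OrthGen
  Cfsg.Agent.S2614

variable {F : Type*} [Field F] {m : ℕ}

namespace INTER2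

/-- a rational vector `a' v + b' w + t' b'` of the second plane has a rational `⟨v, w⟩`-part -/
theorem rat_part {ι : Type} (F₀ : Subfield F) (v w b b' : ι → F)
    (hind : LinearIndependent F ![v, w, b, b']) (hb : Rat F₀ b) (hb' : Rat F₀ b')
    {a₁ b₁ t₁ a₂ b₂ t₂ : F} (hΔ : a₁ * b₂ - a₂ * b₁ ≠ 0)
    (hp₁ : Rat F₀ (a₁ • v + b₁ • w + t₁ • b)) (hp₂ : Rat F₀ (a₂ • v + b₂ • w + t₂ • b))
    {a' c' t' : F} (hq : Rat F₀ (a' • v + c' • w + t' • b')) : Rat F₀ (a' • v + c' • w) := by
  obtain ⟨D, hDe⟩ : ∃ D, D = a₁ * b₂ - a₂ * b₁ := ⟨_, rfl⟩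
  rw [← hDe] at hΔ
  have hli := Fintype.linearIndependent_iff.1 hind
  have hy : ∀ k : Fin 4,
      Rat F₀ (![a₁ • v + b₁ • w + t₁ • b, a₂ • v + b₂ • w + t₂ • b, b, b'] k) := by
    intro k
    fin_cases k
    · exact hp₁
    · exact hp₂
    · exact hb
    · exact hb'
  have hyind : LinearIndependent F
      ![a₁ • v + b₁ • w + t₁ • b, a₂ • v + b₂ • w + t₂ • b, b, b'] := by
    rw [Fintype.linearIndependent_iff]
    intro g hg
    have e : ∑ i : Fin 4, ![g 0 * a₁ + g 1 * a₂, g 0 * b₁ + g 1 * b₂,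
        g 0 * t₁ + g 1 * t₂ + g 2, g 3] i • ![v, w, b, b'] i = 0 := by
      rw [← hg]
      simp only [Fin.sum_univ_four, Matrix.cons_val_zero, Matrix.cons_val_one,
        Matrix.cons_val_two, Matrix.cons_val_three, Matrix.head_cons, Matrix.tail_cons]
      module
    have h0 := hli _ e 0
    have h1 := hli _ e 1
    have h2 := hli _ e 2
    have h3 := hli _ e 3
    simp only [Matrix.cons_val_zero, Matrix.cons_val_one, Matrix.cons_val_two,
      Matrix.cons_val_three, Matrix.head_cons, Matrix.tail_cons] at h0 h1 h2 h3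
    have g0 : g 0 = 0 := by
      have : g 0 * D = 0 := by rw [hDe]; linear_combination b₂ * h0 - a₂ * h1
      rcases mul_eq_zero.1 this with h | h
      · exact h
      · exact absurd h hΔ
    have g1 : g 1 = 0 := by
      have : g 1 * D = 0 := by rw [hDe]; linear_combination a₁ * h1 - b₁ * h0
      rcases mul_eq_zero.1 this with h | h
      · exact h
      · exact absurd h hΔ
    have g2 : g 2 = 0 := by
      rw [g0, g1] at h2
      simpa using h2
    intro i
    fin_cases i
    · exact g0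
    · exact g1
    · exact g2
    · exact h3
  have hsum : a' • v + c' • w + t' • b' = ∑ k : Fin 4,
      ![(a' * b₂ - c' * a₂) / D, (c' * a₁ - a' * b₁) / D,
        (-(a' * (b₂ * t₁ - b₁ * t₂)) + c' * (a₂ * t₁ - a₁ * t₂)) / D, t'] k •
      ![a₁ • v + b₁ • w + t₁ • b, a₂ • v + b₂ • w + t₂ • b, b, b'] k := by
    simp only [Fin.sum_univ_four, Matrix.cons_val_zero, Matrix.cons_val_one,
      Matrix.cons_val_two, Matrix.cons_val_three, Matrix.head_cons, Matrix.tail_cons]
    ext i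
    simp only [Pi.add_apply, Pi.smul_apply, smul_eq_mul]
    field_simp
    rw [hDe]
    ring
  have hcoef := RATCOORD.coeff_mem F₀ _ hy hyind _ (hsum ▸ hq)
  have h3' := hcoef 3
  simp only [Matrix.cons_val_three, Matrix.head_cons, Matrix.tail_cons] at h3'
  have e : a' • v + c' • w = (a' • v + c' • w + t' • b') - t' • b' := by
    rw [add_sub_cancel_right]
  rw [e]
  exact Rat.sub hq (Rat.smul h3' hb')

end INTER2

/-- INTER2: the common line of two distinct rational planes is rational. -/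
theorem INTER2.ratLine_of_two_planes {ι : Type} (F₀ : Subfield F) (v w b b' : ι → F)
    (hind : LinearIndependent F ![v, w, b, b']) (hb : Rat F₀ b) (hb' : Rat F₀ b')
    (h1 : RatPlane F₀ v w b) (h2 : RatPlane F₀ v w b') : RatLine F₀ v w := by
  obtain ⟨a₁, b₁, t₁, a₂, b₂, t₂, hΔ, hp₁, hp₂⟩ := h1
  obtain ⟨a₁', b₁', t₁', a₂', b₂', t₂', hΔ', hq₁, hq₂⟩ := h2
  have hΔ'' : a₁' * b₂' - b₁' * a₂' ≠ 0 := by
    rw [mul_comm b₁' a₂']
    exact hΔ'
  exact ⟨a₁', b₁', a₂', b₂', hΔ'',
    INTER2.rat_part F₀ v w b b' hind hb hb' hΔ hp₁ hp₂ hq₁,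
    INTER2.rat_part F₀ v w b b' hind hb hb' hΔ hp₁ hp₂ hq₂⟩

end Cfsg.Agent.S5683P
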