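import Cfsg.Agent.Helper12.S5683Lib
import Cfsg.Agent.Helper4.S5683RATCOORD

set_option autoImplicit false
set_option linter.unusedSectionVars false
set_option linter.unusedVariables false

/-! S5683 piece INTERPT (driver helper12): the common point of two distinct rational lines is
rational. -/

namespace Cfsg.Agent.S5683P

open Matrix Cfsg.Agent.Helper28.Sg Cfsg.Agent.Helper28.Spin Cfsg.Agent.Helper12.OrthGen
  Cfsg.Agent.S2614

variable {F : Type*} [Field F] {m : ℕ}

/-- INTERPT: the common point of two distinct rational lines is rational. -/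
theorem INTERPT.prat_of_two_lines {ι : Type} (F₀ : Subfield F) (v w₁ w₂ : ι → F)
    (hind : LinearIndependent F ![v, w₁, w₂]) (h1 : RatLine F₀ v w₁) (h2 : RatLine F₀ v w₂) :
    PRat F₀ v := by
  obtain ⟨a, b, c, d, hD, hp₁, hp₂⟩ := h1
  obtain ⟨a', b', c', d', hD', hq₁, hq₂⟩ := h2
  obtain ⟨D, hDe⟩ : ∃ D, D = a * d - b * c := ⟨_, rfl⟩
  rw [← hDe] at hD
  obtain ⟨D', hDe'⟩ : ∃ D', D' = a' * d' - b' * c' := ⟨_, rfl⟩
  rw [← hDe'] at hD'
  have hli := Fintype.linearIndependent_iff.1 hind
  by_cases hb' : b' = 0
  · -- `q₁ = a' v`
    refine ⟨a', ?_, ?_⟩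
    · intro ha'
      apply hD'
      rw [hDe', ha', hb']
      ring
    · rw [hb', zero_smul, add_zero] at hq₁
      exact hq₁
  · -- the rational independent family `p₁, p₂, q₁`
    have hy : ∀ k : Fin 3, Rat F₀ (![a • v + b • w₁, c • v + d • w₁, a' • v + b' • w₂] k) := by
      intro k
      fin_cases k
      · exact hp₁
      · exact hp₂
      · exact hq₁
    have hyind : LinearIndependent F ![a • v + b • w₁, c • v + d • w₁, a' • v + b' • w₂] := by
      rw [Fintype.linearIndependent_iff]
      intro g hg
      have e : ∑ i : Fin 3, ![g 0 * a + g 1 * c + g 2 * a', g 0 * b + g 1 * d, g 2 * b'] i •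
          ![v, w₁, w₂] i = 0 := by
        rw [← hg]
        simp only [Fin.sum_univ_three, Matrix.cons_val_zero, Matrix.cons_val_one,
          Matrix.cons_val_two, Matrix.head_cons, Matrix.tail_cons]
        module
      have h0 := hli _ e 0
      have h1 := hli _ e 1
      have h2 := hli _ e 2
      simp only [Matrix.cons_val_zero, Matrix.cons_val_one, Matrix.cons_val_two,
        Matrix.head_cons, Matrix.tail_cons] at h0 h1 h2
      have g2 : g 2 = 0 := by
        rcases mul_eq_zero.1 h2 with h | h
        · exact h
        · exact absurd h hb'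
      rw [g2, zero_mul, add_zero] at h0
      have g0 : g 0 = 0 := by
        have : g 0 * D = 0 := by rw [hDe]; linear_combination d * h0 - c * h1
        rcases mul_eq_zero.1 this with h | h
        · exact h
        · exact absurd h hD
      have g1 : g 1 = 0 := by
        have : g 1 * D = 0 := by rw [hDe]; linear_combination a * h1 - b * h0
        rcases mul_eq_zero.1 this with h | h
        · exact h
        · exact absurd h hD
      intro i
      fin_cases i
      · exact g0
      · exact g1
      · exact g2
    -- the coefficients of `q₂`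
    have hsum : c' • v + d' • w₂ = ∑ k : Fin 3,
        ![-(D' * d / (b' * D)), D' * b / (b' * D), d' / b'] k •
        ![a • v + b • w₁, c • v + d • w₁, a' • v + b' • w₂] k := by
      simp only [Fin.sum_univ_three, Matrix.cons_val_zero, Matrix.cons_val_one,
        Matrix.cons_val_two, Matrix.head_cons, Matrix.tail_cons]
      ext i
      simp only [Pi.add_apply, Pi.smul_apply, smul_eq_mul]
      field_simp
      rw [hDe, hDe']
      ring
    have hcoef := RATCOORD.coeff_mem F₀ _ hy hyind _ (hsum ▸ hq₂)
    have h2' := hcoef 2
    simp only [Matrix.cons_val_two, Matrix.head_cons, Matrix.tail_cons] at h2'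
    -- `q₂ - (d'/b') q₁` is a rational multiple of `v`
    refine ⟨-(D' / b'), ?_, ?_⟩
    · exact neg_ne_zero.2 (div_ne_zero hD' hb')
    · have e : (-(D' / b')) • v =
          (c' • v + d' • w₂) - (d' / b') • (a' • v + b' • w₂) := by
        ext i
        simp only [Pi.add_apply, Pi.smul_apply, Pi.sub_apply, smul_eq_mul]
        field_simp
        rw [hDe']
        ring
      rw [e]
      exact Rat.sub hq₂ (Rat.smul h2' hq₁)

end Cfsg.Agent.S5683P
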