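import Mathlib
import Cfsg.Agent.Helper4.SUnModel

set_option autoImplicit false

/-! S2282 piece P2 (SPOW): powers of the truncated shift `SS`, its action on vectors, skewness. -/

namespace Cfsg.Agent.Helper16.SUn

open Matrix Cfsg.Agent.Helper4.SUn

variable {K : Type*} [Field K] (σ : K →+* K) (k : ℕ)

theorem SS_pow (t : ℕ) (ht : 1 ≤ t) :
    (SS k : Matrix (Fin (2 * k + 5)) (Fin (2 * k + 5)) K) ^ t =
      Matrix.of fun (i j : Fin (2 * k + 5)) =>
        if (j : ℕ) = (i : ℕ) + t ∧ 1 ≤ (i : ℕ) ∧ (j : ℕ) ≤ 2 * k + 3 then (1 : K) else 0 := by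
  induction t, ht using Nat.le_induction with
  | base =>
    rw [pow_one]
    rfl
  | succ t ht ih =>
    rw [pow_succ, ih]
    ext i j
    rw [Matrix.mul_apply]
    simp only [Matrix.of_apply, SS]
    by_cases hc : (j : ℕ) = (i : ℕ) + (t + 1) ∧ 1 ≤ (i : ℕ) ∧ (j : ℕ) ≤ 2 * k + 3
    · rw [if_pos hc]
      obtain ⟨h1, h2, h3⟩ := hc
      have hl : (i : ℕ) + t < 2 * k + 5 := by omega
      rw [Finset.sum_eq_single (⟨(i : ℕ) + t, hl⟩ : Fin (2 * k + 5))]
      · rw [if_pos ⟨rfl, h2, by simp only []; omega⟩, if_pos ⟨by simp only []; omega, by simp only []; omega, h3⟩,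
          mul_one]
      · intro l _ hne
        by_cases h : (l : ℕ) = (i : ℕ) + t ∧ 1 ≤ (i : ℕ) ∧ (l : ℕ) ≤ 2 * k + 3
        · exfalso
          apply hne
          apply Fin.ext
          exact h.1
        · rw [if_neg h, zero_mul]
      · intro h
        exact absurd (Finset.mem_univ _) h
    · rw [if_neg hc]
      apply Finset.sum_eq_zero
      intro l _
      by_cases h : (l : ℕ) = (i : ℕ) + t ∧ 1 ≤ (i : ℕ) ∧ (l : ℕ) ≤ 2 * k + 3
      · by_cases h' : (j : ℕ) = (l : ℕ) + 1 ∧ 1 ≤ (l : ℕ) ∧ (j : ℕ) ≤ 2 * k + 3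
        · exfalso
          apply hc
          refine ⟨by omega, h.2.1, h'.2.2⟩
        · rw [if_neg h', mul_zero]
      · rw [if_neg h, zero_mul]

theorem SS_pow_eq_zero (t : ℕ) (ht : 2 * k + 3 ≤ t) :
    (SS k : Matrix (Fin (2 * k + 5)) (Fin (2 * k + 5)) K) ^ t = 0 := by
  rw [SS_pow k t (by omega)]
  ext i j
  simp only [Matrix.of_apply, Matrix.zero_apply]
  rw [if_neg]
  intro h
  omega

theorem SS_pow_top :
    (SS k : Matrix (Fin (2 * k + 5)) (Fin (2 * k + 5)) K) ^ (2 * k + 2) =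
      Matrix.single (i1 k) (iB k) 1 := by
  rw [SS_pow k (2 * k + 2) (by omega)]
  ext i j
  simp only [Matrix.of_apply, Matrix.single_apply]
  by_cases h : (j : ℕ) = (i : ℕ) + (2 * k + 2) ∧ 1 ≤ (i : ℕ) ∧ (j : ℕ) ≤ 2 * k + 3
  · rw [if_pos h, if_pos]
    constructor
    · apply Fin.ext; simp only [i1_val]; omega
    · apply Fin.ext; simp only [iB_val]; omega
  · rw [if_neg h, if_neg]
    rintro ⟨h1, h2⟩
    apply h
    rw [← h1, ← h2]
    simp only [i1_val, iB_val]
    omega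

theorem SS_mulVec (v : Fin (2 * k + 5) → K) (i : Fin (2 * k + 5)) :
    ((SS k : Matrix (Fin (2 * k + 5)) (Fin (2 * k + 5)) K) *ᵥ v) i =
      if h : 1 ≤ (i : ℕ) ∧ (i : ℕ) + 1 ≤ 2 * k + 3 then v ⟨i + 1, by omega⟩ else 0 := by
  rw [Matrix.mulVec, dotProduct]
  simp only [SS, Matrix.of_apply]
  by_cases h : 1 ≤ (i : ℕ) ∧ (i : ℕ) + 1 ≤ 2 * k + 3
  · rw [dif_pos h]
    rw [Finset.sum_eq_single (⟨(i : ℕ) + 1, by omega⟩ : Fin (2 * k + 5))]
    · rw [if_pos ⟨rfl, h.1, h.2⟩, one_mul]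
    · intro l _ hne
      rw [if_neg, zero_mul]
      rintro ⟨h1, -, -⟩
      apply hne
      apply Fin.ext
      exact h1
    · intro h'
      exact absurd (Finset.mem_univ _) h'
  · rw [dif_neg h]
    apply Finset.sum_eq_zero
    intro l _
    rw [if_neg, zero_mul]
    rintro ⟨h1, h2, h3⟩
    apply h
    omega

/-- extension of a vector by zero to a function on `ℕ` -/
def natExt (x : Fin (2 * k + 5) → K) (m : ℕ) : K :=
  if h : m < 2 * k + 5 then x ⟨m, h⟩ else 0

theorem natExt_val (x : Fin (2 * k + 5) → K) (i : Fin (2 * k + 5)) : natExt k x (i : ℕ) = x i := by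
  unfold natExt
  rw [dif_pos i.2]

theorem natExt_of_lt (x : Fin (2 * k + 5) → K) (m : ℕ) (h : m < 2 * k + 5) :
    natExt k x m = x ⟨m, h⟩ := by
  unfold natExt
  rw [dif_pos h]

theorem SS_skew (x y : Fin (2 * k + 5) → K) :
    hJ σ k (SS k *ᵥ x) y = - hJ σ k x (SS k *ᵥ y) := by
  unfold hJ
  -- left side as a sum over `Ico 1 (2k+3)`
  have hL : ∑ i : Fin (2 * k + 5), (-1 : K) ^ (i : ℕ) * ((SS k : Matrix _ _ K) *ᵥ x) i * σ (y i.rev) =
      ∑ m ∈ Finset.Ico 1 (2 * k + 3),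
        (-1 : K) ^ m * natExt k x (m + 1) * σ (natExt k y (2 * k + 4 - m)) := by
    have h1 : ∀ i : Fin (2 * k + 5),
        (-1 : K) ^ (i : ℕ) * ((SS k : Matrix _ _ K) *ᵥ x) i * σ (y i.rev) =
          (fun m : ℕ => if 1 ≤ m ∧ m + 1 ≤ 2 * k + 3 then
            (-1 : K) ^ m * natExt k x (m + 1) * σ (natExt k y (2 * k + 4 - m)) else 0) (i : ℕ) := by
      intro i
      simp only []
      rw [SS_mulVec]
      by_cases h : 1 ≤ (i : ℕ) ∧ (i : ℕ) + 1 ≤ 2 * k + 3
      · rw [dif_pos h, if_pos h, natExt_of_lt k x _ (by omega)]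
        have : natExt k y (2 * k + 4 - (i : ℕ)) = y i.rev := by
          rw [natExt_of_lt k y _ (by omega)]
          congr 1
          apply Fin.ext
          rw [Fin.val_rev]
          simp only []
          omega
        rw [this]
      · rw [dif_neg h, if_neg h, mul_zero, zero_mul]
    rw [Finset.sum_congr rfl (fun i _ => h1 i)]
    rw [Fin.sum_univ_eq_sum_range (fun m : ℕ => if 1 ≤ m ∧ m + 1 ≤ 2 * k + 3 then
            (-1 : K) ^ m * natExt k x (m + 1) * σ (natExt k y (2 * k + 4 - m)) else 0) (2 * k + 5),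
      ← Finset.sum_filter]
    apply Finset.sum_congr
    · ext m
      simp only [Finset.mem_filter, Finset.mem_range, Finset.mem_Ico]
      omega
    · intro m _; rfl
  have hR : ∑ i : Fin (2 * k + 5), (-1 : K) ^ (i : ℕ) * x i * σ (((SS k : Matrix _ _ K) *ᵥ y) i.rev) =
      ∑ m ∈ Finset.Ico (1 + 1) (2 * k + 3 + 1),
        (-1 : K) ^ m * natExt k x m * σ (natExt k y (2 * k + 5 - m)) := by
    have h1 : ∀ i : Fin (2 * k + 5),
        (-1 : K) ^ (i : ℕ) * x i * σ (((SS k : Matrix _ _ K) *ᵥ y) i.rev) =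
          (fun m : ℕ => if 2 ≤ m ∧ m ≤ 2 * k + 3 then
            (-1 : K) ^ m * natExt k x m * σ (natExt k y (2 * k + 5 - m)) else 0) (i : ℕ) := by
      intro i
      simp only []
      rw [SS_mulVec]
      have hrev : ((i.rev : Fin (2 * k + 5)) : ℕ) = 2 * k + 4 - (i : ℕ) := by
        rw [Fin.val_rev]; omega
      by_cases h : 2 ≤ (i : ℕ) ∧ (i : ℕ) ≤ 2 * k + 3
      · have h' : 1 ≤ ((i.rev : Fin (2 * k + 5)) : ℕ) ∧ ((i.rev : Fin (2 * k + 5)) : ℕ) + 1 ≤ 2 * k + 3 := by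
          rw [hrev]; omega
        rw [dif_pos h', if_pos h, natExt_val]
        have : natExt k y (2 * k + 5 - (i : ℕ)) = y ⟨((i.rev : Fin (2 * k + 5)) : ℕ) + 1, by omega⟩ := by
          rw [natExt_of_lt k y _ (by omega)]
          congr 1
          apply Fin.ext
          simp only []
          rw [hrev]
          omega
        rw [this]
      · have h' : ¬ (1 ≤ ((i.rev : Fin (2 * k + 5)) : ℕ) ∧ ((i.rev : Fin (2 * k + 5)) : ℕ) + 1 ≤ 2 * k + 3) := by
          rw [hrev]; omega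
        rw [dif_neg h', if_neg h, map_zero, mul_zero]
    rw [Finset.sum_congr rfl (fun i _ => h1 i)]
    rw [Fin.sum_univ_eq_sum_range (fun m : ℕ => if 2 ≤ m ∧ m ≤ 2 * k + 3 then
            (-1 : K) ^ m * natExt k x m * σ (natExt k y (2 * k + 5 - m)) else 0) (2 * k + 5),
      ← Finset.sum_filter]
    apply Finset.sum_congr
    · ext m
      simp only [Finset.mem_filter, Finset.mem_range, Finset.mem_Ico]
      omega
    · intro m _; rfl
  rw [hL, hR, ← Finset.sum_Ico_add' (fun m => (-1 : K) ^ m * natExt k x m * σ (natExt k y (2 * k + 5 - m))) 1 (2 * k + 3) 1,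
    ← Finset.sum_neg_distrib]
  apply Finset.sum_congr rfl
  intro m hm
  rw [Finset.mem_Ico] at hm
  have : 2 * k + 5 - (m + 1) = 2 * k + 4 - m := by omega
  rw [this, pow_succ]
  ring

end Cfsg.Agent.Helper16.SUn
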