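import Mathlib
import Cfsg.Prelude.Def_Characters
import Cfsg.Agent.Helper7.S2333Defs
import Cfsg.Agent.Helper7.S2333Basic

set_option autoImplicit false

namespace Cfsg.Agent.S2333P

open Matrix Cfsg Cfsg.Agent.Helper25 Module

variable {F : Type*} [Field F] {n : ℕ}

theorem exists_basis_matrix (m : ℕ) (u v : Fin (m + 2) → F) (hu : u ≠ 0)
    (hv : ∀ t : F, v ≠ t • u) :
    ∃ B : Matrix (Fin (m + 2)) (Fin (m + 2)) F, B.det ≠ 0 ∧
      B *ᵥ Pi.single 0 1 = u ∧ B *ᵥ Pi.single 1 1 = v := by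
  classical
  have hli : LinearIndependent F ![u, v] :=
    (LinearIndependent.pair_iff' hu).mpr (fun a h => hv a h.symm)
  have hs := hli.linearIndepOn_id
  set b₀ := Basis.extend hs with hb₀
  have huv : u ≠ v := by
    intro h
    apply hv 1
    rw [one_smul, h]
  have hur : u ∈ Set.range ![u, v] := ⟨0, rfl⟩
  have hvr : v ∈ Set.range ![u, v] := ⟨1, rfl⟩
  let U : ↥(hs.extend (Set.subset_univ _)) := ⟨u, Basis.subset_extend hs hur⟩
  let V : ↥(hs.extend (Set.subset_univ _)) := ⟨v, Basis.subset_extend hs hvr⟩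
  have hUV : U ≠ V := fun h => huv (congrArg Subtype.val h)
  have : Fintype ↥(hs.extend (Set.subset_univ _)) := FiniteDimensional.fintypeBasisIndex b₀
  have hcard : Fintype.card ↥(hs.extend (Set.subset_univ _)) = m + 2 := by
    rw [← Module.finrank_eq_card_basis b₀, Module.finrank_fin_fun]
  let e₀ : Fin (m + 2) ≃ ↥(hs.extend (Set.subset_univ _)) := (Fintype.equivFinOfCardEq hcard).symm
  let e₁ := e₀.trans (Equiv.swap (e₀ 0) U)
  have he₁0 : e₁ 0 = U := by
    show Equiv.swap (e₀ 0) U (e₀ 0) = U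
    rw [Equiv.swap_apply_left]
  let e₂ := e₁.trans (Equiv.swap (e₁ 1) V)
  have he₂1 : e₂ 1 = V := by
    show Equiv.swap (e₁ 1) V (e₁ 1) = V
    rw [Equiv.swap_apply_left]
  have he₂0 : e₂ 0 = U := by
    show Equiv.swap (e₁ 1) V (e₁ 0) = U
    rw [he₁0]
    apply Equiv.swap_apply_of_ne_of_ne
    · rw [← he₁0]
      intro h
      have := e₁.injective h
      exact absurd (congrArg Fin.val this) (by simp)
    · exact hUV
  let b : Basis (Fin (m + 2)) F (Fin (m + 2) → F) := b₀.reindex e₂.symm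
  have hb : ∀ j, b j = ((e₂ j : ↥(hs.extend (Set.subset_univ _))) : Fin (m + 2) → F) := by
    intro j
    show (b₀.reindex e₂.symm) j = _
    rw [Basis.reindex_apply, Equiv.symm_symm, hb₀, Basis.extend_apply_self]
  refine ⟨(Pi.basisFun F (Fin (m + 2))).toMatrix b, ?_, ?_, ?_⟩
  · exact Matrix.det_ne_zero_of_right_inverse
      (Basis.toMatrix_mul_toMatrix_flip (Pi.basisFun F (Fin (m + 2))) b)
  · rw [Matrix.mulVec_single_one]
    funext i
    show (Pi.basisFun F (Fin (m + 2))).repr (b 0) i = u i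
    rw [Pi.basisFun_repr, hb, he₂0]
  · rw [Matrix.mulVec_single_one]
    funext i
    show (Pi.basisFun F (Fin (m + 2))).repr (b 1) i = v i
    rw [Pi.basisFun_repr, hb, he₂1]
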