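import Mathlib
import Cfsg.Prelude.Def_Characters
import Cfsg.Agent.Helper7.S2333Defs
import Cfsg.Agent.Helper7.S2333Basic

set_option autoImplicit false

namespace Cfsg.Agent.S2333P

open Matrix Cfsg Cfsg.Agent.Helper25

variable {F : Type*} [Field F] {n : ℕ}

theorem na_sq_inj (h2 : (2 : F) = 0) {x y : F} (h : x ^ 2 = y ^ 2) : x = y := by
  have h1 : (x + y) ^ 2 = 0 := by
    have e : (x + y) ^ 2 = x ^ 2 + y ^ 2 + 2 * (x * y) := by ring
    rw [e, h2, zero_mul, add_zero, h, ← two_mul, h2, zero_mul]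
  have h3 : x + y = 0 := by
    rcases pow_eq_zero_iff (two_ne_zero) |>.mp h1 with h
    exact h
  have h4 : x = -y := eq_neg_of_add_eq_zero_left h3
  rw [h4, neg_eq_self h2]

theorem na_sq_surj [Finite F] (h2 : (2 : F) = 0) (d : F) : ∃ x : F, x ^ 2 = d :=
  (Finite.injective_iff_surjective.mp (fun x y (h : x ^ 2 = y ^ 2) => na_sq_inj h2 h)) d

theorem na_arith (q n A B W : ℕ) (hq : 2 ≤ q) (hn : 2 ≤ n) (hWcard : q ^ n ≤ W * q ^ 2)
    (hinj : A * (q - 1) + B ≤ q ^ n) (hN0W : W ≤ B) : A ≤ (q + 1) * q ^ (n - 2) := by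
  obtain ⟨r, rfl⟩ : ∃ r, q = r + 2 := ⟨q - 2, by omega⟩
  obtain ⟨m, rfl⟩ : ∃ m, n = m + 2 := ⟨n - 2, by omega⟩
  rw [Nat.add_sub_cancel]
  have e1 : (r + 2) ^ (m + 2) = (r + 2) ^ m * (r + 2) ^ 2 := pow_add _ _ _
  rw [e1] at hWcard hinj
  have hk : (r + 2) ^ m ≤ W := Nat.le_of_mul_le_mul_right hWcard (by positivity)
  have e2 : r + 2 - 1 = r + 1 := by omega
  rw [e2] at hinj
  have h5 : A * (r + 1) ≤ (r + 2 + 1) * (r + 2) ^ m * (r + 1) := by
    have : (r + 2 + 1) * (r + 2) ^ m * (r + 1) + (r + 2) ^ m = (r + 2) ^ m * (r + 2) ^ 2 := by ring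
    omega
  exact Nat.le_of_mul_le_mul_right h5 (by omega)

open Classical in
theorem card_value_le [Fintype F] (h2 : (2 : F) = 0) (n : ℕ) (hn : 2 ≤ n)
    (M : Matrix (Fin n) (Fin n) F)
    (hE : ∀ u, qf M u = 0 → ∀ v, polar (qf M) u v = 0)
    (u₀ v₀ : Fin n → F) (hb : polar (qf M) u₀ v₀ ≠ 0) (a : F) (ha : a ≠ 0) :
    (Finset.univ.filter (fun u : Fin n → F => qf M u = a)).card ≤
      (Fintype.card F + 1) * Fintype.card F ^ (n - 2) := by
  set Na := Finset.univ.filter (fun u : Fin n → F => qf M u = a) with hNa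
  set N0 := Finset.univ.filter (fun u : Fin n → F => qf M u = 0) with hN0
  set W := Finset.univ.filter
    (fun w : Fin n → F => polar (qf M) u₀ w = 0 ∧ polar (qf M) v₀ w = 0) with hW
  have ha₀ : qf M u₀ ≠ 0 := fun h => hb (hE u₀ h v₀)
  -- `W ⊆ N0`
  have hWN : W ⊆ N0 := by
    intro w hw
    rw [hW, Finset.mem_filter] at hw
    rw [hN0, Finset.mem_filter]
    refine ⟨Finset.mem_univ _, ?_⟩
    by_contra hd
    obtain ⟨x, hx⟩ := na_sq_surj h2 (qf M w / qf M u₀)
    have hx0 : x ≠ 0 := by
      intro h0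
      rw [h0] at hx
      have : qf M w / qf M u₀ = 0 := by rw [← hx]; ring
      rcases div_eq_zero_iff.mp this with h | h
      · exact hd h
      · exact ha₀ h
    have hz : qf M (x • u₀ + w) = 0 := by
      rw [qf_add, qf_smul, polar_smul_left, hw.2.1, hx, div_mul_cancel₀ _ ha₀, mul_zero, add_zero,
        ← two_mul, h2, zero_mul]
    have h1 := hE _ hz v₀
    rw [polar_add_left, polar_smul_left, polar_comm _ w v₀, hw.2.2, add_zero] at h1
    rcases mul_eq_zero.mp h1 with h | h
    · exact hx0 h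
    · exact hb h
  -- `q^n ≤ |W| q^2`
  have hWcard : Fintype.card F ^ n ≤ W.card * Fintype.card F ^ 2 := by
    let L : (Fin n → F) → F × F := fun w => (polar (qf M) u₀ w, polar (qf M) v₀ w)
    have hfib : ∀ y ∈ (Finset.univ : Finset (Fin n → F)).image L,
        ((Finset.univ : Finset (Fin n → F)).filter fun w => L w = y).card ≤ W.card := by
      intro y hy
      obtain ⟨w₁, -, rfl⟩ := Finset.mem_image.mp hy
      apply Finset.card_le_card_of_injOn (fun w => w - w₁)
      · intro w hw
        rw [Finset.mem_coe, Finset.mem_filter] at hw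
        have h1 : polar (qf M) u₀ w = polar (qf M) u₀ w₁ := congrArg Prod.fst hw.2
        have h3 : polar (qf M) v₀ w = polar (qf M) v₀ w₁ := congrArg Prod.snd hw.2
        rw [Finset.mem_coe, hW, Finset.mem_filter]
        refine ⟨Finset.mem_univ _, ?_, ?_⟩
        · rw [polar_sub_right, h1, sub_self]
        · rw [polar_sub_right, h3, sub_self]
      · intro w _ w' _ h
        exact sub_left_injective h
    have h1 := Finset.card_le_mul_card_image (f := L) Finset.univ W.card hfib
    rw [Finset.card_univ, Fintype.card_fun, Fintype.card_fin] at h1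
    refine h1.trans (Nat.mul_le_mul_left _ ?_)
    refine (Finset.card_le_univ _).trans ?_
    rw [Fintype.card_prod, sq]
  -- the scaling map
  have hinj : Na.card * (Fintype.card F - 1) + N0.card ≤ Fintype.card F ^ n := by
    have h1 : (Na ×ˢ (Finset.univ : Finset Fˣ)).card ≤ (Finset.univ \ N0).card := by
      apply Finset.card_le_card_of_injOn (fun p : (Fin n → F) × Fˣ => (p.2 : F) • p.1)
      · rintro ⟨u, s⟩ hp
        rw [Finset.mem_coe, Finset.mem_product, hNa, Finset.mem_filter] at hp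
        rw [Finset.mem_coe, Finset.mem_sdiff, hN0, Finset.mem_filter]
        refine ⟨Finset.mem_univ _, ?_⟩
        rintro ⟨-, h⟩
        rw [qf_smul, hp.1.2] at h
        rcases mul_eq_zero.mp h with h | h
        · exact s.ne_zero (pow_eq_zero_iff two_ne_zero |>.mp h)
        · exact ha h
      · rintro ⟨u, s⟩ hp ⟨u', s'⟩ hp' h
        rw [Finset.mem_coe, Finset.mem_product, hNa, Finset.mem_filter] at hp hp'
        have h' : (s : F) • u = (s' : F) • u' := h
        have e1 := congrArg (qf M) h'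
        rw [qf_smul, qf_smul, hp.1.2, hp'.1.2] at e1
        have e2 : (s : F) ^ 2 = (s' : F) ^ 2 := mul_right_cancel₀ ha e1
        have e3 : (s : F) = s' := na_sq_inj h2 e2
        rw [e3] at h'
        have e4 : u = u' := smul_right_injective _ s'.ne_zero h'
        rw [e4, Units.ext e3]
    rw [Finset.card_product, Finset.card_univ, Fintype.card_units] at h1
    have h3 : (Finset.univ \ N0).card + N0.card = Fintype.card F ^ n := by
      rw [Finset.card_sdiff_add_card_eq_card (Finset.subset_univ _), Finset.card_univ,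
        Fintype.card_fun, Fintype.card_fin]
    omega
  exact na_arith _ n _ _ _ Fintype.one_lt_card hn hWcard hinj (Finset.card_le_card hWN)
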