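import Mathlib
import Cfsg.Prelude.Def_Characters
import Cfsg.Agent.Helper7.S2333Defs
import Cfsg.Agent.Helper7.S2333Basic

set_option autoImplicit false

namespace Cfsg.Agent.S2333P

open Matrix Cfsg Cfsg.Agent.Helper25

variable {F : Type*} [Field F] {n : ℕ}

open Classical in
theorem card_pairs [Fintype F] (n : ℕ) :
    (Finset.univ.filter (fun p : (Fin n → F) × (Fin n → F) =>
      p.1 ≠ 0 ∧ ∀ t : F, p.2 ≠ t • p.1)).card =
      (Fintype.card F ^ n - 1) * (Fintype.card F ^ n - Fintype.card F) := by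
  set A := Finset.univ.filter (fun u : Fin n → F => u ≠ 0) with hA
  have hAcard : A.card = Fintype.card F ^ n - 1 := by
    rw [hA, Finset.filter_ne', Finset.card_erase_of_mem (Finset.mem_univ _), Finset.card_univ,
      Fintype.card_fun, Fintype.card_fin]
  let φ : (Fin n → F) × F → (Fin n → F) × (Fin n → F) := fun p => (p.1, p.2 • p.1)
  set T := (A ×ˢ (Finset.univ : Finset F)).image φ with hT
  have hTcard : T.card = (Fintype.card F ^ n - 1) * Fintype.card F := by
    rw [hT, Finset.card_image_of_injOn, Finset.card_product, hAcard, Finset.card_univ]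
    rintro ⟨u, t⟩ hp ⟨u', t'⟩ hp' h
    rw [Finset.mem_coe, Finset.mem_product, hA, Finset.mem_filter] at hp
    have h1 : u = u' := congrArg Prod.fst h
    have h3 : t • u = t' • u' := congrArg Prod.snd h
    rw [← h1] at h3
    rw [← h1, smul_left_injective F hp.1.2 h3]
  have hTsub : T ⊆ A ×ˢ (Finset.univ : Finset (Fin n → F)) := by
    intro p hp
    obtain ⟨⟨u, t⟩, hq, rfl⟩ := Finset.mem_image.mp hp
    rw [Finset.mem_product] at hq ⊢
    exact ⟨hq.1, Finset.mem_univ _⟩
  have hS : Finset.univ.filter (fun p : (Fin n → F) × (Fin n → F) =>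
      p.1 ≠ 0 ∧ ∀ t : F, p.2 ≠ t • p.1) = (A ×ˢ (Finset.univ : Finset (Fin n → F))) \ T := by
    ext ⟨u, v⟩
    rw [Finset.mem_filter, Finset.mem_sdiff, Finset.mem_product, hA, Finset.mem_filter, hT,
      Finset.mem_image]
    constructor
    · rintro ⟨-, hu, hv⟩
      refine ⟨⟨⟨Finset.mem_univ _, hu⟩, Finset.mem_univ _⟩, ?_⟩
      rintro ⟨⟨u', t⟩, -, h⟩
      have h1 : u' = u := congrArg Prod.fst h
      have h3 : t • u' = v := congrArg Prod.snd h
      rw [h1] at h3
      exact hv t h3.symm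
    · rintro ⟨⟨⟨-, hu⟩, -⟩, hv⟩
      refine ⟨Finset.mem_univ _, hu, fun t ht => hv ⟨(u, t), ?_, ?_⟩⟩
      · rw [Finset.mem_product, Finset.mem_filter]
        exact ⟨⟨Finset.mem_univ _, hu⟩, Finset.mem_univ _⟩
      · have ht' : v = t • u := ht
        show (u, t • u) = (u, v)
        rw [ht']
  rw [hS]
  have h1 := Finset.card_sdiff_add_card_eq_card hTsub
  rw [Finset.card_product, hAcard, hTcard, Finset.card_univ, Fintype.card_fun,
    Fintype.card_fin] at h1
  rw [Nat.mul_sub]
  omega
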