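import Mathlib
import Cfsg.Prelude.Def_Characters
import Cfsg.Agent.Helper7.S2333Defs
import Cfsg.Agent.Helper7.S2333Basic

set_option autoImplicit false

namespace Cfsg.Agent.S2333P

open Matrix Cfsg Cfsg.Agent.Helper25

variable {F : Type*} [Field F] {n : ℕ}

/-- a quadratic equation with nonzero leading coefficient has at most two roots -/
theorem sing_card_roots_le [Fintype F] [DecidableEq F] (a b c : F) (ha : a ≠ 0) :
    (Finset.univ.filter (fun t : F => c + t ^ 2 * a + t * b = 0)).card ≤ 2 := by
  by_contra hcon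
  rw [not_le] at hcon
  obtain ⟨t₁, h1, t₂, h2, t₃, h3, h12, h13, h23⟩ := Finset.two_lt_card.mp hcon
  rw [Finset.mem_filter] at h1 h2 h3
  have e1 : (t₁ - t₂) * (a * (t₁ + t₂) + b) = 0 := by linear_combination h1.2 - h2.2
  have e2 : (t₁ - t₃) * (a * (t₁ + t₃) + b) = 0 := by linear_combination h1.2 - h3.2
  have f1 : a * (t₁ + t₂) + b = 0 := by
    rcases mul_eq_zero.mp e1 with h | h
    · exact absurd (sub_eq_zero.mp h) h12
    · exact h
  have f2 : a * (t₁ + t₃) + b = 0 := by
    rcases mul_eq_zero.mp e2 with h | h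
    · exact absurd (sub_eq_zero.mp h) h13
    · exact h
  have f3 : a * (t₂ - t₃) = 0 := by linear_combination f1 - f2
  rcases mul_eq_zero.mp f3 with h | h
  · exact ha h
  · exact h23 (sub_eq_zero.mp h)

open Classical in
theorem card_sing_le [Fintype F] (n : ℕ) (hn : 1 ≤ n) (M : Matrix (Fin n) (Fin n) F)
    (w : Fin n → F) (hw : qf M w ≠ 0) :
    (Finset.univ.filter (fun u : Fin n → F => qf M u = 0)).card ≤
      2 * Fintype.card F ^ (n - 1) := by
  -- a nonzero coordinate of `w`
  have hw0 : w ≠ 0 := by
    intro h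
    rw [h, qf_zero] at hw
    exact hw rfl
  obtain ⟨j, hj⟩ : ∃ j, w j ≠ 0 := by
    by_contra hcon
    rw [not_exists] at hcon; simp only [not_not] at hcon
    exact hw0 (funext hcon)
  -- the projection along `w` onto the hyperplane `x j = 0`
  let pr : (Fin n → F) → (Fin n → F) := fun u => u - (u j / w j) • w
  have hprj : ∀ u, pr u j = 0 := by
    intro u
    show u j - (u j / w j) * w j = 0
    rw [div_mul_cancel₀ _ hj, sub_self]
  have hdec : ∀ u, u = pr u + (u j / w j) • w := by
    intro u
    show u = u - (u j / w j) • w + (u j / w j) • w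
    rw [sub_add_cancel]
  let g : (Fin n → F) → ({i : Fin n // i ≠ j} → F) := fun u i => pr u i.1
  have hg : ∀ u u', g u = g u' → pr u = pr u' := by
    intro u u' h
    funext i
    by_cases hi : i = j
    · rw [hi, hprj, hprj]
    · exact congrFun h ⟨i, hi⟩
  set Z := Finset.univ.filter (fun u : Fin n → F => qf M u = 0) with hZ
  have hfib : ∀ y ∈ Z.image g, (Z.filter fun u => g u = y).card ≤ 2 := by
    intro y hy
    obtain ⟨u₀, hu₀Z, rfl⟩ := Finset.mem_image.mp hy
    set x := pr u₀ with hx
    have hinj : Set.InjOn (fun u : Fin n → F => u j / w j)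
        ((Z.filter fun u => g u = g u₀) : Finset (Fin n → F)) := by
      intro u hu u' hu' htt
      rw [Finset.mem_coe, Finset.mem_filter] at hu hu'
      have h1 : pr u = pr u' := by rw [hg u u₀ hu.2, hg u' u₀ hu'.2]
      have htt' : u j / w j = u' j / w j := htt
      rw [hdec u, hdec u', h1, htt']
    rw [← Finset.card_image_of_injOn hinj]
    refine le_trans (Finset.card_le_card ?_)
      (sing_card_roots_le (qf M w) (polar (qf M) x w) (qf M x) hw)
    intro t ht
    obtain ⟨u, hu, rfl⟩ := Finset.mem_image.mp ht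
    rw [Finset.mem_filter] at hu
    have huZ : qf M u = 0 := (Finset.mem_filter.mp hu.1).2
    rw [Finset.mem_filter]
    refine ⟨Finset.mem_univ _, ?_⟩
    have h1 : pr u = x := hg u u₀ hu.2
    have h2 := hdec u
    rw [h1] at h2
    rw [← qf_add_smul, ← h2]
    exact huZ
  have h1 := Finset.card_le_mul_card_image (f := g) Z 2 hfib
  refine h1.trans (Nat.mul_le_mul_left 2 ?_)
  refine (Finset.card_le_univ _).trans ?_
  rw [Fintype.card_fun, Fintype.card_subtype_compl, Fintype.card_fin, Fintype.card_subtype_eq]
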