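import Mathlib
import Cfsg.Agent.Helper25.FusionNKSystem

set_option autoImplicit false

/-! Definitions for the BCGLO saturation criterion (S5110, AKO Theorem I.3.10). -/

namespace Cfsg.Agent.Helper16.BC

open Cfsg Cfsg.FusionSystem Cfsg.Agent.Helper25

variable {Ω : Type*} [Group Ω] {S : Subgroup Ω}

/-- The image `φ(A)` of a subgroup `A` (in use `A ≤ R`) under a map `φ : R →* Ω`. -/
def img {R : Subgroup Ω} (φ : R →* Ω) (A : Subgroup Ω) : Subgroup Ω := (A.subgroupOf R).map φ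

theorem mem_img {R : Subgroup Ω} (φ : R →* Ω) (A : Subgroup Ω) (y : Ω) :
    y ∈ img φ A ↔ ∃ x : R, (x : Ω) ∈ A ∧ φ x = y := by
  unfold img
  rw [Subgroup.mem_map]
  constructor
  · rintro ⟨x, hx, rfl⟩
    exact ⟨x, Subgroup.mem_subgroupOf.mp hx, rfl⟩
  · rintro ⟨x, hx, rfl⟩
    exact ⟨x, Subgroup.mem_subgroupOf.mpr hx, rfl⟩

/-- The hypotheses of the criterion on the family `ℋ`. -/
structure Hyp (p : ℕ) (F : FusionSystem S) (ℋ : Set (Subgroup Ω)) : Prop where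
  le : ∀ P ∈ ℋ, P ≤ S
  conj : ∀ P ∈ ℋ, ∀ Q, F.IsConj P Q → Q ∈ ℋ
  sat : ∀ P ∈ ℋ, ∃ Q, F.IsConj P Q ∧ F.IsFullyAutomized p Q ∧ F.IsReceptive Q
  gen : ∀ E : FusionSystem S, (∀ P ∈ ℋ, F.Hom P ⊆ E.Hom P) → F ≤ E

/-- Every subgroup of `S` of order larger than `n` lies in `ℋ`. -/
def Big (S : Subgroup Ω) (ℋ : Set (Subgroup Ω)) (n : ℕ) : Prop :=
  ∀ R : Subgroup Ω, R ≤ S → n < Nat.card R → R ∈ ℋ

/-- `A ⇒ B`: some map of the system defined on `N_S(A)` sends `A` onto `B`. -/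
def NArrow (F : FusionSystem S) (A B : Subgroup Ω) : Prop :=
  ∃ ρ ∈ F.Hom (normalizerIn S A), img ρ A = B

/-- `A ~ B`: `A ⇒ C ⇐ B` for some `C`. -/
def NEquiv (F : FusionSystem S) (A B : Subgroup Ω) : Prop :=
  ∃ C, NArrow F A C ∧ NArrow F B C

/-- The automorphisms of `R` that preserve the subgroup `Q` (in use `Q ≤ R`). -/
def stabAut (R Q : Subgroup Ω) : Subgroup (MulAut R) where
  carrier := {κ | ∀ x : R, ((κ x : R) : Ω) ∈ Q ↔ (x : Ω) ∈ Q}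
  one_mem' := fun _ => Iff.rfl
  mul_mem' := by
    intro a b ha hb x
    rw [MulAut.mul_apply]
    exact (ha (b x)).trans (hb x)
  inv_mem' := by
    intro a ha x
    have h := ha (a⁻¹ x)
    rw [MulAut.apply_inv_self] at h
    exact h.symm

theorem mem_stabAut {R Q : Subgroup Ω} {κ : MulAut R} :
    κ ∈ stabAut R Q ↔ ∀ x : R, ((κ x : R) : Ω) ∈ Q ↔ (x : Ω) ∈ Q := Iff.rfl

/-- `α : Aut(Q)` is the restriction to `Q` of the map `ψ : R →* Ω` (where `Q ≤ R`). -/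
def IsRes {Q R : Subgroup Ω} (hQR : Q ≤ R) (ψ : R →* Ω) (α : MulAut Q) : Prop :=
  ∀ x : Q, ((α x : Q) : Ω) = ψ (Subgroup.inclusion hQR x)

/-- `N₀(Q) = N_S(Q)` in the form used by `NKSystem`. -/
abbrev N0 (S Q : Subgroup Ω) : Subgroup Ω := NKvia S Q.subtype (⊤ : Subgroup (MulAut Q))

/-- The normalizer system `N_F(Q)` (over `N₀(Q) = N_S(Q)`). -/
abbrev NSys (F : FusionSystem S) (Q : Subgroup Ω) (hQ : Q ≤ S) : FusionSystem (N0 S Q) :=
  NKSystem F Q hQ ⊤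

/-- The automorphisms of `Q` that are restrictions of `E`-automorphisms of `R` (where `Q ≤ R`). -/
def resSet {N : Subgroup Ω} (E : FusionSystem N) {Q R : Subgroup Ω} (hQR : Q ≤ R) :
    Set (MulAut Q) :=
  {α | ∃ β ∈ E.Hom R, β.range = R ∧ IsRes hQR β α}

end Cfsg.Agent.Helper16.BC
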