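import Mathlib
import Cfsg.Agent.Helper16.BCDefs
import Cfsg.Agent.Helper25.FusionAlperin2

set_option autoImplicit false

/-! S5110 drive: library for `img`, `NArrow`, pairs (used by STEP and ARROW). -/

namespace Cfsg.Agent.Helper16.BC

open Cfsg Cfsg.FusionSystem Cfsg.Agent.Helper25

variable {Ω : Type*} [Group Ω] {S : Subgroup Ω}

theorem img_comp {R R' : Subgroup Ω} (φ : R →* Ω) (σ : R' →* Ω) (h : ∀ x, φ x ∈ R')
    (A : Subgroup Ω) : img (σ.comp (φ.codRestrict R' h)) A = img σ (img φ A) := by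
  ext y
  rw [mem_img, mem_img]
  constructor
  · rintro ⟨x, hx, rfl⟩
    exact ⟨⟨φ x, h x⟩, (mem_img φ A _).mpr ⟨x, hx, rfl⟩, rfl⟩
  · rintro ⟨z, hz, rfl⟩
    obtain ⟨x, hx, hxz⟩ := (mem_img φ A _).mp hz
    refine ⟨x, hx, ?_⟩
    show σ ⟨φ x, h x⟩ = σ z
    congr 1
    exact Subtype.ext hxz

theorem img_restrict {R R' : Subgroup Ω} (hRR' : R ≤ R') (φ : R' →* Ω) (A : Subgroup Ω)
    (hAR : A ≤ R) : img (φ.comp (Subgroup.inclusion hRR')) A = img φ A := by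
  ext y
  rw [mem_img, mem_img]
  constructor
  · rintro ⟨x, hx, rfl⟩
    exact ⟨Subgroup.inclusion hRR' x, hx, rfl⟩
  · rintro ⟨x, hx, rfl⟩
    exact ⟨⟨x, hAR hx⟩, hx, rfl⟩

theorem img_self {R : Subgroup Ω} (φ : R →* Ω) : img φ R = φ.range := by
  ext y
  rw [mem_img]
  constructor
  · rintro ⟨x, -, rfl⟩
    exact ⟨x, rfl⟩
  · rintro ⟨x, rfl⟩
    exact ⟨x, x.2, rfl⟩

theorem img_le_range {R : Subgroup Ω} (φ : R →* Ω) (A : Subgroup Ω) : img φ A ≤ φ.range := by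
  intro y hy
  obtain ⟨x, -, rfl⟩ := (mem_img φ A y).mp hy
  exact ⟨x, rfl⟩

theorem img_mono {R : Subgroup Ω} (φ : R →* Ω) {A B : Subgroup Ω} (h : A ≤ B) :
    img φ A ≤ img φ B := by
  intro y hy
  obtain ⟨x, hx, rfl⟩ := (mem_img φ A y).mp hy
  exact (mem_img φ B _).mpr ⟨x, h hx, rfl⟩

theorem mem_img_of_mem {R : Subgroup Ω} (φ : R →* Ω) {A : Subgroup Ω} (x : R) (hx : (x : Ω) ∈ A) :
    φ x ∈ img φ A := (mem_img φ A _).mpr ⟨x, hx, rfl⟩

theorem mem_of_mem_img {R : Subgroup Ω} {φ : R →* Ω} (hinj : Function.Injective φ)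
    {A : Subgroup Ω} {x : R} (hx : φ x ∈ img φ A) : (x : Ω) ∈ A := by
  obtain ⟨y, hy, hxy⟩ := (mem_img φ A _).mp hx
  rw [← hinj hxy]
  exact hy

theorem card_img {R : Subgroup Ω} {φ : R →* Ω} (hinj : Function.Injective φ) {A : Subgroup Ω}
    (hAR : A ≤ R) : Nat.card (img φ A) = Nat.card A := by
  unfold img
  rw [Subgroup.card_map_of_injective hinj]
  exact Nat.card_congr (Subgroup.subgroupOfEquivOfLe hAR).toEquiv

/-- If `x` normalizes `A` then `φ x` normalizes `φ(A)`. -/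
theorem img_normalizer {R : Subgroup Ω} (φ : R →* Ω) (A : Subgroup Ω) (x : R)
    (hx : (x : Ω) ∈ Subgroup.normalizer (A : Set Ω)) :
    φ x ∈ Subgroup.normalizer (img φ A : Set Ω) := by
  have key : ∀ z : R, (z : Ω) ∈ Subgroup.normalizer (A : Set Ω) → ∀ y ∈ img φ A,
      φ z * y * (φ z)⁻¹ ∈ img φ A := by
    intro z hz y hy
    obtain ⟨a, ha, rfl⟩ := (mem_img φ A y).mp hy
    have h1 : (z : Ω) * a * (z : Ω)⁻¹ ∈ A := (Subgroup.mem_normalizer_iff.mp hz _).mp ha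
    have h2 : φ z * φ a * (φ z)⁻¹ = φ (z * a * z⁻¹) := by
      rw [map_mul, map_mul, map_inv]
    rw [h2]
    exact mem_img_of_mem φ _ h1
  rw [Subgroup.mem_normalizer_iff]
  intro y
  refine ⟨key x hx y, fun hy => ?_⟩
  have h1 := key x⁻¹ (by simpa using Subgroup.inv_mem _ hx) _ hy
  have h2 : φ x⁻¹ * (φ x * y * (φ x)⁻¹) * (φ x⁻¹)⁻¹ = y := by
    rw [map_inv]; group
  rwa [h2] at h1

/-- A map of the system defined on a subgroup of `N_S(A)` lands in `N_S(φ A)`. -/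
theorem map_mem_normalizerIn (F : FusionSystem S) {R : Subgroup Ω} {φ : R →* Ω}
    (hφ : φ ∈ F.Hom R) {A : Subgroup Ω} (hRN : R ≤ normalizerIn S A) (x : R) :
    φ x ∈ normalizerIn S (img φ A) :=
  Subgroup.mem_inf.mpr ⟨(F.le_of_mem hφ).2 x,
    img_normalizer φ A x (Subgroup.mem_inf.mp (hRN x.2)).2⟩

theorem le_normalizerIn_self {A : Subgroup Ω} (hA : A ≤ S) : A ≤ normalizerIn S A :=
  le_inf hA Subgroup.le_normalizer

theorem narrow_le (F : FusionSystem S) {A B : Subgroup Ω} (h : NArrow F A B) : B ≤ S := by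
  obtain ⟨ρ, hρ, rfl⟩ := h
  intro y hy
  obtain ⟨x, -, rfl⟩ := (mem_img ρ A y).mp hy
  exact (F.le_of_mem hρ).2 x

theorem narrow_refl (F : FusionSystem S) {A : Subgroup Ω} (hA : A ≤ S) : NArrow F A A := by
  refine ⟨(normalizerIn S A).subtype, subtype_mem F inf_le_left, ?_⟩
  ext y
  rw [mem_img]
  constructor
  · rintro ⟨x, hx, rfl⟩
    exact hx
  · intro hy
    exact ⟨⟨y, le_normalizerIn_self hA hy⟩, hy, rfl⟩

theorem narrow_trans (F : FusionSystem S) {A B C : Subgroup Ω} (h₁ : NArrow F A B)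
    (h₂ : NArrow F B C) : NArrow F A C := by
  obtain ⟨ρ, hρ, rfl⟩ := h₁
  obtain ⟨σ, hσ, rfl⟩ := h₂
  have hval : ∀ x, ρ x ∈ normalizerIn S (img ρ A) := map_mem_normalizerIn F hρ le_rfl
  exact ⟨σ.comp (ρ.codRestrict _ hval), F.comp_mem hρ hσ hval, img_comp ρ σ hval A⟩

/-- A map of the system defined on the whole of `N_S(A)` gives `A ⇒ φ(A)`. -/
theorem narrow_of_eq (F : FusionSystem S) {A R : Subgroup Ω} {φ : R →* Ω} (hφ : φ ∈ F.Hom R)
    (hR : R = normalizerIn S A) : NArrow F A (img φ A) := by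
  subst hR
  exact ⟨φ, hφ, rfl⟩

theorem narrow_card [Finite S] (F : FusionSystem S) {A B : Subgroup Ω} (hA : A ≤ S)
    (h : NArrow F A B) : Nat.card B = Nat.card A := by
  obtain ⟨ρ, hρ, rfl⟩ := h
  exact card_img (F.injective_of_mem hρ) (le_normalizerIn_self hA)

/-- An element of `S` normalizing `ψ(R)` and `ψ(Q)` lies in `N_S^K` for `K = stabAut R Q`. -/
theorem mem_NKvia_stab {R Q : Subgroup Ω} {ψ : R →* Ω} (hinj : Function.Injective ψ) {g : Ω}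
    (hgS : g ∈ S) (hgR : g ∈ Subgroup.normalizer (ψ.range : Set Ω))
    (hgQ : g ∈ Subgroup.normalizer (img ψ Q : Set Ω)) : g ∈ NKvia S ψ (stabAut R Q) := by
  have h1 : g ∈ NKvia S ψ ⊤ := by
    rw [NKvia_top hinj]
    exact Subgroup.mem_inf.mpr ⟨hgS, hgR⟩
  obtain ⟨-, κ, -, hκ⟩ := h1
  refine ⟨hgS, κ, ?_, hκ⟩
  intro x
  constructor
  · intro hx
    have h2 : ψ (κ x) ∈ img ψ Q := mem_img_of_mem ψ _ hx
    rw [hκ] at h2
    have h3 : ψ x ∈ img ψ Q := (Subgroup.mem_normalizer_iff.mp hgQ _).mpr h2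
    exact mem_of_mem_img hinj h3
  · intro hx
    have h2 : ψ x ∈ img ψ Q := mem_img_of_mem ψ _ hx
    have h3 : g * ψ x * g⁻¹ ∈ img ψ Q := (Subgroup.mem_normalizer_iff.mp hgQ _).mp h2
    rw [← hκ] at h3
    exact mem_of_mem_img hinj h3

/-- The image of `Q` under `ψ ∘ χ` with `χ ∈ stabAut R Q` is `ψ(Q)`. -/
theorem img_eq_of_stab {R Q : Subgroup Ω} {D : Subgroup Ω} (hRD : R ≤ D) (hQR : Q ≤ R)
    (ρ : D →* Ω) (ψ : R →* Ω) (χ : MulAut R) (hχ : χ ∈ stabAut R Q)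
    (h : ∀ x : R, ρ (Subgroup.inclusion hRD x) = ψ (χ x)) : img ρ Q = img ψ Q := by
  ext y
  rw [mem_img, mem_img]
  constructor
  · rintro ⟨x, hx, rfl⟩
    refine ⟨χ ⟨x, hQR hx⟩, (hχ ⟨x, hQR hx⟩).mpr hx, ?_⟩
    rw [← h]
    congr 1
  · rintro ⟨x, hx, rfl⟩
    refine ⟨Subgroup.inclusion hRD (χ⁻¹ x), ?_, ?_⟩
    · have := hχ (χ⁻¹ x)
      rw [MulAut.apply_inv_self] at this
      exact this.mp hx
    · rw [h, MulAut.apply_inv_self]

end Cfsg.Agent.Helper16.BC
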