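import Mathlib
import Cfsg.Agent.Helper16.BCDefs

set_option autoImplicit false

/-! S5110 piece GENPRIN: the generation principle. -/

namespace Cfsg.Agent.Helper16.BC

open Cfsg Cfsg.FusionSystem Cfsg.Agent.Helper25

variable {Ω : Type*} [Group Ω] {S : Subgroup Ω}

theorem genprin (p : ℕ) (F : FusionSystem S) (ℋ : Set (Subgroup Ω)) (hyp : Hyp p F ℋ)
    (𝒜 : Set (Subgroup Ω)) (hPcl : ∀ A ∈ 𝒜, ∀ B, F.IsConj A B → B ∈ 𝒜)
    (hPH : ∀ A ∈ 𝒜, A ∉ ℋ)
    (Rel : ∀ A : Subgroup Ω, (A →* Ω) → Prop)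
    (r1 : ∀ A ∈ 𝒜, ∀ g ∈ S, Rel A (conjHom A g))
    (r2 : ∀ A ∈ 𝒜, ∀ (φ : A →* Ω) (B : Subgroup Ω) (ψ : B →* Ω) (χ : A →* Ω),
      φ ∈ F.Hom A → φ.range = B → ψ ∈ F.Hom B →
      (∀ (x : A) (h : φ x ∈ B), χ x = ψ ⟨φ x, h⟩) → Rel A φ → Rel B ψ → Rel A χ)
    (r3 : ∀ A ∈ 𝒜, ∀ (φ : A →* Ω) (B : Subgroup Ω) (ψ : B →* Ω),
      φ ∈ F.Hom A → φ.range = B → ψ ∈ F.Hom B →
      (∀ (x : A) (h : φ x ∈ B), ψ ⟨φ x, h⟩ = (x : Ω)) → Rel A φ → Rel B ψ)
    (r4 : ∀ R ∈ ℋ, ∀ ψ ∈ F.Hom R, ∀ A ∈ 𝒜, ∀ hAR : A ≤ R,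
      Rel A (ψ.comp (Subgroup.inclusion hAR))) :
    ∀ A ∈ 𝒜, ∀ φ ∈ F.Hom A, Rel A φ := by
  let E : FusionSystem S :=
    { Hom := fun B => {φ | φ ∈ F.Hom B ∧
        ∀ A ∈ 𝒜, ∀ hAB : A ≤ B, Rel A (φ.comp (Subgroup.inclusion hAB))}
      le_of_mem := fun h => F.le_of_mem h.1
      injective_of_mem := fun h => F.injective_of_mem h.1
      conj_mem := by
        intro P g hP hg
        refine ⟨F.conj_mem hP hg, ?_⟩
        intro A hA hAP
        have e : (conjHom P g).comp (Subgroup.inclusion hAP) = conjHom A g := by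
          ext x
          rfl
        rw [e]
        exact r1 A hA g hg
      comp_mem := by
        intro P Q φ ψ hφ hψ h
        refine ⟨F.comp_mem hφ.1 hψ.1 h, ?_⟩
        intro A hA hAP
        have hφA : φ.comp (Subgroup.inclusion hAP) ∈ F.Hom A := restrict_mem F hAP hφ.1
        have hBQ : (φ.comp (Subgroup.inclusion hAP)).range ≤ Q := by
          rintro _ ⟨x, rfl⟩
          exact h _
        have hB : (φ.comp (Subgroup.inclusion hAP)).range ∈ 𝒜 :=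
          hPcl A hA _ ⟨_, hφA, rfl⟩
        have hψB : ψ.comp (Subgroup.inclusion hBQ) ∈ F.Hom _ := restrict_mem F hBQ hψ.1
        exact r2 A hA _ _ _ _ hφA rfl hψB (fun x h' => rfl) (hφ.2 A hA hAP) (hψ.2 _ hB hBQ)
      inv_mem := by
        intro P φ hφ
        obtain ⟨ψ, hψ, hinv⟩ := F.inv_mem hφ.1
        refine ⟨ψ, ⟨hψ, ?_⟩, hinv⟩
        intro A' hA' hA'r
        have hψA' : ψ.comp (Subgroup.inclusion hA'r) ∈ F.Hom A' := restrict_mem F hA'r hψ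
        have hψP : ∀ y : φ.range, ψ y ∈ P := by
          rintro ⟨_, x, rfl⟩
          rw [hinv x]
          exact x.2
        have hAP : (ψ.comp (Subgroup.inclusion hA'r)).range ≤ P := by
          rintro _ ⟨y, rfl⟩
          exact hψP _
        have hA : (ψ.comp (Subgroup.inclusion hA'r)).range ∈ 𝒜 :=
          hPcl A' hA' _ ⟨_, hψA', rfl⟩
        have hφA : φ.comp (Subgroup.inclusion hAP) ∈ F.Hom _ := restrict_mem F hAP hφ.1
        -- `φ (ψ y) = y` for `y ∈ φ.range`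
        have hφψ : ∀ (y : φ.range) (h : ψ y ∈ P), φ ⟨ψ y, h⟩ = (y : Ω) := by
          rintro ⟨_, x, rfl⟩ h
          congr 1
          exact Subtype.ext (hinv x)
        have hrange : (φ.comp (Subgroup.inclusion hAP)).range = A' := by
          ext y
          constructor
          · rintro ⟨⟨_, a', rfl⟩, rfl⟩
            show φ ⟨ψ (Subgroup.inclusion hA'r a'), _⟩ ∈ A'
            rw [hφψ]
            exact a'.2
          · intro hy
            refine ⟨⟨ψ (Subgroup.inclusion hA'r ⟨y, hy⟩), ⟨⟨y, hy⟩, rfl⟩⟩, ?_⟩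
            show φ ⟨ψ (Subgroup.inclusion hA'r ⟨y, hy⟩), _⟩ = y
            rw [hφψ]
            rfl
        refine r3 _ hA _ A' _ hφA hrange hψA' ?_ (hφ.2 _ hA hAP)
        rintro ⟨_, a', rfl⟩ h
        show ψ (Subgroup.inclusion hA'r ⟨φ ⟨ψ (Subgroup.inclusion hA'r a'), _⟩, h⟩) =
          ψ (Subgroup.inclusion hA'r a')
        congr 2
        apply Subtype.ext
        show φ ⟨ψ (Subgroup.inclusion hA'r a'), _⟩ = (a' : Ω)
        rw [hφψ]
        rfl }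
  have hle : F ≤ E := by
    apply hyp.gen E
    intro R hR φ hφ
    exact ⟨hφ, fun A hA hAR => r4 R hR φ hφ A hA hAR⟩
  intro A hA φ hφ
  have h := (hle A hφ).2 A hA le_rfl
  have e : φ.comp (Subgroup.inclusion (le_refl A)) = φ := by
    ext x
    rfl
  rwa [e] at h

end Cfsg.Agent.Helper16.BC
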