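import Mathlib

set_option autoImplicit false

/-!
# Feit–Higman (S1142): common definitions for the Hecke-algebra proof (Kilmoyer–Solomon)

`alt a k i` is the alternating product `a i * a (1 - i) * a i * ...` with `k` factors.
`Hecke n q a` : the two elements `a 0, a 1` satisfy the quadratic relations with parameters
`q 0, q 1` and the braid relation of length `n`.
`schurSum n q R` : the sum `∑_w q_w⁻¹ tr(R_w)²` over the `2n` alternating words (the two words of
length `0` and the two words of length `n` are counted with weight `1/2` each).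
`Rm s t x` : the explicit 2-dimensional representation with `tr (R₀ R₁) = 2 x`.
-/

namespace Cfsg.Agent.Helper16.FH

/-- alternating product `a i * a (1 - i) * a i * ...` with `k` factors -/
def alt {𝓐 : Type*} [Monoid 𝓐] (a : Fin 2 → 𝓐) : ℕ → Fin 2 → 𝓐
  | 0, _ => 1
  | k + 1, i => a i * alt a k (1 - i)

@[simp] theorem alt_zero {𝓐 : Type*} [Monoid 𝓐] (a : Fin 2 → 𝓐) (i : Fin 2) : alt a 0 i = 1 := rfl

theorem alt_succ {𝓐 : Type*} [Monoid 𝓐] (a : Fin 2 → 𝓐) (k : ℕ) (i : Fin 2) :
    alt a (k + 1) i = a i * alt a k (1 - i) := rfl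

/-- quadratic relations with parameters `q 0, q 1` and braid relation of length `n` -/
structure Hecke {𝓐 : Type*} [Ring 𝓐] [Algebra ℝ 𝓐] (n : ℕ) (q : Fin 2 → ℝ) (a : Fin 2 → 𝓐) :
    Prop where
  quad : ∀ i, a i * a i = q i • (1 : 𝓐) + (q i - 1) • a i
  braid : alt a n 0 = alt a n 1

/-- weight `1/2` for the lengths `0` and `n` (each of these two group elements is hit twice) -/
noncomputable def wt (n k : ℕ) : ℝ := if k = 0 ∨ k = n then 1 / 2 else 1

/-- `∑_w q_w⁻¹ tr(R_w)²` over the `2n` elements of the dihedral group -/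
noncomputable def schurSum (n : ℕ) (q : Fin 2 → ℝ) (R : Fin 2 → Matrix (Fin 2) (Fin 2) ℝ) : ℝ :=
  ∑ k ∈ Finset.range (n + 1),
    wt n k * ∑ i : Fin 2, (alt q k i)⁻¹ * (Matrix.trace (alt R k i)) ^ 2

/-- the explicit 2-dimensional representation: `R₀ = [[-1,1],[0,s]]`, `R₁ = [[t,0],[s+t+2x,-1]]` -/
def Rm (s t x : ℝ) : Fin 2 → Matrix (Fin 2) (Fin 2) ℝ :=
  ![!![-1, 1; 0, s], !![t, 0; s + t + 2 * x, -1]]

/-- the value `x_j = √(st) cos (2πj/n)` -/
noncomputable def xj (n : ℕ) (s t : ℝ) (j : ℕ) : ℝ :=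
  Real.sqrt (s * t) * Real.cos (2 * Real.pi * j / n)

end Cfsg.Agent.Helper16.FH
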