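import Mathlib
import Cfsg.Agent.Helper13.PGDefs
import Cfsg.Agent.S1018
import Cfsg.Agent.S1019
set_option autoImplicit false
open Cfsg.Agent.Helper13.PG MulAction

/-!
# S2490 piece N45B: `n₁₁ = 45` — a 2-element of `C_G(X)` with 23 or 34 fixed points is impossible
-/

namespace Cfsg.Agent.Helper16.PG

variable {G : Type*} [Group G]

theorem pg_factorization_7920 : (7920 : ℕ).factorization 11 = 1 := by
  have h : (7920 : ℕ) = 11 * 720 := by norm_num
  rw [h, Nat.factorization_mul (by norm_num) (by norm_num)]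
  simp only [Finsupp.coe_add, Pi.add_apply]
  rw [Nat.Prime.factorization_self (by norm_num),
    Nat.factorization_eq_zero_of_not_dvd (by norm_num)]

theorem pg_card_sylow_eleven [Finite G] (hord : Nat.card G = 7920) (X : Sylow 11 G) :
    Nat.card ↥(X : Subgroup G) = 11 := by
  haveI : Fact (Nat.Prime 11) := ⟨by norm_num⟩
  rw [Sylow.card_eq_multiplicity, hord, pg_factorization_7920, pow_one]

/-- The number of orbits of `X` on the cosets of its normalizer is `5` when `n₁₁ = 45`. -/
theorem pg_card_orbits [Finite G] (hord : Nat.card G = 7920) (X : Sylow 11 G)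
    (hn : Nat.card (Sylow 11 G) = 45) :
    Nat.card (orbitRel.Quotient ↥(X : Subgroup G)
      (G ⧸ Subgroup.normalizer ((X : Subgroup G) : Set G))) = 5 := by
  classical
  haveI : Fact (Nat.Prime 11) := ⟨by norm_num⟩
  have hX := pg_card_sylow_eleven hord X
  set H := Subgroup.normalizer ((X : Subgroup G) : Set G) with hH
  haveI : Fintype (G ⧸ H) := Fintype.ofFinite _
  haveI : Fintype ↥(X : Subgroup G) := Fintype.ofFinite _
  haveI : Fintype (orbitRel.Quotient ↥(X : Subgroup G) (G ⧸ H)) := Fintype.ofFinite _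
  haveI : ∀ a : ↥(X : Subgroup G), Fintype (fixedBy (G ⧸ H) a) := fun a => Fintype.ofFinite _
  have hidx : H.index = 45 := by rw [hH, ← hn]; exact (Sylow.card_eq_index_normalizer X).symm
  have hB := MulAction.sum_card_fixedBy_eq_card_orbits_mul_card_group ↥(X : Subgroup G) (G ⧸ H)
  have h1 := (Cfsg.Agent.S1018.result 11 X hX).1
  have hsum : ∑ a : ↥(X : Subgroup G), Fintype.card (fixedBy (G ⧸ H) a) = 55 := by
    rw [← Finset.add_sum_erase Finset.univ _ (Finset.mem_univ (1 : ↥(X : Subgroup G)))]
    have h10 : (Finset.univ.erase (1 : ↥(X : Subgroup G))).card = 10 := by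
      rw [Finset.card_erase_of_mem (Finset.mem_univ _), Finset.card_univ,
        ← Nat.card_eq_fintype_card, hX]
    have hone : Fintype.card (fixedBy (G ⧸ H) (1 : ↥(X : Subgroup G))) = 45 := by
      rw [← Nat.card_eq_fintype_card]
      have : fixedBy (G ⧸ H) (1 : ↥(X : Subgroup G)) = Set.univ := by
        ext c; simp
      rw [this, Nat.card_coe_set_eq, Set.ncard_univ]
      rw [← hidx]; rfl
    have hothers : ∀ a ∈ Finset.univ.erase (1 : ↥(X : Subgroup G)),
        Fintype.card (fixedBy (G ⧸ H) a) = 1 := by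
      intro a ha
      have ha1 : a ≠ 1 := Finset.ne_of_mem_erase ha
      have hord : orderOf (a : G) = 11 := by
        have hdvd : orderOf a ∣ 11 := by
          have := orderOf_dvd_natCard a
          rwa [hX] at this
        have := (Nat.dvd_prime (by norm_num : Nat.Prime 11)).1 hdvd
        rcases this with h | h
        · exact absurd (orderOf_eq_one_iff.1 h) ha1
        · rw [Subgroup.orderOf_coe]; exact h
      have := h1 (a : G) hord
      rw [← Nat.card_eq_fintype_card]
      exact this
    rw [hone, Finset.sum_congr rfl hothers, Finset.sum_const, h10]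
    norm_num
  rw [hsum] at hB
  have hXf : Fintype.card ↥(X : Subgroup G) = 11 := by rw [← Nat.card_eq_fintype_card, hX]
  rw [hXf] at hB
  rw [Nat.card_eq_fintype_card]
  have : Fintype.card (Quotient (orbitRel ↥(X : Subgroup G) (G ⧸ H))) = 5 := by omega
  convert this


/-- Two conjugates of `k` in `C_G(X)` (2-elements) congruent modulo `X` are equal. -/
theorem pg_eq_of_mul_mem {X : Subgroup G} (hX : Nat.card ↥X = 11) {j : ℕ} {t t' x : G}
    (ht : orderOf t = 2 ^ j) (ht' : orderOf t' = 2 ^ j)
    (htC : t ∈ Subgroup.centralizer (X : Set G)) (hx : x ∈ X) (h : t' = t * x) : x = 1 := by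
  have hcomm : Commute t x := by
    have := (Subgroup.mem_centralizer_iff.1 htC) x hx
    exact this.symm
  have h1 : t' ^ (2 ^ j) = 1 := by rw [← ht']; exact pow_orderOf_eq_one t'
  have h2 : t ^ (2 ^ j) = 1 := by rw [← ht]; exact pow_orderOf_eq_one t
  rw [h, hcomm.mul_pow, h2, one_mul] at h1
  have h3 : x ^ 11 = 1 := by
    have : (⟨x, hx⟩ : ↥X) ^ Nat.card ↥X = 1 := pow_card_eq_one'
    rw [hX] at this
    exact congrArg Subtype.val this
  have hd1 : orderOf x ∣ 2 ^ j := orderOf_dvd_of_pow_eq_one h1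
  have hd2 : orderOf x ∣ 11 := orderOf_dvd_of_pow_eq_one h3
  have hcop : Nat.Coprime (2 ^ j) 11 := Nat.Coprime.pow_left _ (by norm_num)
  have := Nat.eq_one_of_dvd_coprimes hcop hd1 hd2
  exact orderOf_eq_one_iff.1 this

theorem false_of_two_element_many_fixed [Finite G] (hord : Nat.card G = 7920) (X : Sylow 11 G)
    (hn : Nat.card (Sylow 11 G) = 45)
    (k : G) (hk : k ∈ Subgroup.centralizer ((X : Subgroup G) : Set G)) (hk1 : k ≠ 1)
    (hk2 : ∃ j : ℕ, orderOf k = 2 ^ j)
    (hfix : Nat.card (fixedBy (G ⧸ Subgroup.normalizer ((X : Subgroup G) : Set G)) k) = 23 ∨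
      Nat.card (fixedBy (G ⧸ Subgroup.normalizer ((X : Subgroup G) : Set G)) k) = 34) :
    False := by
  classical
  haveI : Fact (Nat.Prime 11) := ⟨by norm_num⟩
  obtain ⟨j, hj⟩ := hk2
  have hX := pg_card_sylow_eleven hord X
  have horb := pg_card_orbits hord X hn
  set H := Subgroup.normalizer ((X : Subgroup G) : Set G) with hH
  have hidx : H.index = 45 := by rw [hH, ← hn]; exact (Sylow.card_eq_index_normalizer X).symm
  have hHcard : Nat.card ↥H = 176 := by
    have := Subgroup.card_mul_index H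
    rw [hidx, hord] at this
    omega
  have hCH : Subgroup.centralizer ((X : Subgroup G) : Set G) ≤ H :=
    Subgroup.centralizer_le_normalizer _
  have hkH : k ∈ H := hCH hk
  have hXH : (X : Subgroup G) ≤ H := Subgroup.le_normalizer
  have h19 := Cfsg.Agent.S1019.result H k hkH
  rw [hidx] at h19
  set T := {g : G // IsConj k g ∧ g ∈ H} with hT
  set fx := Nat.card (fixedBy (G ⧸ H) k) with hfx
  have hfx5 : 5 < fx := by rcases hfix with h | h <;> omega
  -- every conjugate of `k` in `H` lies in the centralizer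
  have hTC : ∀ t : T, t.1 ∈ Subgroup.centralizer ((X : Subgroup G) : Set G) := by
    intro t
    by_contra hnot
    have h18 := (Cfsg.Agent.S1018.result 11 X hX).2 t.1 t.2.2 hnot
    rw [horb] at h18
    obtain ⟨g, hg⟩ := isConj_iff.1 t.2.1
    have hfc : Nat.card (fixedBy (G ⧸ H) t.1) = fx := by
      rw [← hg]
      exact Cfsg.Agent.S1019.fix_conj H k g
    rw [hfc] at h18
    omega
  have hTord : ∀ t : T, orderOf t.1 = 2 ^ j := by
    intro t
    obtain ⟨g, hg⟩ := isConj_iff.1 t.2.1
    rw [← hg, ← hj]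
    have h : SemiconjBy g k (g * k * g⁻¹) := by
      unfold SemiconjBy; group
    exact (h.orderOf_eq).symm
  -- the product map `T × X → H` is injective
  let f : T × ↥(X : Subgroup G) → ↥H := fun p => ⟨p.1.1 * p.2.1, H.mul_mem p.1.2.2 (hXH p.2.2)⟩
  have hf : Function.Injective f := by
    rintro ⟨t, x⟩ ⟨t', x'⟩ h
    have h' : t.1 * x.1 = t'.1 * x'.1 := congrArg Subtype.val h
    have hxx : x'.1 * x.1⁻¹ ∈ (X : Subgroup G) := (X : Subgroup G).mul_mem x'.2 ((X : Subgroup G).inv_mem x.2)
    have heq : t.1 = t'.1 * (x'.1 * x.1⁻¹) := by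
      rw [← mul_assoc, ← h']; group
    have h1 := pg_eq_of_mul_mem hX (hTord t') (hTord t) (hTC t') hxx heq
    have hxeq : x'.1 = x.1 := by
      have := mul_inv_eq_one.1 h1
      exact this
    have hteq : t.1 = t'.1 := by rw [heq, h1, mul_one]
    have e1 : t = t' := Subtype.ext hteq
    have e2 : x = x' := Subtype.ext hxeq.symm
    rw [e1, e2]
  have hle := Nat.card_le_card_of_injective f hf
  rw [Nat.card_prod, hX, hHcard] at hle
  have hm16 : Nat.card T ≤ 16 := by omega
  have hm1 : 1 ≤ Nat.card T := by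
    have : Nonempty T := ⟨⟨k, IsConj.refl k, hkH⟩⟩
    exact Nat.one_le_iff_ne_zero.2 (Nat.card_pos).ne'
  rcases hfix with h | h
  · rw [h] at h19
    have hd : 23 ∣ 45 * Nat.card T := ⟨_, h19.symm⟩
    have hd' : 23 ∣ Nat.card T := (Nat.Coprime.dvd_mul_left (by norm_num : Nat.Coprime 23 45)).1 hd
    have := Nat.le_of_dvd (by omega) hd'
    omega
  · rw [h] at h19
    have hd : 17 ∣ 45 * Nat.card T := ⟨2 * Nat.card {g : G // IsConj k g}, by rw [← h19]; ring⟩
    have hd' : 17 ∣ Nat.card T := (Nat.Coprime.dvd_mul_left (by norm_num : Nat.Coprime 17 45)).1 hd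
    have := Nat.le_of_dvd (by omega) hd'
    omega

end Cfsg.Agent.Helper16.PG
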