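import Mathlib
import Cfsg.Agent.Helper2.S2096.Defs
import Cfsg.Agent.Helper2.StnD

set_option autoImplicit false
set_option linter.unusedSectionVars false
set_option linter.unusedVariables false

/-! S2096/S2097 piece TXDG (driver helper2; helper16): the torus elements of the roots `e_i - e_j`
are the images of the diagonal matrices `tor2`. -/

namespace Cfsg.Agent.S2096P

open Matrix Cfsg.Agent.S3352P Cfsg.Agent.S3351P Cfsg.Agent.S2086P

variable {n : ℕ} {F : Type*} [Field F] [Fintype F] {M : Type*} [Group M] {X : J n → J n → F → M}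

namespace TXDG

open Cfsg.Agent.Helper2.Stn

/-- the root elements of the type `A` Steinberg group fix the other basis vectors -/
theorem phi_xg_smul_other {i j k : Fin n} (hij : i ≠ j) (hkj : k ≠ j) (t : F) :
    phi (xg i j t) • (Pi.single k 1 : Fin n → F) = Pi.single k 1 := by
  rw [phi_xg hij, tv_smul, Pi.single_apply, if_neg hkj.symm, mul_zero, zero_smul, add_zero]

theorem phi_wg_smul_other {i j k : Fin n} (hij : i ≠ j) (hki : k ≠ i) (hkj : k ≠ j) (t : F) :
    phi (wg i j t) • (Pi.single k 1 : Fin n → F) = Pi.single k 1 := by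
  rw [wg_def, map_mul, map_mul, mul_smul, mul_smul, phi_xg_smul_other hij hkj,
    phi_xg_smul_other hij.symm hki, phi_xg_smul_other hij hkj]

theorem phi_hg_smul_other {i j k : Fin n} (hij : i ≠ j) (hki : k ≠ i) (hkj : k ≠ j) (t : F) :
    phi (hg i j t) • (Pi.single k 1 : Fin n → F) = Pi.single k 1 := by
  rw [hg_def, map_mul, mul_smul, phi_wg_smul_other hij hki hkj, phi_wg_smul_other hij hki hkj]

theorem phi_hg_smul_snd {i j : Fin n} (hij : i ≠ j) {t : F} (ht : t ≠ 0) :
    phi (hg i j t) • (Pi.single j 1 : Fin n → F) = t⁻¹ • Pi.single j 1 := by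
  rw [hg_def, map_mul, mul_smul, phi_wg_smul_snd hij (neg_ne_zero.mpr one_ne_zero), smul_comm,
    phi_wg_smul_fst hij ht, smul_smul]
  congr 1
  ring

/-- the torus element of the type `A` Steinberg group is a diagonal matrix -/
theorem phi_hg_eq {i j : Fin n} (hij : i ≠ j) (a : Fˣ) :
    phi (hg i j (a : F)) = dgS n F (tor2 i j hij a) := by
  apply Subtype.ext
  apply Matrix.ext_of_mulVec_single
  intro k
  rw [dgS_coe, Matrix.diagonal_mulVec_single, mul_one]
  have ha : (a : F) ≠ 0 := a.ne_zero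
  show phi (hg i j (a : F)) • (Pi.single k 1 : Fin n → F) = _
  by_cases hki : k = i
  · subst hki
    rw [phi_hg_smul hij ha, tor2_apply, if_pos rfl, ← Pi.single_smul, smul_eq_mul, mul_one]
  · by_cases hkj : k = j
    · subst hkj
      rw [phi_hg_smul_snd hij ha, tor2_apply, if_neg hki, if_pos rfl, ← Pi.single_smul, smul_eq_mul,
        mul_one, Units.val_inv_eq_inv_val]
    · rw [phi_hg_smul_other hij hki hkj, tor2_apply, if_neg hki, if_neg hkj, Units.val_one]

end TXDG

open TXDG Cfsg.Agent.Helper2.Stn in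
/-- TXDG -/
theorem tX_eq_Theta (Θ : Matrix.SpecialLinearGroup (Fin n) F →* M)
    (hΘ : ∀ (i j : Fin n) (hij : i ≠ j) (t : F),
      Θ (Matrix.SpecialLinearGroup.transvection hij t) = X (Sum.inl i) (Sum.inl j) t) (hn : 3 ≤ n) (hX : DRel X) {i j : Fin n} (hij : i ≠ j) (a : Fˣ) :
    tX X (Sum.inl i) (Sum.inl j) (a : F) = Θ (dgS n F (tor2 i j hij a)) := by
  rw [← phi_hg_eq hij a, hg_def, wg_def, wg_def]
  simp only [map_mul, phi_xg hij, phi_xg hij.symm, hΘ]
  rfl

end Cfsg.Agent.S2096P
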