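import Mathlib
import Cfsg.Agent.Helper2.S2096.Defs
import Cfsg.Agent.Helper16.S2096TXDG

set_option autoImplicit false
set_option linter.unusedSectionVars false
set_option linter.unusedVariables false

/-! S2096/S2097 piece DGH (driver helper2; helper16): the images of the diagonal matrices of
determinant one lie in the torus `Ĥ`. -/

namespace Cfsg.Agent.S2096P

open Matrix Cfsg.Agent.S3352P Cfsg.Agent.S3351P Cfsg.Agent.S2086P

variable {n : ℕ} {F : Type*} [Field F] [Fintype F] {M : Type*} [Group M] {X : J n → J n → F → M}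

namespace DGH

/-- a torus parameter is a product of the elementary ones `tor2 k o` -/
theorem tor_eq_prod (o : Fin n) (d : Tor n F) :
    d = ∏ k : Fin n, (if h : k = o then (1 : Tor n F) else tor2 k o h (d.1 k)) := by
  apply Subtype.ext
  funext x
  rw [SubmonoidClass.coe_finsetProd, Finset.prod_apply]
  by_cases hx : x = o
  · subst hx
    have h1 : ∀ k : Fin n,
        ((if h : k = x then (1 : Tor n F) else tor2 k x h (d.1 k)) : Tor n F).1 x =
          (if k = x then 1 else (d.1 k)⁻¹) := by
      intro k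
      by_cases hk : k = x
      · rw [dif_pos hk, if_pos hk]
        rfl
      · rw [dif_neg hk, if_neg hk, tor2_apply, if_neg (Ne.symm hk), if_pos rfl]
    rw [Finset.prod_congr rfl (fun k _ => h1 k)]
    have h2 : (∏ k : Fin n, (if k = x then (1 : Fˣ) else (d.1 k)⁻¹)) * ∏ k : Fin n, d.1 k =
        d.1 x := by
      rw [← Finset.prod_mul_distrib]
      have h3 : ∀ k : Fin n, (if k = x then (1 : Fˣ) else (d.1 k)⁻¹) * d.1 k =
          if k = x then d.1 x else 1 := by
        intro k
        by_cases hk : k = x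
        · rw [if_pos hk, if_pos hk, one_mul, hk]
        · rw [if_neg hk, if_neg hk, inv_mul_cancel]
      rw [Finset.prod_congr rfl (fun k _ => h3 k), Finset.prod_ite_eq' Finset.univ x,
        if_pos (Finset.mem_univ _)]
    have h4 : ∏ k : Fin n, d.1 k = 1 := d.2
    rw [h4, mul_one] at h2
    exact h2.symm
  · have h1 : ∀ k : Fin n,
        ((if h : k = o then (1 : Tor n F) else tor2 k o h (d.1 k)) : Tor n F).1 x =
          (if k = x then d.1 x else 1) := by
      intro k
      by_cases hk : k = o
      · rw [dif_pos hk, if_neg (by rw [hk]; exact Ne.symm hx)]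
        rfl
      · rw [dif_neg hk, tor2_apply]
        by_cases hkx : k = x
        · rw [if_pos hkx.symm, if_pos hkx, hkx]
        · rw [if_neg (Ne.symm hkx), if_neg hx, if_neg hkx]
    rw [Finset.prod_congr rfl (fun k _ => h1 k), Finset.prod_ite_eq' Finset.univ x,
      if_pos (Finset.mem_univ _)]

end DGH

open DGH in
/-- DGH -/
theorem Theta_dgS_mem_Hh (Θ : Matrix.SpecialLinearGroup (Fin n) F →* M)
    (hΘ : ∀ (i j : Fin n) (hij : i ≠ j) (t : F),
      Θ (Matrix.SpecialLinearGroup.transvection hij t) = X (Sum.inl i) (Sum.inl j) t) (hn : 3 ≤ n) (hX : DRel X) (d : Tor n F) : Θ (dgS n F d) ∈ Hh X := by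
  let o : Fin n := ⟨0, by omega⟩
  let S : Subgroup (Tor n F) := (Hh X).comap (Θ.comp (dgS n F))
  have hmem : ∀ e : Tor n F, e ∈ S ↔ Θ (dgS n F e) ∈ Hh X := fun e => Iff.rfl
  rw [← hmem, tor_eq_prod o d]
  apply Subgroup.prod_mem
  intro k _
  by_cases hk : k = o
  · rw [dif_pos hk]
    exact Subgroup.one_mem _
  · rw [dif_neg hk, hmem, ← tX_eq_Theta Θ hΘ hn hX hk (d.1 k)]
    refine Subgroup.subset_closure ⟨Sum.inl k, Sum.inl o, ((d.1 k : Fˣ) : F), ?_, (d.1 k).ne_zero, rfl⟩
    rw [isRoot_iff_ab]
    exact hk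

end Cfsg.Agent.S2096P
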