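import Mathlib
import Cfsg.Prelude.Def_Classical
import Cfsg.Agent.Helper13.S2496Defs

/-! S2496 piece GENK (helper16). -/

set_option autoImplicit false
set_option linter.unusedSectionVars false

namespace Cfsg.Agent.S2496P

section frob

variable {F K : Type*} [Field F] [Fintype F] [Field K] [Algebra F K] [Finite K] {p : ℕ}
  [Fact p.Prime] [CharP F p] [CharP K p] {f q : ℕ}

/-- GENK: an element of prime order `r`, `ord_r(|F|) = [K : F]`, generates `K` over `F` -/
theorem adjoin_eq_top_of_prime_order {r : ℕ} (hr : r.Prime) (s : K) (hs : s ^ r = 1)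
    (hs1 : s ≠ 1) (hi : orderOf ((Fintype.card F : ℕ) : ZMod r) = Module.finrank F K) :
    Algebra.adjoin F {s} = ⊤ := by
  classical
  have : Fact r.Prime := ⟨hr⟩
  have hfin : FiniteDimensional F K := Module.Finite.of_finite
  set L : IntermediateField F K := IntermediateField.adjoin F {s} with hL
  have hsL : s ∈ L := IntermediateField.mem_adjoin_simple_self F s
  have : Fintype L := Fintype.ofFinite L
  have hcardL : Fintype.card L = Fintype.card F ^ Module.finrank F L :=
    Module.card_eq_pow_finrank (K := F) (V := L)
  -- the unit of `L` given by `s`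
  have hs0 : (⟨s, hsL⟩ : L) ≠ 0 := by
    intro h0
    have : s = 0 := congrArg Subtype.val h0
    rw [this, zero_pow hr.ne_zero] at hs
    exact zero_ne_one hs
  let u : Lˣ := Units.mk0 ⟨s, hsL⟩ hs0
  have hur : u ^ r = 1 := by
    apply Units.ext
    apply Subtype.ext
    simp only [u, Units.val_pow_eq_pow_val, Units.val_mk0, Units.val_one]
    show (⟨s, hsL⟩ : L).1 ^ r = 1
    exact hs
  have hu1 : u ≠ 1 := by
    intro h1
    apply hs1
    have := congrArg (fun x : Lˣ => ((x : L) : K)) h1
    simpa [u] using this
  have hord : orderOf u = r := orderOf_eq_prime hur hu1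
  have hdvd : r ∣ Fintype.card F ^ Module.finrank F L - 1 := by
    have := orderOf_dvd_card (x := u)
    rw [hord, Fintype.card_units, hcardL] at this
    exact this
  have hpow : ((Fintype.card F : ℕ) : ZMod r) ^ Module.finrank F L = 1 := by
    have h1 : 1 ≤ Fintype.card F ^ Module.finrank F L := Nat.one_le_pow _ _ Fintype.card_pos
    have h2 := (ZMod.natCast_eq_zero_iff _ r).mpr hdvd
    rw [Nat.cast_sub h1, Nat.cast_pow, Nat.cast_one, sub_eq_zero] at h2
    exact h2
  have hdvd2 : Module.finrank F K ∣ Module.finrank F L := hi ▸ orderOf_dvd_of_pow_eq_one hpow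
  have hle : Module.finrank F L ≤ Module.finrank F K :=
    Submodule.finrank_le L.toSubalgebra.toSubmodule
  have hpos : 0 < Module.finrank F L := Module.finrank_pos
  have heq : Module.finrank F L = Module.finrank F K :=
    le_antisymm hle (Nat.le_of_dvd hpos hdvd2)
  have htop : L.toSubalgebra.toSubmodule = ⊤ := Submodule.eq_top_of_finrank_eq heq
  have hint : IsAlgebraic F s := Algebra.IsAlgebraic.isAlgebraic s
  rw [← IntermediateField.adjoin_simple_toSubalgebra_of_isAlgebraic hint]
  apply Subalgebra.toSubmodule_injective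
  rw [← hL, htop]
  rfl

end frob

end Cfsg.Agent.S2496P
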