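import Mathlib
import Cfsg.Prelude.Def_Classical
import Cfsg.Agent.Helper13.S2496Defs

/-! S2496 piece SCHUR (helper16): commutants of multiplications in a simple field extension. -/

set_option autoImplicit false

namespace Cfsg.Agent.S2496P

/-- SCHUR (pure field theory) -/
theorem schur_comm {F K : Type*} [Field F] [Field K] [Algebra F K] (s : K)
    (hs : Algebra.adjoin F {s} = ⊤) (X : K →ₗ[F] K) (hX : ∀ x, X (s * x) = s * X x) :
    ∀ x, X x = X 1 * x := by
  let A : Subalgebra F K :=
    { carrier := {a | ∀ x, X (a * x) = a * X x}
      mul_mem' := by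
        intro a b ha hb x
        rw [mul_assoc, ha, hb, mul_assoc]
      add_mem' := by
        intro a b ha hb x
        rw [add_mul, map_add, ha, hb, add_mul]
      algebraMap_mem' := by
        intro c x
        rw [← Algebra.smul_def, map_smul, Algebra.smul_def] }
  have hsA : s ∈ A := hX
  have htop : A = ⊤ := by
    apply top_le_iff.mp
    rw [← hs]
    exact Algebra.adjoin_le (Set.singleton_subset_iff.mpr hsA)
  intro x
  have hx : x ∈ A := by rw [htop]; trivial
  have := hx 1
  rw [mul_one] at this
  rw [this, mul_comm]

theorem schur_zero {F K : Type*} [Field F] [Field K] [Algebra F K] [FiniteDimensional F K]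
    (s s' : K) (hs : Algebra.adjoin F {s} = ⊤)
    (hne : Polynomial.aeval s' (minpoly F s) ≠ 0) (X : K →ₗ[F] K)
    (hX : ∀ x, X (s * x) = s' * X x) : X = 0 := by
  have key : ∀ P : Polynomial F, ∀ x, X (Polynomial.aeval s P * x) =
      Polynomial.aeval s' P * X x := by
    intro P
    induction P using Polynomial.induction_on with
    | C a =>
      intro x
      rw [Polynomial.aeval_C, Polynomial.aeval_C, ← Algebra.smul_def, map_smul, Algebra.smul_def]
    | add P Q hP hQ =>
      intro x
      rw [map_add, map_add, add_mul, map_add, hP, hQ, add_mul]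
    | monomial n a h =>
      intro x
      have e1 : Polynomial.aeval s (Polynomial.C a * Polynomial.X ^ (n + 1)) =
          Polynomial.aeval s (Polynomial.C a * Polynomial.X ^ n) * s := by
        rw [pow_succ, ← mul_assoc, map_mul, Polynomial.aeval_X]
      have e2 : Polynomial.aeval s' (Polynomial.C a * Polynomial.X ^ (n + 1)) =
          Polynomial.aeval s' (Polynomial.C a * Polynomial.X ^ n) * s' := by
        rw [pow_succ, ← mul_assoc, map_mul, Polynomial.aeval_X]
      rw [e1, e2, mul_assoc, h, hX, mul_assoc]
  apply LinearMap.ext
  intro x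
  have h := key (minpoly F s) x
  rw [minpoly.aeval, zero_mul, map_zero] at h
  rcases mul_eq_zero.mp h.symm with h1 | h1
  · exact absurd h1 hne
  · simpa using h1

end Cfsg.Agent.S2496P
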