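import Mathlib
import Cfsg.Prelude.Def_Classical
import Cfsg.Agent.Helper13.S2496Defs

/-! S2496 piece SYLOW (helper16). -/

set_option autoImplicit false

namespace Cfsg.Agent.S2496P

/-- SYLOW: an element of order `r` is conjugate into a cyclic subgroup of order the full `r`-part -/
theorem exists_conj_mem_zpowers {G : Type*} [Group G] [Finite G] {r a : ℕ} (hr : r.Prime) (t : G)
    (ht : orderOf t = r ^ a) (hmax : ¬ r ^ (a + 1) ∣ Nat.card G) (B : G) (hB : orderOf B = r) :
    ∃ x : G, x * B * x⁻¹ ∈ Subgroup.zpowers t := by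
  have : Fact r.Prime := ⟨hr⟩
  have hdvd : r ^ a ∣ Nat.card G := ht ▸ orderOf_dvd_natCard t
  have hfac : (Nat.card G).factorization r = a := by
    have hpos : Nat.card G ≠ 0 := Nat.card_pos.ne'
    apply le_antisymm
    · by_contra hcon
      push Not at hcon
      exact hmax ((hr.pow_dvd_iff_le_factorization hpos).mpr hcon)
    · exact (hr.pow_dvd_iff_le_factorization hpos).mp hdvd
  have hcard : Nat.card (Subgroup.zpowers t) = r ^ (Nat.card G).factorization r := by
    rw [Nat.card_zpowers, ht, hfac]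
  let P : Sylow r G := Sylow.ofCard (Subgroup.zpowers t) hcard
  have hBp : IsPGroup r (Subgroup.zpowers B) := by
    apply IsPGroup.of_card (n := 1)
    rw [Nat.card_zpowers, hB, pow_one]
  obtain ⟨Q, hQ⟩ := hBp.exists_le_sylow
  obtain ⟨g, hg⟩ := MulAction.exists_smul_eq G Q P
  refine ⟨g, ?_⟩
  have hBQ : B ∈ (Q : Subgroup G) := hQ (Subgroup.mem_zpowers B)
  have h1 : g * B * g⁻¹ ∈ ((g • Q : Sylow r G) : Subgroup G) := by
    rw [Sylow.coe_subgroup_smul]
    have := Subgroup.smul_mem_pointwise_smul B (MulAut.conj g) (Q : Subgroup G) hBQ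
    simpa [MulAut.smul_def] using this
  rw [hg] at h1
  exact h1

end Cfsg.Agent.S2496P
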