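import Mathlib
import Cfsg.Agent.Helper6.FrobSemidirect
import Cfsg.Agent.Helper1.FrobeniusCompl
import Cfsg.Agent.S0035

/-!
# Linear groups regular on nonzero vectors (complements of sharply 2-transitive groups)
-/

set_option autoImplicit false

namespace Cfsg.Agent.Helper16.NearField

/-- a finite group acting freely on a finite set: the order divides the size of the set -/
theorem card_dvd_of_free {G X : Type*} [Group G] [MulAction G X] [Finite G] [Finite X]
    (hfree : ∀ (g : G) (x : X), g • x = x → g = 1) : Nat.card G ∣ Nat.card X := by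
  classical
  have := Fintype.ofFinite G
  have := Fintype.ofFinite X
  have := Fintype.ofFinite (MulAction.orbitRel.Quotient G X)
  have h := MulAction.sum_card_fixedBy_eq_card_orbits_mul_card_group G X
  have h1 : ∀ g : G, Fintype.card (MulAction.fixedBy X g) =
      if g = 1 then Fintype.card X else 0 := by
    intro g
    split_ifs with hg
    · subst hg
      apply Fintype.card_congr
      exact Equiv.subtypeUnivEquiv (fun x => by simp)
    · rw [Fintype.card_eq_zero_iff]
      exact ⟨fun x => hg (hfree g x x.2)⟩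
  rw [Finset.sum_congr rfl (fun g _ => h1 g), Finset.sum_ite_eq' Finset.univ (1 : G),
    if_pos (Finset.mem_univ _)] at h
  rw [Nat.card_eq_fintype_card, Nat.card_eq_fintype_card, h]
  exact dvd_mul_left _ _

/-- a finite commutative group acting fixed-point-freely on a nontrivial finite abelian group is
cyclic -/
theorem isCyclic_of_fpf {S V : Type*} [Group S] [AddCommGroup V] [DistribMulAction S V]
    [Finite S] [Finite V] [Nontrivial V] (hcomm : ∀ a b : S, a * b = b * a)
    (hfpf : ∀ s : S, s ≠ 1 → ∀ v : V, s • v = v → v = 0) : IsCyclic S := by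
  rcases subsingleton_or_nontrivial S with hS | hS
  · exact isCyclic_of_subsingleton
  obtain ⟨L, iG, iF, Hc, hF, ⟨e⟩⟩ := Cfsg.Agent.Helper6.exists_frobenius_of_fpf' hfpf
  obtain ⟨N, hN, hNn, -⟩ := Cfsg.Agent.S0035.result Hc hF
  have hHc : IsMulCommutative Hc := by
    refine ⟨⟨fun a b => ?_⟩⟩
    have := hcomm (e.symm a) (e.symm b)
    rw [← map_mul, ← map_mul] at this
    exact e.symm.injective this
  have hcyc : IsCyclic Hc :=
    Cfsg.Agent.Helper1.frob_compl_subgroup_cyclic hF hN Hc le_rfl (Or.inl hHc)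
  exact isCyclic_of_surjective e.symm e.symm.surjective


/-- `|H| ≤ |A|²` if `A = ⟨x⟩` is normal and self-centralizing -/
theorem card_le_sq_of_centralizer_eq {H : Type*} [Group H] [Finite H] (A : Subgroup H)
    (hAn : A.Normal) {x : H} (hx : x ∈ A) (hgen : ∀ y ∈ A, y ∈ Subgroup.zpowers x)
    (hCA : Subgroup.centralizer (A : Set H) = A) : Nat.card H ≤ Nat.card A * Nat.card A := by
  set C : Subgroup H := Subgroup.centralizer ({x} : Set H) with hC
  have hCA' : C = A := by
    rw [← hCA]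
    apply le_antisymm
    · intro h hh y hy
      obtain ⟨k, rfl⟩ := Subgroup.mem_zpowers_iff.mp (hgen y hy)
      have h1 : x * h = h * x := hh x rfl
      exact (Commute.zpow_left (show Commute x h from h1) k).eq
    · exact Subgroup.centralizer_le (Set.singleton_subset_iff.mpr hx)
  have h1 : Nat.card C * C.index = Nat.card H := Subgroup.card_mul_index C
  have h2 : C.index ≤ Nat.card A := by
    rw [Subgroup.index]
    let g : H ⧸ C → A := Quotient.lift
      (fun h : H => (⟨h * x * h⁻¹, hAn.conj_mem x hx h⟩ : A)) (by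
        intro h h' hh'
        have h3 : h⁻¹ * h' ∈ C := QuotientGroup.leftRel_apply.mp hh'
        have h4 : x * (h⁻¹ * h') = (h⁻¹ * h') * x := h3 x rfl
        apply Subtype.ext
        change h * x * h⁻¹ = h' * x * h'⁻¹
        calc h * x * h⁻¹ = h * (x * (h⁻¹ * h')) * h'⁻¹ := by group
          _ = h * ((h⁻¹ * h') * x) * h'⁻¹ := by rw [h4]
          _ = h' * x * h'⁻¹ := by group)
    apply Nat.card_le_card_of_injective g
    intro q q'
    refine Quotient.inductionOn₂ q q' ?_
    intro h h' hgg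
    apply Quotient.sound
    apply QuotientGroup.leftRel_apply.mpr
    have h5 : h * x * h⁻¹ = h' * x * h'⁻¹ := congrArg Subtype.val hgg
    intro y hy
    rw [Set.mem_singleton_iff] at hy
    subst hy
    calc y * (h⁻¹ * h') = h⁻¹ * (h * y * h⁻¹) * h' := by group
      _ = h⁻¹ * (h' * y * h'⁻¹) * h' := by rw [h5]
      _ = h⁻¹ * h' * y := by group
  rw [← h1, hCA']
  exact Nat.mul_le_mul_left _ (hCA' ▸ h2)

theorem arith_contra {p a d n : ℕ} (hp : 2 ≤ p) (hd : 1 ≤ d) (hdn : d < n)
    (h1 : a ∣ p ^ d - 1) (h2 : a ∣ p ^ n - 1) (h3 : p ^ n - 1 ≤ a * a) : False := by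
  have hg : a ∣ p ^ (Nat.gcd d n) - 1 := by
    rw [← Nat.pow_sub_one_gcd_pow_sub_one]
    exact Nat.dvd_gcd h1 h2
  set g := Nat.gcd d n with hgdef
  have hgpos : 0 < g := Nat.gcd_pos_of_pos_left _ hd
  have hgd : g ≤ d := Nat.le_of_dvd hd (Nat.gcd_dvd_left d n)
  obtain ⟨k, hk⟩ := Nat.gcd_dvd_right d n
  have hk2 : 2 ≤ k := by
    rcases k with _ | _ | k
    · simp at hk; omega
    · simp at hk; omega
    · omega
  have h2g : 2 * g ≤ n := by
    rw [hk, mul_comm]; exact Nat.mul_le_mul_left g hk2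
  have hpg : 2 ≤ p ^ g := by
    calc 2 ≤ p := hp
      _ = p ^ 1 := (pow_one p).symm
      _ ≤ p ^ g := Nat.pow_le_pow_right (by omega) hgpos
  have ha : a ≤ p ^ g - 1 := Nat.le_of_dvd (by omega) hg
  have h4 : p ^ (2 * g) ≤ p ^ n := Nat.pow_le_pow_right (by omega) h2g
  have h5 : p ^ (2 * g) = p ^ g * p ^ g := by rw [two_mul, pow_add]
  have h6 : a * a ≤ (p ^ g - 1) * (p ^ g - 1) := Nat.mul_le_mul ha ha
  generalize p ^ g = m at *
  obtain ⟨m', rfl⟩ : ∃ m', m = m' + 2 := ⟨m - 2, by omega⟩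
  have h7 : (m' + 2 - 1) * (m' + 2 - 1) = m' * m' + 2 * m' + 1 := by
    have : m' + 2 - 1 = m' + 1 := by omega
    rw [this]; ring
  have h8 : (m' + 2) * (m' + 2) = m' * m' + 4 * m' + 4 := by ring
  rw [h7] at h6
  rw [h5, h8] at h4
  omega


section Regular

variable {p : ℕ} [hp : Fact p.Prime] {V : Type*} [AddCommGroup V] [Module (ZMod p) V] [Finite V]
  (H : Subgroup (V ≃ₗ[ZMod p] V))
  (hreg : ∀ v w : V, v ≠ 0 → w ≠ 0 → ∃! h : H, (h : V ≃ₗ[ZMod p] V) v = w)

include hreg

theorem eq_one_of_fix {h : H} {v : V} (hv : v ≠ 0) (hfix : (h : V ≃ₗ[ZMod p] V) v = v) :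
    h = 1 := by
  obtain ⟨h₀, -, huniq⟩ := hreg v v hv hv
  rw [huniq h hfix, huniq 1 (by simp)]

theorem finite_of_regular [Nontrivial V] : Finite H := by
  obtain ⟨v₀, hv₀⟩ := exists_ne (0 : V)
  apply Finite.of_injective (fun h : H => (h : V ≃ₗ[ZMod p] V) v₀)
  intro h h' hh
  have hw : (h' : V ≃ₗ[ZMod p] V) v₀ ≠ 0 := by
    intro h0
    exact hv₀ ((h' : V ≃ₗ[ZMod p] V).map_eq_zero_iff.mp h0)
  obtain ⟨h₀, -, huniq⟩ := hreg v₀ _ hv₀ hw
  rw [huniq h hh, huniq h' rfl]

theorem card_regular [Nontrivial V] : Nat.card H = Nat.card V - 1 := by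
  obtain ⟨v₀, hv₀⟩ := exists_ne (0 : V)
  have hne : ∀ h : H, (h : V ≃ₗ[ZMod p] V) v₀ ∈ (Set.univ \ {0} : Set V) := by
    intro h
    refine ⟨Set.mem_univ _, ?_⟩
    rw [Set.mem_singleton_iff]
    intro h0
    exact hv₀ ((h : V ≃ₗ[ZMod p] V).map_eq_zero_iff.mp h0)
  have e : H ≃ (Set.univ \ {0} : Set V) := by
    apply Equiv.ofBijective (fun h : H => ⟨(h : V ≃ₗ[ZMod p] V) v₀, hne h⟩)
    constructor
    · intro h h' hh
      have hh' : (h : V ≃ₗ[ZMod p] V) v₀ = (h' : V ≃ₗ[ZMod p] V) v₀ := congrArg Subtype.val hh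
      have hw : (h' : V ≃ₗ[ZMod p] V) v₀ ≠ 0 := (hne h').2
      obtain ⟨h₀, -, huniq⟩ := hreg v₀ _ hv₀ hw
      rw [huniq h hh', huniq h' rfl]
    · rintro ⟨w, -, hw⟩
      obtain ⟨h, hh, -⟩ := hreg v₀ w hv₀ hw
      exact ⟨h, Subtype.ext hh⟩
  rw [Nat.card_congr e, Nat.card_coe_set_eq, Set.ncard_sdiff_singleton_of_mem (Set.mem_univ _),
    Set.ncard_univ]

/-- the order of a subgroup leaving the subspace `W` invariant divides `|W| - 1` -/
theorem card_dvd_card_sub_one [Nontrivial V] (A : Subgroup H) (W : Submodule (ZMod p) V)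
    (hWA : ∀ a ∈ A, ∀ v ∈ W, ((a : H) : V ≃ₗ[ZMod p] V) v ∈ W) :
    Nat.card A ∣ Nat.card W - 1 := by
  have := finite_of_regular H hreg
  let X : Set V := (W : Set V) \ {0}
  have hXcard : Nat.card X = Nat.card W - 1 := by
    rw [Nat.card_coe_set_eq, Set.ncard_sdiff_singleton_of_mem (by simp)]
    rfl
  let _ : MulAction A X :=
    { smul := fun a x => ⟨((a : H) : V ≃ₗ[ZMod p] V) x.1, hWA a a.2 x.1 x.2.1, by
        intro h0
        rw [Set.mem_singleton_iff] at h0
        exact x.2.2 (((a : H) : V ≃ₗ[ZMod p] V).map_eq_zero_iff.mp h0)⟩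
      one_smul := fun x => Subtype.ext (by
        change (((1 : A) : H) : V ≃ₗ[ZMod p] V) x.1 = x.1
        simp)
      mul_smul := fun a b x => Subtype.ext (by
        change (((a * b : A) : H) : V ≃ₗ[ZMod p] V) x.1 =
          ((a : H) : V ≃ₗ[ZMod p] V) (((b : H) : V ≃ₗ[ZMod p] V) x.1)
        simp [LinearEquiv.mul_apply]) }
  rw [← hXcard]
  apply card_dvd_of_free
  intro a x hax
  have h1 : ((a : H) : V ≃ₗ[ZMod p] V) x.1 = x.1 := congrArg Subtype.val hax
  have hx0 : x.1 ≠ 0 := fun h => x.2.2 (Set.mem_singleton_iff.mpr h)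
  have := eq_one_of_fix H hreg hx0 h1
  exact Subtype.ext this

/-- commutative subgroups are cyclic -/
theorem isCyclic_of_comm [Nontrivial V] (A : Subgroup H) (hAc : IsMulCommutative A) :
    IsCyclic A := by
  have := finite_of_regular H hreg
  let f : A →* (V ≃ₗ[ZMod p] V) := H.subtype.comp A.subtype
  let _ : DistribMulAction A V := DistribMulAction.compHom V f
  apply isCyclic_of_fpf (V := V) (fun a b => mul_comm' a b)
  intro a ha v hav
  by_contra hv
  apply ha
  have h1 : ((a : H) : V ≃ₗ[ZMod p] V) v = v := hav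
  exact Subtype.ext (eq_one_of_fix H hreg hv h1)

/-- the key contradiction: a normal cyclic self-centralizing subgroup cannot be reducible -/
theorem not_reducible_of_centralizer_eq (A : Subgroup H) (hAn : A.Normal) (hcyc : IsCyclic A)
    (W : Submodule (ZMod p) V) (hW0 : W ≠ ⊥) (hW1 : W ≠ ⊤)
    (hWA : ∀ a ∈ A, ∀ v ∈ W, ((a : H) : V ≃ₗ[ZMod p] V) v ∈ W)
    (hCA : Subgroup.centralizer (A : Set H) = A) : False := by
  have hnt : Nontrivial V := by
    by_contra h
    rw [not_nontrivial_iff_subsingleton] at h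
    exact hW0 (Subsingleton.elim _ _)
  have := finite_of_regular H hreg
  obtain ⟨x, hx⟩ := hcyc.exists_generator
  have hgen : ∀ y ∈ A, y ∈ Subgroup.zpowers (x : H) := by
    intro y hy
    obtain ⟨k, hk⟩ := Subgroup.mem_zpowers_iff.mp (hx ⟨y, hy⟩)
    refine Subgroup.mem_zpowers_iff.mpr ⟨k, ?_⟩
    have := congrArg Subtype.val hk
    simpa using this
  have h3 := card_le_sq_of_centralizer_eq A hAn x.2 hgen hCA
  have h1 := card_dvd_card_sub_one H hreg A W hWA
  have h2 : Nat.card A ∣ Nat.card V - 1 := by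
    rw [← card_regular H hreg]
    exact Subgroup.card_subgroup_dvd_card A
  rw [card_regular H hreg] at h3
  rw [Module.natCard_eq_pow_finrank (K := ZMod p) (V := W), Nat.card_zmod] at h1
  rw [Module.natCard_eq_pow_finrank (K := ZMod p) (V := V), Nat.card_zmod] at h2 h3
  have hd : 1 ≤ Module.finrank (ZMod p) W := Submodule.one_le_finrank_iff.mpr hW0
  have hdn : Module.finrank (ZMod p) W < Module.finrank (ZMod p) V := Submodule.finrank_lt hW1
  exact arith_contra hp.out.two_le hd hdn h1 h2 h3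

end Regular

end Cfsg.Agent.Helper16.NearField
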