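import Mathlib
import Cfsg.Agent.Helper16.NearField
import Cfsg.Agent.Helper18.AutQ8

/-!
# Quaternion pairs of linear maps and a normal `Q₈` in a regular linear group
-/

set_option autoImplicit false

namespace Cfsg.Agent.Helper16.NearField

section Quat

variable {p : ℕ} [hp : Fact p.Prime] {V : Type*} [AddCommGroup V] [Module (ZMod p) V]

/-- the element `1 + a I + b J` of the quaternion algebra -/
def eMap (I J : V →ₗ[ZMod p] V) (a b : ZMod p) : V →ₗ[ZMod p] V :=
  LinearMap.id + a • I + b • J

variable {I J : V →ₗ[ZMod p] V} (hI : ∀ v, I (I v) = -v) (hJ : ∀ v, J (J v) = -v)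
  (hIJ : ∀ v, I (J v) = -J (I v)) {a b : ZMod p} (hab : a ^ 2 + b ^ 2 = -1)

include hI hJ hIJ hab

theorem eMap_comp (v : V) : eMap I J a b (eMap I J (-a) (-b) v) = 0 := by
  simp only [eMap, LinearMap.add_apply, LinearMap.smul_apply, LinearMap.id_apply,
    map_add, map_smul, hI, hJ, hIJ]
  have h : (a ^ 2 + b ^ 2 + 1) • v = 0 := by rw [hab]; simp
  linear_combination (norm := module) h

omit hI hJ hIJ hab in
theorem eMap_add (v : V) : eMap I J a b v + eMap I J (-a) (-b) v = (2 : ZMod p) • v := by
  simp only [eMap, LinearMap.add_apply, LinearMap.smul_apply, LinearMap.id_apply]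
  module

omit hab in
theorem eMap_conj (v : V) : I (J (eMap I J a b v)) = eMap I J (-a) (-b) (I (J v)) := by
  simp only [eMap, LinearMap.add_apply, LinearMap.smul_apply, LinearMap.id_apply,
    map_add, map_smul, map_neg, hI, hJ, hIJ]
  module

omit hab in
theorem IJ_injective : Function.Injective (fun v => I (J v)) := by
  intro v w h
  have h1 : I (J (I (J v))) = I (J (I (J w))) := by
    have := congrArg (fun x => I (J x)) h
    exact this
  have h2 : ∀ x, I (J (I (J x))) = -x := by
    intro x
    simp only [map_neg, hI, hJ, hIJ, neg_neg]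
  rw [h2, h2] at h1
  exact neg_injective h1

omit hab in
theorem card_ker_le [Finite V] :
    Nat.card (LinearMap.ker (eMap I J a b)) ≤ Nat.card (LinearMap.ker (eMap I J (-a) (-b))) := by
  let f : LinearMap.ker (eMap I J a b) → LinearMap.ker (eMap I J (-a) (-b)) := fun v =>
    ⟨I (J v.1), by
      rw [LinearMap.mem_ker, ← eMap_conj hI hJ hIJ, LinearMap.mem_ker.mp v.2, map_zero, map_zero]⟩
  apply Nat.card_le_card_of_injective f
  intro v w h
  have h1 : I (J v.1) = I (J w.1) := congrArg Subtype.val h
  exact Subtype.ext (IJ_injective hI hJ hIJ h1)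

omit hab in
theorem card_ker_eq [Finite V] :
    Nat.card (LinearMap.ker (eMap I J a b)) = Nat.card (LinearMap.ker (eMap I J (-a) (-b))) := by
  apply le_antisymm (card_ker_le hI hJ hIJ)
  have := card_ker_le (a := -a) (b := -b) hI hJ hIJ
  rwa [neg_neg, neg_neg] at this

theorem card_eq_mul [Finite V] (hp2 : p ≠ 2) :
    Nat.card V = Nat.card (LinearMap.ker (eMap I J a b)) *
      Nat.card (LinearMap.ker (eMap I J (-a) (-b))) := by
  have h2 : (2 : ZMod p) ≠ 0 := by
    intro h
    have : ((2 : ℕ) : ZMod p) = 0 := by exact_mod_cast h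
    rw [ZMod.natCast_eq_zero_iff] at this
    exact hp2 ((Nat.prime_dvd_prime_iff_eq hp.out Nat.prime_two).mp this)
  have hab' : (-a) ^ 2 + (-b) ^ 2 = -1 := by rw [neg_sq, neg_sq]; exact hab
  have hcompl : IsCompl (LinearMap.ker (eMap I J a b)) (LinearMap.ker (eMap I J (-a) (-b))) := by
    constructor
    · rw [Submodule.disjoint_def]
      intro v hv hv'
      have := eMap_add (I := I) (J := J) (a := a) (b := b) v
      rw [LinearMap.mem_ker.mp hv, LinearMap.mem_ker.mp hv', add_zero] at this
      exact (smul_eq_zero.mp this.symm).resolve_left h2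
    · rw [codisjoint_iff, eq_top_iff]
      intro v _
      have h3 : v = (2 : ZMod p)⁻¹ • eMap I J (-a) (-b) v + (2 : ZMod p)⁻¹ • eMap I J a b v := by
        rw [← smul_add, add_comm, eMap_add, smul_smul, inv_mul_cancel₀ h2, one_smul]
      rw [h3]
      apply Submodule.add_mem_sup
      · apply Submodule.smul_mem
        rw [LinearMap.mem_ker]
        exact eMap_comp hI hJ hIJ hab v
      · apply Submodule.smul_mem
        rw [LinearMap.mem_ker]
        have := eMap_comp hI hJ hIJ hab' v
        rwa [neg_neg, neg_neg] at this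
  have e := Submodule.prodEquivOfIsCompl _ _ hcompl
  rw [← Nat.card_congr e.toEquiv, Nat.card_prod]

end Quat

theorem arith_q8 {u d r : ℕ} (hu : 2 ≤ u) (h1 : u * u - 1 = d * r) (h2 : d ∣ u - 1)
    (h3 : r ∣ 24) (h8 : 8 ∣ u * u - 1) : u = 3 ∨ u = 5 ∨ u = 7 ∨ u = 11 ∨ u = 23 := by
  obtain ⟨t, ht⟩ := h2
  have hd : d ≠ 0 := by
    rintro rfl
    rw [zero_mul] at ht
    omega
  have h4 : u * u - 1 = (u - 1) * (u + 1) := by
    obtain ⟨w, rfl⟩ : ∃ w, u = w + 1 := ⟨u - 1, by omega⟩
    have : (w + 1) * (w + 1) - 1 = w * w + 2 * w := by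
      have : (w + 1) * (w + 1) = w * w + 2 * w + 1 := by ring
      omega
    rw [this]
    have : w + 1 - 1 = w := by omega
    rw [this]; ring
  rw [h4, ht, mul_assoc] at h1
  have h5 : t * (u + 1) = r := Nat.eq_of_mul_eq_mul_left (Nat.pos_of_ne_zero hd) h1
  have h6 : u + 1 ∣ 24 := (Dvd.intro_left t h5).trans h3
  have h7 : u + 1 ≤ 24 := Nat.le_of_dvd (by norm_num) h6
  have h9 : u ≤ 23 := by omega
  interval_cases u <;> simp_all

section Group

variable {p : ℕ} [hp : Fact p.Prime] {V : Type*} [AddCommGroup V] [Module (ZMod p) V] [Finite V]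
  (H : Subgroup (V ≃ₗ[ZMod p] V))
  (hreg : ∀ v w : V, v ≠ 0 → w ≠ 0 → ∃! h : H, (h : V ≃ₗ[ZMod p] V) v = w)

include hreg

/-- an involution acts as `-1` -/
theorem involution_apply {z : H} (hz1 : z ≠ 1) (hz2 : z * z = 1) (v : V) :
    (z : V ≃ₗ[ZMod p] V) v = -v := by
  by_contra hne
  have hw : (z : V ≃ₗ[ZMod p] V) v + v ≠ 0 := fun h => hne (eq_neg_of_add_eq_zero_left h)
  have hfix : (z : V ≃ₗ[ZMod p] V) ((z : V ≃ₗ[ZMod p] V) v + v) =
      (z : V ≃ₗ[ZMod p] V) v + v := by
    rw [map_add]
    have : (z : V ≃ₗ[ZMod p] V) ((z : V ≃ₗ[ZMod p] V) v) = v := by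
      have := congrArg (fun h : H => (h : V ≃ₗ[ZMod p] V) v) hz2
      simpa [LinearEquiv.mul_apply] using this
    rw [this, add_comm]
  exact hz1 (eq_one_of_fix H hreg hw hfix)

/-- key counting for a quaternion pair `i, j` centralized by `D` -/
theorem quat_count [Nontrivial V] {i j : H} (hi1 : i * i ≠ 1) (hi4 : (i * i) * (i * i) = 1)
    (hj : j * j = i * i) (hij : i * j = (i * i) * (j * i)) (D : Subgroup H)
    (hDi : ∀ d ∈ D, d * i = i * d) (hDj : ∀ d ∈ D, d * j = j * d) :
    ∃ u : ℕ, Nat.card V = u * u ∧ Nat.card D ∣ u - 1 := by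
  set I : V →ₗ[ZMod p] V := ((i : H) : V ≃ₗ[ZMod p] V).toLinearMap with hIdef
  set J : V →ₗ[ZMod p] V := ((j : H) : V ≃ₗ[ZMod p] V).toLinearMap with hJdef
  have hI : ∀ v, I (I v) = -v := by
    intro v
    have := involution_apply H hreg hi1 hi4 v
    simpa [hIdef, LinearEquiv.mul_apply] using this
  have hJ : ∀ v, J (J v) = -v := by
    intro v
    have := involution_apply H hreg hi1 hi4 v
    rw [← hj] at this
    simpa [hJdef, LinearEquiv.mul_apply] using this
  have hIJ : ∀ v, I (J v) = -J (I v) := by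
    intro v
    have h1 := congrArg (fun h : H => (h : V ≃ₗ[ZMod p] V) v) hij
    have h2 := involution_apply H hreg hi1 hi4 ((j : V ≃ₗ[ZMod p] V) ((i : V ≃ₗ[ZMod p] V) v))
    simp only [Subgroup.coe_mul, LinearEquiv.mul_apply] at h1 h2
    simp only [hIdef, hJdef, LinearEquiv.coe_coe]
    rw [h1, h2]
  have hp2 : p ≠ 2 := by
    rintro rfl
    obtain ⟨v, hv⟩ := exists_ne (0 : V)
    apply hi1
    apply eq_one_of_fix H hreg hv
    rw [involution_apply H hreg hi1 hi4 v]
    have : v + v = 0 := by
      have : (2 : ZMod 2) • v = 0 := by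
        have : (2 : ZMod 2) = 0 := by
          have := CharP.cast_eq_zero (ZMod 2) 2
          exact_mod_cast this
        rw [this, zero_smul]
      rwa [two_smul] at this
    exact neg_eq_of_add_eq_zero_left this
  obtain ⟨a, b, hab⟩ := ZMod.sq_add_sq p (-1)
  refine ⟨Nat.card (LinearMap.ker (eMap I J a b)), ?_, ?_⟩
  · have := card_eq_mul hI hJ hIJ hab hp2
    rwa [← card_ker_eq hI hJ hIJ] at this
  · apply card_dvd_card_sub_one H hreg D
    intro d hd v hv
    rw [LinearMap.mem_ker] at hv ⊢
    have hdi : ∀ w, I ((d : V ≃ₗ[ZMod p] V) w) = (d : V ≃ₗ[ZMod p] V) (I w) := by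
      intro w
      have := congrArg (fun h : H => (h : V ≃ₗ[ZMod p] V) w) (hDi d hd)
      simp only [Subgroup.coe_mul, LinearEquiv.mul_apply] at this
      simp only [hIdef, LinearEquiv.coe_coe]
      exact this.symm
    have hdj : ∀ w, J ((d : V ≃ₗ[ZMod p] V) w) = (d : V ≃ₗ[ZMod p] V) (J w) := by
      intro w
      have := congrArg (fun h : H => (h : V ≃ₗ[ZMod p] V) w) (hDj d hd)
      simp only [Subgroup.coe_mul, LinearEquiv.mul_apply] at this
      simp only [hJdef, LinearEquiv.coe_coe]
      exact this.symm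
    have : eMap I J a b ((d : V ≃ₗ[ZMod p] V) v) = (d : V ≃ₗ[ZMod p] V) (eMap I J a b v) := by
      simp only [eMap, LinearMap.add_apply, LinearMap.smul_apply, LinearMap.id_apply, hdi, hdj,
        map_add, map_smul]
    rw [this, hv, map_zero]

/-- a normal quaternion subgroup of order `8` forces `|V| ∈ {25, 49, 121, 529}` -/
theorem card_of_normal_q8
    (hI : ∀ A : Subgroup H, A.Normal → IsCyclic A → ∃ W : Submodule (ZMod p) V, W ≠ ⊥ ∧ W ≠ ⊤ ∧
      ∀ a ∈ A, ∀ v ∈ W, ((a : H) : V ≃ₗ[ZMod p] V) v ∈ W)
    (N : Subgroup H) (hNn : N.Normal) (e : N ≃* QuaternionGroup 2) :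
    Nat.card V = 25 ∨ Nat.card V = 49 ∨ Nat.card V = 121 ∨ Nat.card V = 529 := by
  have hnt : Nontrivial V := by
    obtain ⟨W, hW0, hW1, -⟩ := hI ⊥ inferInstance inferInstance
    by_contra h
    rw [not_nontrivial_iff_subsingleton] at h
    exact hW0 (Subsingleton.elim _ _)
  have hfin := finite_of_regular H hreg
  set i' : N := e.symm (QuaternionGroup.a 1) with hi'
  set j' : N := e.symm (QuaternionGroup.xa 0) with hj'
  set i : H := (i' : H) with hi
  set j : H := (j' : H) with hj
  have hi1 : i * i ≠ 1 := by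
    intro h
    have h1 : i' * i' = 1 := Subtype.ext h
    rw [hi', ← map_mul] at h1
    have h2 : (QuaternionGroup.a 1 * QuaternionGroup.a 1 : QuaternionGroup 2) = 1 := by
      have := congrArg e h1
      simpa using this
    revert h2; decide
  have hi4 : (i * i) * (i * i) = 1 := by
    have h1 : (i' * i') * (i' * i') = 1 := by
      rw [hi', ← map_mul, ← map_mul]
      have : ((QuaternionGroup.a 1 * QuaternionGroup.a 1) *
          (QuaternionGroup.a 1 * QuaternionGroup.a 1) : QuaternionGroup 2) = 1 := by decide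
      rw [this, map_one]
    exact congrArg Subtype.val h1
  have hjj : j * j = i * i := by
    have h1 : j' * j' = i' * i' := by
      rw [hi', hj', ← map_mul, ← map_mul]
      congr 1
    exact congrArg Subtype.val h1
  have hij : i * j = (i * i) * (j * i) := by
    have h1 : i' * j' = (i' * i') * (j' * i') := by
      rw [hi', hj', ← map_mul, ← map_mul, ← map_mul, ← map_mul]
      congr 1
    exact congrArg Subtype.val h1
  set D : Subgroup H := Subgroup.centralizer (N : Set H) with hD
  have hDi : ∀ d ∈ D, d * i = i * d := fun d hd => (hd i i'.2).symm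
  have hDj : ∀ d ∈ D, d * j = j * d := fun d hd => (hd j j'.2).symm
  obtain ⟨u, hu, hDu⟩ := quat_count H hreg hi1 hi4 hjj hij D hDi hDj
  -- the conjugation action on N
  let f : H →* MulAut N := MulAut.conjNormal
  have hker : f.ker = D := by
    ext g
    rw [MonoidHom.mem_ker, hD, Subgroup.mem_centralizer_iff]
    constructor
    · intro hg n hn
      have := congrArg (fun φ : MulAut N => ((φ ⟨n, hn⟩ : N) : H)) hg
      simp only [f, MulAut.conjNormal_apply, MulAut.one_apply] at this
      calc n * g = (g * n * g⁻¹) * g := by rw [this]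
        _ = g * n := by group
    · intro hg
      ext n
      simp only [f, MulAut.conjNormal_apply, MulAut.one_apply]
      rw [← hg n n.2]; group
  have hcardAut : Nat.card (MulAut N) = 24 := by
    obtain ⟨φ⟩ := Cfsg.Agent.Helper18.AutQ8.main
    rw [Nat.card_congr (MulAut.congr e).toEquiv, Nat.card_congr φ.toEquiv, Nat.card_perm,
      Nat.card_eq_fintype_card, Fintype.card_fin]
    rfl
  have hrange : Nat.card f.range ∣ 24 := by
    rw [← hcardAut]; exact Subgroup.card_subgroup_dvd_card _
  have hHcard : Nat.card H = Nat.card D * Nat.card f.range := by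
    rw [← hker, ← Subgroup.index_ker, Subgroup.card_mul_index]
  have hHV := card_regular H hreg
  have hN8 : Nat.card N = 8 := by
    rw [Nat.card_congr e.toEquiv, Nat.card_eq_fintype_card, QuaternionGroup.card]
  have h8 : 8 ∣ u * u - 1 := by
    rw [← hu, ← hHV, ← hN8]; exact Subgroup.card_subgroup_dvd_card N
  have hu2 : 2 ≤ u := by
    have hV2 : 2 ≤ Nat.card V := by
      have := Finite.one_lt_card (α := V)
      omega
    rw [hu] at hV2
    by_contra hlt
    have : u ≤ 1 := by omega
    have : u * u ≤ 1 * 1 := Nat.mul_le_mul this this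
    omega
  have h1 : u * u - 1 = Nat.card D * Nat.card f.range := by rw [← hu, ← hHV, hHcard]
  rcases arith_q8 hu2 h1 hDu hrange h8 with rfl | rfl | rfl | rfl | rfl
  · -- u = 3: H = N = Q8, contradiction with the cyclic subgroup of order 4
    exfalso
    have hV9 : Nat.card V = 9 := hu
    have hH8 : Nat.card H = 8 := by rw [hHV, hV9]
    have hoi : orderOf i = 4 := by
      have h1 : i ^ 2 ^ 1 ≠ 1 := by rw [pow_one, pow_two]; exact hi1
      have h2 : i ^ 2 ^ (1 + 1) = 1 := by
        have : i ^ 2 ^ (1 + 1) = (i * i) * (i * i) := by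
          norm_num
          rw [show (4 : ℕ) = 2 + 2 by norm_num, pow_add, pow_two]
        rw [this]; exact hi4
      have := orderOf_eq_prime_pow h1 h2
      simpa using this
    have hZcard : Nat.card (Subgroup.zpowers i) = 4 := by rw [Nat.card_zpowers, hoi]
    have hZidx : (Subgroup.zpowers i).index = 2 := by
      have := Subgroup.card_mul_index (Subgroup.zpowers i)
      rw [hZcard, hH8] at this
      omega
    have hZn : (Subgroup.zpowers i).Normal := Subgroup.normal_of_index_eq_two hZidx
    obtain ⟨W, hW0, hW1, hWA⟩ := hI (Subgroup.zpowers i) hZn inferInstance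
    have h4 := card_dvd_card_sub_one H hreg (Subgroup.zpowers i) W hWA
    rw [hZcard] at h4
    have hVp := Module.natCard_eq_pow_finrank (K := ZMod p) (V := V)
    have hWp := Module.natCard_eq_pow_finrank (K := ZMod p) (V := W)
    rw [Nat.card_zmod] at hVp hWp
    have hd : 1 ≤ Module.finrank (ZMod p) W := Submodule.one_le_finrank_iff.mpr hW0
    have hdn : Module.finrank (ZMod p) W < Module.finrank (ZMod p) V := Submodule.finrank_lt hW1
    rw [hV9] at hVp
    generalize Module.finrank (ZMod p) V = n at hVp hdn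
    generalize Module.finrank (ZMod p) W = d at hWp hd hdn
    generalize Nat.card W = w at hWp h4
    have hp3 : p = 3 := by
      have h1 : p ∣ 9 := by
        rw [hVp]
        exact dvd_pow_self p (by omega)
      have h2 : p ∣ 3 := by
        have : (9 : ℕ) = 3 * 3 := by norm_num
        rw [this] at h1
        rcases (Nat.Prime.dvd_mul hp.out).mp h1 with h | h <;> exact h
      exact (Nat.prime_dvd_prime_iff_eq hp.out Nat.prime_three).mp h2
    rw [hp3] at hVp hWp
    have hn2 : n = 2 := by
      have : (3 : ℕ) ^ 2 = 3 ^ n := by rw [← hVp]; norm_num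
      exact (Nat.pow_right_injective (by norm_num : 2 ≤ 3) this).symm
    have hd1 : d = 1 := by omega
    rw [hd1, pow_one] at hWp
    rw [hWp] at h4
    omega
  · left; rw [hu]
  · right; left; rw [hu]
  · right; right; left; rw [hu]
  · right; right; right; rw [hu]

end Group

end Cfsg.Agent.Helper16.NearField
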