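import Mathlib
import Cfsg.Agent.Helper16.NearField2
import Cfsg.Agent.Helper1.CNSolv
import Cfsg.Agent.Helper1.FrobGroup
import Cfsg.Agent.Helper29.Schmidt2
import Cfsg.Agent.S0685

/-!
# A normal `Q₈` in a solvable regular linear group of type II
-/

set_option autoImplicit false

namespace Cfsg.Agent.Helper16.NearField

open Subgroup
open scoped commutatorElement

/-- a generalized quaternion group of class at most two has `m ∣ 2` -/
theorem quat_dvd_two {m : ℕ} (h : ∀ x y w : QuaternionGroup m, ⁅x, y⁆ * w = w * ⁅x, y⁆) :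
    m ∣ 2 := by
  have hc : ⁅(QuaternionGroup.a 1 : QuaternionGroup m), (QuaternionGroup.xa 0 : QuaternionGroup m)⁆ =
      QuaternionGroup.a 2 := by
    apply mul_right_cancel (b := QuaternionGroup.xa 0 * QuaternionGroup.a 1)
    have e1 : ⁅(QuaternionGroup.a 1 : QuaternionGroup m), (QuaternionGroup.xa 0 : QuaternionGroup m)⁆ *
        (QuaternionGroup.xa 0 * QuaternionGroup.a 1) =
        QuaternionGroup.a 1 * QuaternionGroup.xa 0 := by
      rw [commutatorElement_def]; group
    rw [e1, QuaternionGroup.xa_mul_a, QuaternionGroup.a_mul_xa, QuaternionGroup.a_mul_xa]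
    congr 1
    ring
  have h1 := h (QuaternionGroup.a 1) (QuaternionGroup.xa 0) (QuaternionGroup.xa 0)
  rw [hc, QuaternionGroup.a_mul_xa, QuaternionGroup.xa_mul_a] at h1
  have h2 : (0 - 2 : ZMod (2 * m)) = 0 + 2 := by
    injection h1
  have h3 : ((4 : ℕ) : ZMod (2 * m)) = 0 := by
    have : (4 : ZMod (2 * m)) = 0 := by linear_combination -h2
    exact_mod_cast this
  rw [ZMod.natCast_eq_zero_iff] at h3
  have : 2 * m ∣ 2 * 2 := by simpa using h3
  exact Nat.dvd_of_mul_dvd_mul_left (by norm_num) this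

section Group

variable {p : ℕ} [hp : Fact p.Prime] {V : Type*} [AddCommGroup V] [Module (ZMod p) V] [Finite V]
  (H : Subgroup (V ≃ₗ[ZMod p] V))
  (hreg : ∀ v w : V, v ≠ 0 → w ≠ 0 → ∃! h : H, (h : V ≃ₗ[ZMod p] V) v = w)

include hreg

/-- `p`-subgroups of `H` are cyclic or generalized quaternion -/
theorem pgroup_cyclic_or_quat [Nontrivial V] {r : ℕ} [Fact r.Prime] (P : Subgroup H)
    (hP : IsPGroup r P) :
    IsCyclic P ∨ (r = 2 ∧ ∃ n : ℕ, Nonempty (P ≃* QuaternionGroup (2 ^ n))) := by
  have := finite_of_regular H hreg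
  rcases subsingleton_or_nontrivial H with hS | hS
  · left
    have : Subsingleton P := ⟨fun a b => Subtype.ext (Subsingleton.elim _ _)⟩
    exact isCyclic_of_subsingleton
  let _ : DistribMulAction H V := DistribMulAction.compHom V H.subtype
  have hfpf : ∀ s : H, s ≠ 1 → ∀ v : V, s • v = v → v = 0 := by
    intro s hs v hv
    by_contra hv0
    exact hs (eq_one_of_fix H hreg hv0 hv)
  obtain ⟨L, iG, iF, Hc, hF, ⟨e⟩⟩ := Cfsg.Agent.Helper6.exists_frobenius_of_fpf' hfpf
  obtain ⟨K, hK, hKn, -⟩ := Cfsg.Agent.S0035.result Hc hF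
  have hfpf' := Cfsg.Agent.Helper1.FrobGroup.fpf_form hF hK
  have hK1 := Cfsg.Agent.Helper1.FrobGroup.kernel_ne_bot hF hK
  have h1 := Cfsg.Agent.Helper1.CNSolv.pSubgroup_cyclic_or_quat hK1 Hc hfpf'
    (P.map e.toMonoidHom) (hP.map _)
  let e' : P ≃* P.map e.toMonoidHom := e.subgroupMap P
  rcases h1 with h1 | ⟨h2, n, ⟨e''⟩⟩
  · left
    exact isCyclic_of_surjective e'.symm e'.symm.surjective
  · right
    exact ⟨h2, n, ⟨e'.trans e''⟩⟩

/-- in the solvable type II case there is a normal quaternion subgroup of order `8` -/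
theorem exists_normal_q8
    (hI : ∀ A : Subgroup H, A.Normal → IsCyclic A → ∃ W : Submodule (ZMod p) V, W ≠ ⊥ ∧ W ≠ ⊤ ∧
      ∀ a ∈ A, ∀ v ∈ W, ((a : H) : V ≃ₗ[ZMod p] V) v ∈ W)
    (hsolv : Group.IsSolvable H) :
    ∃ N : Subgroup H, N.Normal ∧ Nonempty (N ≃* QuaternionGroup 2) := by
  have hnt : Nontrivial V := by
    obtain ⟨W, hW0, hW1, -⟩ := hI ⊥ inferInstance inferInstance
    by_contra h
    rw [not_nontrivial_iff_subsingleton] at h
    exact hW0 (Subsingleton.elim _ _)
  have hfin := finite_of_regular H hreg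
  -- a maximal normal abelian subgroup
  obtain ⟨A, -, hAmax'⟩ := exists_maximal_ge_of_wellFoundedGT
    (fun B : Subgroup H => B.Normal ∧ IsMulCommutative B) ⊥ ⟨inferInstance, inferInstance⟩
  obtain ⟨⟨hAn, hAc⟩, hAmax''⟩ := hAmax'
  have hAmax : ∀ B : Subgroup H, B.Normal → IsMulCommutative B → A ≤ B → B = A :=
    fun B hBn hBc hAB => le_antisymm (hAmax'' ⟨hBn, hBc⟩ hAB) hAB
  obtain ⟨hlt, hCna⟩ := Cfsg.Agent.S0685.result H hreg hI A hAn hAc hAmax
  have hCn : (centralizer (A : Set H)).Normal := inferInstance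
  -- a minimal normal nonabelian subgroup of the centralizer
  obtain ⟨N, hNC, ⟨hNn, -, hNna⟩, hNmin'⟩ := exists_minimal_le_of_wellFoundedLT
    (fun M : Subgroup H => M.Normal ∧ M ≤ centralizer (A : Set H) ∧ ¬ IsMulCommutative M)
    (centralizer (A : Set H)) ⟨hCn, le_rfl, hCna⟩
  have hNmin : ∀ M : Subgroup H, M.Normal → M ≤ N → ¬ IsMulCommutative M → N ≤ M :=
    fun M hMn hMN hMna => hNmin' ⟨hMn, hMN.trans hNC, hMna⟩ hMN
  -- normal abelian subgroups of N lie in A
  have hsub : ∀ M : Subgroup H, M.Normal → M ≤ N → IsMulCommutative M → M ≤ A := by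
    intro M hMn hMN hMc
    have hMA : M ≤ centralizer (A : Set H) := hMN.trans hNC
    have hAM : A ≤ centralizer (M : Set H) := le_centralizer_iff.mp hMA
    have hsupn : (M ⊔ A).Normal := inferInstance
    have hsupc : IsMulCommutative (M ⊔ A : Subgroup H) := by
      rw [← le_centralizer_iff_isMulCommutative]
      apply sup_le
      · rw [le_centralizer_iff]
        exact sup_le (le_centralizer_iff_isMulCommutative.mpr hMc) hAM
      · rw [le_centralizer_iff]
        exact sup_le hMA (le_centralizer_iff_isMulCommutative.mpr hAc)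
    have := hAmax (M ⊔ A) hsupn hsupc le_sup_right
    rw [← this]
    exact le_sup_left
  -- the commutator subgroup of N is central in N
  have hN'n : (⁅N, N⁆ : Subgroup H).Normal := inferInstance
  have hN'le : ⁅N, N⁆ ≤ N := commutator_le_self N
  have hNnt : Nontrivial N := by
    by_contra h
    rw [not_nontrivial_iff_subsingleton] at h
    exact hNna ⟨⟨fun a b => Subsingleton.elim _ _⟩⟩
  have hNsolv : Group.IsSolvable N := inferInstance
  have hmapc : (commutator N).map N.subtype = ⁅N, N⁆ := map_subtype_commutator N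
  have hN'ne : ¬ N ≤ ⁅N, N⁆ := by
    intro hle
    have h1 := Group.IsSolvable.commutator_lt_top_of_nontrivial N
    have h2 : commutator N = ⊤ := by
      apply map_injective N.subtype_injective
      rw [hmapc, ← MonoidHom.range_eq_map, range_subtype]
      exact le_antisymm hN'le hle
    exact h1.ne h2
  have hN'c : IsMulCommutative (⁅N, N⁆ : Subgroup H) := by
    by_contra h
    exact hN'ne (hNmin _ hN'n hN'le h)
  have hN'A : ⁅N, N⁆ ≤ A := hsub _ hN'n hN'le hN'c
  have hN'cent : ∀ c ∈ (⁅N, N⁆ : Subgroup H), ∀ n ∈ N, c * n = n * c := by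
    intro c hc n hn
    exact hNC hn c (hN'A hc)
  have hNnil : Group.IsNilpotent N := by
    apply Subgroup.isNilpotent_of_ker_le_center (Abelianization.of (G := N))
    rw [Abelianization.ker_of]
    intro x hx
    rw [mem_center_iff]
    intro z
    have hxC : (x : H) ∈ (⁅N, N⁆ : Subgroup H) := by
      rw [← hmapc]; exact ⟨x, hx, rfl⟩
    have := hN'cent (x : H) hxC z z.2
    exact Subtype.ext this.symm
  -- some Sylow subgroup of N is nonabelian
  have hex : ∃ (r : ℕ) (_ : Fact r.Prime) (P : Sylow r N), ¬ IsMulCommutative (P : Subgroup N) := by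
    by_contra hcon
    push Not at hcon
    apply hNna
    have := Cfsg.Agent.Helper29.comm_of_nilpotent_of_sylow_comm hNnil (fun r hr P a ha b hb => by
      have := hcon r hr P
      exact setLike_mul_comm (s := (P : Subgroup N)) ha hb)
    exact ⟨⟨fun a b => this a b⟩⟩
  obtain ⟨r, hr, P, hPna⟩ := hex
  have hPn : (P : Subgroup N).Normal := by
    have htfae := (Group.isNilpotent_of_finite_tfae (G := N)).out 0 3
    exact (htfae.mp hNnil) r hr P
  have hPchar : (P : Subgroup N).Characteristic := Sylow.characteristic_of_normal P hPn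
  set R : Subgroup H := (P : Subgroup N).map N.subtype with hR
  have hRn : R.Normal := ConjAct.normal_of_characteristic_of_normal
  have hRN : R ≤ N := map_subtype_le _
  have eR : (P : Subgroup N) ≃* R := (P : Subgroup N).equivMapOfInjective N.subtype N.subtype_injective
  have hRna : ¬ IsMulCommutative R := by
    intro h
    apply hPna
    refine ⟨⟨fun a b => ?_⟩⟩
    have := mul_comm' (eR a) (eR b)
    rw [← map_mul, ← map_mul] at this
    exact eR.injective this
  have hNR : N ≤ R := hNmin R hRn hRN hRna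
  have hNeq : R = N := le_antisymm hRN hNR
  have hNp : IsPGroup r N := by
    rw [← hNeq]
    exact P.isPGroup'.map _
  rcases pgroup_cyclic_or_quat H hreg N hNp with hcyc | ⟨-, n, ⟨e⟩⟩
  · exact absurd (IsCyclic.isMulCommutative (α := N)) hNna
  · -- class two forces n = 1
    have hclass : ∀ x y w : QuaternionGroup (2 ^ n), ⁅x, y⁆ * w = w * ⁅x, y⁆ := by
      intro x y w
      obtain ⟨x', rfl⟩ := e.surjective x
      obtain ⟨y', rfl⟩ := e.surjective y
      obtain ⟨w', rfl⟩ := e.surjective w
      have hc : ((⁅x', y'⁆ : N) : H) ∈ (⁅N, N⁆ : Subgroup H) := by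
        rw [← hmapc]
        exact ⟨⁅x', y'⁆, commutator_mem_commutator (mem_top _) (mem_top _), rfl⟩
      have h1 : ⁅x', y'⁆ * w' = w' * ⁅x', y'⁆ := Subtype.ext (hN'cent _ hc w' w'.2)
      have := congrArg e h1
      simpa [map_commutatorElement] using this
    have hdvd := quat_dvd_two hclass
    have hn1 : n ≤ 1 := by
      by_contra hn
      have h2 : 2 ^ 2 ∣ 2 ^ n := pow_dvd_pow 2 (by omega)
      have := Nat.le_of_dvd (by norm_num) (h2.trans hdvd)
      omega
    interval_cases n
    · exfalso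
      apply hNna
      have hc1 : IsCyclic (QuaternionGroup (2 ^ 0)) := QuaternionGroup.quaternionGroup_one_isCyclic
      have : IsCyclic N := isCyclic_of_surjective e.symm e.symm.surjective
      exact IsCyclic.isMulCommutative
    · exact ⟨N, hNn, ⟨e⟩⟩

end Group

end Cfsg.Agent.Helper16.NearField
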