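import Mathlib
import Cfsg.Agent.Helper13.S2558LDefs

/-! S2558 chapter (L), piece EQUI (sub-driver helper13; helper16): the pair `(h(2), h(-2))` is
equidistributed over the monic polynomials of degree `n ≥ 2`. -/

set_option autoImplicit false

universe u

namespace Cfsg.Agent.S2558P.LOW

open Polynomial

namespace EQUI

variable {F : Type u} [Field F]

/-- monic polynomials of degree `n` versus coefficient vectors -/
noncomputable def E (F : Type u) [Field F] (n : ℕ) :
    { p : F[X] // p.Monic ∧ p.natDegree = n } ≃ (Fin n → F) :=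
  (Polynomial.monicEquivDegreeLT (R := F) n).trans (Polynomial.degreeLTEquiv F n).toEquiv

theorem eval_E_symm (n : ℕ) (v : Fin n → F) (t : F) :
    ((E F n).symm v).1.eval t = t ^ n + ∑ i, v i * t ^ (i : ℕ) := by
  have h1 : ((E F n).symm v).1 = X ^ n + ((Polynomial.degreeLTEquiv F n).symm v).1 := rfl
  rw [h1, eval_add, eval_pow, eval_X,
    Polynomial.eval_eq_sum_degreeLTEquiv ((Polynomial.degreeLTEquiv F n).symm v).2 t]
  simp only [Subtype.coe_eta, LinearEquiv.apply_symm_apply]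

theorem sum_cons_cons (m : ℕ) (a b : F) (c : Fin m → F) (t : F) :
    ∑ i : Fin (m + 2), (Fin.cons b (Fin.cons a c) : Fin (m + 2) → F) i * t ^ (i : ℕ) =
      b + a * t + ∑ j : Fin m, c j * t ^ ((j : ℕ) + 2) := by
  rw [Fin.sum_univ_succ, Fin.sum_univ_succ]
  simp only [Fin.cons_zero, Fin.cons_succ, Fin.val_zero, pow_zero, mul_one, Fin.val_succ,
    zero_add, pow_one]
  rw [add_assoc]

end EQUI

section transport

variable {F : Type u} [Field F] [Fintype F]

open EQUI in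
/-- EQUI -/
theorem card_eval_pair_ge (h2 : (2 : F) ≠ 0) (n : ℕ) (hn : 2 ≤ n) (S : Finset (F × F)) :
    Fintype.card F ^ (n - 2) * S.card ≤
      Nat.card {h : F[X] // h.Monic ∧ h.natDegree = n ∧ (h.eval 2, h.eval (-2)) ∈ S} := by
  classical
  obtain ⟨m, rfl⟩ : ∃ m, n = m + 2 := ⟨n - 2, by omega⟩
  rw [Nat.add_sub_cancel]
  have h4 : (4 : F) ≠ 0 := by
    have : (4 : F) = 2 * 2 := by norm_num
    rw [this]
    exact mul_ne_zero h2 h2
  -- the target is finite
  have : Finite {h : F[X] // h.Monic ∧ h.natDegree = m + 2 ∧ (h.eval 2, h.eval (-2)) ∈ S} := by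
    have : Finite { p : F[X] // p.Monic ∧ p.natDegree = m + 2 } :=
      Finite.of_equiv _ (E F (m + 2)).symm
    exact Finite.of_injective
      (fun h => (⟨h.1, h.2.1, h.2.2.1⟩ : { p : F[X] // p.Monic ∧ p.natDegree = m + 2 }))
      (fun a b hab => by
        have h1 := Subtype.ext_iff.mp hab
        exact Subtype.ext h1)
  -- the part of degree at least two
  let ρ : (Fin m → F) → F → F := fun c t => t ^ (m + 2) + ∑ j : Fin m, c j * t ^ ((j : ℕ) + 2)
  let vec : (Fin m → F) × S → (Fin (m + 2) → F) := fun p =>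
    Fin.cons (((p.2.1.1 - ρ p.1 2) + (p.2.1.2 - ρ p.1 (-2))) / 2)
      (Fin.cons (((p.2.1.1 - ρ p.1 2) - (p.2.1.2 - ρ p.1 (-2))) / 4) p.1)
  have hev2 : ∀ p : (Fin m → F) × S, ((E F (m + 2)).symm (vec p)).1.eval 2 = p.2.1.1 := by
    intro p
    rw [eval_E_symm, sum_cons_cons]
    show (2 : F) ^ (m + 2) + (((p.2.1.1 - ρ p.1 2) + (p.2.1.2 - ρ p.1 (-2))) / 2
      + ((p.2.1.1 - ρ p.1 2) - (p.2.1.2 - ρ p.1 (-2))) / 4 * 2
      + ∑ j : Fin m, p.1 j * (2 : F) ^ ((j : ℕ) + 2)) = p.2.1.1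
    have hρ : ρ p.1 2 = (2 : F) ^ (m + 2) + ∑ j : Fin m, p.1 j * (2 : F) ^ ((j : ℕ) + 2) := rfl
    have h42 : (4 : F) = 2 * 2 := by norm_num
    rw [h42]
    field_simp
    rw [hρ]
    ring
  have hevm2 : ∀ p : (Fin m → F) × S, ((E F (m + 2)).symm (vec p)).1.eval (-2) = p.2.1.2 := by
    intro p
    rw [eval_E_symm, sum_cons_cons]
    show (-2 : F) ^ (m + 2) + (((p.2.1.1 - ρ p.1 2) + (p.2.1.2 - ρ p.1 (-2))) / 2
      + ((p.2.1.1 - ρ p.1 2) - (p.2.1.2 - ρ p.1 (-2))) / 4 * (-2)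
      + ∑ j : Fin m, p.1 j * (-2 : F) ^ ((j : ℕ) + 2)) = p.2.1.2
    have hρ : ρ p.1 (-2) =
        (-2 : F) ^ (m + 2) + ∑ j : Fin m, p.1 j * (-2 : F) ^ ((j : ℕ) + 2) := rfl
    have h42 : (4 : F) = 2 * 2 := by norm_num
    rw [h42]
    field_simp
    rw [hρ]
    ring
  let f : (Fin m → F) × S →
      {h : F[X] // h.Monic ∧ h.natDegree = m + 2 ∧ (h.eval 2, h.eval (-2)) ∈ S} := fun p =>
    ⟨((E F (m + 2)).symm (vec p)).1, ((E F (m + 2)).symm (vec p)).2.1,
      ((E F (m + 2)).symm (vec p)).2.2, by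
        rw [hev2, hevm2]
        exact p.2.2⟩
  have hf : Function.Injective f := by
    intro p p' hpp
    have h0 : (f p).1 = (f p').1 := by rw [hpp]
    have h1 : ((E F (m + 2)).symm (vec p)).1 = ((E F (m + 2)).symm (vec p')).1 := h0
    have h3 : vec p = vec p' := (E F (m + 2)).symm.injective (Subtype.ext h1)
    have hc : p.1 = p'.1 := by
      funext j
      have := congrFun h3 j.succ.succ
      simpa [vec] using this
    have hs1 : p.2.1.1 = p'.2.1.1 := by rw [← hev2 p, ← hev2 p', h1]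
    have hs2 : p.2.1.2 = p'.2.1.2 := by rw [← hevm2 p, ← hevm2 p', h1]
    exact Prod.ext hc (Subtype.ext (Prod.ext hs1 hs2))
  have hcard := Nat.card_le_card_of_injective f hf
  rw [Nat.card_prod, Nat.card_eq_fintype_card, Nat.card_eq_fintype_card, Fintype.card_fun,
    Fintype.card_fin, Fintype.card_coe] at hcard
  exact hcard

end transport

end Cfsg.Agent.S2558P.LOW
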