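import Mathlib
import Cfsg.Agent.Helper13.S2558LDefs

/-! S2558 chapter (L), piece DISCTW (sub-driver helper13; helper16): Gram determinant of a twisted
trace-type form. -/

set_option autoImplicit false

universe u

namespace Cfsg.Agent.S2558P.LOW

open Polynomial

section adj

variable {F : Type u} [Field F]

/-- DISCTW -/
theorem det_twist {R : Type u} [CommRing R] [Algebra F R] {I : Type} [Fintype I] [DecidableEq I]
    (b : Module.Basis I F R) (μ : R →ₗ[F] F) (κ : R) :
    (Matrix.of fun i j => μ (κ * (b i * b j))).det =
      Algebra.norm F κ * (Matrix.of fun i j => μ (b i * b j)).det := by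
  have key : (Matrix.of fun i j => μ (κ * (b i * b j))) =
      (Algebra.leftMulMatrix b κ).transpose * (Matrix.of fun i j => μ (b i * b j)) := by
    ext i j
    rw [Matrix.mul_apply]
    simp only [Matrix.transpose_apply, Matrix.of_apply]
    have h1 : κ * b i = ∑ k, (Algebra.leftMulMatrix b κ) k i • b k := by
      have h2 : ∀ k, (Algebra.leftMulMatrix b κ) k i = b.repr (κ * b i) k := by
        intro k
        rw [Algebra.leftMulMatrix_eq_repr_mul]
      rw [Finset.sum_congr rfl (fun k _ => by rw [h2 k])]
      exact (b.sum_repr (κ * b i)).symm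
    rw [← mul_assoc, h1, Finset.sum_mul, map_sum]
    apply Finset.sum_congr rfl
    intro k _
    rw [smul_mul_assoc, map_smul, smul_eq_mul]
  rw [key, Matrix.det_mul, Matrix.det_transpose, ← Algebra.norm_eq_matrix_det]

end adj

end Cfsg.Agent.S2558P.LOW
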