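import Mathlib
import Cfsg.Agent.Helper13.S2558LDefs
import Cfsg.Agent.Helper17.S2482Low

/-! S2558 chapter (L), piece NORMEVAL (sub-driver helper13; helper16): the norm of `c - root`. -/

set_option autoImplicit false

universe u

namespace Cfsg.Agent.S2558P.LOW

open Polynomial

section adj

variable {F : Type u} [Field F]

/-- NORMEVAL -/
theorem norm_C_sub_root (h : F[X]) (hh : h.Monic) (c : F) :
    Algebra.norm F (algebraMap F (AdjoinRoot h) c - AdjoinRoot.root h) = h.eval c := by
  have := hh.finite_adjoinRoot
  have := hh.free_adjoinRoot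
  have h1 := Cfsg.Agent.S2482P.LOW.charpoly_mulLeft_root h hh
  have h2 := LinearMap.eval_charpoly (LinearMap.mulLeft F (AdjoinRoot.root h)) c
  rw [h1] at h2
  rw [h2, Algebra.norm_apply]
  congr 1
  apply LinearMap.ext
  intro x
  rw [LinearMap.sub_apply, LinearMap.mulLeft_apply, Module.algebraMap_end_apply, Algebra.smul_def,
    ← sub_mul]
  rfl

end adj

end Cfsg.Agent.S2558P.LOW
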