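import Mathlib

set_option autoImplicit false

/-! Shared abbreviations for the S3266 project (odd-product graph of involutions of PSL(2,F)). -/

namespace Cfsg.Agent.S3266P

/-- 2x2 matrices. -/
abbrev M2 (F : Type*) [Field F] := Matrix (Fin 2) (Fin 2) F
/-- SL(2,F). -/
abbrev S2 (F : Type*) [Field F] := Matrix.SpecialLinearGroup (Fin 2) F
/-- PSL(2,F). -/
abbrev P2 (F : Type*) [Field F] := Matrix.ProjectiveSpecialLinearGroup (Fin 2) F

/-- The projection SL(2,F) → PSL(2,F). -/
def pr (F : Type*) [Field F] : S2 F →* P2 F :=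
  QuotientGroup.mk' (Subgroup.center (S2 F))

end Cfsg.Agent.S3266P
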