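import Mathlib
import Cfsg.Prelude.Def_GeometricClasses
import Cfsg.Prelude.Def_Classical
import Cfsg.Agent.Helper5.S5973Defs
import Cfsg.Agent.Helper6.S5992Defs
import Cfsg.Agent.Helper27.S5989Defs

/-! S5974 + S5988 + S5990 (driver helper16): `Ω^ε_{2d}(q)`, ANY `q`, acting on the nondegenerate `m`-spaces
(`m` even) of type `θ`.  Shared definitions, on top of helper5's characteristic-free `Cfsg.Agent.S5973P`
(`ND`, `IsHyp`, `resQ`, `IsTS`, `POrth`, `IsYO`, `typeC`); bridges to helper6's `Cfsg.Agent.S5992P`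
(`Nondeg (PB Q) W`, `Plus Q W`, `IsTy`) and to the Prelude predicates. -/

set_option autoImplicit false

namespace Cfsg.Agent.S5974P

open Cfsg.Agent.S5973P Cfsg.Agent.Helper2.SympInvol

section abstract

variable {F V : Type*} [Field F] [AddCommGroup V] [Module F V]

/-- `W` is a nondegenerate `m`-space of type `θ` (`true` = hyperbolic, `false` = elliptic) -/
def IsTyQ (Q : QuadraticForm F V) (θ : Bool) (m : ℕ) (W : Submodule F V) : Prop :=
  Module.finrank F W = m ∧ ND (resQ Q W) ∧ (IsHyp (resQ Q W) ↔ θ = true)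

theorem polar_resQ (Q : QuadraticForm F V) (W : Submodule F V) (u v : W) :
    QuadraticMap.polar (resQ Q W) u v = QuadraticMap.polar Q (u : V) (v : V) := by
  simp only [QuadraticMap.polar, resQ_apply, Submodule.coe_add]

/-- bridge: nondegeneracy of the restriction = helper2's `Nondeg` on the subspace -/
theorem nd_resQ_iff (Q : QuadraticForm F V) (W : Submodule F V) :
    ND (resQ Q W) ↔ Nondeg (Cfsg.Agent.S5992P.PB Q) W := by
  constructor
  · intro h w hw hw0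
    by_contra hcon
    push Not at hcon
    apply hw0
    have h1 : (⟨w, hw⟩ : W) = 0 := by
      apply h.1
      intro v
      show QuadraticMap.polar (resQ Q W) ⟨w, hw⟩ v = 0
      rw [polar_resQ]
      exact hcon v v.2
    exact congrArg Subtype.val h1
  · intro h
    have key : ∀ u : W, (∀ v : W, QuadraticMap.polar (resQ Q W) u v = 0) → u = 0 := by
      intro u hu
      by_contra hne
      have hne' : (u : V) ≠ 0 := fun h0 => hne (Subtype.ext h0)
      obtain ⟨v, hv, hv0⟩ := h u u.2 hne'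
      apply hv0
      have := hu ⟨v, hv⟩
      rw [polar_resQ] at this
      exact this
    refine ⟨fun u hu => key u fun v => hu v, fun u hu => key u fun v => ?_⟩
    have := hu v
    show QuadraticMap.polar (resQ Q W) u v = 0
    rw [QuadraticMap.polar_comm]
    exact this

/-- bridge: type of the restriction = helper6's `Plus` on the subspace -/
theorem isHyp_resQ_iff [FiniteDimensional F V] (Q : QuadraticForm F V) (W : Submodule F V) :
    IsHyp (resQ Q W) ↔ Cfsg.Agent.S5992P.Plus Q W := by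
  constructor
  · rintro ⟨T, hT, hd⟩
    refine ⟨T.map W.subtype, ?_, ?_, ?_⟩
    · rintro _ ⟨w, -, rfl⟩
      exact w.2
    · rintro _ ⟨w, hw, rfl⟩
      exact hT w hw
    · rw [← hd]
      congr 1
      exact (Submodule.equivSubtypeMap W T).symm.finrank_eq
  · rintro ⟨U, hUW, hTS, hd⟩
    refine ⟨U.comap W.subtype, ?_, ?_⟩
    · intro w hw
      exact hTS _ hw
    · rw [← hd]
      congr 1
      exact (Submodule.comapSubtypeEquivOfLe hUW).finrank_eq

theorem isTyQ_iff_isTy [FiniteDimensional F V] (Q : QuadraticForm F V) (θ : Bool) (m : ℕ)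
    (W : Submodule F V) : IsTyQ Q θ m W ↔ Cfsg.Agent.S5992P.IsTy Q θ m W := by
  unfold IsTyQ Cfsg.Agent.S5992P.IsTy
  rw [nd_resQ_iff, isHyp_resQ_iff]

/-- `ND Q` in helper2's form on `⊤` -/
theorem nondeg_top_of_nd (Q : QuadraticForm F V) (hQ : ND Q) :
    Nondeg (Cfsg.Agent.S5992P.PB Q) ⊤ :=
  Cfsg.Agent.S5992P.nondeg_top_of_nondegenerate Q hQ

/-- type of the whole space: helper5's `IsHyp Q` = helper6's `Plus Q ⊤` -/
theorem isHyp_iff_plus_top [FiniteDimensional F V] (Q : QuadraticForm F V) :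
    IsHyp Q ↔ Cfsg.Agent.S5992P.Plus Q ⊤ := by
  constructor
  · rintro ⟨T, hT, hd⟩
    exact ⟨T, le_top, hT, by rw [hd, finrank_top]⟩
  · rintro ⟨U, -, hTS, hd⟩
    exact ⟨U, hTS, by rw [hd, finrank_top]⟩

end abstract

section geo

variable {F : Type*} [Field F] {ι : Type} [Finite ι]

theorem isTyQ_iff_geo (Q : QuadraticForm F (ι → F)) (θ : Bool) (m : ℕ)
    (W : Submodule F (ι → F)) :
    IsTyQ Q θ m W ↔ (Module.finrank F W = m ∧
      Cfsg.Geo.IsNondegenerateOn (QuadraticMap.polar ⇑Q) W ∧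
      (Cfsg.Geo.IsPlusTypeOn ⇑Q W ↔ θ = true)) := by
  rw [isTyQ_iff_isTy]
  unfold Cfsg.Agent.S5992P.IsTy
  rw [Cfsg.Agent.S5992P.nondeg_iff_geo, Cfsg.Agent.S5992P.plus_iff_geo]

end geo

/-! ## arithmetic -/

/-- the type of `b'` fixed-point-free blocks is plus (`i` odd: always; `i` even: `b'` even) -/
def tNP (i b' : ℕ) : Prop := Even i → Even b'

/-- `b` blocks of dimension `c` are realised by an element of order `r` of `Ω^ε_{2d}(q)`
(`typeC ε i b`, helper5: the fixed space is of plus type) -/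
def Realz (ε : Bool) (i c d b : ℕ) : Prop :=
  1 ≤ b ∧ c * b ≤ 2 * d ∧ (c * b = 2 * d → typeC ε i b)

/-- an element of shape `b` (fixed space of dimension `2d - c b`) fixes a nondegenerate `m`-space of type `θ`:
`b'` of its blocks plus a nondegenerate `a'`-space of the fixed space, with the type constraints in the two
extreme cases `a' = 0` and `a' = 2d - c b` -/
def FixC (ε θ : Bool) (i c d m b : ℕ) : Prop :=
  ∃ b' a' : ℕ, a' + c * b' = m ∧ b' ≤ b ∧ a' + c * b ≤ 2 * d ∧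
    (a' = 0 → (tNP i b' ↔ θ = true)) ∧
    (a' + c * b = 2 * d → ((typeC ε i b ↔ tNP i b') ↔ θ = true))

/-- the combinatorial criterion: every realisable shape fixes a type-`θ` `m`-space -/
def CritE (ε θ : Bool) (i c d m : ℕ) : Prop := ∀ b, Realz ε i c d b → FixC ε θ i c d m b

/-- the weak consequence of `r ∣ #Ω` (`s = m / 2`):
`r ∣ (q^d - ε)(q^(d-s) + εθ) ∏_{d-s < j < d} (q^(2j) - 1)` in terms of `i = ord_r(q)` -/
def HDiv (ε θ : Bool) (i d s : ℕ) : Prop :=
  (if ε = true then i ∣ d else (i ∣ 2 * d ∧ ¬ i ∣ d)) ∨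
  (if ε = θ then (i ∣ 2 * (d - s) ∧ ¬ i ∣ (d - s)) else i ∣ (d - s)) ∨
  ∃ j, d - s + 1 ≤ j ∧ j < d ∧ i ∣ 2 * j

/-- `(q^d - ε)(q^(d-s) + εθ) ∏_{d-s < j < d} (q^(2j) - 1)` -/
def wkE (ε θ : Bool) (q d s : ℕ) : ℕ :=
  Cfsg.Agent.S5989P.epsFac ε q d * Cfsg.Agent.S5989P.epsFac (!(ε == θ)) q (d - s) *
    ∏ j ∈ Finset.Ico (d - s + 1) d, (q ^ (2 * j) - 1)

/-- frozen closed form of S5974 (`ε = +`, `θ = +`) for odd `r ≠ p` -/
def Closed74 (i c d m : ℕ) : Prop :=
  (Odd i ∧ c ≤ m ∧ m % c ≤ (2 * d) % c) ∨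
  (Even i ∧
    (((2 * d) % c = 0 ∧ (Odd ((2 * d) / i) ∨ (m % c = 0 ∧ Even (m / i)))) ∨
     (i ≤ m ∧ ((m % c < (2 * d) % c ∧ 0 < m % c) ∨
               ((2 * d) % c = m % c ∧ 0 < m % c ∧ Even ((2 * d + m - 2 * ((2 * d) % c)) / i)) ∨
               (0 < (2 * d) % c ∧ m % c = 0 ∧ Even (m / i))))))

/-- frozen closed form of S5988 (`ε = +`, `θ = -`) for odd `r ≠ p` -/
def Closed88 (i c d m : ℕ) : Prop :=
  (Odd i ∧ c ≤ m ∧ 0 < m % c ∧ m % c < (2 * d) % c) ∨
  (Even i ∧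
    (((2 * d) % c = 0 ∧ (Odd ((2 * d) / i) ∨ (m % c = 0 ∧ Odd (m / i)))) ∨
     (i ≤ m ∧ ((0 < m % c ∧ m % c < (2 * d) % c) ∨
               (0 < m % c ∧ m % c = (2 * d) % c ∧ Odd ((2 * d + m - 2 * ((2 * d) % c)) / i)) ∨
               (m % c = 0 ∧ 0 < (2 * d) % c ∧ Odd (m / i))))))

/-- frozen closed form of S5990 (`ε = -`, `θ = -`) for odd `r ≠ p` -/
def Closed90 (i c d m : ℕ) : Prop :=
  (Odd i ∧ ((2 * d) % c = 0 ∨ (c ≤ m ∧ 0 < m % c ∧ m % c ≤ (2 * d) % c))) ∨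
  (Even i ∧
    (((2 * d) % c = 0 ∧ (Even ((2 * d) / i) ∨ (m % c = 0 ∧ Odd (m / i)))) ∨
     (0 < (2 * d) % c ∧ i ≤ m ∧ ((0 < m % c ∧ m % c < (2 * d) % c) ∨ (m % c = 0 ∧ Odd (m / i)) ∨
        (m % c = (2 * d) % c ∧ Even ((2 * d + m - 2 * ((2 * d) % c)) / i))))))

/-- `r = 2`, `q` odd: every `x ∈ Ω^ε_{2d}(q)` with `x²` scalar fixes a type-`θ` `m`-space iff no `x` with
`x² = -1` lies in `Ω` (`R2cond`, helper27) or such `x` fix type-`θ` spaces (`(-1)^(m/2)` square iff `θ = +`) -/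
def Cond2 (ε θ : Bool) (q d m : ℕ) : Prop :=
  Cfsg.Agent.S5989P.R2cond ε d q ∨ ((m % 4 = 0 ∨ q % 4 = 1) ↔ θ = true)

/-- `r = p = 2`: every involution of `Ω^ε_{2d}(q)` fixes a type-`θ` `m`-space (for `(ε, θ) ≠ (-, +)`) -/
def Cond22 (ε θ : Bool) (d m : ℕ) : Prop :=
  if ε = true then (if θ = true then (Odd d ∨ m % 4 = 0) else False)
  else (Even d ∨ m % 4 = 2)

end Cfsg.Agent.S5974P
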