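import Mathlib
import Cfsg.Agent.Helper4.SUnModel
import Cfsg.Agent.Helper16.SUnSPOW

set_option autoImplicit false

/-! S2282 piece P4 (UPVEC): rows/columns of the Cayley transform `Up`, seed vector, kernel of
`Up - 1`.  Self-contained on top of P2 (the few facts of P3 that are needed are reproved here under
`p4_` names). -/

namespace Cfsg.Agent.Helper16.SUn

open Matrix Cfsg.Agent.Helper4.SUn

variable {K : Type*} [Field K] (σ : K →+* K) (k : ℕ)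

theorem p4_GS_eq (ν : K) :
    GS k ν = ∑ t ∈ Finset.range (2 * k + 5),
      (ν • (SS k : Matrix (Fin (2 * k + 5)) (Fin (2 * k + 5)) K)) ^ t := by
  unfold GS
  apply Finset.sum_congr rfl
  intro t _
  rw [smul_pow]

theorem p4_smul_SS_pow_eq_zero (ν : K) :
    (ν • (SS k : Matrix (Fin (2 * k + 5)) (Fin (2 * k + 5)) K)) ^ (2 * k + 5) = 0 := by
  rw [smul_pow, SS_pow_eq_zero k (2 * k + 5) (by omega), smul_zero]

theorem p4_GS_mul (ν : K) :
    (1 - ν • (SS k : Matrix (Fin (2 * k + 5)) (Fin (2 * k + 5)) K)) * GS k ν = 1 := by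
  rw [p4_GS_eq, mul_neg_geom_sum, p4_smul_SS_pow_eq_zero, sub_zero]

theorem p4_mul_GS (ν : K) :
    GS k ν * (1 - ν • (SS k : Matrix (Fin (2 * k + 5)) (Fin (2 * k + 5)) K)) = 1 := by
  rw [p4_GS_eq, geom_sum_mul_neg, p4_smul_SS_pow_eq_zero, sub_zero]

/-- `GS = 1 + ν S GS` -/
theorem p4_GS_rec (ν : K) :
    GS k ν = 1 + ν • ((SS k : Matrix (Fin (2 * k + 5)) (Fin (2 * k + 5)) K) * GS k ν) := by
  have h := p4_GS_mul k ν
  rw [sub_mul, one_mul, smul_mul_assoc] at h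
  rw [← h]
  abel

/-- entries of `S * GS` -/
theorem p4_SG_apply (ν : K) (i j : Fin (2 * k + 5)) :
    ((SS k : Matrix (Fin (2 * k + 5)) (Fin (2 * k + 5)) K) * GS k ν) i j =
      if 1 ≤ (i : ℕ) ∧ (i : ℕ) < (j : ℕ) ∧ (j : ℕ) ≤ 2 * k + 3 then ν ^ ((j : ℕ) - (i : ℕ) - 1)
      else 0 := by
  have h1 : (SS k : Matrix (Fin (2 * k + 5)) (Fin (2 * k + 5)) K) * GS k ν =
      ∑ t ∈ Finset.range (2 * k + 5), ν ^ t • (SS k : Matrix _ _ K) ^ (t + 1) := by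
    unfold GS
    rw [Finset.mul_sum]
    apply Finset.sum_congr rfl
    intro t _
    rw [mul_smul_comm, pow_succ']
  rw [h1, Matrix.sum_apply]
  have h2 : ∀ t ∈ Finset.range (2 * k + 5),
      (ν ^ t • (SS k : Matrix (Fin (2 * k + 5)) (Fin (2 * k + 5)) K) ^ (t + 1)) i j =
        if (j : ℕ) = (i : ℕ) + (t + 1) ∧ 1 ≤ (i : ℕ) ∧ (j : ℕ) ≤ 2 * k + 3 then ν ^ t else 0 := by
    intro t _
    rw [SS_pow k (t + 1) (by omega), Matrix.smul_apply, Matrix.of_apply, smul_eq_mul, mul_ite,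
      mul_one, mul_zero]
  rw [Finset.sum_congr rfl h2]
  by_cases hc : 1 ≤ (i : ℕ) ∧ (i : ℕ) < (j : ℕ) ∧ (j : ℕ) ≤ 2 * k + 3
  · rw [if_pos hc, Finset.sum_eq_single ((j : ℕ) - (i : ℕ) - 1)]
    · rw [if_pos]
      refine ⟨by omega, hc.1, hc.2.2⟩
    · intro t _ hne
      rw [if_neg]
      rintro ⟨h, -, -⟩
      apply hne
      omega
    · intro h
      exfalso
      apply h
      rw [Finset.mem_range]
      have := j.2
      omega
  · rw [if_neg hc]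
    apply Finset.sum_eq_zero
    intro t _
    rw [if_neg]
    rintro ⟨h, h', h''⟩
    apply hc
    refine ⟨h', by omega, h''⟩

/-- `Up = 1 + (μ + σ μ) S GS` -/
theorem p4_Up_eq (μ : K) :
    Up σ k μ = 1 + (μ + σ μ) • ((SS k : Matrix (Fin (2 * k + 5)) (Fin (2 * k + 5)) K) * GS k (σ μ)) := by
  unfold Up BB
  rw [add_mul, one_mul, smul_mul_assoc]
  nth_rewrite 1 [p4_GS_rec k (σ μ)]
  rw [add_smul]
  abel

/-- `Upinv = 1 - (μ + σ μ) S GS(-μ)` -/
theorem p4_Upinv_eq (μ : K) :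
    Upinv σ k μ = 1 - (μ + σ μ) • ((SS k : Matrix (Fin (2 * k + 5)) (Fin (2 * k + 5)) K) * GS k (-μ)) := by
  unfold Upinv AA
  rw [sub_mul, one_mul, smul_mul_assoc]
  nth_rewrite 1 [p4_GS_rec k (-μ)]
  rw [add_smul, neg_smul]
  abel

theorem p4_Up_mulVec (μ : K) (v : Fin (2 * k + 5) → K) :
    Up σ k μ *ᵥ v = v + (μ + σ μ) •
      (((SS k : Matrix (Fin (2 * k + 5)) (Fin (2 * k + 5)) K) * GS k (σ μ)) *ᵥ v) := by
  rw [p4_Up_eq, Matrix.add_mulVec, Matrix.one_mulVec, Matrix.smul_mulVec]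

theorem p4_Upinv_mulVec (μ : K) (v : Fin (2 * k + 5) → K) :
    Upinv σ k μ *ᵥ v = v - (μ + σ μ) •
      (((SS k : Matrix (Fin (2 * k + 5)) (Fin (2 * k + 5)) K) * GS k (-μ)) *ᵥ v) := by
  rw [p4_Upinv_eq, Matrix.sub_mulVec, Matrix.one_mulVec, Matrix.smul_mulVec]

theorem p4_SG_mulVec_eps (ν : K) (j : Fin (2 * k + 5))
    (hj : (j : ℕ) ≤ 1 ∨ (j : ℕ) = 2 * k + 4) :
    ((SS k : Matrix (Fin (2 * k + 5)) (Fin (2 * k + 5)) K) * GS k ν) *ᵥ ε k j = 0 := by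
  ext i
  unfold ε
  rw [Matrix.mulVec_single_one, Pi.zero_apply, Matrix.col_apply, p4_SG_apply, if_neg]
  rintro ⟨h1, h2, h3⟩
  omega

theorem Up_mulVec_i0 (μ : K) (v : Fin (2 * k + 5) → K) : (Up σ k μ *ᵥ v) (i0 k) = v (i0 k) := by
  rw [p4_Up_mulVec, Pi.add_apply, Pi.smul_apply]
  have : ((((SS k : Matrix (Fin (2 * k + 5)) (Fin (2 * k + 5)) K) * GS k (σ μ)) *ᵥ v) (i0 k)) = 0 := by
    rw [Matrix.mulVec, dotProduct]
    apply Finset.sum_eq_zero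
    intro j _
    rw [p4_SG_apply, if_neg, zero_mul]
    rintro ⟨h1, -, -⟩
    simp only [i0_val] at h1
    omega
  rw [this, smul_zero, add_zero]

theorem Up_mulVec_iL (μ : K) (v : Fin (2 * k + 5) → K) : (Up σ k μ *ᵥ v) (iL k) = v (iL k) := by
  rw [p4_Up_mulVec, Pi.add_apply, Pi.smul_apply]
  have : ((((SS k : Matrix (Fin (2 * k + 5)) (Fin (2 * k + 5)) K) * GS k (σ μ)) *ᵥ v) (iL k)) = 0 := by
    rw [Matrix.mulVec, dotProduct]
    apply Finset.sum_eq_zero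
    intro j _
    rw [p4_SG_apply, if_neg, zero_mul]
    rintro ⟨h1, h2, h3⟩
    simp only [iL_val] at h2
    omega
  rw [this, smul_zero, add_zero]

theorem Up_eps_i0 (μ : K) : Up σ k μ *ᵥ ε k (i0 k) = ε k (i0 k) := by
  rw [p4_Up_mulVec, p4_SG_mulVec_eps k _ _ (Or.inl (by simp only [i0_val]; omega)), smul_zero, add_zero]

theorem Up_eps_i1 (μ : K) : Up σ k μ *ᵥ ε k (i1 k) = ε k (i1 k) := by
  rw [p4_Up_mulVec, p4_SG_mulVec_eps k _ _ (Or.inl (by simp only [i1_val]; omega)), smul_zero, add_zero]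

theorem Up_eps_iL (μ : K) : Up σ k μ *ᵥ ε k (iL k) = ε k (iL k) := by
  rw [p4_Up_mulVec, p4_SG_mulVec_eps k _ _ (Or.inr (by simp only [iL_val])), smul_zero, add_zero]

theorem Upinv_eps_iL (μ : K) : Upinv σ k μ *ᵥ ε k (iL k) = ε k (iL k) := by
  rw [p4_Upinv_mulVec, p4_SG_mulVec_eps k _ _ (Or.inr (by simp only [iL_val])), smul_zero, sub_zero]

theorem Up_row1 {μ : K} (hμ : μ + σ μ = 1) (j : Fin (2 * k + 5)) (h2 : 2 ≤ (j : ℕ))
    (hj : (j : ℕ) ≤ 2 * k + 3) : Up σ k μ (i1 k) j = (σ μ) ^ ((j : ℕ) - 2) := by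
  rw [p4_Up_eq, hμ, one_smul, Matrix.add_apply, p4_SG_apply, if_pos, Matrix.one_apply_ne, zero_add]
  · congr 1
  · intro h
    have := congrArg Fin.val h
    simp only [i1_val] at this
    omega
  · simp only [i1_val]
    omega

theorem Up_row1_iL (μ : K) : Up σ k μ (i1 k) (iL k) = 0 := by
  rw [p4_Up_eq, Matrix.add_apply, Matrix.smul_apply, p4_SG_apply, if_neg, Matrix.one_apply_ne,
    smul_zero, add_zero]
  · intro h
    have := congrArg Fin.val h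
    simp only [i1_val, iL_val] at this
    omega
  · simp only [i1_val, iL_val]
    omega

theorem p4_SS_mulVec_eps (j : Fin (2 * k + 5)) (h2 : 2 ≤ (j : ℕ)) (hj : (j : ℕ) ≤ 2 * k + 3) :
    (SS k : Matrix (Fin (2 * k + 5)) (Fin (2 * k + 5)) K) *ᵥ ε k j =
      ε k ⟨(j : ℕ) - 1, by omega⟩ := by
  ext i
  unfold ε
  rw [Matrix.mulVec_single_one, Matrix.col_apply]
  simp only [SS, Matrix.of_apply, Pi.single_apply]
  by_cases h : (i : ℕ) = (j : ℕ) - 1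
  · rw [if_pos, if_pos]
    · apply Fin.ext; exact h
    · omega
  · rw [if_neg, if_neg]
    · intro h'
      apply h
      rw [h']
    · omega

theorem p4_Up_mul_AA (μ : K) : Up σ k μ * AA σ k μ = BB k μ := by
  unfold Up AA
  rw [Matrix.mul_assoc, p4_mul_GS, Matrix.mul_one]

theorem Up_seed {μ : K} (hμ : μ + σ μ = 1) :
    Up σ k μ *ᵥ (ε k (iM1 k) - σ μ • ε k (iM k)) = ε k (iM1 k) + μ • ε k (iM k) := by
  have hS : (SS k : Matrix (Fin (2 * k + 5)) (Fin (2 * k + 5)) K) *ᵥ ε k (iM1 k) = ε k (iM k) := by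
    rw [p4_SS_mulVec_eps k (iM1 k) (by simp only [iM1_val]; omega) (by simp only [iM1_val]; omega)]
    congr 1
  have h1 : AA σ k μ *ᵥ ε k (iM1 k) = ε k (iM1 k) - σ μ • ε k (iM k) := by
    unfold AA
    rw [Matrix.sub_mulVec, Matrix.one_mulVec, Matrix.smul_mulVec, hS]
  have h2 : BB k μ *ᵥ ε k (iM1 k) = ε k (iM1 k) + μ • ε k (iM k) := by
    unfold BB
    rw [Matrix.add_mulVec, Matrix.one_mulVec, Matrix.smul_mulVec, hS]
  rw [← h1, Matrix.mulVec_mulVec, p4_Up_mul_AA, h2]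

theorem Up_sub_one_ker {μ : K} (hμ : μ + σ μ = 1) (v : Fin (2 * k + 5) → K)
    (hv : (Up σ k μ - 1) *ᵥ v = 0) (j : Fin (2 * k + 5)) (h2 : 2 ≤ (j : ℕ))
    (hj : (j : ℕ) ≤ 2 * k + 3) : v j = 0 := by
  have h1 : Up σ k μ - 1 = (SS k : Matrix (Fin (2 * k + 5)) (Fin (2 * k + 5)) K) * GS k (σ μ) := by
    rw [p4_Up_eq, hμ, one_smul, add_sub_cancel_left]
  rw [h1, ← Matrix.mulVec_mulVec] at hv
  set w := GS k (σ μ) *ᵥ v with hw
  have hvw : v = w := by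
    have h3 : (1 - σ μ • (SS k : Matrix (Fin (2 * k + 5)) (Fin (2 * k + 5)) K)) *ᵥ w = v := by
      rw [hw, Matrix.mulVec_mulVec, p4_GS_mul, Matrix.one_mulVec]
    rw [Matrix.sub_mulVec, Matrix.one_mulVec, Matrix.smul_mulVec, hv, smul_zero, sub_zero] at h3
    exact h3.symm
  rw [hvw]
  have h4 := congrFun hv ⟨(j : ℕ) - 1, by omega⟩
  rw [SS_mulVec, Pi.zero_apply, dif_pos] at h4
  · have : (⟨((⟨(j : ℕ) - 1, by omega⟩ : Fin (2 * k + 5)) : ℕ) + 1, by simp only []; omega⟩ : Fin (2 * k + 5)) = j := by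
      apply Fin.ext
      simp only []
      omega
    rw [this] at h4
    exact h4
  · simp only []
    omega

end Cfsg.Agent.Helper16.SUn
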