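import Mathlib
import Cfsg.Prelude.Def_OddOrderLocal

/-!
# Piece (T) for S4118 (helper13's plan): TI subgroup, conjugate of a nontrivial element landing in `O H`
-/

set_option autoImplicit false

namespace Cfsg.Agent.Helper16.TIHall

variable {G : Type*} [Group G] [Finite G]

/-- `|O ⊔ H : H|` divides `|O|` for `O` normal. -/
theorem relIndex_sup_dvd_card_left (H O : Subgroup G) [O.Normal] :
    H.relIndex (O ⊔ H) ∣ Nat.card O := by
  have h1 : Nat.card H * H.relIndex (O ⊔ H) = Nat.card (O ⊔ H : Subgroup G) := by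
    have := Subgroup.card_mul_index (H.subgroupOf (O ⊔ H))
    rw [Nat.card_congr (Subgroup.subgroupOfEquivOfLe le_sup_right).toEquiv] at this
    exact this
  have h2 : Nat.card O * O.relIndex H = Nat.card (O ⊔ H : Subgroup G) := by
    have := Subgroup.card_mul_index (O.subgroupOf (O ⊔ H))
    rw [Nat.card_congr (Subgroup.subgroupOfEquivOfLe le_sup_left).toEquiv] at this
    rw [← Subgroup.relIndex_sup_left]; exact this
  obtain ⟨k, hk⟩ := Subgroup.relIndex_dvd_card O H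
  have h3 : O.relIndex H * (k * H.relIndex (O ⊔ H)) = O.relIndex H * Nat.card O := by
    rw [← mul_assoc, ← hk, h1, ← h2, mul_comm]
  have hpos : 0 < O.relIndex H := Nat.pos_of_ne_zero Subgroup.index_ne_zero_of_finite
  exact ⟨k, (Nat.eq_of_mul_eq_mul_left hpos h3).symm.trans (mul_comm _ _)⟩

/-- **Piece (T)**. -/
theorem ti_mem_mul_normalizer (H O : Subgroup G) [O.Normal]
    (hTI : Cfsg.IsTISubset (H : Set G)) (hcop : (Nat.card O).Coprime (Nat.card H))
    (g h : G) (hh : h ∈ H) (h1 : h ≠ 1) (hmem : g * h * g⁻¹ ∈ O ⊔ H) :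
    ∃ y ∈ O, y⁻¹ * g ∈ Subgroup.normalizer (H : Set G) := by
  classical
  -- a power of prime order
  have ho1 : orderOf h ≠ 1 := fun e => h1 (orderOf_eq_one_iff.mp e)
  obtain ⟨p, hp, hpd⟩ := Nat.exists_prime_and_dvd ho1
  have : Fact p.Prime := ⟨hp⟩
  obtain ⟨k, hk⟩ : ∃ k : ℕ, k = orderOf h / p := ⟨_, rfl⟩
  have hord : orderOf (h ^ k) = p := hk ▸ orderOf_pow_orderOf_div (orderOf_pos h).ne' hpd
  have hk1 : h ^ k ≠ 1 := fun e => hp.one_lt.ne' (by rw [← hord, e, orderOf_one])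
  have hkH : h ^ k ∈ H := H.pow_mem hh k
  have hkmem : g * h ^ k * g⁻¹ ∈ O ⊔ H := by
    have : g * h ^ k * g⁻¹ = (g * h * g⁻¹) ^ k := by rw [conj_pow]
    rw [this]; exact Subgroup.pow_mem _ hmem k
  have hpH : p ∣ Nat.card H := hord ▸ Subgroup.orderOf_dvd_natCard H hkH
  have hpO : ¬ p ∣ Nat.card O := fun hdo =>
    hp.one_lt.ne' (Nat.eq_one_of_dvd_coprimes hcop hdo hpH)
  -- the action of ⟨b⟩ on (O ⊔ H) / H
  let X : Subgroup G := O ⊔ H
  let b : X := ⟨g * h ^ k * g⁻¹, hkmem⟩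
  have hb : orderOf b = p := by
    rw [← hord, ← Subgroup.orderOf_coe b]
    show orderOf (g * h ^ k * g⁻¹) = _
    exact ((SemiconjBy.conj_mk g (h ^ k)).orderOf_eq).symm
  have hPG : IsPGroup p (Subgroup.zpowers b) :=
    IsPGroup.of_card (n := 1) (by rw [Nat.card_zpowers, hb, pow_one])
  have hnd : ¬ p ∣ Nat.card (X ⧸ H.subgroupOf X) := fun hd =>
    hpO (hd.trans (relIndex_sup_dvd_card_left H O))
  obtain ⟨q, hq⟩ := hPG.nonempty_fixed_point_of_prime_not_dvd_card (X ⧸ H.subgroupOf X) hnd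
  induction q using QuotientGroup.induction_on with
  | H x =>
    have hfix := hq ⟨b, Subgroup.mem_zpowers b⟩
    have hfix' : ((b * x : X) : X ⧸ H.subgroupOf X) = (x : X ⧸ H.subgroupOf X) := hfix
    rw [QuotientGroup.eq, Subgroup.mem_subgroupOf] at hfix'
    -- hfix' : ((b * x)⁻¹ * x : G) ∈ H
    have hxX : (x : G) ∈ O ⊔ H := x.2
    obtain ⟨y, hy, h3, hh3, hyx⟩ := Subgroup.mem_sup_of_normal_left.mp hxX
    have hconj : ((x : G)⁻¹ * g) * h ^ k * ((x : G)⁻¹ * g)⁻¹ ∈ H := by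
      have h4 := H.inv_mem hfix'
      have : ((((b * x)⁻¹ * x : X) : G))⁻¹ = ((x : G)⁻¹ * g) * h ^ k * ((x : G)⁻¹ * g)⁻¹ := by
        simp [b, mul_assoc]
      rw [this] at h4; exact h4
    have hN : (x : G)⁻¹ * g ∈ Subgroup.normalizer (H : Set G) := by
      by_contra hcon
      exact hk1 (hTI _ hcon _ hkH hconj)
    refine ⟨y, hy, ?_⟩
    have h3N : h3 ∈ Subgroup.normalizer (H : Set G) := Subgroup.le_normalizer hh3
    have : y⁻¹ * g = h3 * ((x : G)⁻¹ * g) := by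
      rw [← hyx]; group
    rw [this]; exact Subgroup.mul_mem _ h3N hN

end Cfsg.Agent.Helper16.TIHall
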