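import Mathlib
import Cfsg.Prelude.Def_OddOrderLocal
import Cfsg.Agent.Helper16.TIHallT

/-!
# Piece (N) for S4118 (helper13's plan)
A normal subgroup `L ≥ O` with `L/O` a `π(H)`-group lies in `O H`, for a TI Hall subgroup `H`.
-/

set_option autoImplicit false

namespace Cfsg.Agent.Helper16.TIHall

variable {G : Type*} [Group G]

/-- `u ^ |K : O| ∈ O` for `u ∈ K`, `O ⊴ G`. -/
theorem pow_relIndex_mem_of_normal (O K : Subgroup G) [O.Normal] {u : G} (hu : u ∈ K) :
    u ^ O.relIndex K ∈ O := by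
  have h := Subgroup.pow_index_mem (O.subgroupOf K) (⟨u, hu⟩ : K)
  rw [Subgroup.mem_subgroupOf] at h
  simpa [Subgroup.relIndex] using h

/-- `u ^ |N(H) : H| ∈ H` for `u ∈ N(H)`. -/
theorem pow_index_mem_of_mem_normalizer (H : Subgroup G) {u : G}
    (hu : u ∈ Subgroup.normalizer (H : Set G)) :
    u ^ (H.subgroupOf (Subgroup.normalizer (H : Set G))).index ∈ H := by
  have h := Subgroup.pow_index_mem (H.subgroupOf (Subgroup.normalizer (H : Set G)))
    (⟨u, hu⟩ : Subgroup.normalizer (H : Set G))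
  rw [Subgroup.mem_subgroupOf] at h
  simpa using h

/-- Bezout: coprime powers in a subgroup. -/
theorem mem_of_pow_mem_of_coprime (X : Subgroup G) {u : G} {t n : ℕ} (hc : t.Coprime n)
    (ht : u ^ t ∈ X) (hn : u ^ n ∈ X) : u ∈ X := by
  have h1 : (1 : ℤ) = t * Nat.gcdA t n + n * Nat.gcdB t n := by
    have := Nat.gcd_eq_gcd_ab t n
    rw [hc.gcd_eq_one] at this
    exact_mod_cast this
  have h2 : u = (u ^ t) ^ (Nat.gcdA t n) * (u ^ n) ^ (Nat.gcdB t n) := by
    rw [← zpow_natCast u t, ← zpow_natCast u n, ← zpow_mul, ← zpow_mul, ← zpow_add, ← h1, zpow_one]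
  rw [h2]
  exact X.mul_mem (X.zpow_mem ht _) (X.zpow_mem hn _)

/-- **Piece (N)**. -/
theorem normal_pi_le_sup [Finite G] (H O L : Subgroup G) [O.Normal] [L.Normal]
    (hTI : Cfsg.IsTISubset (H : Set G))
    (hHall : (Nat.card H).Coprime (H.subgroupOf (Subgroup.normalizer (H : Set G))).index)
    (hcop : (Nat.card O).Coprime (Nat.card H)) (hOL : O ≤ L)
    (hpi : ∀ q : ℕ, q.Prime → q ∣ O.relIndex L → q ∣ Nat.card H) : L ≤ O ⊔ H := by
  classical
  by_contra hLX
  obtain ⟨K, hKdef⟩ : ∃ K : Subgroup G, K = L ⊔ H := ⟨_, rfl⟩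
  obtain ⟨X, hXdef⟩ : ∃ X : Subgroup G, X = O ⊔ H := ⟨_, rfl⟩
  have hLK : L ≤ K := hKdef ▸ le_sup_left
  have hHK : H ≤ K := hKdef ▸ le_sup_right
  have hOX : O ≤ X := hXdef ▸ le_sup_left
  have hHX : H ≤ X := hXdef ▸ le_sup_right
  have hXK : X ≤ K := hXdef ▸ sup_le (hOL.trans hLK) hHK
  have hOK : O ≤ K := hOL.trans hLK
  rw [← hXdef] at hLX
  -- every prime dividing |K : O| divides |H|
  have hpiK : ∀ q : ℕ, q.Prime → q ∣ O.relIndex K → q ∣ Nat.card H := by
    intro q hq hqd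
    rw [← Subgroup.relIndex_mul_relIndex O L K hOL hLK] at hqd
    rcases (Nat.Prime.dvd_mul hq).mp hqd with h | h
    · exact hpi q hq h
    · have : L.relIndex K = L.relIndex H := by rw [hKdef, Subgroup.relIndex_sup_left]
      rw [this] at h
      exact h.trans (Subgroup.relIndex_dvd_card L H)
  -- X ≠ K, prime p dividing |K : X|
  have hne1 : X.relIndex K ≠ 1 := by
    intro h1
    exact hLX (hLK.trans (Subgroup.relIndex_eq_one.mp h1))
  obtain ⟨p, hp, hpd⟩ := Nat.exists_prime_and_dvd hne1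
  have : Fact p.Prime := ⟨hp⟩
  have hpH : p ∣ Nat.card H := by
    apply hpiK p hp
    rw [← Subgroup.relIndex_mul_relIndex O X K hOX hXK]
    exact Dvd.dvd.mul_left hpd _
  -- element of order p in H
  obtain ⟨b0, hb0⟩ := exists_prime_orderOf_dvd_card' (G := H) p hpH
  have hb0' : orderOf (b0 : G) = p := by rw [Subgroup.orderOf_coe, hb0]
  have hbK : (b0 : G) ∈ K := hHK b0.2
  let b : K := ⟨(b0 : G), hbK⟩
  have hb : orderOf b = p := by
    rw [← hb0', ← Subgroup.orderOf_coe b]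
  have hPG : IsPGroup p (Subgroup.zpowers b) :=
    IsPGroup.of_card (n := 1) (by rw [Nat.card_zpowers, hb, pow_one])
  have hfix1 : ((1 : K) : K ⧸ X.subgroupOf K) ∈
      MulAction.fixedPoints (Subgroup.zpowers b) (K ⧸ X.subgroupOf K) := by
    rintro ⟨z, hz⟩
    show ((z * 1 : K) : K ⧸ X.subgroupOf K) = ((1 : K) : K ⧸ X.subgroupOf K)
    rw [QuotientGroup.eq, Subgroup.mem_subgroupOf]
    obtain ⟨i, rfl⟩ := Subgroup.mem_zpowers_iff.mp hz
    have : (b : G) ∈ X := hHX b0.2
    simpa using X.zpow_mem this i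
  obtain ⟨q, hq, hq1⟩ := hPG.exists_fixed_point_of_prime_dvd_card_of_fixed_point
    (K ⧸ X.subgroupOf K) hpd hfix1
  induction q using QuotientGroup.induction_on with
  | H k =>
    have hkX : (k : G) ∉ X := by
      intro hk
      apply hq1
      symm
      rw [QuotientGroup.eq, Subgroup.mem_subgroupOf]
      simpa using hk
    have hfix := hq ⟨b, Subgroup.mem_zpowers b⟩
    have hfix' : ((b * k : K) : K ⧸ X.subgroupOf K) = (k : K ⧸ X.subgroupOf K) := hfix
    rw [QuotientGroup.eq, Subgroup.mem_subgroupOf] at hfix'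
    have hconj : (k : G)⁻¹ * (b0 : G) * ((k : G)⁻¹)⁻¹ ∈ O ⊔ H := by
      have h4 := X.inv_mem hfix'
      have : ((((b * k)⁻¹ * k : K) : G))⁻¹ = (k : G)⁻¹ * (b0 : G) * ((k : G)⁻¹)⁻¹ := by
        simp [b, mul_assoc]
      rw [this, hXdef] at h4; exact h4
    have hb1 : (b0 : G) ≠ 1 := by
      intro e
      rw [e, orderOf_one] at hb0'
      exact hp.one_lt.ne hb0'
    obtain ⟨y, hy, hyN⟩ := ti_mem_mul_normalizer H O hTI hcop (k : G)⁻¹ (b0 : G) b0.2 hb1 hconj
    -- u := k * y ∈ N(H)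
    have huN : (k : G) * y ∈ Subgroup.normalizer (H : Set G) := by
      have := Subgroup.inv_mem _ hyN
      simpa [mul_inv_rev] using this
    have huK : (k : G) * y ∈ K := K.mul_mem k.2 (hOK hy)
    have huX : (k : G) * y ∉ X := by
      intro h
      apply hkX
      have := X.mul_mem h (X.inv_mem (hOX hy))
      simpa using this
    apply huX
    have hcop2 : (O.relIndex K).Coprime (H.subgroupOf (Subgroup.normalizer (H : Set G))).index := by
      apply Nat.Coprime.symm
      apply Nat.coprime_of_dvd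
      intro q hq hq1 hq2
      exact (Nat.Prime.coprime_iff_not_dvd hq).mp
        ((Nat.Coprime.coprime_dvd_left hq1 hHall.symm)) (hpiK q hq hq2)
    exact mem_of_pow_mem_of_coprime X hcop2 (hOX (pow_relIndex_mem_of_normal O K huK))
      (hHX (pow_index_mem_of_mem_normalizer H huN))

end Cfsg.Agent.Helper16.TIHall
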