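import Mathlib
import Cfsg.Prelude.Def_FischerSpaces
import Cfsg.Agent.Helper4.ThreeTransPrimC
import Cfsg.Agent.Helper4.ThreeTransS4

set_option autoImplicit false
set_option linter.unusedVariables false
set_option linter.unusedSectionVars false

/-!
# Fischer's rank-3 theorem for primitive 3-transposition groups: basic setting

`Prim D`: `D` is a conjugation-invariant generating set of 3-transpositions of `G` on which `G`
acts primitively by conjugation and in which two different members commute.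
-/

namespace Cfsg.Agent.Helper16.F3

open Cfsg.Agent.Helper4.ThreeTransPrim

variable {G : Type*} [Group G]

/-- The standing hypothesis of the rank-3 package. -/
structure Prim (D : Set G) : Prop where
  tt : Cfsg.IsThreeTranspositionGroup D
  prim : Cfsg.IsPrimitiveUnderConj D
  hw : ∃ a ∈ D, ∃ b ∈ D, a ≠ b ∧ Commute a b

variable {D : Set G}

theorem sq (hD : Cfsg.IsThreeTranspositionGroup D) {x : G} (hx : x ∈ D) : x * x = 1 := by
  have := pow_orderOf_eq_one x
  rw [hD.1.1 x hx, pow_two] at this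
  exact this

theorem inv_eq (hD : Cfsg.IsThreeTranspositionGroup D) {x : G} (hx : x ∈ D) : x⁻¹ = x :=
  inv_eq_of_mul_eq_one_left (sq hD hx)

theorem ne_one (hD : Cfsg.IsThreeTranspositionGroup D) {x : G} (hx : x ∈ D) : x ≠ 1 := by
  intro h
  have := hD.1.1 x hx
  rw [h, orderOf_one] at this
  omega

theorem conj_mem (hD : Cfsg.IsThreeTranspositionGroup D) (g : G) {x : G} (hx : x ∈ D) :
    g * x * g⁻¹ ∈ D := hD.2.1 g x hx

theorem conj_mem' (hD : Cfsg.IsThreeTranspositionGroup D) {y x : G} (hy : y ∈ D) (hx : x ∈ D) :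
    y * x * y ∈ D := by
  have := conj_mem hD y hx
  rwa [inv_eq hD hy] at this

theorem cube (hD : Cfsg.IsThreeTranspositionGroup D) {x y : G} (hx : x ∈ D) (hy : y ∈ D)
    (hnc : ¬ Commute x y) : (x * y) ^ 3 = 1 := by
  rcases hD.1.2 x hx y hy with h | h
  · exfalso
    apply hnc
    have h1 : x * y * (x * y) = 1 := by rw [← pow_two]; exact h
    have h2 : x * y = (x * y)⁻¹ := eq_inv_of_mul_eq_one_left h1
    rw [mul_inv_rev, inv_eq hD hx, inv_eq hD hy] at h2
    exact h2
  · exact h

/-- Braid relation for two non-commuting members. -/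
theorem braid (hD : Cfsg.IsThreeTranspositionGroup D) {x y : G} (hx : x ∈ D) (hy : y ∈ D)
    (hnc : ¬ Commute x y) : y * x * y = x * y * x := by
  have h := cube hD hx hy hnc
  have h1 : (x * y * x) * (y * x * y) = 1 := by
    rw [← h, pow_succ, pow_two]; group
  have h2 : y * x * y = (x * y * x)⁻¹ := eq_inv_of_mul_eq_one_right h1
  rw [h2, mul_inv_rev, mul_inv_rev, inv_eq hD hx, inv_eq hD hy, mul_assoc]

/-- For non-commuting `x, y` in `D`, the third transposition `z = y x y` of the `S₃` they generate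
lies in `D`, swaps `x` and `y`, and commutes with neither. -/
theorem third (hD : Cfsg.IsThreeTranspositionGroup D) {x y : G} (hx : x ∈ D) (hy : y ∈ D)
    (hnc : ¬ Commute x y) :
    y * x * y ∈ D ∧ (y * x * y) * x * (y * x * y)⁻¹ = y ∧ ¬ Commute (y * x * y) x ∧
      ¬ Commute (y * x * y) y := by
  have hb := braid hD hx hy hnc
  have hx2 := sq hD hx
  have hy2 := sq hD hy
  have hz : y * x * y ∈ D := conj_mem' hD hy hx
  have hswap : (y * x * y) * x * (y * x * y)⁻¹ = y := by
    rw [inv_eq hD hz]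
    calc y * x * y * x * (y * x * y) = (y * x * y) * x * (x * y * x) := by rw [hb]
      _ = y * x * y * (x * x) * y * x := by group
      _ = y * x * (y * y) * x := by rw [hx2, mul_one]; group
      _ = y := by rw [hy2, mul_one, mul_assoc, hx2, mul_one]
  refine ⟨hz, hswap, ?_, ?_⟩
  · intro hc
    -- z x z⁻¹ = x then, so x = y
    have : (y * x * y) * x * (y * x * y)⁻¹ = x := by
      rw [hc.eq, mul_inv_cancel_right]
    rw [hswap] at this
    exact hnc (this ▸ Commute.refl x)
  · intro hc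
    -- y commutes with y x y, so with x
    have h1 : y * (y * x * y) = (y * x * y) * y := hc.eq.symm
    have h2 : x * y = y * x := by
      calc x * y = (y * y) * x * y := by rw [hy2, one_mul]
        _ = y * (y * x * y) := by group
        _ = (y * x * y) * y := h1
        _ = y * x * (y * y) := by group
        _ = y * x := by rw [hy2, mul_one]
    exact hnc h2

theorem exists_conj (h : Prim D) {x y : G} (hx : x ∈ D) (hy : y ∈ D) : ∃ g : G, g * x * g⁻¹ = y :=
  h.prim.1 x hx y hy

theorem ne_of_not_commute {x y : G} (hnc : ¬ Commute x y) : x ≠ y := by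
  rintro rfl
  exact hnc (Commute.refl x)

/-- Maximality of the centralizer of a member of `D`. -/
theorem centralizer_max (h : Prim D) {d : G} (hd : d ∈ D) (H : Subgroup G)
    (hC : ∀ g : G, Commute g d → g ∈ H) {x : G} (hx : x ∈ H) (hnx : ¬ Commute x d) : H = ⊤ := by
  have hD := h.tt
  set B : Set G := {y | ∃ k ∈ H, y = k * d * k⁻¹} with hB
  have hBD : B ⊆ D := by
    rintro y ⟨k, -, rfl⟩
    exact conj_mem hD k hd
  have hblock : ∀ g : G, (fun y => g * y * g⁻¹) '' B = B ∨
      Disjoint ((fun y => g * y * g⁻¹) '' B) B := by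
    intro g
    by_cases hdis : Disjoint ((fun y => g * y * g⁻¹) '' B) B
    · exact Or.inr hdis
    left
    rw [Set.not_disjoint_iff] at hdis
    obtain ⟨y, ⟨_, ⟨k1, hk1, rfl⟩, rfl⟩, ⟨k2, hk2, hy⟩⟩ := hdis
    have hcomm : Commute (k2⁻¹ * g * k1) d := by
      have e : (k2⁻¹ * g * k1) * d * (k2⁻¹ * g * k1)⁻¹ = d := by
        have : g * (k1 * d * k1⁻¹) * g⁻¹ = k2 * d * k2⁻¹ := hy
        calc (k2⁻¹ * g * k1) * d * (k2⁻¹ * g * k1)⁻¹
            = k2⁻¹ * (g * (k1 * d * k1⁻¹) * g⁻¹) * k2 := by group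
          _ = k2⁻¹ * (k2 * d * k2⁻¹) * k2 := by rw [this]
          _ = d := by group
      have e' : (k2⁻¹ * g * k1) * d = d * (k2⁻¹ * g * k1) := by
        calc (k2⁻¹ * g * k1) * d = ((k2⁻¹ * g * k1) * d * (k2⁻¹ * g * k1)⁻¹) * (k2⁻¹ * g * k1) := by
              group
          _ = d * (k2⁻¹ * g * k1) := by rw [e]
      exact e'
    have hgH : g ∈ H := by
      have h1 := hC _ hcomm
      have h2 : g = k2 * (k2⁻¹ * g * k1) * k1⁻¹ := by group
      rw [h2]
      exact H.mul_mem (H.mul_mem hk2 h1) (H.inv_mem hk1)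
    apply Set.Subset.antisymm
    · rintro _ ⟨_, ⟨k, hk, rfl⟩, rfl⟩
      exact ⟨g * k, H.mul_mem hgH hk, by group⟩
    · rintro _ ⟨k, hk, rfl⟩
      exact ⟨(g⁻¹ * k) * d * (g⁻¹ * k)⁻¹, ⟨g⁻¹ * k, H.mul_mem (H.inv_mem hgH) hk, rfl⟩, by group⟩
  rcases h.prim.2.2 B hBD hblock with hsub | hBeq
  · exfalso
    have h1 : d ∈ B := ⟨1, H.one_mem, by group⟩
    have h2 : x * d * x⁻¹ ∈ B := ⟨x, hx, rfl⟩
    have h3 := hsub h2 h1
    apply hnx
    have : x * d = d * x := by
      calc x * d = (x * d * x⁻¹) * x := by group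
        _ = d * x := by rw [h3]
    exact this
  · rw [eq_top_iff]
    intro g _
    have h1 : g * d * g⁻¹ ∈ B := by rw [hBeq]; exact conj_mem hD g hd
    obtain ⟨k, hk, hgk⟩ := h1
    have hcomm : Commute (k⁻¹ * g) d := by
      have e : (k⁻¹ * g) * d * (k⁻¹ * g)⁻¹ = d := by
        calc (k⁻¹ * g) * d * (k⁻¹ * g)⁻¹ = k⁻¹ * (g * d * g⁻¹) * k := by group
          _ = k⁻¹ * (k * d * k⁻¹) * k := by rw [hgk]
          _ = d := by group
      have e' : (k⁻¹ * g) * d = d * (k⁻¹ * g) := by
        calc (k⁻¹ * g) * d = ((k⁻¹ * g) * d * (k⁻¹ * g)⁻¹) * (k⁻¹ * g) := by group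
          _ = d * (k⁻¹ * g) := by rw [e]
      exact e'
    have h2 : g = k * (k⁻¹ * g) := by group
    rw [h2]
    exact H.mul_mem hk (hC _ hcomm)

/-- A conjugation-invariant equivalence relation on `D` relating two different members is
universal. -/
theorem rel_univ (h : Prim D) (R : G → G → Prop) (hrefl : ∀ x ∈ D, R x x)
    (hsymm : ∀ x y, R x y → R y x) (htrans : ∀ x y z, R x y → R y z → R x z)
    (hinv : ∀ g x y, R x y → R (g * x * g⁻¹) (g * y * g⁻¹)) {x y : G} (hx : x ∈ D) (hy : y ∈ D)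
    (hne : x ≠ y) (hR : R x y) : ∀ u ∈ D, ∀ v ∈ D, R u v := by
  have hD := h.tt
  have hblk := block_of_invariant_rel (D := D) hD.2.1 R hsymm htrans hinv x
  have hsub : {z | z ∈ D ∧ R x z} ⊆ D := fun z hz => hz.1
  rcases h.prim.2.2 _ hsub hblk with hs | he
  · exfalso
    exact hne (hs ⟨hx, hrefl x hx⟩ ⟨hy, hR⟩)
  · intro u hu v hv
    have h1 : u ∈ {z | z ∈ D ∧ R x z} := by rw [he]; exact hu
    have h2 : v ∈ {z | z ∈ D ∧ R x z} := by rw [he]; exact hv
    exact htrans _ _ _ (hsymm _ _ h1.2) h2.2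

/-- Every member of `D` commutes with some other member. -/
theorem exists_comm (h : Prim D) {d : G} (hd : d ∈ D) : ∃ e ∈ D, e ≠ d ∧ Commute e d := by
  obtain ⟨a, ha, b, hb, hab, hc⟩ := h.hw
  obtain ⟨g, hg⟩ := exists_conj h ha hd
  refine ⟨g * b * g⁻¹, conj_mem h.tt g hb, ?_, ?_⟩
  · intro he
    apply hab
    have : g * b * g⁻¹ = g * a * g⁻¹ := by rw [he, hg]
    have h2 := mul_right_cancel this
    exact (mul_left_cancel h2).symm
  · rw [← hg]
    exact (Commute.conj_iff g).mpr hc.symm

/-- Every member of `D` fails to commute with some member. -/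
theorem exists_noncomm (h : Prim D) {d : G} (hd : d ∈ D) : ∃ a ∈ D, ¬ Commute a d := by
  by_contra hcon
  push Not at hcon
  obtain ⟨e, he, hne, -⟩ := exists_comm h hd
  obtain ⟨g, hg⟩ := exists_conj h hd he
  -- d is central as D generates
  have hcen : d ∈ Subgroup.center G := by
    have : Subgroup.closure D ≤ Subgroup.centralizer {d} := by
      rw [Subgroup.closure_le]
      intro a ha
      rw [SetLike.mem_coe, Subgroup.mem_centralizer_iff]
      intro y hy
      rw [Set.mem_singleton_iff] at hy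
      subst hy
      exact (hcon a ha).eq.symm
    rw [h.tt.2.2] at this
    rw [Subgroup.mem_center_iff]
    intro k
    have hk := this (Subgroup.mem_top k)
    rw [Subgroup.mem_centralizer_iff] at hk
    exact (hk d rfl).symm
  apply hne
  rw [← hg]
  rw [Subgroup.mem_center_iff] at hcen
  rw [hcen g, mul_inv_cancel_right]

end Cfsg.Agent.Helper16.F3
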