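import Mathlib
import Cfsg.Agent.Helper7.K2M.Defs2
import Cfsg.Agent.Helper4.K2MQB

/-! # S5694 `k = 2` minus, piece S-PAIR (driver helper7): the binary pigeonhole -/

set_option autoImplicit false
set_option linter.unusedSectionVars false
set_option linter.unusedVariables false

namespace Cfsg.Agent.K2M

open Matrix Cfsg.Agent.OC2P Cfsg.Agent.Helper28.Sg Cfsg.Agent.Helper28.Spin
  Cfsg.Agent.Helper12.OrthGen

variable {F : Type*} [Field F] [Fintype F] {t : ℕ} {Q : QuadraticForm F (Fin t × Fin 2 → F)}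
  {q : QuadraticForm F (Fin 2 → F)}

/-- a nonzero vector of the plane orthogonal to `a` -/
theorem SPAIR.exists_perp (q : QuadraticForm F (Fin 2 → F)) (a : Fin 2 → F) :
    ∃ e : Fin 2 → F, e ≠ 0 ∧ QuadraticMap.polar ⇑q a e = 0 := by
  obtain ⟨L, hL⟩ : ∃ L : (Fin 2 → F) →ₗ[F] F, ∀ x, L x = QuadraticMap.polar ⇑q a x :=
    ⟨QuadraticMap.polarBilin q a, fun x => rfl⟩
  have hker : LinearMap.ker L ≠ ⊥ := by
    apply LinearMap.ker_ne_bot_of_finrank_lt
    rw [Module.finrank_self, Module.finrank_fin_fun]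
    norm_num
  obtain ⟨e, he, he0⟩ := Submodule.exists_mem_ne_zero_of_ne_bot hker
  refine ⟨e, he0, ?_⟩
  rw [← hL]
  exact LinearMap.mem_ker.mp he

/-- the value set of `q` on the affine line `{d | polar q a d = 1}` has at least `|F| / 2` elements -/
theorem SPAIR.half (bm : BM Q q) {a : Fin 2 → F} (ha : a ≠ 0) :
    ∃ V : Finset F, (∀ c ∈ V, c ≠ 0 ∧ ∃ d : Fin 2 → F, QuadraticMap.polar ⇑q a d = 1 ∧ q d = c) ∧
      Fintype.card F ≤ 2 * V.card := by
  classical
  obtain ⟨d₀, hd₀⟩ := QB.exists_polar_ne bm ha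
  obtain ⟨e, he0, he⟩ := SPAIR.exists_perp q a
  have hqe : q e ≠ 0 := fun h => he0 (bm.aniso e h)
  obtain ⟨f, hf⟩ : ∃ f : F → F, ∀ s, f s = q (d₀ + s • e) := ⟨_, fun s => rfl⟩
  have hpol : ∀ s : F, QuadraticMap.polar ⇑q a (d₀ + s • e) = 1 := by
    intro s
    rw [QuadraticMap.polar_add_right, QuadraticMap.polar_smul_right, he, hd₀, smul_zero, add_zero]
  have hexp : ∀ s, f s = q d₀ + s ^ 2 * q e + s * QuadraticMap.polar ⇑q d₀ e := by
    intro s
    rw [hf, Cfsg.Agent.Helper28.map_add_smul]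
  refine ⟨Finset.univ.image f, ?_, ?_⟩
  · intro c hc
    obtain ⟨s, _, rfl⟩ := Finset.mem_image.mp hc
    refine ⟨?_, d₀ + s • e, hpol s, (hf s).symm⟩
    intro h0
    rw [hf] at h0
    have := bm.aniso _ h0
    have h1 := hpol s
    rw [this] at h1
    simp at h1
  · have hfib : ∀ c ∈ Finset.univ.image f, (Finset.univ.filter (fun s => f s = c)).card ≤ 2 := by
      intro c hc
      obtain ⟨s₀, _, rfl⟩ := Finset.mem_image.mp hc
      have hsub : Finset.univ.filter (fun s => f s = f s₀) ⊆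
          {s₀, - (QuadraticMap.polar ⇑q d₀ e) / q e - s₀} := by
        intro s hs
        rw [Finset.mem_filter] at hs
        have h1 := hs.2
        rw [hexp, hexp] at h1
        have h2 : (s - s₀) * (q e * (s + s₀) + QuadraticMap.polar ⇑q d₀ e) = 0 := by
          linear_combination h1
        rw [Finset.mem_insert, Finset.mem_singleton]
        rcases mul_eq_zero.mp h2 with h3 | h3
        · left
          exact sub_eq_zero.mp h3
        · right
          field_simp
          linear_combination h3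
      exact le_trans (Finset.card_le_card hsub) Finset.card_le_two
    have := Finset.card_le_mul_card_image (s := (Finset.univ : Finset F)) (f := f) 2 hfib
    rwa [Finset.card_univ] at this

/-- S-PAIR -/
theorem SPAIR.main (bm : BM Q q) {a a' : Fin 2 → F} (ha : a ≠ 0) (ha' : a' ≠ 0) :
    ∃ d d' : Fin 2 → F, QuadraticMap.polar ⇑q a d = 1 ∧ QuadraticMap.polar ⇑q a' d' = 1 ∧
      q d' = - q d := by
  classical
  obtain ⟨V, hV, hVc⟩ := SPAIR.half bm ha
  obtain ⟨V', hV', hVc'⟩ := SPAIR.half bm ha'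
  obtain ⟨W, hW⟩ : ∃ W : Finset F, W = V'.image (fun c => -c) := ⟨_, rfl⟩
  have hWc : W.card = V'.card := by
    rw [hW]
    exact Finset.card_image_of_injective _ neg_injective
  have hVN : V ⊆ (Finset.univ : Finset F).erase 0 := by
    intro c hc
    rw [Finset.mem_erase]
    exact ⟨(hV c hc).1, Finset.mem_univ _⟩
  have hWN : W ⊆ (Finset.univ : Finset F).erase 0 := by
    intro c hc
    rw [hW] at hc
    obtain ⟨c', hc', rfl⟩ := Finset.mem_image.mp hc
    rw [Finset.mem_erase]
    exact ⟨neg_ne_zero.mpr (hV' c' hc').1, Finset.mem_univ _⟩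
  have hN : ((Finset.univ : Finset F).erase 0).card = Fintype.card F - 1 := by
    rw [Finset.card_erase_of_mem (Finset.mem_univ _), Finset.card_univ]
  have hpos : 0 < Fintype.card F := Fintype.card_pos
  have hlt : ((Finset.univ : Finset F).erase 0).card < V.card + W.card := by
    rw [hN, hWc]
    omega
  obtain ⟨c, hc⟩ := Finset.inter_nonempty_of_card_lt_card_add_card hVN hWN hlt
  rw [Finset.mem_inter] at hc
  obtain ⟨d, hd1, hd2⟩ := (hV c hc.1).2
  have hcW := hc.2
  rw [hW] at hcW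
  obtain ⟨c', hc', hcc'⟩ := Finset.mem_image.mp hcW
  obtain ⟨d', hd1', hd2'⟩ := (hV' c' hc').2
  refine ⟨d, d', hd1, hd1', ?_⟩
  rw [hd2, hd2', ← hcc', neg_neg]

end Cfsg.Agent.K2M
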