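import Mathlib
import Cfsg.Agent.Helper7.K2M.Defs2
import Cfsg.Agent.Helper16.K2MSPAIR

/-! # S5694 `k = 2` minus, piece INV-PERPV (driver helper27) -/

set_option autoImplicit false
set_option linter.unusedSectionVars false
set_option linter.unusedVariables false

namespace Cfsg.Agent.K2M

open Matrix Cfsg.Agent.OC2P Cfsg.Agent.Helper28.Sg Cfsg.Agent.Helper28.Spin
  Cfsg.Agent.Helper12.OrthGen

variable {F : Type*} [Field F] [Fintype F] {t : ℕ} {Q : QuadraticForm F (Fin t × Fin 2 → F)}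
  {q : QuadraticForm F (Fin 2 → F)}

/-- a nonzero vector of the plane orthogonal to `a` -/
theorem PERPV.main (bm : BM Q q) (a : Fin 2 → F) :
    ∃ b : Fin 2 → F, b ≠ 0 ∧ QuadraticMap.polar ⇑q b a = 0 := by
  obtain ⟨e, he0, he⟩ := SPAIR.exists_perp q a
  exact ⟨e, he0, by rw [QuadraticMap.polar_comm]; exact he⟩

end Cfsg.Agent.K2M
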