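import Mathlib
import Cfsg.Agent.Helper7.K2M.Defs2

/-! # S5694 `k = 2` minus, piece INV-SQ3 (driver helper27) -/

set_option autoImplicit false
set_option linter.unusedSectionVars false
set_option linter.unusedVariables false

namespace Cfsg.Agent.K2M

open Matrix Cfsg.Agent.OC2P Cfsg.Agent.Helper28.Sg Cfsg.Agent.Helper28.Spin
  Cfsg.Agent.Helper12.OrthGen

variable {F : Type*} [Field F] [Fintype F] {t : ℕ} {Q : QuadraticForm F (Fin t × Fin 2 → F)}
  {q : QuadraticForm F (Fin 2 → F)}

/-- the product of two non-squares of a finite field is a square -/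
theorem SQ3.isSquare_mul_of_not {a b : F} (ha : ¬ IsSquare a) (hb : ¬ IsSquare b) :
    IsSquare (a * b) := by
  classical
  have ha0 : a ≠ 0 := by rintro rfl; exact ha IsSquare.zero
  have hb0 : b ≠ 0 := by rintro rfl; exact hb IsSquare.zero
  rw [← quadraticChar_one_iff_isSquare (mul_ne_zero ha0 hb0), map_mul,
    quadraticChar_neg_one_iff_not_isSquare.2 ha, quadraticChar_neg_one_iff_not_isSquare.2 hb]
  norm_num

/-- among three nonzero scalars of a finite field two have a square product -/
theorem SQ3.main {α β γ : F} (hα : α ≠ 0) (hβ : β ≠ 0) (hγ : γ ≠ 0) :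
    IsSquare (α * β) ∨ IsSquare (α * γ) ∨ IsSquare (β * γ) := by
  by_cases h1 : IsSquare (α * β)
  · exact Or.inl h1
  by_cases h2 : IsSquare (α * γ)
  · exact Or.inr (Or.inl h2)
  right; right
  obtain ⟨r, hr⟩ := SQ3.isSquare_mul_of_not h1 h2
  refine ⟨r / α, ?_⟩
  rw [div_mul_div_comm, ← hr]
  field_simp

end Cfsg.Agent.K2M
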