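import Mathlib
import Cfsg.Agent.Helper14.GLk.Defs
import Cfsg.Agent.Helper14.SLk.Defs

/-! S2479 piece IDXDVD: the index of `D t` divides `q - 1` and every part. -/

set_option autoImplicit false

open Polynomial DirectSum Cfsg.Agent.S2478P

universe u

namespace Cfsg.Agent.S2479P

theorem IDXDVD.index_range_pow_dvd {G : Type*} [CommGroup G] [IsCyclic G] (m : ℕ) :
    (powMonoidHom m : G →* G).range.index ∣ m := by
  set H := (powMonoidHom m : G →* G).range
  have h1 : Monoid.exponent (G ⧸ H) ∣ m := by
    apply Monoid.exponent_dvd_of_forall_pow_eq_one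
    intro g
    induction g using QuotientGroup.induction_on with
    | H x =>
      rw [← QuotientGroup.mk_pow, QuotientGroup.eq_one_iff]
      exact ⟨x, rfl⟩
  have : IsCyclic (G ⧸ H) :=
    isCyclic_of_surjective (QuotientGroup.mk' H) (QuotientGroup.mk'_surjective H)
  rw [Subgroup.index, ← IsCyclic.exponent_eq_card]
  exact h1

theorem idx_dvd {F : Type*} [Field F] [Fintype F] (t : ℕ → F[X]) :
    idx t ∣ Fintype.card F - 1 ∧ ∀ m ∈ parts t, idx t ∣ m := by
  classical
  constructor
  · have := (D t).index_dvd_card
    rwa [Nat.card_eq_fintype_card, Fintype.card_units] at this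
  · intro m hm
    have hle : (powMonoidHom m : Fˣ →* Fˣ).range ≤ D t := by
      unfold D
      exact le_iSup₂ (f := fun m (_ : m ∈ parts t) => (powMonoidHom m : Fˣ →* Fˣ).range) m hm
    exact (Subgroup.index_dvd_of_le hle).trans (IDXDVD.index_range_pow_dvd m)

end Cfsg.Agent.S2479P
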