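import Mathlib
import Cfsg.Prelude.Def_ClassicalGeometry
import Cfsg.Prelude.Def_GeometricClasses
import Cfsg.Agent.Helper16.S5972Defs
import Cfsg.Agent.Helper23.S5961STRUCT

set_option autoImplicit false
open scoped MatrixGroups

/-! S5972 piece R2EIG: eigenspaces of an involutory isometry. -/

namespace Cfsg.Agent.S5972P

open Polynomial Cfsg.Agent.Helper2.SympInvol Cfsg.Agent.Helper2.SympUnits Cfsg.Agent.S5961P
  Cfsg.Agent.S5955P

/-- R2EIG: the eigenspaces of an involutory isometry -/
theorem invol_split {F V : Type*} [Field F] [AddCommGroup V] [Module F V]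
    [FiniteDimensional F V] (h2 : (2 : F) ≠ 0) (B : LinearMap.BilinForm F V)
    (hsymm : ∀ u v, B u v = B v u) (hnd : Nondeg B ⊤) (y : Module.End F V)
    (hyB : ∀ u v, B (y u) (y v) = B u v) (hy2 : y * y = 1) :
    IsCompl (LinearMap.ker (y - 1)) (LinearMap.ker (y + 1)) ∧
    Orth B (LinearMap.ker (y - 1)) (LinearMap.ker (y + 1)) ∧
    Nondeg B (LinearMap.ker (y - 1)) ∧ Nondeg B (LinearMap.ker (y + 1)) := by
  have hyy : ∀ v, y (y v) = v := by
    intro v
    rw [← Module.End.mul_apply, hy2, Module.End.one_apply]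
  have hp : ∀ v, v ∈ LinearMap.ker (y - 1) ↔ y v = v := by
    intro v
    rw [LinearMap.mem_ker, LinearMap.sub_apply, Module.End.one_apply, sub_eq_zero]
  have hm : ∀ v, v ∈ LinearMap.ker (y + 1) ↔ y v = -v := by
    intro v
    rw [LinearMap.mem_ker, LinearMap.add_apply, Module.End.one_apply, add_eq_zero_iff_eq_neg]
  have hcompl : IsCompl (LinearMap.ker (y - 1)) (LinearMap.ker (y + 1)) := by
    constructor
    · rw [Submodule.disjoint_def]
      intro v hv1 hv2
      have h1 := (hp v).mp hv1
      have h3 := (hm v).mp hv2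
      have h4 : (2 : F) • v = 0 := by
        rw [two_smul]
        nth_rewrite 1 [← h1]
        rw [h3]
        exact neg_add_cancel v
      exact (smul_eq_zero.mp h4).resolve_left h2
    · rw [codisjoint_iff, eq_top_iff]
      intro v _
      have hv : v = (2 : F)⁻¹ • (v + y v) + (2 : F)⁻¹ • (v - y v) := by
        rw [← smul_add, add_add_sub_cancel, ← two_smul F v, smul_smul, inv_mul_cancel₀ h2,
          one_smul]
      rw [hv]
      refine Submodule.add_mem _ (Submodule.mem_sup_left ?_) (Submodule.mem_sup_right ?_)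
      · apply Submodule.smul_mem
        rw [hp, map_add, hyy, add_comm]
      · apply Submodule.smul_mem
        rw [hm, map_sub, hyy, neg_sub]
  have horth : Orth B (LinearMap.ker (y - 1)) (LinearMap.ker (y + 1)) := by
    intro u hu v hv
    have h1 := hyB u v
    rw [(hp u).mp hu, (hm v).mp hv, map_neg] at h1
    have h4 : (2 : F) * B u v = 0 := by
      rw [two_mul]
      nth_rewrite 1 [← h1]
      exact neg_add_cancel _
    exact (mul_eq_zero.mp h4).resolve_left h2
  have horth' : Orth B (LinearMap.ker (y + 1)) (LinearMap.ker (y - 1)) :=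
    fun u hu v hv => by rw [hsymm]; exact horth v hv u hu
  exact ⟨hcompl, horth, STRUCT.nondeg_right_of_isCompl B hnd _ _ hcompl.symm horth,
    STRUCT.nondeg_right_of_isCompl B hnd _ _ hcompl horth'⟩

end Cfsg.Agent.S5972P
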