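import Mathlib
import Cfsg.Prelude.Def_ClassicalGeometry
import Cfsg.Prelude.Def_GeometricClasses
import Cfsg.Agent.Helper16.S5972Defs
import Cfsg.Agent.Helper13.QuadWitt

set_option autoImplicit false
open scoped MatrixGroups

/-! S5972 piece WITT: totally singular subspaces of a nondegenerate subspace (symmetric forms,
finite fields, odd characteristic). -/

namespace Cfsg.Agent.S5972P

open Polynomial Cfsg.Agent.Helper2.SympInvol Cfsg.Agent.Helper2.SympUnits Cfsg.Agent.S5961P
  Cfsg.Agent.S5955P

namespace WITT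

variable {F V : Type*} [Field F] [AddCommGroup V] [Module F V]

/-- the orthogonal complement of `span {v, w}` inside `M` -/
def perpPair (B : LinearMap.BilinForm F V) (M : Submodule F V) (v w : V) : Submodule F V where
  carrier := {x | x ∈ M ∧ B v x = 0 ∧ B w x = 0}
  add_mem' := by
    rintro a b ⟨ha, ha1, ha2⟩ ⟨hb, hb1, hb2⟩
    exact ⟨M.add_mem ha hb, by rw [map_add, ha1, hb1, add_zero], by rw [map_add, ha2, hb2, add_zero]⟩
  zero_mem' := ⟨M.zero_mem, by simp, by simp⟩
  smul_mem' := by
    rintro c a ⟨ha, ha1, ha2⟩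
    exact ⟨M.smul_mem c ha, by rw [map_smul, ha1, smul_zero], by rw [map_smul, ha2, smul_zero]⟩

theorem mem_perpPair (B : LinearMap.BilinForm F V) (M : Submodule F V) (v w x : V) :
    x ∈ perpPair B M v w ↔ x ∈ M ∧ B v x = 0 ∧ B w x = 0 := Iff.rfl

/-- decomposition along a hyperbolic-like pair `v, w` (`B v v = 0`, `B v w ≠ 0`) -/
theorem decomp (B : LinearMap.BilinForm F V) (hsymm : ∀ u v, B u v = B v u) (M : Submodule F V)
    (v w : V) (hv : v ∈ M) (hw : w ∈ M) (hvv : B v v = 0) (hvw : B v w ≠ 0) (x : V) (hx : x ∈ M) :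
    ∃ α β : F, ∃ x' ∈ perpPair B M v w, x = α • v + β • w + x' := by
  set a := B v w with ha
  set β := B v x / a with hβ
  set α := (B w x - β * B w w) / a with hα
  refine ⟨α, β, x - α • v - β • w, ⟨?_, ?_, ?_⟩, by abel⟩
  · exact M.sub_mem (M.sub_mem hx (M.smul_mem _ hv)) (M.smul_mem _ hw)
  · rw [map_sub, map_sub, map_smul, map_smul, hvv, smul_zero, sub_zero, smul_eq_mul, hβ, ← ha]
    field_simp
    ring
  · rw [map_sub, map_sub, map_smul, map_smul, hsymm w v, ← ha, smul_eq_mul, smul_eq_mul, hα]
    field_simp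
    ring

theorem nondeg_perpPair (B : LinearMap.BilinForm F V) (hsymm : ∀ u v, B u v = B v u)
    (M : Submodule F V) (hM : Nondeg B M)
    (v w : V) (hv : v ∈ M) (hw : w ∈ M) (hvv : B v v = 0) (hvw : B v w ≠ 0) :
    Nondeg B (perpPair B M v w) := by
  intro m hm hm0
  obtain ⟨x, hx, hmx⟩ := hM m hm.1 hm0
  obtain ⟨α, β, x', hx', rfl⟩ := decomp B hsymm M v w hv hw hvv hvw x hx
  refine ⟨x', hx', ?_⟩
  rw [map_add, map_add, map_smul, map_smul, hsymm m v, hsymm m w, hm.2.1, hm.2.2] at hmx
  simpa using hmx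

theorem finrank_perpPair [FiniteDimensional F V] (B : LinearMap.BilinForm F V)
    (hsymm : ∀ u v, B u v = B v u) (M : Submodule F V)
    (v w : V) (hv : v ∈ M) (hw : w ∈ M) (hvv : B v v = 0) (hvw : B v w ≠ 0) :
    Module.finrank F M ≤ Module.finrank F (perpPair B M v w) + 2 := by
  classical
  have hle : M ≤ Submodule.span F {v, w} ⊔ perpPair B M v w := by
    intro x hx
    obtain ⟨α, β, x', hx', rfl⟩ := decomp B hsymm M v w hv hw hvv hvw x hx
    refine Submodule.add_mem _ (Submodule.mem_sup_left ?_) (Submodule.mem_sup_right hx')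
    exact Submodule.add_mem _ (Submodule.smul_mem _ _ (Submodule.subset_span (by simp)))
      (Submodule.smul_mem _ _ (Submodule.subset_span (by simp)))
  have h1 := Submodule.finrank_mono hle
  have h2 := Submodule.finrank_add_le_finrank_add_finrank (Submodule.span F {v, w})
    (perpPair B M v w)
  have h3 : Module.finrank F (Submodule.span F ({v, w} : Set V)) ≤ 2 := by
    have := finrank_span_finset_le_card (R := F) ({v, w} : Finset V)
    have hc : ({v, w} : Finset V).card ≤ 2 := Finset.card_le_two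
    have hcoe : ((({v, w} : Finset V)) : Set V) = {v, w} := by simp
    rw [hcoe] at this
    unfold Set.finrank at this
    omega
  omega

end WITT

open WITT in
/-- WITT: totally singular subspaces of a nondegenerate subspace -/
theorem exists_ts_sub {F V : Type*} [Field F] [Fintype F] [AddCommGroup V] [Module F V]
    [FiniteDimensional F V] (h2 : (2 : F) ≠ 0) (B : LinearMap.BilinForm F V)
    (hsymm : ∀ u v, B u v = B v u) (M : Submodule F V) (hM : Nondeg B M) (k : ℕ)
    (hk : 2 * k + 1 ≤ Module.finrank F M) :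
    ∃ U : Submodule F V, U ≤ M ∧ Orth B U U ∧ Module.finrank F U = k := by
  induction k generalizing M with
  | zero => exact ⟨⊥, bot_le, fun u hu => by simp [(Submodule.mem_bot F).mp hu], finrank_bot F V⟩
  | succ k ih =>
    -- a singular vector
    let QM : QuadraticForm F M := LinearMap.BilinMap.toQuadraticMap (B.restrict M)
    obtain ⟨v, hv0, hQv⟩ := Cfsg.Agent.Helper13.exists_singular QM (by omega)
    have hvv : B v v = 0 := hQv
    have hv0' : (v : V) ≠ 0 := fun h => hv0 (Subtype.ext h)
    obtain ⟨w, hw, hvw⟩ := hM v v.2 hv0'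
    have hnd' := nondeg_perpPair B hsymm M hM v w v.2 hw hvv hvw
    have hfr := finrank_perpPair B hsymm M v w v.2 hw hvv hvw
    obtain ⟨U', hU'M, hU'ti, hU'dim⟩ := ih (perpPair B M v w) hnd' (by omega)
    have hvU' : (v : V) ∉ U' := by
      intro h
      have := (hU'M h).2.2
      rw [hsymm] at this
      exact hvw this
    refine ⟨U' ⊔ Submodule.span F {(v : V)}, ?_, ?_, ?_⟩
    · refine sup_le (fun x hx => (hU'M hx).1) ?_
      rw [Submodule.span_singleton_le_iff_mem]
      exact v.2
    · intro a ha b hb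
      obtain ⟨u, hu, s, hs, rfl⟩ := Submodule.mem_sup.mp ha
      obtain ⟨u', hu', s', hs', rfl⟩ := Submodule.mem_sup.mp hb
      obtain ⟨c, rfl⟩ := Submodule.mem_span_singleton.mp hs
      obtain ⟨c', rfl⟩ := Submodule.mem_span_singleton.mp hs'
      simp only [map_add, map_smul, LinearMap.add_apply, LinearMap.smul_apply, smul_eq_mul]
      rw [hU'ti u hu u' hu', hsymm u v, (hU'M hu).2.1, (hU'M hu').2.1, hvv]
      ring
    · have hdisj : Disjoint U' (Submodule.span F {(v : V)}) :=
        (Submodule.disjoint_span_singleton' hv0').mpr hvU'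
      have h := Submodule.finrank_sup_add_finrank_inf_eq U' (Submodule.span F {(v : V)})
      rw [hdisj.eq_bot, finrank_bot, add_zero, finrank_span_singleton hv0'] at h
      rw [h, hU'dim]

end Cfsg.Agent.S5972P
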