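import Mathlib
import Cfsg.Prelude.Def_GeometricClasses
import Cfsg.Agent.Helper7.SubF1

set_option autoImplicit false
open scoped MatrixGroups

/-! S5965 piece NEC: a conjugate in the subfield subgroup of an element with `X ^ r` scalar, when
`r ∤ q₀ - 1`, is `ω • M₀` with `M₀ ^ r = 1` over the subfield. -/

namespace Cfsg.Agent.S5965P

namespace NEC

/-- `r`-th roots in a finite field whose multiplicative group has order prime to `r` -/
theorem exists_pow_eq {E : Type*} [Field E] [Finite E] (r : ℕ) (hr : (Nat.card E - 1).Coprime r)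
    (ν : E) (hν : ν ≠ 0) : ∃ ν' : E, ν' ≠ 0 ∧ ν' ^ r = ν := by
  classical
  let _ : Fintype E := Fintype.ofFinite E
  have hcard : Nat.card Eˣ = Nat.card E - 1 := by
    rw [Nat.card_eq_fintype_card, Nat.card_eq_fintype_card, Fintype.card_units]
  have hco : (Nat.card Eˣ).Coprime r := by rw [hcard]; exact hr
  obtain ⟨w, hw⟩ := (powCoprime hco).surjective (Units.mk0 ν hν)
  refine ⟨(w : E), w.ne_zero, ?_⟩
  have h1 : ((w ^ r : Eˣ) : E) = ν := by
    rw [powCoprime_apply] at hw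
    rw [hw]
    rfl
  rw [← h1, Units.val_pow_eq_pow_val]

end NEC

/-- NEC -/
theorem nec_of_conj_mem {F : Type*} [Field F] [Fintype F] (n : ℕ) (hn : 1 ≤ n) (F₀ : Subfield F)
    (r : ℕ) [Fact r.Prime] (hr0 : ¬ r ∣ Nat.card F₀ - 1)
    (X P : Matrix.SpecialLinearGroup (Fin n) F) (z : F)
    (hX : (X : Matrix (Fin n) (Fin n) F) ^ r = z • (1 : Matrix (Fin n) (Fin n) F))
    (hmem : P⁻¹ * X * P ∈
      ((Cfsg.Geo.subfieldSubgroup F₀ 1).comap (Matrix.SpecialLinearGroup.toGL :
        Matrix.SpecialLinearGroup (Fin n) F →* GL (Fin n) F))) :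
    ∃ (ω : F) (M₀ : Matrix (Fin n) (Fin n) F₀), ω ^ r = z ∧ M₀ ^ r = 1 ∧
      (X : Matrix (Fin n) (Fin n) F) * (P : Matrix (Fin n) (Fin n) F) =
        (P : Matrix (Fin n) (Fin n) F) * (ω • M₀.map F₀.subtype) := by
  classical
  have hr : r.Prime := Fact.out
  obtain ⟨M', μ, hμ, hg⟩ := Cfsg.Agent.Helper7.SubF.exists_of_mem_subfieldH F₀ _ hmem
  -- matrices
  set Pm : Matrix (Fin n) (Fin n) F := (P : Matrix (Fin n) (Fin n) F) with hPm
  set Pi : Matrix (Fin n) (Fin n) F := ((P⁻¹ : Matrix.SpecialLinearGroup (Fin n) F) :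
    Matrix (Fin n) (Fin n) F) with hPi
  set Xm : Matrix (Fin n) (Fin n) F := (X : Matrix (Fin n) (Fin n) F) with hXm
  have hPiP : Pi * Pm = 1 := by
    rw [hPi, hPm, ← Matrix.SpecialLinearGroup.coe_mul, inv_mul_cancel,
      Matrix.SpecialLinearGroup.coe_one]
  have hPPi : Pm * Pi = 1 := by
    rw [hPi, hPm, ← Matrix.SpecialLinearGroup.coe_mul, mul_inv_cancel,
      Matrix.SpecialLinearGroup.coe_one]
  have hconj : Pi * Xm * Pm = μ • M'.map F₀.subtype := by
    rw [← hg, Matrix.SpecialLinearGroup.coe_mul, Matrix.SpecialLinearGroup.coe_mul]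
  -- the `r`-th power
  have hpow : ∀ k : ℕ, (Pi * Xm * Pm) ^ k = Pi * Xm ^ k * Pm := by
    intro k
    induction k with
    | zero => rw [pow_zero, pow_zero, Matrix.mul_one, hPiP]
    | succ k ih =>
      rw [pow_succ, ih, pow_succ]
      calc Pi * Xm ^ k * Pm * (Pi * Xm * Pm) = Pi * Xm ^ k * (Pm * Pi) * Xm * Pm := by
            simp only [Matrix.mul_assoc]
        _ = Pi * (Xm ^ k * Xm) * Pm := by rw [hPPi]; simp only [Matrix.mul_one, Matrix.mul_assoc]
  have h1 : (μ • M'.map F₀.subtype) ^ r = z • (1 : Matrix (Fin n) (Fin n) F) := by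
    rw [← hconj, hpow, hX, Matrix.mul_smul, Matrix.smul_mul, Matrix.mul_one, hPiP]
  have hmap : (M'.map F₀.subtype) ^ r = (M' ^ r).map F₀.subtype := by
    have := map_pow (RingHom.mapMatrix (m := Fin n) F₀.subtype) M' r
    simpa using this.symm
  rw [smul_pow, hmap] at h1
  -- `z ≠ 0`
  have hz : z ≠ 0 := by
    intro h0
    have hdet := congrArg Matrix.det hX
    have : Nonempty (Fin n) := ⟨⟨0, by omega⟩⟩
    rw [h0, zero_smul, Matrix.det_pow, X.2, one_pow, Matrix.det_zero] at hdet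
    exact one_ne_zero hdet
  have hμr : μ ^ r ≠ 0 := pow_ne_zero _ hμ
  -- the entries of `M' ^ r`
  have hent : ∀ i j : Fin n, μ ^ r * ((M' ^ r) i j : F) = if i = j then z else 0 := by
    intro i j
    have := congrFun (congrFun h1 i) j
    simpa [Matrix.smul_apply, Matrix.one_apply] using this
  set i0 : Fin n := ⟨0, by omega⟩ with hi0
  set ν : F₀ := (M' ^ r) i0 i0 with hν
  have hνF : μ ^ r * (ν : F) = z := by
    have := hent i0 i0
    rwa [if_pos rfl] at this
  have hν0 : ν ≠ 0 := by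
    intro h0
    rw [h0] at hνF
    simp at hνF
    exact hz hνF.symm
  have hMr : M' ^ r = ν • (1 : Matrix (Fin n) (Fin n) F₀) := by
    ext i j
    apply mul_left_cancel₀ hμr
    show μ ^ r * (((M' ^ r) i j : F₀) : F) = μ ^ r * (((ν • (1 : Matrix (Fin n) (Fin n) F₀)) i j : F₀) : F)
    rw [hent i j, Matrix.smul_apply, Matrix.one_apply]
    by_cases hij : i = j
    · rw [if_pos hij, if_pos hij, smul_eq_mul, mul_one, hνF]
    · rw [if_neg hij, if_neg hij, smul_zero]
      simp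
  -- the `r`-th root of `ν`
  have hco : (Nat.card F₀ - 1).Coprime r :=
    (Nat.Coprime.symm ((Nat.Prime.coprime_iff_not_dvd hr).2 hr0))
  obtain ⟨ν', hν'0, hν'⟩ := NEC.exists_pow_eq r hco ν hν0
  refine ⟨μ * (ν' : F), ν'⁻¹ • M', ?_, ?_, ?_⟩
  · rw [mul_pow, ← hνF, ← hν']
    simp
  · rw [smul_pow, hMr, smul_smul, inv_pow, hν', inv_mul_cancel₀ hν0, one_smul]
  · have h2 : (μ * (ν' : F)) • (ν'⁻¹ • M').map F₀.subtype = μ • M'.map F₀.subtype := by
      ext i j
      simp only [Matrix.smul_apply, Matrix.map_apply, smul_eq_mul, Subfield.coe_subtype,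
        Subfield.coe_mul, Subfield.coe_inv]
      have : (ν' : F) ≠ 0 := fun h => hν'0 (Subtype.ext h)
      field_simp
    rw [h2, ← hconj]
    calc Xm * Pm = (Pm * Pi) * Xm * Pm := by rw [hPPi, Matrix.one_mul]
      _ = Pm * (Pi * Xm * Pm) := by simp only [Matrix.mul_assoc]

end Cfsg.Agent.S5965P
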