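import Mathlib
import Cfsg.Agent.Helper16.BCDefs

set_option autoImplicit false

/-! Elementary facts on `N0 S Q` and `NSys F Q hQ` for the S5110 drive. -/

namespace Cfsg.Agent.Helper16.BC

open Cfsg Cfsg.FusionSystem Cfsg.Agent.Helper25

variable {Ω : Type*} [Group Ω] {S : Subgroup Ω}

theorem N0_eq (S Q : Subgroup Ω) : N0 S Q = normalizerIn S Q :=
  (normalizerIn_eq_NKvia Q).symm

theorem mem_N0_iff (S Q : Subgroup Ω) (g : Ω) :
    g ∈ N0 S Q ↔ g ∈ S ∧ g ∈ Subgroup.normalizer (Q : Set Ω) := by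
  rw [N0_eq]
  exact Subgroup.mem_inf

/-- Restriction of `φ : R →* Ω` to `Q ≤ R`, as an automorphism of `Q`, when `φ(Q) = Q`. -/
noncomputable def resAutOf {Q R : Subgroup Ω} (hQR : Q ≤ R) (φ : R →* Ω)
    (hinj : Function.Injective φ) (himg : img φ Q = Q) : MulAut Q :=
  isoOfHom (φ.comp (Subgroup.inclusion hQR)) (hinj.comp (Subgroup.inclusion_injective hQR)) (by
    refine Eq.trans ?_ himg
    ext y
    rw [mem_img]
    constructor
    · rintro ⟨x, rfl⟩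
      exact ⟨Subgroup.inclusion hQR x, x.2, rfl⟩
    · rintro ⟨x, hx, rfl⟩
      exact ⟨⟨x, hx⟩, rfl⟩)

theorem resAutOf_isRes {Q R : Subgroup Ω} (hQR : Q ≤ R) (φ : R →* Ω)
    (hinj : Function.Injective φ) (himg : img φ Q = Q) :
    IsRes hQR φ (resAutOf hQR φ hinj himg) := fun _ => rfl

theorem isRes_unique {Q R : Subgroup Ω} (hQR : Q ≤ R) (φ : R →* Ω) {α β : MulAut Q}
    (hα : IsRes hQR φ α) (hβ : IsRes hQR φ β) : α = β := by
  apply MulEquiv.ext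
  intro x
  exact Subtype.ext ((hα x).trans (hβ x).symm)

theorem mem_NSys_iff (F : FusionSystem S) {Q : Subgroup Ω} (hQS : Q ≤ S) {R : Subgroup Ω}
    (hQR : Q ≤ R) (φ : R →* Ω) :
    φ ∈ (NSys F Q hQS).Hom R ↔ φ ∈ F.Hom R ∧ R ≤ N0 S Q ∧ img φ Q = Q := by
  constructor
  · rintro ⟨hφ, hR, -, ψ, hψ, hψR, κ, -, hψQ⟩
    refine ⟨hφ, hR, ?_⟩
    have key : ∀ (x : Q), φ (Subgroup.inclusion hQR x) = ((κ x : Q) : Ω) := by
      intro x
      rw [← hψQ x, ← hψR]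
      congr 1
    ext y
    rw [mem_img]
    constructor
    · rintro ⟨x, hx, rfl⟩
      have := key ⟨x, hx⟩
      have e : Subgroup.inclusion hQR ⟨(x : Ω), hx⟩ = x := Subtype.ext rfl
      rw [e] at this
      rw [this]
      exact (κ ⟨x, hx⟩).2
    · intro hy
      refine ⟨Subgroup.inclusion hQR (κ.symm ⟨y, hy⟩), (κ.symm ⟨y, hy⟩).2, ?_⟩
      rw [key, MulEquiv.apply_symm_apply]
  · rintro ⟨hφ, hR, himg⟩
    have hRS : R ≤ S := (F.le_of_mem hφ).1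
    have hconj : ∀ x : R, ∀ y ∈ Q, φ x * y * (φ x)⁻¹ ∈ Q := by
      intro x y hy
      have hy' : y ∈ img φ Q := himg.symm ▸ hy
      rw [mem_img] at hy'
      obtain ⟨y', hy'Q, rfl⟩ := hy'
      have hxN := (mem_N0_iff S Q x).mp (hR x.2)
      have h1 : (x : Ω) * y' * (x : Ω)⁻¹ ∈ Q :=
        (Subgroup.mem_normalizer_iff.mp hxN.2 _).mp hy'Q
      have h2 : φ x * φ y' * (φ x)⁻¹ = φ (x * y' * x⁻¹) := by
        rw [map_mul, map_mul, map_inv]
      rw [h2, ← himg, mem_img]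
      exact ⟨x * y' * x⁻¹, h1, rfl⟩
    refine ⟨hφ, hR, ?_, ?_⟩
    · intro x
      rw [mem_N0_iff]
      refine ⟨(F.le_of_mem hφ).2 x, Subgroup.mem_normalizer_iff.mpr fun y => ⟨hconj x y, ?_⟩⟩
      intro hy
      have h1 := hconj x⁻¹ _ hy
      have h2 : φ x⁻¹ * (φ x * y * (φ x)⁻¹) * (φ x⁻¹)⁻¹ = y := by
        rw [map_inv]; group
      rwa [h2] at h1
    · have hle : R ⊔ Q ≤ R := sup_le le_rfl hQR
      refine ⟨φ.comp (Subgroup.inclusion hle), restrict_mem F hle hφ, ?_,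
        resAutOf hQR φ (F.injective_of_mem hφ) himg, Subgroup.mem_top _, ?_⟩
      · intro x
        show φ _ = φ x
        congr 1
      · intro x
        show φ _ = φ (Subgroup.inclusion hQR x)
        congr 1

theorem NSys_le (F : FusionSystem S) {Q : Subgroup Ω} (hQS : Q ≤ S) {R : Subgroup Ω}
    {φ : R →* Ω} (hφ : φ ∈ (NSys F Q hQS).Hom R) : φ ∈ F.Hom R := hφ.1

theorem Q_le_N0 {Q : Subgroup Ω} (hQS : Q ≤ S) : Q ≤ N0 S Q := by
  rw [N0_eq]
  exact le_inf hQS Subgroup.le_normalizer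

theorem N0_le (S Q : Subgroup Ω) : N0 S Q ≤ S := NKvia_le S _ _

theorem NSys_autGroup (F : FusionSystem S) {Q : Subgroup Ω} (hQS : Q ≤ S) :
    (NSys F Q hQS).autGroup Q = F.autGroup Q := by
  unfold FusionSystem.autGroup
  congr 1
  ext α
  show Q.subtype.comp α.toMonoidHom ∈ (NSys F Q hQS).Hom Q ↔ Q.subtype.comp α.toMonoidHom ∈ F.Hom Q
  rw [mem_NSys_iff F hQS le_rfl]
  constructor
  · exact fun h => h.1
  · intro h
    refine ⟨h, Q_le_N0 hQS, ?_⟩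
    ext y
    rw [mem_img]
    constructor
    · rintro ⟨x, -, rfl⟩
      exact (α x).2
    · intro hy
      exact ⟨α.symm ⟨y, hy⟩, (α.symm ⟨y, hy⟩).2, by simp⟩

theorem autInducedBy_N0 (S Q : Subgroup Ω) : autInducedBy (N0 S Q) Q = autInducedBy S Q := by
  ext α
  rw [mem_autInducedBy_iff, mem_autInducedBy_iff]
  constructor
  · rintro ⟨g, hg, h⟩
    exact ⟨g, N0_le S Q hg, h⟩
  · rintro ⟨g, hg, h⟩
    exact ⟨g, ⟨hg, α, Subgroup.mem_top _, h⟩, h⟩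

theorem NKvia_N0 (S Q : Subgroup Ω) (K : Subgroup (MulAut Q)) :
    NKvia (N0 S Q) Q.subtype K = NKvia S Q.subtype K := by
  ext g
  constructor
  · rintro ⟨hg, κ, hκ, h⟩
    exact ⟨N0_le S Q hg, κ, hκ, h⟩
  · rintro ⟨hg, κ, hκ, h⟩
    exact ⟨⟨hg, κ, Subgroup.mem_top _, h⟩, κ, hκ, h⟩

theorem centralizerIn_N0 (S Q : Subgroup Ω) : centralizerIn (N0 S Q) Q = centralizerIn S Q := by
  apply le_antisymm
  · exact inf_le_inf_right _ (N0_le S Q)
  · intro g hg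
    have hg' : g ∈ S ∧ g ∈ Subgroup.centralizer (Q : Set Ω) := Subgroup.mem_inf.mp hg
    refine Subgroup.mem_inf.mpr ⟨?_, hg'.2⟩
    rw [mem_N0_iff]
    exact ⟨hg'.1, Subgroup.centralizer_le_normalizer _ hg'.2⟩

end Cfsg.Agent.Helper16.BC
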