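import Mathlib
import Cfsg.Agent.Helper2.S2099.DefsR

set_option autoImplicit false
set_option linter.unusedSectionVars false
set_option linter.unusedVariables false
set_option linter.unusedSimpArgs false

/-! S2099 chapter R, pieces CONJSLQ and (master lemma for) CONJSS1Q (driver helper2; port of
`Cfsg.Agent.Helper26.S2094CONJSL`): a short Weyl element `wY Q0 Ys a w` acting on the abelian group
generated by `X c a`, `Ys c`, `X c (ng a)`. -/

namespace Cfsg.Agent.S2099P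

open Matrix Cfsg.Agent.S3352P Cfsg.Agent.S3351P Cfsg.Agent.S2096P Cfsg.Agent.RGD
open Cfsg.Agent.S2094P (RB RootB sc NgEquivariant mapB reflB MD XD XD_coe isRoot_ng_right'
  isRoot_ng_left' sw_ngEquivariant sc_ngEquivariant)

variable {n : ℕ} {F : Type*} [Field F] {P : Type*} [AddCommGroup P] [Module F P]
  {M : Type*} [Group M] {Q0 : QuadraticForm F P} {X : J n → J n → F → M} {Ys : J n → P → M}

namespace CONJSLQ

theorem conj_eq_cm_inv_mul (x y : M) : y * x * y⁻¹ = (cm x y)⁻¹ * x := by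
  rw [cm_def]; group

theorem conj_eq_cm_mul (x y : M) : x * y * x⁻¹ = cm x y * y := by
  rw [cm_def]; group

theorem conj_mul3 (g x y z : M) :
    g * (x * y * z) * g⁻¹ = (g * x * g⁻¹) * (g * y * g⁻¹) * (g * z * g⁻¹) := by group

theorem conj3 (p q r x : M) :
    (p * q * r) * x * (p * q * r)⁻¹ = p * (q * (r * x * r⁻¹) * q⁻¹) * p⁻¹ := by group

theorem conj_of_comm {g x : M} (h : g * x = x * g) : g * x * g⁻¹ = x := by
  rw [h, mul_inv_cancel_right]

/-- `Ys a t` acting on `X c a v` -/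
theorem conj_Ys_X (hB : QRel Q0 X Ys) {c a : J n} (hca : IsRoot c a) (t : P) (v : F) :
    Ys a t * X c a v * (Ys a t)⁻¹ =
      X c (ng a) (-(v * Q0 t)) * Ys c (-(v • t)) * X c a v := by
  rw [conj_eq_cm_inv_mul, hB.xy c a hca v t, _root_.mul_inv_rev,
    WCONJ.X_inv hB.dX (isRoot_ng_right' hca), Ys_inv hB]

/-- `Ys a s` acting on `Ys b r` -/
theorem conj_Ys_Ys (hB : QRel Q0 X Ys) {a b : J n} (hab : IsRoot a b) (s r : P) :
    Ys a s * Ys b r * (Ys a s)⁻¹ = X a (ng b) (-(QuadraticMap.polar Q0 s r)) * Ys b r := by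
  rw [conj_eq_cm_mul, hB.yy a b hab]

/-- the normal form of the elements of the abelian group generated by the root groups of
`ε_c - ε_a`, `ε_c`, `ε_c + ε_a` -/
def Phi (X : J n → J n → F → M) (Ys : J n → P → M) (c a : J n) (α : F) (β : P) (γ : F) : M :=
  X c a α * Ys c β * X c (ng a) γ

theorem Phi_congr {c a : J n} {α γ α' γ' : F} {β β' : P} (h1 : α = α') (h2 : β = β')
    (h3 : γ = γ') : Phi X Ys c a α β γ = Phi X Ys c a α' β' γ' := by
  subst h1 h2 h3; rfl

theorem comm_y_xa (hB : QRel Q0 X Ys) {c a : J n} (hca : IsRoot c a) (s : P) (t : F) :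
    Ys c s * X c a t = X c a t * Ys c s :=
  hB.ycomm c c a hca hca.1.symm (ng_ne c).symm s t

theorem comm_y_xn (hB : QRel Q0 X Ys) {c a : J n} (hca : IsRoot c a) (s : P) (t : F) :
    Ys c s * X c (ng a) t = X c (ng a) t * Ys c s :=
  hB.ycomm c c (ng a) (isRoot_ng_right' hca) (fun h => hca.2 h.symm) (ng_ne c).symm s t

theorem Phi_mul (hB : QRel Q0 X Ys) {c a : J n} (hca : IsRoot c a) (α : F) (β : P) (γ α' : F)
    (β' : P) (γ' : F) :
    Phi X Ys c a α β γ * Phi X Ys c a α' β' γ' = Phi X Ys c a (α + α') (β + β') (γ + γ') := by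
  unfold Phi
  have hca' := isRoot_ng_right' hca
  calc X c a α * Ys c β * X c (ng a) γ * (X c a α' * Ys c β' * X c (ng a) γ')
      = X c a α * Ys c β * (X c (ng a) γ * X c a α') * Ys c β' * X c (ng a) γ' := by group
    _ = X c a α * Ys c β * (X c a α' * X c (ng a) γ) * Ys c β' * X c (ng a) γ' := by
        rw [hB.dX.orth c a hca α' γ]
    _ = X c a α * (Ys c β * X c a α') * (X c (ng a) γ * Ys c β') * X c (ng a) γ' := by group
    _ = X c a α * (X c a α' * Ys c β) * (Ys c β' * X c (ng a) γ) * X c (ng a) γ' := by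
        rw [comm_y_xa hB hca, comm_y_xn hB hca]
    _ = (X c a α * X c a α') * (Ys c β * Ys c β') * (X c (ng a) γ * X c (ng a) γ') := by group
    _ = X c a (α + α') * Ys c (β + β') * X c (ng a) (γ + γ') := by
        rw [hB.dX.add c a hca, hB.yadd, hB.dX.add c (ng a) hca']

theorem xa_eq (hB : QRel Q0 X Ys) {c a : J n} (hca : IsRoot c a) (α : F) :
    X c a α = Phi X Ys c a α 0 0 := by
  unfold Phi
  rw [Ys_zero hB, WCONJ.X_zero hB.dX (isRoot_ng_right' hca), mul_one, mul_one]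

theorem y_eq (hB : QRel Q0 X Ys) {c a : J n} (hca : IsRoot c a) (β : P) :
    Ys c β = Phi X Ys c a 0 β 0 := by
  unfold Phi
  rw [WCONJ.X_zero hB.dX hca, WCONJ.X_zero hB.dX (isRoot_ng_right' hca), mul_one, one_mul]

theorem xn_eq (hB : QRel Q0 X Ys) {c a : J n} (hca : IsRoot c a) (γ : F) :
    X c (ng a) γ = Phi X Ys c a 0 0 γ := by
  unfold Phi
  rw [Ys_zero hB, WCONJ.X_zero hB.dX hca, one_mul, one_mul]

/-- the other name of `X a (ng c)` -/
theorem X_a_ngc (hB : QRel Q0 X Ys) {c a : J n} (hca : IsRoot c a) (s : F) :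
    X a (ng c) s = X c (ng a) (-s) := by
  have h := hB.dX.flip c (ng a) (isRoot_ng_right' hca) s
  rw [ng_ng] at h
  exact h

/-- `Ys a t` acting on the normal form -/
theorem conjA (hB : QRel Q0 X Ys) {c a : J n} (hca : IsRoot c a) (t : P) (α : F) (β : P)
    (γ : F) :
    Ys a t * Phi X Ys c a α β γ * (Ys a t)⁻¹ =
      Phi X Ys c a α (β - α • t) (γ + QuadraticMap.polar Q0 t β - α * Q0 t) := by
  have h1 := conj_Ys_X hB hca t α
  have h2 : Ys a t * Ys c β * (Ys a t)⁻¹ = X c (ng a) (QuadraticMap.polar Q0 t β) * Ys c β := by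
    rw [conj_Ys_Ys hB hca.symm, X_a_ngc hB hca, neg_neg]
  have h3 : Ys a t * X c (ng a) γ * (Ys a t)⁻¹ = X c (ng a) γ :=
    conj_of_comm (hB.ycomm a c (ng a) (isRoot_ng_right' hca) (ng_ne a) hca.2 t γ)
  have e : Ys a t * Phi X Ys c a α β γ * (Ys a t)⁻¹ =
      (Ys a t * X c a α * (Ys a t)⁻¹) * (Ys a t * Ys c β * (Ys a t)⁻¹) *
        (Ys a t * X c (ng a) γ * (Ys a t)⁻¹) := by
    unfold Phi; rw [conj_mul3]
  rw [e, h1, h2, h3, xa_eq hB hca α, y_eq hB hca β, y_eq hB hca (-(α • t)),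
    xn_eq hB hca γ, xn_eq hB hca (-(α * Q0 t)), xn_eq hB hca (QuadraticMap.polar Q0 t β)]
  simp only [Phi_mul hB hca]
  apply Phi_congr
  · ring
  · abel
  · ring

/-- `Ys (ng a) w` acting on the normal form -/
theorem conjB (hB : QRel Q0 X Ys) {c a : J n} (hca : IsRoot c a) (w : P) (α : F) (β : P)
    (γ : F) :
    Ys (ng a) w * Phi X Ys c a α β γ * (Ys (ng a) w)⁻¹ =
      Phi X Ys c a (α + QuadraticMap.polar Q0 w β - γ * Q0 w) (β - γ • w) γ := by
  have hca' := isRoot_ng_right' hca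
  have h1 : Ys (ng a) w * X c a α * (Ys (ng a) w)⁻¹ = X c a α := by
    apply conj_of_comm
    apply hB.ycomm (ng a) c a hca (ng_ne a).symm
    rw [ng_ng]; exact hca.1
  have h2 : Ys (ng a) w * Ys c β * (Ys (ng a) w)⁻¹ =
      X c a (QuadraticMap.polar Q0 w β) * Ys c β := by
    rw [conj_Ys_Ys hB (isRoot_ng_left' hca.symm), hB.dX.flip c a hca, neg_neg]
  have h3 : Ys (ng a) w * X c (ng a) γ * (Ys (ng a) w)⁻¹ =
      X c a (-(γ * Q0 w)) * Ys c (-(γ • w)) * X c (ng a) γ := by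
    have := conj_Ys_X hB hca' w γ
    rw [ng_ng] at this
    exact this
  have e : Ys (ng a) w * Phi X Ys c a α β γ * (Ys (ng a) w)⁻¹ =
      (Ys (ng a) w * X c a α * (Ys (ng a) w)⁻¹) * (Ys (ng a) w * Ys c β * (Ys (ng a) w)⁻¹) *
        (Ys (ng a) w * X c (ng a) γ * (Ys (ng a) w)⁻¹) := by
    unfold Phi; rw [conj_mul3]
  rw [e, h1, h2, h3, xa_eq hB hca α, xa_eq hB hca (QuadraticMap.polar Q0 w β),
    xa_eq hB hca (-(γ * Q0 w)), y_eq hB hca β, y_eq hB hca (-(γ • w)), xn_eq hB hca γ]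
  simp only [Phi_mul hB hca]
  apply Phi_congr
  · ring
  · abel
  · ring

/-- the master lemma: `wY Q0 Ys a w` acting on the normal form -/
theorem wY_conj_Phi (hB : QRel Q0 X Ys) {c a : J n} (hca : IsRoot c a) {w : P} (hw : Q0 w ≠ 0)
    (α : F) (β : P) (γ : F) :
    wY Q0 Ys a w * Phi X Ys c a α β γ * (wY Q0 Ys a w)⁻¹ =
      Phi X Ys c a (-((Q0 w)⁻¹ * γ)) (rfl0 Q0 w β) (-(Q0 w * α)) := by
  unfold wY
  rw [conj3, conjA hB hca, conjB hB hca, conjA hB hca]
  have hpc : QuadraticMap.polar Q0 β w = QuadraticMap.polar Q0 w β := QuadraticMap.polar_comm _ _ _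
  have hww : QuadraticMap.polar Q0 w w = 2 * Q0 w := by
    rw [QuadraticMap.polar_self]; simp
  have hq2 : Q0 ((Q0 w)⁻¹ • w) = (Q0 w)⁻¹ := by
    rw [QuadraticMap.map_smul, smul_eq_mul]
    field_simp
  apply Phi_congr
  · simp only [QuadraticMap.polar_smul_left, QuadraticMap.polar_smul_right,
      QuadraticMap.polar_sub_right, QuadraticMap.polar_sub_left, hww, hq2, smul_eq_mul]
    field_simp
    ring
  · unfold rfl0
    simp only [QuadraticMap.polar_smul_left, QuadraticMap.polar_smul_right,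
      QuadraticMap.polar_sub_right, QuadraticMap.polar_sub_left, hww, hq2, hpc, smul_eq_mul]
    match_scalars
    · ring
    · field_simp
      ring
  · simp only [QuadraticMap.polar_smul_left, QuadraticMap.polar_smul_right,
      QuadraticMap.polar_sub_right, QuadraticMap.polar_sub_left, hww, hq2, smul_eq_mul]
    field_simp
    ring

end CONJSLQ

/-! ### CONJSLQ: a short Weyl element acting on the long root elements -/

theorem wY_conj_X_snd (hB : QRel Q0 X Ys) {c a : J n} (hca : IsRoot c a) {w : P}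
    (hw : Q0 w ≠ 0) (u : F) :
    wY Q0 Ys a w * X c a u * (wY Q0 Ys a w)⁻¹ = X c (ng a) (-(Q0 w * u)) := by
  rw [CONJSLQ.xa_eq hB hca u, CONJSLQ.wY_conj_Phi hB hca hw, CONJSLQ.xn_eq hB hca]
  apply CONJSLQ.Phi_congr
  · simp
  · simp [rfl0]
  · rfl

theorem wY_conj_X_ng_snd (hB : QRel Q0 X Ys) {c a : J n} (hca : IsRoot c a) {w : P}
    (hw : Q0 w ≠ 0) (u : F) :
    wY Q0 Ys a w * X c (ng a) u * (wY Q0 Ys a w)⁻¹ = X c a (-((Q0 w)⁻¹ * u)) := by
  rw [CONJSLQ.xn_eq hB hca u, CONJSLQ.wY_conj_Phi hB hca hw, CONJSLQ.xa_eq hB hca]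
  apply CONJSLQ.Phi_congr
  · rfl
  · simp [rfl0]
  · simp

theorem wY_conj_X_fst (hB : QRel Q0 X Ys) {a d : J n} (had : IsRoot a d) {w : P}
    (hw : Q0 w ≠ 0) (u : F) :
    wY Q0 Ys a w * X a d u * (wY Q0 Ys a w)⁻¹ = X (ng a) d (-((Q0 w)⁻¹ * u)) := by
  have hda : IsRoot (ng d) a := isRoot_ng_left' had.symm
  have e1 : X a d u = X (ng d) (ng a) (-u) := by
    rw [hB.dX.flip a d had, neg_neg]
  have e2 : X (ng a) d (-((Q0 w)⁻¹ * u)) = X (ng d) a (-((Q0 w)⁻¹ * (-u))) := by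
    have h := hB.dX.flip (ng d) a hda (-((Q0 w)⁻¹ * u))
    rw [ng_ng] at h
    rw [h]
    congr 1
    ring
  rw [e1, e2]
  exact wY_conj_X_ng_snd hB hda hw (-u)

theorem wY_conj_X_ng_fst (hB : QRel Q0 X Ys) {a d : J n} (had : IsRoot a d) {w : P}
    (hw : Q0 w ≠ 0) (u : F) :
    wY Q0 Ys a w * X (ng a) d u * (wY Q0 Ys a w)⁻¹ = X a d (-(Q0 w * u)) := by
  have hda : IsRoot (ng d) a := isRoot_ng_left' had.symm
  have e1 : X (ng a) d u = X (ng d) a (-u) := by
    have h := hB.dX.flip (ng d) a hda u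
    rw [ng_ng] at h
    exact h
  have e2 : X a d (-(Q0 w * u)) = X (ng d) (ng a) (-(Q0 w * (-u))) := by
    rw [hB.dX.flip a d had]
    congr 1
    ring
  rw [e1, e2]
  exact wY_conj_X_snd hB hda hw (-u)

theorem wY_conj_X_of_ne (hB : QRel Q0 X Ys) (a : J n) (w : P) {c d : J n} (hcd : IsRoot c d)
    (h1 : c ≠ a) (h2 : c ≠ ng a) (h3 : d ≠ a) (h4 : d ≠ ng a) (u : F) :
    wY Q0 Ys a w * X c d u * (wY Q0 Ys a w)⁻¹ = X c d u := by
  have hA : ∀ s : P, Ys a s * X c d u = X c d u * Ys a s := fun s =>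
    hB.ycomm a c d hcd h3 h2 s u
  have hN : ∀ s : P, Ys (ng a) s * X c d u = X c d u * Ys (ng a) s := fun s =>
    hB.ycomm (ng a) c d hcd h4 (by rw [ng_ng]; exact h1) s u
  unfold wY
  rw [CONJSLQ.conj3, CONJSLQ.conj_of_comm (hA w), CONJSLQ.conj_of_comm (hN _),
    CONJSLQ.conj_of_comm (hA w)]

end Cfsg.Agent.S2099P
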