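import Mathlib
import Cfsg.Agent.Helper2.S2099.DefsR
import Cfsg.Agent.Helper16.S2099CONJSLQ

set_option autoImplicit false
set_option linter.unusedSectionVars false
set_option linter.unusedVariables false

/-! S2099 chapter R, piece CONJSS1Q (driver helper2; port of `Cfsg.Agent.Helper26.S2094CONJSS1`):
a short Weyl element `wY Q0 Ys a w` acts on the short root elements `Ys c u`, `c ≠ ±a`, through the
reflection `rfl0 Q0 w`. -/

namespace Cfsg.Agent.S2099P

open Matrix Cfsg.Agent.S3352P Cfsg.Agent.S3351P Cfsg.Agent.S2096P Cfsg.Agent.RGD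
open Cfsg.Agent.S2094P (RB RootB sc NgEquivariant mapB reflB MD XD XD_coe isRoot_ng_right'
  isRoot_ng_left' sw_ngEquivariant sc_ngEquivariant)

variable {n : ℕ} {F : Type*} [Field F] {P : Type*} [AddCommGroup P] [Module F P]
  {M : Type*} [Group M] {Q0 : QuadraticForm F P} {X : J n → J n → F → M} {Ys : J n → P → M}

/-- CONJSS1Q -/
theorem wY_conj_Ys_of_ne (hB : QRel Q0 X Ys) {a c : J n} (hac : IsRoot a c) {w : P}
    (hw : Q0 w ≠ 0) (u : P) :
    wY Q0 Ys a w * Ys c u * (wY Q0 Ys a w)⁻¹ = Ys c (rfl0 Q0 w u) := by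
  have hca : IsRoot c a := hac.symm
  rw [CONJSLQ.y_eq hB hca u, CONJSLQ.wY_conj_Phi hB hca hw, CONJSLQ.y_eq hB hca (rfl0 Q0 w u)]
  apply CONJSLQ.Phi_congr <;> simp

end Cfsg.Agent.S2099P
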