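import Mathlib
import Cfsg.Agent.Helper16.S64Defs

set_option autoImplicit false

/-! Piece F of the S3157 drive: `T ≃* Heis F4` from two non-commuting involutions. -/

namespace Cfsg.Agent.Helper16.S64

open scoped commutatorElement
open Cfsg.Agent.Helper19.Sp4

variable {T : Type*} [Group T]

/-- the map `F4 → T` attached to an element `u` -/
def sMap (ρ : MulAut T) (u : T) : F4 → T
  | .o => 1
  | .i => u
  | .w => ρ u
  | .v => ρ (ρ u)

/-- the twisted map for the centre -/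
def sMap3 (ρ : MulAut T) (z : T) : F4 → T
  | .o => 1
  | .i => z
  | .w => ρ (ρ z)
  | .v => ρ z

theorem heis_mul_aux {G : Type*} [Group G] (A B C A' B' C' Z : G) (hC : ∀ u, C * u = u * C)
    (hZ : ∀ u, Z * u = u * Z) (hkey : B * A' = Z * (A' * B)) :
    A * B * C * (A' * B' * C') = (A * A') * (B * B') * (C * C' * Z) := by
  have e1 : A * B * C * (A' * B' * C') = A * (B * A') * B' * C' * C := by
    rw [mul_assoc (A * B) C, hC (A' * B' * C')]
    simp only [mul_assoc]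
  rw [e1, hkey]
  have e2 : A * (Z * (A' * B)) * B' * C' * C = Z * (A * A' * B * B' * C' * C) := by
    rw [← mul_assoc A Z, ← hZ A]
    simp only [mul_assoc]
  rw [e2]
  have e3 : (A * A') * (B * B') * (C * C' * Z) = Z * (A * A' * B * B' * C' * C) := by
    rw [← mul_assoc (A * A' * (B * B')), ← hZ, hC C']
    simp only [mul_assoc]
  rw [e3]

section klein

variable {ρ : MulAut T}

/-- the Klein four-group relations for an involution -/
theorem klein_rel (h : Fpf3Facts ρ) {u : T} (hu : u * u = 1) :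
    ρ u * ρ u = 1 ∧ ρ (ρ u) * ρ (ρ u) = 1 ∧ u * ρ u = ρ (ρ u) ∧ ρ u * u = ρ (ρ u) ∧
      u * ρ (ρ u) = ρ u ∧ ρ (ρ u) * u = ρ u ∧ ρ u * ρ (ρ u) = u ∧ ρ (ρ u) * ρ u = u := by
  have hr : ρ u * ρ u = 1 := by rw [← map_mul, hu, map_one]
  have hrr : ρ (ρ u) * ρ (ρ u) = 1 := by rw [← map_mul, hr, map_one]
  have hp := h.prod u
  have hc := h.comm u
  have h1 : u * ρ u = ρ (ρ u) := by
    have : u * ρ u = (ρ (ρ u))⁻¹ := eq_inv_of_mul_eq_one_left hp
    rw [this]
    exact inv_eq_of_mul_eq_one_left hrr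
  have h2 : ρ u * u = ρ (ρ u) := by rw [← hc, h1]
  have h3 : u * ρ (ρ u) = ρ u := by
    rw [← h1, ← mul_assoc, hu, one_mul]
  have h5 : ρ u * ρ (ρ u) = u := by
    rw [← h2, ← mul_assoc, hr, one_mul]
  have h4 : ρ (ρ u) * u = ρ u := by
    rw [← h2, mul_assoc, hu, mul_one]
  have h6 : ρ (ρ u) * ρ u = u := by
    rw [← h1, mul_assoc, hr, mul_one]
  exact ⟨hr, hrr, h1, h2, h3, h4, h5, h6⟩

theorem sMap_add (h : Fpf3Facts ρ) {u : T} (hu : u * u = 1) (a b : F4) :
    sMap ρ u (a + b) = sMap ρ u a * sMap ρ u b := by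
  obtain ⟨hr, hrr, h1, h2, h3, h4, h5, h6⟩ := klein_rel h hu
  have key : ∀ a b c : F4, a + b = c → sMap ρ u c = sMap ρ u a * sMap ρ u b := by
    intro a b c
    cases a <;> cases b <;> cases c <;> intro habc <;>
      first
      | exact absurd habc (by decide)
      | simp [sMap, hu, hr, hrr, h1, h2, h3, h4, h5, h6]
  exact key a b _ rfl

theorem sMap3_add (h : Fpf3Facts ρ) {u : T} (hu : u * u = 1) (a b : F4) :
    sMap3 ρ u (a + b) = sMap3 ρ u a * sMap3 ρ u b := by
  obtain ⟨hr, hrr, h1, h2, h3, h4, h5, h6⟩ := klein_rel h hu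
  have key : ∀ a b c : F4, a + b = c → sMap3 ρ u c = sMap3 ρ u a * sMap3 ρ u b := by
    intro a b c
    cases a <;> cases b <;> cases c <;> intro habc <;>
      first
      | exact absurd habc (by decide)
      | simp [sMap3, hu, hr, hrr, h1, h2, h3, h4, h5, h6]
  exact key a b _ rfl

end klein


section main

variable [Finite T] {ρ : MulAut T}

omit [Finite T] in
theorem sMap3_ne_one {z : T} (hz : z ≠ 1) {c : F4} (hc : sMap3 ρ z c = 1) :
    c = 0 := by
  have hρ : ∀ y : T, ρ y = 1 → y = 1 := fun y hy => by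
    have := ρ.injective (hy.trans (map_one ρ).symm)
    exact this
  cases c with
  | o => rfl
  | i => exact absurd hc hz
  | w => exact absurd (hρ _ (hρ _ hc)) hz
  | v => exact absurd (hρ _ hc) hz

/-- Piece F: `T` is the Heisenberg group over `F4`. -/
theorem nonempty_equiv_heis (hT : Nat.card T = 64) (h : Fpf3Facts ρ) (hc : Cl2Facts ρ)
    (t1 t2 : T) (h1 : t1 * t1 = 1) (h2 : t2 * t2 = 1) (h12 : ⁅t1, t2⁆ ≠ 1) :
    Nonempty (T ≃* Heis F4) := by
  set z0 : T := ⁅t1, t2⁆ with hz0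
  have hz0sq : z0 * z0 = 1 := hc.comm_sq t1 t2
  have hcube := h.cube
  -- the nine commutators
  have c00 : ⁅t1, t2⁆ = z0 := rfl
  have c01 : ⁅t1, ρ t2⁆ = ρ (ρ z0) := hc.rho_right t1 t2
  have c10 : ⁅ρ t1, t2⁆ = ρ (ρ z0) := hc.rho_left t1 t2
  have c11 : ⁅ρ t1, ρ t2⁆ = ρ z0 := hc.rho_rho t1 t2
  have c02 : ⁅t1, ρ (ρ t2)⁆ = ρ z0 := by rw [hc.rho_right, c01, hcube]
  have c20 : ⁅ρ (ρ t1), t2⁆ = ρ z0 := by rw [hc.rho_left, c10, hcube]
  have c12 : ⁅ρ t1, ρ (ρ t2)⁆ = z0 := by rw [hc.rho_rho, c01, hcube]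
  have c21 : ⁅ρ (ρ t1), ρ t2⁆ = z0 := by rw [hc.rho_rho, c10, hcube]
  have c22 : ⁅ρ (ρ t1), ρ (ρ t2)⁆ = ρ (ρ z0) := by rw [hc.rho_rho, c11]
  have htab : ∀ a b : F4, ⁅sMap ρ t1 a, sMap ρ t2 b⁆ = sMap3 ρ z0 (a * b) := by
    have key : ∀ a b c : F4, a * b = c → ⁅sMap ρ t1 a, sMap ρ t2 b⁆ = sMap3 ρ z0 c := by
      intro a b c
      cases a <;> cases b <;> cases c <;> intro habc <;>
        first
        | exact absurd habc (by decide)
        | simp [sMap, sMap3, c00, c01, c02, c10, c11, c12, c20, c21, c22]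
    intro a b
    exact key a b _ rfl
  -- centrality of the `sMap3` values
  have hcen : ∀ (c : F4) (u : T), sMap3 ρ z0 c * u = u * sMap3 ρ z0 c := by
    intro c u
    cases c with
    | o => simp [sMap3]
    | i => exact hc.central t1 t2 u
    | w => show ρ (ρ z0) * u = u * ρ (ρ z0); rw [← c10]; exact hc.central _ _ u
    | v => show ρ z0 * u = u * ρ z0; rw [← c11]; exact hc.central _ _ u
  have hkey : ∀ a b : F4, sMap ρ t1 a * sMap ρ t2 b =
      sMap3 ρ z0 (a * b) * (sMap ρ t2 b * sMap ρ t1 a) := by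
    intro a b
    rw [← htab, commutatorElement_def]
    group
  -- the homomorphism
  let φ : Heis F4 →* T :=
    { toFun := fun p => sMap ρ t2 p.b * sMap ρ t1 p.a * sMap3 ρ z0 p.c
      map_one' := by
        show sMap ρ t2 0 * sMap ρ t1 0 * sMap3 ρ z0 0 = 1
        show (1 : T) * 1 * 1 = 1
        simp
      map_mul' := by
        intro p q
        show sMap ρ t2 (p.b + q.b) * sMap ρ t1 (p.a + q.a) * sMap3 ρ z0 (p.c + q.c + p.a * q.b) =
          sMap ρ t2 p.b * sMap ρ t1 p.a * sMap3 ρ z0 p.c *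
            (sMap ρ t2 q.b * sMap ρ t1 q.a * sMap3 ρ z0 q.c)
        rw [sMap_add h h2, sMap_add h h1, sMap3_add h hz0sq, sMap3_add h hz0sq]
        exact (heis_mul_aux _ _ _ _ _ _ _ (hcen p.c) (hcen (p.a * q.b)) (hkey p.a q.b)).symm }
  have hφ : ∀ p : Heis F4, φ p = sMap ρ t2 p.b * sMap ρ t1 p.a * sMap3 ρ z0 p.c := fun _ => rfl
  -- commutators of `φ p`
  have hinj : Function.Injective φ := by
    rw [injective_iff_map_eq_one]
    intro p hp
    rw [hφ] at hp
    -- commutator with `t2`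
    have e1 : ⁅sMap ρ t2 p.b * sMap ρ t1 p.a * sMap3 ρ z0 p.c, t2⁆ = sMap3 ρ z0 p.a := by
      rw [hc.mul_left, hc.mul_left]
      have x1 : ⁅sMap ρ t2 p.b, t2⁆ = 1 := by
        obtain ⟨_, _, k1, k2, k3, k4, _, _⟩ := klein_rel h h2
        rw [commutatorElement_eq_one_iff_mul_comm]
        cases p.b <;> simp [sMap, k1, k2, k3, k4]
      have x2 : ⁅sMap ρ t1 p.a, t2⁆ = sMap3 ρ z0 p.a := by
        have := htab p.a 1
        rw [mul_one] at this
        exact this
      have x3 : ⁅sMap3 ρ z0 p.c, t2⁆ = 1 := by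
        rw [commutatorElement_eq_one_iff_mul_comm]
        exact hcen p.c t2
      rw [x1, x2, x3, one_mul, mul_one]
    rw [hp, commutatorElement_one_left] at e1
    have ha : p.a = 0 := sMap3_ne_one h12 e1.symm
    have e2 : ⁅t1, sMap ρ t2 p.b * sMap ρ t1 p.a * sMap3 ρ z0 p.c⁆ = sMap3 ρ z0 p.b := by
      rw [hc.mul_right, hc.mul_right]
      have x1 : ⁅t1, sMap ρ t1 p.a⁆ = 1 := by
        obtain ⟨_, _, k1, k2, k3, k4, _, _⟩ := klein_rel h h1
        rw [commutatorElement_eq_one_iff_mul_comm]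
        cases p.a <;> simp [sMap, k1, k2, k3, k4]
      have x2 : ⁅t1, sMap ρ t2 p.b⁆ = sMap3 ρ z0 p.b := by
        have := htab 1 p.b
        rw [one_mul] at this
        exact this
      have x3 : ⁅t1, sMap3 ρ z0 p.c⁆ = 1 := by
        rw [commutatorElement_eq_one_iff_mul_comm]
        exact (hcen p.c t1).symm
      rw [x1, x2, x3, mul_one, mul_one]
    rw [hp, commutatorElement_one_right] at e2
    have hb : p.b = 0 := sMap3_ne_one h12 e2.symm
    rw [ha, hb] at hp
    have hp' : sMap3 ρ z0 p.c = 1 := by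
      have : sMap ρ t2 (0 : F4) * sMap ρ t1 (0 : F4) * sMap3 ρ z0 p.c = sMap3 ρ z0 p.c := by
        show (1 : T) * 1 * sMap3 ρ z0 p.c = sMap3 ρ z0 p.c
        simp
      rw [← this]; exact hp
    have hc' : p.c = 0 := sMap3_ne_one h12 hp'
    ext
    · exact ha
    · exact hb
    · exact hc'
  have hbij : Function.Bijective φ := by
    apply hinj.bijective_of_nat_card_le
    rw [hT, card_heis_F4]
  exact ⟨(MulEquiv.ofBijective φ hbij).symm⟩

end main

end Cfsg.Agent.Helper16.S64
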