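import Mathlib
import Cfsg.Agent.Helper15.S2933Defs
import Cfsg.Agent.Helper16.S64F
import Cfsg.Agent.Helper26.S64A
import Cfsg.Agent.Helper26.S64C
import Cfsg.Agent.Helper8.S64B1
import Cfsg.Agent.Helper8.S64B2

/-! S2933 piece B64: in a non-abelian group `T` of order 64 with a fixed-point-free automorphism
`ρ` of order 3, for a non-central `g` the commutator map `k ↦ ⁅k, g⁆` is onto the centre. -/

set_option autoImplicit false
set_option linter.unusedSectionVars false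
set_option linter.unusedVariables false

namespace Cfsg.Agent.S2933P

open scoped commutatorElement
open Cfsg.Agent.Helper16.S64

universe u

/-- the image of `k ↦ ⁅k, g⁆` as a subgroup, in class two -/
def B64_aux_img {T : Type u} [Group T] {ρ : MulAut T} (hc : Cl2Facts ρ) (g : T) : Subgroup T where
  carrier := {z | ∃ k : T, ⁅k, g⁆ = z}
  one_mem' := ⟨1, by simp⟩
  mul_mem' := by
    rintro a b ⟨k, rfl⟩ ⟨l, rfl⟩
    exact ⟨k * l, hc.mul_left k l g⟩
  inv_mem' := by
    rintro a ⟨k, rfl⟩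
    refine ⟨k⁻¹, ?_⟩
    have h1 : ⁅k⁻¹ * k, g⁆ = ⁅k⁻¹, g⁆ * ⁅k, g⁆ := hc.mul_left k⁻¹ k g
    rw [inv_mul_cancel, commutatorElement_one_left] at h1
    exact eq_inv_of_mul_eq_one_left h1.symm

theorem B64_aux_mem {T : Type u} [Group T] {ρ : MulAut T} (hc : Cl2Facts ρ) (g z : T) :
    z ∈ B64_aux_img hc g ↔ ∃ k : T, ⁅k, g⁆ = z := Iff.rfl

theorem B64 {T : Type u} [Group T] [Finite T] (hT : Nat.card T = 64) (hna : ¬ IsMulCommutative T)
    {ρ : MulAut T} (hf : Fpf3 ρ) (g : T) (hg : g ∉ Subgroup.center T) :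
    ∀ z ∈ Subgroup.center T, ∃ k : T, ⁅k, g⁆ = z := by
  have hF := Cfsg.Agent.Helper26.S64.fpf3Facts_of_fpf3 hf
  obtain ⟨hZ4, hcl⟩ := Cfsg.Agent.Helper8.S64.center_and_class hT hna hF
    (fun N M hNn hN hM => Cfsg.Agent.Helper8.S64.index_ne_four hF N M hNn hN hM)
  have hc := Cfsg.Agent.Helper26.S64.cl2Facts hF hZ4 hcl
  set I := B64_aux_img hc g with hI
  -- `I ≤ Z`
  have hIZ : I ≤ Subgroup.center T := by
    rintro z ⟨k, rfl⟩
    exact Subgroup.mem_center_iff.mpr (fun t => (hc.central k g t).symm)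
  -- `I` is ρ-invariant
  have hIρ : ∀ n ∈ I, ρ n ∈ I := by
    rintro z ⟨k, rfl⟩
    refine ⟨ρ (ρ k), ?_⟩
    rw [hc.rho_left, hc.rho_left, hF.cube]
  -- `I ≠ ⊥`
  have hI1 : Nat.card I ≠ 1 := by
    intro h1
    apply hg
    rw [Subgroup.mem_center_iff]
    intro t
    have hbot : I = ⊥ := Subgroup.card_eq_one.mp h1
    have : ⁅t, g⁆ ∈ I := ⟨t, rfl⟩
    rw [hbot, Subgroup.mem_bot] at this
    exact (commutatorElement_eq_one_iff_mul_comm.mp this)
  have hmod : Nat.card I % 3 = 1 := hF.card_mod I hIρ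
  have hdvd : Nat.card I ∣ 4 := by
    rw [← hZ4]
    exact Subgroup.card_dvd_of_le hIZ
  have hI4 : Nat.card I = 4 := by
    have hle : Nat.card I ≤ 4 := Nat.le_of_dvd (by norm_num) hdvd
    interval_cases h : Nat.card I <;> simp_all
  have hIeq : I = Subgroup.center T := by
    apply Subgroup.eq_of_le_of_card_ge hIZ
    rw [hI4, hZ4]
  intro z hz
  rw [← hIeq] at hz
  exact hz

end Cfsg.Agent.S2933P
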