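import Mathlib
import Cfsg.Agent.Helper15.S2933Defs
import Cfsg.Agent.Helper16.S64F
import Cfsg.Agent.Helper26.S64A
import Cfsg.Agent.Helper26.S64C
import Cfsg.Agent.Helper8.S64B1
import Cfsg.Agent.Helper8.S64B2

/-! S2933 piece UNIQ: the normal form data `UData ρ s x w` determine the group of order 64.
`θ(a,b,c) = sMap ρ x a * sMap ρ w b * sMap3 ρ s c` is a bijection `F4³ → T` with
`θ(p) θ(q) = θ(p ∗ q)`, `(a,b,c) ∗ (a',b',c') = (a+a', b+b', c+c'+a a'+b b'+ω² a' b)`. -/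

set_option autoImplicit false
set_option linter.unusedSectionVars false
set_option linter.unusedVariables false

namespace Cfsg.Agent.S2933P

open scoped commutatorElement
open Cfsg.Agent.Helper16.S64

/-- the operation on `F4³` -/
def UNIQ_aux_op (p q : F4 × F4 × F4) : F4 × F4 × F4 :=
  (p.1 + q.1, p.2.1 + q.2.1,
    p.2.2 + q.2.2 + p.1 * q.1 + p.2.1 * q.2.1 + Cfsg.Agent.Helper19.Sp4.F4.v * q.1 * p.2.1)

section

variable {T : Type*} [Group T]

/-- the coordinate map -/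
def UNIQ_aux_theta (ρ : MulAut T) (s x w : T) (p : F4 × F4 × F4) : T :=
  sMap ρ x p.1 * sMap ρ w p.2.1 * sMap3 ρ s p.2.2

theorem UNIQ_aux_mul {G : Type*} [Group G] (A B C A' B' C' Z Z1 Z2 A2 B2 : G)
    (hC : ∀ u, C * u = u * C) (hZ : ∀ u, Z * u = u * Z) (hZ1 : ∀ u, Z1 * u = u * Z1)
    (hZ2 : ∀ u, Z2 * u = u * Z2)
    (hkey : B * A' = Z * (A' * B)) (hA : A * A' = A2 * Z1) (hB : B * B' = B2 * Z2) :
    A * B * C * (A' * B' * C') = A2 * B2 * (C * C' * Z1 * Z2 * Z) := by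
  rw [heis_mul_aux A B C A' B' C' Z hC hZ hkey, hA, hB]
  have e1 : A2 * Z1 * (B2 * Z2) * (C * C' * Z) = A2 * (Z1 * (B2 * (Z2 * (C * C' * Z)))) := by
    simp only [mul_assoc]
  have e2 : A2 * B2 * (C * C' * Z1 * Z2 * Z) = A2 * (B2 * (C * C' * (Z1 * (Z2 * Z)))) := by
    simp only [mul_assoc]
  rw [e1, e2, hZ2 (C * C' * Z), hZ1 (B2 * (C * C' * Z * Z2))]
  have e3 : C * C' * Z * Z2 * Z1 = C * C' * (Z1 * (Z2 * Z)) := by
    rw [mul_assoc (C * C') Z Z2, ← hZ2 Z, mul_assoc (C * C') (Z2 * Z) Z1, ← hZ1 (Z2 * Z)]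
  rw [mul_assoc B2, e3]

variable {ρ : MulAut T}

/-- the cocycle of `a ↦ sMap ρ u a` when `u * u = s` is central of order two -/
theorem UNIQ_aux_sq_add (h : Fpf3Facts ρ) {s u : T} (hs : s * s = 1) (hu : u * u = s) (a a' : F4) :
    sMap ρ u a * sMap ρ u a' = sMap ρ u (a + a') * sMap3 ρ s (a * a') := by
  have hcube := h.cube
  have hr : ρ u * ρ u = ρ s := by rw [← map_mul, hu]
  have hrr : ρ (ρ u) * ρ (ρ u) = ρ (ρ s) := by rw [← map_mul, hr]
  have hrs : ρ s * ρ s = 1 := by rw [← map_mul, hs, map_one]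
  have hrrs : ρ (ρ s) * ρ (ρ s) = 1 := by rw [← map_mul, hrs, map_one]
  have hp := h.prod u
  have hc := h.comm u
  -- `u * ρ u = ρ² u * ρ² s`
  have h1 : u * ρ u = ρ (ρ u) * ρ (ρ s) := by
    have e : u * ρ u = (ρ (ρ u))⁻¹ := eq_inv_of_mul_eq_one_left hp
    rw [e]
    have e2 : (ρ (ρ u))⁻¹ = ρ (ρ u) * (ρ (ρ u) * ρ (ρ u))⁻¹ := by group
    rw [e2, hrr]
    congr 1
    exact inv_eq_of_mul_eq_one_left hrrs
  have h1' : ρ u * u = ρ (ρ u) * ρ (ρ s) := by rw [← hc, h1]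
  have h2 : ρ u * ρ (ρ u) = u * s := by
    have := congrArg ρ h1
    simp only [map_mul, hcube] at this
    exact this
  have h2' : ρ (ρ u) * ρ u = u * s := by
    have := congrArg ρ h1'
    simp only [map_mul, hcube] at this
    exact this
  have h3 : ρ (ρ u) * u = ρ u * ρ s := by
    have := congrArg ρ h2
    simp only [map_mul, hcube] at this
    exact this
  have h3' : u * ρ (ρ u) = ρ u * ρ s := by
    have := congrArg ρ h2'
    simp only [map_mul, hcube] at this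
    exact this
  have key : ∀ a a' c d : F4, a + a' = c → a * a' = d →
      sMap ρ u a * sMap ρ u a' = sMap ρ u c * sMap3 ρ s d := by
    intro a a' c d
    cases a <;> cases a' <;> cases c <;> intro hc' <;>
      first
      | exact absurd hc' (by decide)
      | (cases d <;> intro hd <;>
          first
          | exact absurd hd (by decide)
          | simp [sMap, sMap3, hu, hr, hrr, h1, h1', h2, h2', h3, h3'])
  exact key a a' _ _ rfl rfl

end

section main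

variable {T : Type*} [Group T] {ρ : MulAut T} {s x w : T}

/-- the standard facts available from `UData` -/
theorem UNIQ_aux_facts (h : UData ρ s x w) :
    Finite T ∧ Fpf3Facts ρ ∧ Cl2Facts ρ := by
  have hfin : Finite T := Nat.finite_of_card_ne_zero (by rw [h.card]; norm_num)
  have hF : Fpf3Facts ρ := Cfsg.Agent.Helper26.S64.fpf3Facts_of_fpf3 h.fpf
  have hρinj : ∀ y : T, ρ y = 1 → y = 1 := fun y hy =>
    ρ.injective (hy.trans (map_one ρ).symm)
  have hna : ¬ IsMulCommutative T := by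
    intro hcomm
    have h1 : ⁅x, w⁆ = 1 := by
      rw [commutatorElement_eq_one_iff_mul_comm]
      exact hcomm.is_comm.comm x w
    rw [h.comm] at h1
    exact h.s_ne (hρinj _ h1)
  obtain ⟨hZ4, hcl⟩ := Cfsg.Agent.Helper8.S64.center_and_class h.card hna hF
    (fun N M hNn hN hM => Cfsg.Agent.Helper8.S64.index_ne_four hF N M hNn hN hM)
  exact ⟨hfin, hF, Cfsg.Agent.Helper26.S64.cl2Facts hF hZ4 hcl⟩

theorem UNIQ_aux_central (h : UData ρ s x w) (c : F4) (u : T) :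
    sMap3 ρ s c * u = u * sMap3 ρ s c := by
  have h1 := Cfsg.Agent.Helper8.S64.rho_mem_center h.fpf s h.s_mem
  have h2 := Cfsg.Agent.Helper8.S64.rho_mem_center h.fpf _ h1
  cases c with
  | o => simp [sMap3]
  | i => exact (Subgroup.mem_center_iff.mp h.s_mem u).symm
  | w => exact (Subgroup.mem_center_iff.mp h2 u).symm
  | v => exact (Subgroup.mem_center_iff.mp h1 u).symm

/-- the commutator table -/
theorem UNIQ_aux_tab (h : UData ρ s x w) (a b : F4) :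
    ⁅sMap ρ x a, sMap ρ w b⁆ = sMap3 ρ s (Cfsg.Agent.Helper19.Sp4.F4.v * a * b) := by
  obtain ⟨hfin, hF, hc⟩ := UNIQ_aux_facts h
  have hcube := hF.cube
  have c00 : ⁅x, w⁆ = ρ s := h.comm
  have c01 : ⁅x, ρ w⁆ = s := by rw [hc.rho_right, c00, hcube]
  have c10 : ⁅ρ x, w⁆ = s := by rw [hc.rho_left, c00, hcube]
  have c11 : ⁅ρ x, ρ w⁆ = ρ (ρ s) := by rw [hc.rho_rho, c00]
  have c02 : ⁅x, ρ (ρ w)⁆ = ρ (ρ s) := by rw [hc.rho_right, c01]
  have c20 : ⁅ρ (ρ x), w⁆ = ρ (ρ s) := by rw [hc.rho_left, c10]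
  have c12 : ⁅ρ x, ρ (ρ w)⁆ = ρ s := by rw [hc.rho_rho, c01]
  have c21 : ⁅ρ (ρ x), ρ w⁆ = ρ s := by rw [hc.rho_rho, c10]
  have c22 : ⁅ρ (ρ x), ρ (ρ w)⁆ = s := by rw [hc.rho_rho, c11, hcube]
  have key : ∀ a b c : F4, Cfsg.Agent.Helper19.Sp4.F4.v * a * b = c → ⁅sMap ρ x a, sMap ρ w b⁆ = sMap3 ρ s c := by
    intro a b c
    cases a <;> cases b <;> cases c <;> intro habc <;>
      first
      | exact absurd habc (by decide)
      | simp [sMap, sMap3, c00, c01, c02, c10, c11, c12, c20, c21, c22]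
  exact key a b _ rfl

theorem UNIQ_aux_s_sq (h : UData ρ s x w) : s * s = 1 := by
  obtain ⟨hfin, hF, hc⟩ := UNIQ_aux_facts h
  exact hc.center_sq s h.s_mem

/-- `θ` is multiplicative for the operation `∗` -/
theorem UNIQ_aux_theta_mul (h : UData ρ s x w) (p q : F4 × F4 × F4) :
    UNIQ_aux_theta ρ s x w p * UNIQ_aux_theta ρ s x w q =
      UNIQ_aux_theta ρ s x w (UNIQ_aux_op p q) := by
  obtain ⟨hfin, hF, hc⟩ := UNIQ_aux_facts h
  have hs2 := UNIQ_aux_s_sq h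
  obtain ⟨a, b, c⟩ := p
  obtain ⟨a', b', c'⟩ := q
  show sMap ρ x a * sMap ρ w b * sMap3 ρ s c * (sMap ρ x a' * sMap ρ w b' * sMap3 ρ s c') =
    sMap ρ x (a + a') * sMap ρ w (b + b') * sMap3 ρ s (c + c' + a * a' + b * b' + Cfsg.Agent.Helper19.Sp4.F4.v * a' * b)
  have hZsq : ∀ d : F4, sMap3 ρ s d * sMap3 ρ s d = 1 := by
    intro d
    rw [← sMap3_add hF hs2]
    have : d + d = 0 := by cases d <;> rfl
    rw [this]
    rfl
  have hkey : sMap ρ w b * sMap ρ x a' = sMap3 ρ s (Cfsg.Agent.Helper19.Sp4.F4.v * a' * b) * (sMap ρ x a' * sMap ρ w b) := by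
    have h1 : ⁅sMap ρ w b, sMap ρ x a'⁆ = sMap3 ρ s (Cfsg.Agent.Helper19.Sp4.F4.v * a' * b) := by
      rw [← hc.inv_swap, UNIQ_aux_tab h]
      exact inv_eq_of_mul_eq_one_left (hZsq _)
    rw [← h1, commutatorElement_def]
    group
  rw [UNIQ_aux_mul _ _ _ _ _ _ _ _ _ _ _ (UNIQ_aux_central h c) (UNIQ_aux_central h _)
    (UNIQ_aux_central h (a * a')) (UNIQ_aux_central h (b * b')) hkey
    (UNIQ_aux_sq_add hF hs2 h.x_sq a a') (UNIQ_aux_sq_add hF hs2 h.w_sq b b')]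
  rw [sMap3_add hF hs2, sMap3_add hF hs2, sMap3_add hF hs2, sMap3_add hF hs2]

theorem UNIQ_aux_sMap3_inj (h : UData ρ s x w) {c c' : F4}
    (hcc : sMap3 ρ s c = sMap3 ρ s c') : c = c' := by
  obtain ⟨hfin, hF, hc⟩ := UNIQ_aux_facts h
  have hs2 := UNIQ_aux_s_sq h
  have h1 : sMap3 ρ s (c + c') = 1 := by
    rw [sMap3_add hF hs2, hcc, ← sMap3_add hF hs2]
    have : c' + c' = 0 := by cases c' <;> rfl
    rw [this]
    rfl
  have h2 := sMap3_ne_one h.s_ne h1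
  have h3 : ∀ c c' : F4, c + c' = 0 → c = c' := by
    intro c c'
    cases c <;> cases c' <;> intro hh <;> first | rfl | exact absurd hh (by decide)
  exact h3 c c' h2

theorem UNIQ_aux_mul_inj (d : F4) (hd : d ≠ 0) {a a' : F4} (h : d * a = d * a') : a = a' :=
  mul_left_cancel₀ hd h

theorem UNIQ_aux_theta_inj (h : UData ρ s x w) :
    Function.Injective (UNIQ_aux_theta ρ s x w) := by
  obtain ⟨hfin, hF, hc⟩ := UNIQ_aux_facts h
  have hs2 := UNIQ_aux_s_sq h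
  -- commutator of `θ p` with `w` and with `x`
  have e1 : ∀ p : F4 × F4 × F4, ⁅UNIQ_aux_theta ρ s x w p, w⁆ = sMap3 ρ s (Cfsg.Agent.Helper19.Sp4.F4.v * p.1) := by
    intro p
    show ⁅sMap ρ x p.1 * sMap ρ w p.2.1 * sMap3 ρ s p.2.2, w⁆ = _
    rw [hc.mul_left, hc.mul_left]
    have x1 : ⁅sMap ρ x p.1, w⁆ = sMap3 ρ s (Cfsg.Agent.Helper19.Sp4.F4.v * p.1) := by
      have := UNIQ_aux_tab h p.1 1
      rw [mul_one] at this
      exact this
    have x2 : ⁅sMap ρ w p.2.1, w⁆ = 1 := by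
      rw [commutatorElement_eq_one_iff_mul_comm]
      have k1 := hF.comm w
      have k2 : ρ (ρ w) * w = w * ρ (ρ w) := by
        have := hF.comm (ρ (ρ w))
        rw [hF.cube] at this
        exact this
      cases p.2.1 <;> simp [sMap, k1, k2]
    have x3 : ⁅sMap3 ρ s p.2.2, w⁆ = 1 := by
      rw [commutatorElement_eq_one_iff_mul_comm]
      exact UNIQ_aux_central h _ w
    rw [x1, x2, x3, mul_one, mul_one]
  have e2 : ∀ p : F4 × F4 × F4, ⁅x, UNIQ_aux_theta ρ s x w p⁆ = sMap3 ρ s (Cfsg.Agent.Helper19.Sp4.F4.v * p.2.1) := by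
    intro p
    show ⁅x, sMap ρ x p.1 * sMap ρ w p.2.1 * sMap3 ρ s p.2.2⁆ = _
    rw [hc.mul_right, hc.mul_right]
    have x1 : ⁅x, sMap ρ x p.1⁆ = 1 := by
      rw [commutatorElement_eq_one_iff_mul_comm]
      have k1 := hF.comm x
      have k2 : ρ (ρ x) * x = x * ρ (ρ x) := by
        have := hF.comm (ρ (ρ x))
        rw [hF.cube] at this
        exact this
      cases p.1 <;> simp [sMap, k1, k2]
    have x2 : ⁅x, sMap ρ w p.2.1⁆ = sMap3 ρ s (Cfsg.Agent.Helper19.Sp4.F4.v * p.2.1) := by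
      have := UNIQ_aux_tab h 1 p.2.1
      rw [mul_one] at this
      exact this
    have x3 : ⁅x, sMap3 ρ s p.2.2⁆ = 1 := by
      rw [commutatorElement_eq_one_iff_mul_comm]
      exact (UNIQ_aux_central h _ x).symm
    rw [x1, x2, x3, one_mul, mul_one]
  have hv : (Cfsg.Agent.Helper19.Sp4.F4.v : F4) ≠ 0 := by decide
  intro p q hpq
  have ha : p.1 = q.1 := by
    have := e1 p
    rw [hpq, e1 q] at this
    exact UNIQ_aux_mul_inj Cfsg.Agent.Helper19.Sp4.F4.v hv (UNIQ_aux_sMap3_inj h this).symm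
  have hb : p.2.1 = q.2.1 := by
    have := e2 p
    rw [hpq, e2 q] at this
    exact UNIQ_aux_mul_inj Cfsg.Agent.Helper19.Sp4.F4.v hv (UNIQ_aux_sMap3_inj h this).symm
  have hc' : p.2.2 = q.2.2 := by
    have : sMap ρ x p.1 * sMap ρ w p.2.1 * sMap3 ρ s p.2.2 =
        sMap ρ x q.1 * sMap ρ w q.2.1 * sMap3 ρ s q.2.2 := hpq
    rw [ha, hb] at this
    exact UNIQ_aux_sMap3_inj h (mul_left_cancel this)
  exact Prod.ext ha (Prod.ext hb hc')

theorem UNIQ_aux_theta_bij (h : UData ρ s x w) :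
    Function.Bijective (UNIQ_aux_theta ρ s x w) := by
  obtain ⟨hfin, hF, hc⟩ := UNIQ_aux_facts h
  apply (UNIQ_aux_theta_inj h).bijective_of_nat_card_le
  rw [h.card, Nat.card_eq_fintype_card]
  decide

end main

theorem UNIQ {T₁ : Type*} [Group T₁] {T₂ : Type*} [Group T₂] {ρ₁ : MulAut T₁} {ρ₂ : MulAut T₂}
    {s₁ x₁ w₁ : T₁} {s₂ x₂ w₂ : T₂} (h₁ : UData ρ₁ s₁ x₁ w₁) (h₂ : UData ρ₂ s₂ x₂ w₂) :
    Nonempty (T₁ ≃* T₂) := by
  let e₁ : (F4 × F4 × F4) ≃ T₁ := Equiv.ofBijective _ (UNIQ_aux_theta_bij h₁)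
  let e₂ : (F4 × F4 × F4) ≃ T₂ := Equiv.ofBijective _ (UNIQ_aux_theta_bij h₂)
  refine ⟨{ toEquiv := e₁.symm.trans e₂, map_mul' := ?_ }⟩
  intro g k
  obtain ⟨p, rfl⟩ := e₁.surjective g
  obtain ⟨q, rfl⟩ := e₁.surjective k
  have hm₁ : e₁ p * e₁ q = e₁ (UNIQ_aux_op p q) := UNIQ_aux_theta_mul h₁ p q
  have hm₂ : e₂ p * e₂ q = e₂ (UNIQ_aux_op p q) := UNIQ_aux_theta_mul h₂ p q
  show (e₁.symm.trans e₂) (e₁ p * e₁ q) = (e₁.symm.trans e₂) (e₁ p) * (e₁.symm.trans e₂) (e₁ q)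
  rw [hm₁]
  simp only [Equiv.trans_apply, Equiv.symm_apply_apply]
  exact hm₂.symm

end Cfsg.Agent.S2933P
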