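import Mathlib
import Cfsg.Agent.Helper16.S64Defs

set_option autoImplicit false

/-! Piece DU of the S3157 drive: the preimage `U` of `C_{T/Z}(x)`. -/

namespace Cfsg.Agent.Helper16.S64

open scoped commutatorElement

variable {T : Type*} [Group T] [Finite T] {ρ x : MulAut T}

omit [Finite T] in
theorem map_mem_center (f : MulAut T) {z : T} (hz : z ∈ Subgroup.center T) :
    f z ∈ Subgroup.center T := by
  rw [Subgroup.mem_center_iff] at hz ⊢
  intro g
  have := hz (f.symm g)
  have h2 := congrArg f this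
  simpa using h2

/-- Piece DU. -/
theorem exists_U (hT : Nat.card T = 64) (h : Fpf3Facts ρ) (hx : XData ρ x) (hc : Cl2Facts ρ)
    (hZ : Nat.card (Subgroup.center T) = 4) :
    ∃ U : Subgroup T, (∀ t, t ∈ U ↔ t⁻¹ * x t ∈ Subgroup.center T) ∧ Nat.card U = 16 ∧
      ∀ t : T, ∃ u ∈ U, ∃ v ∈ U, t = u * ρ v := by
  classical
  set Z : Subgroup T := Subgroup.center T with hZdef
  let π : T →* T ⧸ Z := QuotientGroup.mk' Z
  have hπ1 : ∀ t : T, π t = 1 ↔ t ∈ Z := fun t => QuotientGroup.eq_one_iff t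
  have hcommem : ∀ s t : T, ⁅s, t⁆ ∈ Z := by
    intro s t
    rw [hZdef, Subgroup.mem_center_iff]
    intro u
    exact (hc.central s t u).symm
  have hQcomm : ∀ a b : T ⧸ Z, a * b = b * a := by
    intro a b
    obtain ⟨s, rfl⟩ := QuotientGroup.mk'_surjective Z a
    obtain ⟨t, rfl⟩ := QuotientGroup.mk'_surjective Z b
    have h1 : π ⁅s, t⁆ = 1 := (hπ1 _).2 (hcommem s t)
    have h2 : π s * π t = π ⁅s, t⁆ * (π t * π s) := by
      rw [← map_mul, ← map_mul, ← map_mul, commutatorElement_def]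
      congr 1
      group
    show π s * π t = π t * π s
    rw [h2, h1, one_mul]
  -- the homomorphism δ
  let δ : T →* T ⧸ Z :=
    { toFun := fun t => π (t⁻¹ * x t)
      map_one' := by simp
      map_mul' := by
        intro s t
        show π ((s * t)⁻¹ * x (s * t)) = π (s⁻¹ * x s) * π (t⁻¹ * x t)
        have hfour : ∀ a b c d : T ⧸ Z, a * b * (c * d) = b * c * (a * d) := by
          intro a b c d
          rw [hQcomm a b, mul_assoc, mul_assoc, ← mul_assoc a c, hQcomm a c, mul_assoc]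
        rw [map_mul x, mul_inv_rev]
        simp only [map_mul]
        exact hfour _ _ _ _ }
  have hδ : ∀ t, δ t = π (t⁻¹ * x t) := fun _ => rfl
  set U : Subgroup T := δ.ker with hUdef
  have hUmem : ∀ t, t ∈ U ↔ t⁻¹ * x t ∈ Z := by
    intro t
    rw [hUdef, MonoidHom.mem_ker, hδ, hπ1]
  have hZU : Z ≤ U := by
    intro z hz
    rw [hUmem]
    exact Z.mul_mem (Z.inv_mem hz) (map_mem_center x hz)
  -- squares are central
  have hsq : ∀ t : T, t * t ∈ Z := by
    intro t
    rw [hZdef, Subgroup.mem_center_iff]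
    intro u
    exact (hc.sq_central t u).symm
  -- the range of δ lies in the image of U
  have hrange : δ.range ≤ U.map π := by
    rintro _ ⟨t, rfl⟩
    refine ⟨t⁻¹ * x t, ?_, rfl⟩
    show t⁻¹ * x t ∈ U
    rw [hUmem]
    have : (t⁻¹ * x t)⁻¹ * x (t⁻¹ * x t) = ((t⁻¹ * x t) * (t⁻¹ * x t))⁻¹ := by
      rw [map_mul, hx.invol, map_inv]
      group
    rw [this]
    exact Z.inv_mem (hsq _)
  -- cardinalities
  have hcardZU : Nat.card Z * Z.relIndex U = Nat.card U := by
    have := Subgroup.relIndex_mul_relIndex (⊥ : Subgroup T) Z U bot_le hZU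
    rwa [Subgroup.relIndex_bot_left, Subgroup.relIndex_bot_left] at this
  have hker : (QuotientGroup.mk' Z).ker = Z := QuotientGroup.ker_mk' Z
  have hmapU : Nat.card (U.map π) = Z.relIndex U := by
    have := Subgroup.relIndex_ker (K := U) π
    rw [hker] at this
    exact this.symm
  have hUpos : 0 < Nat.card U := Nat.card_pos
  have h1 : Nat.card U * Nat.card δ.range = 64 := by
    rw [← Subgroup.index_ker, ← hUdef, Subgroup.card_mul_index, hT]
  have h2 : Nat.card δ.range ≤ Nat.card (U.map π) :=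
    Subgroup.card_le_of_le hrange
  have hge : 16 ≤ Nat.card U := by
    rw [hmapU] at h2
    rw [hZ] at hcardZU
    by_contra hlt
    push Not at hlt
    have h3 : Nat.card U * Nat.card δ.range ≤ Nat.card U * Z.relIndex U :=
      Nat.mul_le_mul_left _ h2
    have h4 : 4 * (Nat.card U * Z.relIndex U) = Nat.card U * Nat.card U := by
      rw [← hcardZU]; ring
    have h5 : Nat.card U * Nat.card U < 16 * 16 := Nat.mul_lt_mul'' hlt hlt
    omega
  -- the image of U under ρ
  set V : Subgroup T := U.map ρ.toMonoidHom with hVdef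
  have hVcard : Nat.card V = Nat.card U := Subgroup.card_map_of_injective ρ.injective
  have hρZ : ∀ z ∈ Z, ρ z ∈ Z := fun z hz => map_mem_center ρ hz
  have hUV : U ⊓ V = Z := by
    apply le_antisymm
    · rintro t ⟨htU, v, hvU, rfl⟩
      have hvU' : v⁻¹ * x v ∈ Z := (hUmem v).1 hvU
      have htU' : (ρ v)⁻¹ * x (ρ v) ∈ Z := (hUmem _).1 htU
      -- x (ρ v) = ρ (ρ (x v))
      have e1 : x (ρ v) = ρ (ρ (x v)) := by
        have := hx.inv_rho (x v)
        rwa [hx.invol] at this
      apply h.coset Z hρZ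
      -- (ρ v)⁻¹ * ρ (ρ v) ∈ Z
      have e2 : (ρ v)⁻¹ * ρ (ρ v) = ((ρ v)⁻¹ * x (ρ v)) * (ρ (ρ (v⁻¹ * x v)))⁻¹ := by
        rw [e1, map_mul, map_mul, map_inv, map_inv]
        group
      show (ρ.toMonoidHom v)⁻¹ * ρ (ρ.toMonoidHom v) ∈ Z
      show (ρ v)⁻¹ * ρ (ρ v) ∈ Z
      rw [e2]
      exact Z.mul_mem htU' (Z.inv_mem (hρZ _ (hρZ _ hvU')))
    · intro z hz
      refine ⟨hZU hz, ?_⟩
      -- z = ρ (ρ (ρ z)), and ρ (ρ z) ∈ Z ≤ U
      refine ⟨ρ (ρ z), hZU (hρZ _ (hρZ _ hz)), ?_⟩
      show ρ (ρ (ρ z)) = z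
      exact h.cube z
  have hUn : U.Normal := by rw [hUdef]; exact MonoidHom.normal_ker δ
  have hsup : Nat.card U * U.relIndex V = Nat.card (V ⊔ U : Subgroup T) := by
    have e1 : U.relIndex (V ⊔ U) = U.relIndex V := Subgroup.relIndex_sup_right V U
    have e2 := Subgroup.relIndex_mul_relIndex (⊥ : Subgroup T) U (V ⊔ U) bot_le le_sup_right
    rw [Subgroup.relIndex_bot_left, Subgroup.relIndex_bot_left, e1] at e2
    exact e2
  have hrelV : Nat.card Z * U.relIndex V = Nat.card V := by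
    have e1 : (U ⊓ V).relIndex V = U.relIndex V := Subgroup.inf_relIndex_right U V
    rw [hUV] at e1
    have hZV : Z ≤ V := by rw [← hUV]; exact inf_le_right
    have e2 := Subgroup.relIndex_mul_relIndex (⊥ : Subgroup T) Z V bot_le hZV
    rw [Subgroup.relIndex_bot_left, Subgroup.relIndex_bot_left, e1] at e2
    exact e2
  have hle64 : Nat.card (V ⊔ U : Subgroup T) ≤ 64 := by
    rw [← hT]; exact Subgroup.card_le_card_group _
  have hUle : Nat.card U ≤ 16 := by
    rw [hZ, hVcard] at hrelV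
    by_contra hgt
    push Not at hgt
    have h5 : 16 * 16 < Nat.card U * Nat.card U := Nat.mul_lt_mul'' hgt hgt
    have h6 : 4 * (Nat.card U * U.relIndex V) = Nat.card U * Nat.card U := by
      rw [← hrelV]; ring
    omega
  have hU16 : Nat.card U = 16 := le_antisymm hUle hge
  have htop : (V ⊔ U : Subgroup T) = ⊤ := by
    apply Subgroup.eq_top_of_card_eq
    rw [hZ, hVcard, hU16] at hrelV
    rw [hU16] at hsup
    rw [hT]
    omega
  refine ⟨U, hUmem, hU16, ?_⟩
  intro t
  have ht : t ∈ (V ⊔ U : Subgroup T) := by rw [htop]; exact Subgroup.mem_top t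
  rw [sup_comm, Subgroup.mem_sup_of_normal_left] at ht
  obtain ⟨u, hu, w, ⟨v, hv, rfl⟩, rfl⟩ := ht
  exact ⟨u, hu, v, hv, rfl⟩

end Cfsg.Agent.Helper16.S64
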