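import Mathlib
import Cfsg.Prelude.Def_JComponents
import Cfsg.Prelude.Def_Involutions
import Cfsg.Agent.Helper5.S2951Defs
import Cfsg.Agent.Helper25.S2951ZFACTS
import Cfsg.Agent.Helper25.S2951CARD
import Cfsg.Agent.Helper15.S2951CONJ
import Cfsg.Agent.Helper17.S2951MZERO

/-! S2951 board, piece LEMB (blueprint §3, Lemma B): `T = S`, two different maximal 2-locals
`L ≠ L'`, `S ≤ L`: then `Ω₁Z(S) = Z₀` and `|Z₀| ∈ {2, 4}`. -/

set_option autoImplicit false
set_option linter.unusedSectionVars false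

universe u

namespace Cfsg.Agent.S2951P

open Cfsg Subgroup Cfsg.Agent.Helper15.JComp Cfsg.Agent.S2951P

variable {G : Type u} [Group G] [Finite G] {M T K K' L L' : Subgroup G}

/-- elements of `Ω₁Z(X)` have square one -/
theorem LEMB_aux_sq {X : Subgroup G} {e : G} (he : e ∈ omegaCenterOf X) : e * e = 1 := by
  unfold omegaCenterOf omegaOne at he
  have key : ∀ y ∈ closure {x : G | x ∈ X ⊓ centralizer (X : Set G) ∧ x ^ 2 = 1},
      y ∈ X ⊓ centralizer (X : Set G) ∧ y * y = 1 := by
    intro y hy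
    induction hy using Subgroup.closure_induction with
    | mem x hx => exact ⟨hx.1, by rw [← pow_two]; exact hx.2⟩
    | one => exact ⟨one_mem _, by simp⟩
    | mul x y _ _ ihx ihy =>
      refine ⟨mul_mem ihx.1 ihy.1, ?_⟩
      have hc : y * x = x * y := (Subgroup.mem_centralizer_iff.mp ihx.1.2) y ihy.1.1
      calc x * y * (x * y) = x * (y * x) * y := by group
        _ = x * (x * y) * y := by rw [hc]
        _ = (x * x) * (y * y) := by group
        _ = 1 := by rw [ihx.2, ihy.2, one_mul]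
    | inv x _ ih =>
      refine ⟨inv_mem ih.1, ?_⟩
      have : x⁻¹ = x := by rw [inv_eq_iff_mul_eq_one]; exact ih.2
      rw [this]; exact ih.2
  exact (key e he).2

/-- a central element of `X` of square one lies in `Ω₁Z(X)` -/
theorem LEMB_aux_mem {X : Subgroup G} {e : G} (heX : e ∈ X) (hc : ∀ x ∈ X, x * e = e * x)
    (he2 : e * e = 1) : e ∈ omegaCenterOf X := by
  unfold omegaCenterOf omegaOne
  apply Subgroup.subset_closure
  refine ⟨⟨heX, Subgroup.mem_centralizer_iff.mpr hc⟩, by rw [pow_two]; exact he2⟩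

/-- LEMB (M) = §3. -/
theorem LEMB (S : Sylow 2 G)
    (c₀ : StraddleCtx (normalizer ((thompsonSubgroupOf 2 (S : Subgroup G) : Subgroup G) : Set G))
      (S : Subgroup G))
    (hK : IsJComponent (S : Subgroup G) K) (h : IsLK (S : Subgroup G) K L)
    (hSL : (S : Subgroup G) ≤ L)
    (hK' : IsJComponent (S : Subgroup G) K') (h' : IsLK (S : Subgroup G) K' L') (hne : L ≠ L') :
    omegaCenterOf (S : Subgroup G) = Z0 (S : Subgroup G) ∧
      (Nat.card ↥(Z0 (S : Subgroup G)) = 2 ∨ Nat.card ↥(Z0 (S : Subgroup G)) = 4) := by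
  classical
  have hS2 : IsPGroup 2 ↥(S : Subgroup G) := S.isPGroup'
  have hKM := MZERO_out hS2 hK
  have hK'M := MZERO_out hS2 hK'
  obtain ⟨hZ1le, hZ0le, hZ0ge⟩ := CARD_le_four c₀ hK hKM h hK' hK'M h' hne
  have h2K := CARD_two_mul c₀ hK
  have h2K' := CARD_two_mul c₀ hK'
  obtain ⟨hZne, -, hZZ0, hZK⟩ := ZFACTS c₀ S le_rfl le_rfl
  have hcard : Nat.card ↥(Z0 (S : Subgroup G)) = 2 ∨ Nat.card ↥(Z0 (S : Subgroup G)) = 4 := by
    omega
  refine ⟨?_, hcard⟩
  have hZ1 : Nat.card ↥(omegaCenterOf (S : Subgroup G)) ≠ 1 := fun h1 =>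
    hZne (Subgroup.card_eq_one.mp h1)
  have hZpos : 0 < Nat.card ↥(omegaCenterOf (S : Subgroup G)) := Nat.card_pos
  have hZdvd : Nat.card ↥(omegaCenterOf (S : Subgroup G)) ∣ Nat.card ↥(Z0 (S : Subgroup G)) :=
    Subgroup.card_dvd_of_le hZZ0
  by_contra hZneq
  have hZlt : Nat.card ↥(omegaCenterOf (S : Subgroup G)) < Nat.card ↥(Z0 (S : Subgroup G)) := by
    by_contra hge
    rw [not_lt] at hge
    exact hZneq (Subgroup.eq_of_le_of_card_ge hZZ0 hge)
  -- so `|Z₀| = 4`, `|Z| = 2`
  have hZ04 : Nat.card ↥(Z0 (S : Subgroup G)) = 4 := by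
    rcases hcard with h2 | h4
    · omega
    · exact h4
  have hZ2 : Nat.card ↥(omegaCenterOf (S : Subgroup G)) = 2 := by
    rw [hZ04] at hZdvd hZlt
    have : Nat.card ↥(omegaCenterOf (S : Subgroup G)) ≤ 3 := by omega
    interval_cases hc : Nat.card ↥(omegaCenterOf (S : Subgroup G))
    · omega
    · rfl
    · omega
  have hA2 : Nat.card ↥(Z1 (S : Subgroup G) K) = 2 := by omega
  have hA'2 : Nat.card ↥(Z1 (S : Subgroup G) K') = 2 := by omega
  -- nontrivial elements
  have hex : ∀ H : Subgroup G, Nat.card ↥H = 2 → ∃ x ∈ H, x ≠ 1 := by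
    intro H hH
    have hnb : H ≠ ⊥ := by
      intro hb
      rw [hb, Subgroup.card_bot] at hH
      omega
    exact (Subgroup.ne_bot_iff_exists_ne_one.mp hnb).elim fun x hx =>
      ⟨x.1, x.2, fun h1 => hx (Subtype.ext h1)⟩
  obtain ⟨z, hzZ, hz1⟩ := hex _ hZ2
  obtain ⟨a, haA, ha1⟩ := hex _ hA2
  obtain ⟨a', ha'A, ha'1⟩ := hex _ hA'2
  have hZonly : ∀ x ∈ omegaCenterOf (S : Subgroup G), x = 1 ∨ x = z := by
    intro x hx
    obtain ⟨y, -, hy⟩ := (Nat.card_eq_two_iff' (1 : ↥(omegaCenterOf (S : Subgroup G)))).mp hZ2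
    by_cases hx1 : x = 1
    · exact Or.inl hx1
    · right
      have e1 := hy ⟨x, hx⟩ (fun h => hx1 (congrArg Subtype.val h))
      have e2 := hy ⟨z, hzZ⟩ (fun h => hz1 (congrArg Subtype.val h))
      have := e1.trans e2.symm
      exact congrArg Subtype.val this
  -- `z ∉ C(K)`, `z ∉ C(K')`
  have hzK : ∀ K₀ : Subgroup G, IsJComponent (S : Subgroup G) K₀ →
      ¬ K₀ ≤ normalizer ((thompsonSubgroupOf 2 (S : Subgroup G) : Subgroup G) : Set G) →
      z ∉ centralizer (K₀ : Set G) := by
    intro K₀ hK₀ hK₀M hzc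
    apply hZK K₀ hK₀ hK₀M
    intro x hx
    rcases hZonly x hx with rfl | rfl
    · exact one_mem _
    · exact hzc
  have haz : a ≠ z := fun e => hzK K hK hKM (e ▸ haA.2)
  have ha'z : a' ≠ z := fun e => hzK K' hK' hK'M (e ▸ ha'A.2)
  have hdisj := CARD_disjoint c₀ hK hKM h hK' hK'M h' hne
  have haa' : a ≠ a' := by
    intro e
    have : a ∈ Z1 (S : Subgroup G) K ⊓ Z1 (S : Subgroup G) K' := ⟨haA, e ▸ ha'A⟩
    rw [hdisj, Subgroup.mem_bot] at this
    exact ha1 this
  have hzc : ∀ s ∈ (S : Subgroup G), s * z = z * s := by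
    intro s hs
    have := (omegaCenterOf_le _ hzZ).2
    exact (Subgroup.mem_centralizer_iff.mp this) s hs
  -- `S` centralizes `a`
  have hcent : ∀ s ∈ (S : Subgroup G), s * a * s⁻¹ = a := by
    intro s hs
    by_contra hb
    have hsN : s ∈ normalizer ((thompsonSubgroupOf 2 (S : Subgroup G) : Subgroup G) : Set G) :=
      le_normalizer_thompsonSubgroupOf 2 _ hs
    obtain ⟨hKs, hKsM, hLKs, hZ0s, hZ1s⟩ := CONJ c₀ hK hKM h hsN
    have hLs : cj s L = L := by
      apply map_conj_eq_of_mem_normalizer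
      exact Subgroup.le_normalizer (hSL hs)
    rw [hLs] at hLKs
    have hdisj' := CARD_disjoint c₀ hKs hKsM hLKs hK' hK'M h' hne
    have hbA : s * a * s⁻¹ ∈ Z1 (S : Subgroup G) (cj s K) := by
      rw [hZ1s]
      exact ⟨a, haA, by simp [MulAut.conj_apply]⟩
    have hb1 : s * a * s⁻¹ ≠ 1 := by
      intro e
      apply ha1
      have : a = s⁻¹ * (s * a * s⁻¹) * s := by group
      rw [this, e]; group
    have hba' : s * a * s⁻¹ ≠ a' := by
      intro e
      have : s * a * s⁻¹ ∈ Z1 (S : Subgroup G) (cj s K) ⊓ Z1 (S : Subgroup G) K' :=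
        ⟨hbA, e ▸ ha'A⟩
      rw [hdisj', Subgroup.mem_bot] at this
      exact hb1 this
    have hbz : s * a * s⁻¹ ≠ z := by
      intro e
      apply haz
      have : a = s⁻¹ * (s * a * s⁻¹) * s := by group
      rw [this, e]
      have := hzc s hs
      calc s⁻¹ * z * s = s⁻¹ * (z * s) := by group
        _ = s⁻¹ * (s * z) := by rw [this]
        _ = z := by group
    -- five distinct elements of `Z₀`
    have hsub : ((({1, a, a', z, s * a * s⁻¹} : Finset G) : Set G)) ⊆
        ((Z0 (S : Subgroup G) : Subgroup G) : Set G) := by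
      intro x hx
      simp only [Finset.coe_insert, Finset.coe_singleton, Set.mem_insert_iff,
        Set.mem_singleton_iff] at hx
      rcases hx with rfl | rfl | rfl | rfl | rfl
      · exact one_mem _
      · exact haA.1
      · exact ha'A.1
      · exact hZZ0 hzZ
      · exact hbA.1
    have h5 : ({1, a, a', z, s * a * s⁻¹} : Finset G).card = 5 := by
      rw [Finset.card_insert_of_notMem, Finset.card_insert_of_notMem,
        Finset.card_insert_of_notMem, Finset.card_insert_of_notMem, Finset.card_singleton]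
      · simp only [Finset.mem_singleton]; exact fun e => hbz e.symm
      · simp only [Finset.mem_insert, Finset.mem_singleton, not_or]
        exact ⟨ha'z, fun e => hba' e.symm⟩
      · simp only [Finset.mem_insert, Finset.mem_singleton, not_or]
        exact ⟨haa', haz, fun e => hb e.symm⟩
      · simp only [Finset.mem_insert, Finset.mem_singleton, not_or]
        exact ⟨fun e => ha1 e.symm, fun e => ha'1 e.symm, fun e => hz1 e.symm,
          fun e => hb1 e.symm⟩
    have hle := Set.ncard_le_ncard hsub (Set.toFinite _)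
    rw [Set.ncard_coe_finset, h5] at hle
    have : ((Z0 (S : Subgroup G) : Subgroup G) : Set G).ncard = Nat.card ↥(Z0 (S : Subgroup G)) :=
      (Nat.card_coe_set_eq _).symm
    rw [this, hZ04] at hle
    omega
  -- so `a ∈ Z`
  have haZ : a ∈ omegaCenterOf (S : Subgroup G) := by
    apply LEMB_aux_mem
    · have h1 : a ∈ thompsonSubgroupOf 2 (S : Subgroup G) := (omegaCenterOf_le _ haA.1).1
      exact Cfsg.Agent.S2941.thompsonSubgroupOf_le 2 _ h1
    · intro x hx
      have := hcent x hx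
      calc x * a = (x * a * x⁻¹) * x := by group
        _ = a * x := by rw [this]
    · exact LEMB_aux_sq haA.1
  rcases hZonly a haZ with e | e
  · exact ha1 e
  · exact haz e

end Cfsg.Agent.S2951P
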