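import Mathlib
import Cfsg.Prelude.Def_ClassicalGeometry
import Cfsg.Prelude.Def_GeometricClasses
import Cfsg.Agent.Helper16.S5972Defs
import Cfsg.Agent.Helper28.POmegaCard

set_option autoImplicit false
open scoped MatrixGroups

/-! S5972 piece OMEGAODD: isometries of odd order lie in `Ω`. -/

namespace Cfsg.Agent.S5972P

open Polynomial Cfsg.Agent.Helper2.SympInvol Cfsg.Agent.Helper2.SympUnits Cfsg.Agent.S5961P
  Cfsg.Agent.S5955P

/-- generic version: an element of odd order of a group lies in every normal subgroup of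
index `4` -/
theorem OMEGAODD.mem_of_index_four {G : Type*} [Group G] (H : Subgroup G) [H.Normal]
    (hH : H.index = 4) (g : G) (n : ℕ) (hn : Odd n) (hgn : g ^ n = 1) : g ∈ H := by
  have h4 : g ^ 4 ∈ H := by
    have := Subgroup.pow_index_mem H g
    rwa [hH] at this
  obtain ⟨k, hk⟩ := hn
  rcases Nat.even_or_odd k with ⟨a, ha⟩ | ⟨a, ha⟩
  · -- `n = 4 a + 1`
    have hn' : n = 4 * a + 1 := by omega
    rw [hn', pow_succ] at hgn
    have : g = ((g ^ 4) ^ a)⁻¹ := by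
      rw [← pow_mul]
      exact eq_inv_of_mul_eq_one_right hgn
    rw [this]
    exact H.inv_mem (H.pow_mem h4 a)
  · -- `n = 4 a + 3`
    have hn' : n + 1 = 4 * (a + 1) := by omega
    have : g = (g ^ 4) ^ (a + 1) := by
      rw [← pow_mul, ← hn', pow_succ, hgn, one_mul]
    rw [this]
    exact H.pow_mem h4 (a + 1)

/-- OMEGAODD: isometries of odd order lie in `Ω` -/
theorem mem_omegaGL_of_odd {F : Type*} [Field F] [Fintype F] (h2 : (2 : F) ≠ 0) (d : ℕ)
    (hd : 1 ≤ d) (x : GL (Unit ⊕ (Fin d ⊕ Fin d)) F)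
    (hx : ∀ v, Cfsg.quadFormOdd d F (Matrix.toLin'
      (x : Matrix (Unit ⊕ (Fin d ⊕ Fin d)) (Unit ⊕ (Fin d ⊕ Fin d)) F) v) =
      Cfsg.quadFormOdd d F v) (n : ℕ) (hn : Odd n) (hxn : x ^ n = 1) :
    x ∈ Cfsg.Geo.omegaGL (Cfsg.quadFormOdd d F) := by
  classical
  have hmem : x ∈ Cfsg.isometryGroup F (Cfsg.quadFormOdd d F) := by
    rw [Cfsg.Agent.Helper28.IsoTransport.mem_isometryGroup_iff]
    intro u
    have := hx u
    rwa [Matrix.toLin'_apply] at this
  have hcard : 2 ≤ Fintype.card (Unit ⊕ (Fin d ⊕ Fin d)) := by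
    rw [Fintype.card_sum, Fintype.card_sum, Fintype.card_fin, Fintype.card_unit]; omega
  have hidx := Cfsg.Agent.Helper28.OC.index_Omega_odd (Cfsg.Agent.S2614.QfOdd d F) h2
    (Cfsg.Agent.Helper21.OC.QfOdd_nondeg_of h2 d) hcard
  rw [Cfsg.Agent.S2614.QfOdd_coe] at hidx
  have hg : (⟨x, hmem⟩ : ↥(Cfsg.isometryGroup F (Cfsg.quadFormOdd d F))) ∈
      Cfsg.Omega F (Cfsg.quadFormOdd d F) := by
    apply OMEGAODD.mem_of_index_four _ hidx _ n hn
    apply Subtype.ext
    rw [SubmonoidClass.coe_pow]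
    exact hxn
  exact ⟨⟨x, hmem⟩, hg, rfl⟩

end Cfsg.Agent.S5972P
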