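import Mathlib
import Cfsg.Prelude.Def_ClassicalGeometry
import Cfsg.Prelude.Def_GeometricClasses
import Cfsg.Agent.Helper5.S5973Defs
import Cfsg.Agent.Helper16.S5972OMEGAODD
import Cfsg.Agent.Helper2.ONsA

set_option autoImplicit false
open scoped MatrixGroups

/-! S5973 piece OMEGAODD: isometries of odd order lie in `Ω` (generic `Q`, every characteristic). -/

namespace Cfsg.Agent.S5973P

/-- an element of odd order lies in every subgroup containing all squares -/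
theorem OMEGAODD.mem_of_sq_mem {G : Type*} [Group G] (H : Subgroup G)
    (hsq : ∀ g : G, g * g ∈ H) (g : G) (n : ℕ) (hn : Odd n) (hgn : g ^ n = 1) : g ∈ H := by
  obtain ⟨k, hk⟩ := hn
  have h1 : g = (g * g) ^ (k + 1) := by
    rw [← pow_two, ← pow_mul]
    have : 2 * (k + 1) = n + 1 := by omega
    rw [this, pow_succ, hgn, one_mul]
  rw [h1]
  exact H.pow_mem (hsq g) _

/-- OMEGAODD: isometries of odd order lie in `Ω` -/
theorem mem_omegaGL_of_odd {F : Type*} [Field F] [Fintype F] {ι : Type} [Fintype ι]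
    [DecidableEq ι] (Q : QuadraticForm F (ι → F)) (hQ : ND Q) (hn : 2 ≤ Fintype.card ι)
    (hΩ : (2 : F) ≠ 0 ∨ Cfsg.Agent.Helper2.OInv.HOm Q) (x : GL ι F)
    (hx : x ∈ Cfsg.isometryGroup F ⇑Q) (n : ℕ) (hn' : Odd n) (hxn : x ^ n = 1) :
    x ∈ Cfsg.Geo.omegaGL ⇑Q := by
  classical
  have hgn : (⟨x, hx⟩ : ↥(Cfsg.isometryGroup F ⇑Q)) ^ n = 1 := by
    apply Subtype.ext
    rw [SubmonoidClass.coe_pow]
    exact hxn
  have hg : (⟨x, hx⟩ : ↥(Cfsg.isometryGroup F ⇑Q)) ∈ Cfsg.Omega F ⇑Q := by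
    by_cases h2 : (2 : F) = 0
    · have H := hΩ.resolve_left (fun h => h h2)
      exact OMEGAODD.mem_of_sq_mem _
        (fun g => Cfsg.Agent.Helper2.ONs.sq_mem_Omega Q h2 hQ H g) _ n hn' hgn
    · have hidx := Cfsg.Agent.Helper28.OC.index_Omega_odd Q h2 hQ hn
      exact Cfsg.Agent.S5972P.OMEGAODD.mem_of_index_four _ hidx _ n hn' hgn
  exact ⟨⟨x, hx⟩, hg, rfl⟩

end Cfsg.Agent.S5973P
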