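import Mathlib
import Cfsg.Prelude.Def_Classical
import Cfsg.Prelude.Def_GeometricClasses
import Cfsg.Agent.Helper5.S5973Defs
import Cfsg.Agent.Helper13.S5973CLASSIF
import Cfsg.Agent.Helper28.IsoTransport

set_option autoImplicit false
open scoped MatrixGroups

/-! S5973 piece TRANSPORTQ: an abstract isometry as a matrix in the isometry group of a given form of
the same type. -/

namespace Cfsg.Agent.S5973P

open Module Cfsg.Agent.S5955P

/-- TRANSPORTQ: an abstract isometry as a matrix in the isometry group of a given form of the same type -/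
theorem exists_matrix_of_isYO {F V : Type*} [Field F] [Fintype F] [AddCommGroup V] [Module F V]
    [FiniteDimensional F V] (Q : QuadraticForm F V) (y : Module.End F V) (r : ℕ)
    (h : IsYO Q y r) {ι : Type} [Fintype ι] [DecidableEq ι] (Q₀ : QuadraticForm F (ι → F))
    (hQ₀ : ND Q₀) (hdim : finrank F V = Fintype.card ι) (hev : Even (Fintype.card ι))
    (htype : IsHyp Q ↔ IsHyp Q₀) :
    ∃ (x : GL ι F) (e : V ≃ₗ[F] (ι → F)), x ∈ Cfsg.isometryGroup F ⇑Q₀ ∧
      (∀ v, Q₀ (e v) = Q v) ∧
      (∀ v, e (y v) = Matrix.toLin' (x : Matrix ι ι F) (e v)) ∧ x ^ r = 1 := by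
  classical
  have hdim' : finrank F V = finrank F (ι → F) := by
    rw [hdim, Module.finrank_fintype_fun_eq_card]
  obtain ⟨e, he⟩ := exists_isometry_of_type Q Q₀ h.nondeg hQ₀ hdim' (by rw [hdim]; exact hev) htype
  -- `y` is injective
  have hpol : ∀ u v, QuadraticMap.polar Q (y u) (y v) = QuadraticMap.polar Q u v := by
    intro u v
    unfold QuadraticMap.polar
    rw [← map_add, h.isom, h.isom, h.isom]
  have hinj : Function.Injective y := by
    rw [injective_iff_map_eq_zero]
    intro v hv
    apply h.nondeg.1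
    intro w
    show QuadraticMap.polar Q v w = 0
    rw [← hpol, hv]
    exact QuadraticMap.polar_zero_left _ _
  let yE : V ≃ₗ[F] V := LinearEquiv.ofInjectiveEndo y hinj
  have hyE : ∀ v, yE v = y v := fun v => rfl
  let fE : (ι → F) ≃ₗ[F] (ι → F) := e.symm.trans (yE.trans e)
  have hfE : ∀ v, fE (e v) = e (y v) := by
    intro v
    simp only [fE, LinearEquiv.trans_apply, LinearEquiv.symm_apply_apply, hyE]
  let x : GL ι F :=
    ⟨LinearMap.toMatrix' (fE : (ι → F) →ₗ[F] (ι → F)),
      LinearMap.toMatrix' (fE.symm : (ι → F) →ₗ[F] (ι → F)),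
      by rw [← LinearMap.toMatrix'_comp, LinearEquiv.comp_symm, LinearMap.toMatrix'_id],
      by rw [← LinearMap.toMatrix'_comp, LinearEquiv.symm_comp, LinearMap.toMatrix'_id]⟩
  have hxf : Matrix.toLin' (x : Matrix ι ι F) = (fE : (ι → F) →ₗ[F] (ι → F)) :=
    Matrix.toLin'_toMatrix' _
  have hxe : ∀ v, Matrix.toLin' (x : Matrix ι ι F) (e v) = e (y v) := by
    intro v
    rw [hxf]
    exact hfE v
  refine ⟨x, e, ?_, he, fun v => (hxe v).symm, ?_⟩
  · rw [Cfsg.Agent.Helper28.IsoTransport.mem_isometryGroup_iff]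
    intro u
    obtain ⟨v, rfl⟩ := e.surjective u
    rw [← Matrix.toLin'_apply, hxe, he, he, h.isom]
  · have hpow : ∀ (k : ℕ) (v : V),
        Matrix.toLin' ((x : Matrix ι ι F) ^ k) (e v) = e ((y ^ k) v) := by
      intro k
      induction k with
      | zero => intro v; simp
      | succ k ih =>
        intro v
        rw [pow_succ, Matrix.toLin'_mul, LinearMap.comp_apply, hxe, ih, pow_succ,
          Module.End.mul_apply]
    apply Units.ext
    rw [Units.val_pow_eq_pow_val, Units.val_one]
    apply Matrix.toLin'.injective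
    apply LinearMap.ext
    intro w
    obtain ⟨v, rfl⟩ := e.surjective w
    rw [hpow, h.pow, Matrix.toLin'_one]
    rfl

end Cfsg.Agent.S5973P
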