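import Mathlib
import Cfsg.Prelude.Def_Classical
import Cfsg.Prelude.Def_GeometricClasses
import Cfsg.Agent.Helper5.S5973Defs
import Cfsg.Agent.Helper5.S5973MODELV
import Cfsg.Agent.Helper16.S5973TRANSPORTQ
import Cfsg.Agent.Helper16.S5973OMEGAODD

set_option autoImplicit false
open scoped MatrixGroups

/-! S5973 piece MODELX: model of shape `(b, κ)` in `Ω(Q₀)`. -/

universe u

namespace Cfsg.Agent.S5973P

open Module Cfsg.Agent.S5955P

/-- the dimension of a preimage under a linear equivalence -/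
theorem ModelX.finrank_comap_equiv {F V V' : Type*} [Field F] [AddCommGroup V] [Module F V]
    [AddCommGroup V'] [Module F V'] (e : V ≃ₗ[F] V') (S : Submodule F V') :
    Module.finrank F ↥(S.comap (e : V →ₗ[F] V')) = Module.finrank F ↥S := by
  rw [Submodule.comap_equiv_eq_map_symm]
  exact LinearEquiv.finrank_map_eq e.symm S

/-- MODELX: model of shape `(b, κ)` in `Ω(Q₀)` -/
theorem exists_model_omega {F : Type u} [Field F] [Fintype F] {p : ℕ} [Fact p.Prime] [CharP F p]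
    (r : ℕ) [Fact r.Prime] (hr2 : r ≠ 2) (hrp : r ≠ p) {ι : Type} [Fintype ι] [DecidableEq ι]
    (Q₀ : QuadraticForm F (ι → F)) (hQ₀ : ND Q₀) (d : ℕ) (hd : 1 ≤ d)
    (hcard : Fintype.card ι = 2 * d) (hΩ : (2 : F) ≠ 0 ∨ Cfsg.Agent.Helper2.OInv.HOm Q₀)
    (hyp : Bool) (hhyp : IsHyp Q₀ ↔ hyp = true) (b κ : ℕ) (hb1 : 1 ≤ b)
    (hsum : κ + (if Even (orderOf ((Fintype.card F : ℕ) : ZMod r)) then
          orderOf ((Fintype.card F : ℕ) : ZMod r)
          else 2 * orderOf ((Fintype.card F : ℕ) : ZMod r)) * b = 2 * d)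
    (h0 : κ = 0 → typeC hyp (orderOf ((Fintype.card F : ℕ) : ZMod r)) b) :
    ∃ x : GL ι F, x ∈ Cfsg.Geo.omegaGL ⇑Q₀ ∧ x ^ r = 1 ∧ x ≠ 1 ∧
      ∀ W : Submodule F (ι → F), W.map (Matrix.toLin' (x : Matrix ι ι F)) ≤ W →
        (∀ w ∈ W, Q₀ w = 0) →
        ∃ a' s : ℕ, finrank F W = a' + orderOf ((Fintype.card F : ℕ) : ZMod r) * s ∧
          (2 * a' + 2 ≤ κ ∨ (typeC hyp (orderOf ((Fintype.card F : ℕ) : ZMod r)) b ∧ 2 * a' ≤ κ)) ∧
          (Odd (orderOf ((Fintype.card F : ℕ) : ZMod r)) → s ≤ b) ∧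
          (Even (orderOf ((Fintype.card F : ℕ) : ZMod r)) → s = 0 ∨
            (r - 1) / orderOf ((Fintype.card F : ℕ) : ZMod r) + 2 * s ≤ b + 1) := by
  classical
  have hrprime : r.Prime := Fact.out
  obtain ⟨V, _, _, _, Q, y, hY, hfr, hQhyp, hy1, hbound⟩ :=
    exists_model_v (F := F) r hr2 hrp d hyp b κ hb1 hsum h0
  obtain ⟨x, e, hxiso, heQ, hey, hxr⟩ := exists_matrix_of_isYO Q y r hY Q₀ hQ₀
    (by rw [hfr, hcard]) (by rw [hcard]; exact ⟨d, by ring⟩) (hQhyp.trans hhyp.symm)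
  have hxΩ : x ∈ Cfsg.Geo.omegaGL ⇑Q₀ :=
    mem_omegaGL_of_odd Q₀ hQ₀ (by rw [hcard]; omega) hΩ x hxiso r (hrprime.odd_of_ne_two hr2) hxr
  refine ⟨x, hxΩ, hxr, ?_, ?_⟩
  · intro hx1
    apply hy1
    apply LinearMap.ext
    intro v
    apply e.injective
    rw [hey, hx1, Units.val_one, Matrix.toLin'_one]
    rfl
  · intro W hWx hWts
    have hW' : (W.comap (e : V →ₗ[F] (ι → F))).map y ≤ W.comap (e : V →ₗ[F] (ι → F)) := by
      rintro _ ⟨v, hv, rfl⟩
      rw [Submodule.mem_comap, LinearEquiv.coe_coe, hey]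
      exact hWx (Submodule.mem_map_of_mem hv)
    have hts' : IsTS Q (W.comap (e : V →ₗ[F] (ι → F))) := by
      intro v hv
      rw [← heQ]
      exact hWts _ hv
    have h := hbound _ hW' hts'
    rw [ModelX.finrank_comap_equiv e] at h
    exact h

end Cfsg.Agent.S5973P
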