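import Mathlib
import Cfsg.Agent.S5330
import Cfsg.Agent.S5094
import Cfsg.Agent.S5076
import Cfsg.Agent.Helper19.Cores
import Cfsg.Agent.Helper7.PPrimeCore

set_option autoImplicit false
open Cfsg

namespace Cfsg.Agent.Helper16.AutCentSylow

variable {G : Type*} [Group G] [Finite G]

open SemidirectProduct in
/-- Glauberman-type theorem: if `O(G) = 1`, the Sylow 2-subgroup `P` is abelian and `α` is an
automorphism of 2-power order fixing `P` elementwise, then `α` is conjugation by an element of `P`.
Proof: in `H = G ⋊ ⟨α⟩` the subgroup `T = P × ⟨α⟩` is an abelian Sylow 2-subgroup, so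
`T = Z(F) × foc(F)` (S5330) and `Z(F) = T ∩ Z*(H)` (S5094, Glauberman's Z*). -/
theorem inner_of_fix_abelian_sylow (hcore : Cfsg.pPrimeCore 2 G = ⊥) (P : Sylow 2 G)
    (hab : ∀ x ∈ (P : Subgroup G), ∀ y ∈ (P : Subgroup G), x * y = y * x)
    (α : MulAut G) (h2 : ∃ j : ℕ, orderOf α = 2 ^ j) (hfix : ∀ x ∈ (P : Subgroup G), α x = x) :
    ∃ g ∈ (P : Subgroup G), ∀ x : G, α x = g * x * g⁻¹ := by
  classical
  obtain ⟨j, hj⟩ := h2
  set A : Subgroup (MulAut G) := Subgroup.zpowers α with hA
  have hcardA : Nat.card A = 2 ^ j := by rw [hA, Nat.card_zpowers, hj]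
  have : Finite A := Nat.finite_of_card_ne_zero (by rw [hcardA]; positivity)
  let φ : A →* MulAut G := A.subtype
  -- elements of A fix P pointwise
  have hAfix : ∀ a : A, ∀ x ∈ (P : Subgroup G), (φ a) x = x := by
    rintro ⟨a, ha⟩ x hx
    obtain ⟨k, rfl⟩ := Subgroup.mem_zpowers_iff.1 ha
    show (α ^ k) x = x
    have hα : ∀ n : ℕ, (α ^ n) x = x := by
      intro n
      induction n with
      | zero => simp
      | succ n ih => rw [pow_succ, MulAut.mul_apply, hfix x hx, ih]
    have hαinv : ∀ n : ℕ, ((α ^ n)⁻¹) x = x := by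
      intro n
      have := hα n
      rw [MulAut.inv_apply, MulEquiv.symm_apply_eq]
      exact this.symm
    cases k with
    | ofNat n => simpa using hα n
    | negSucc n =>
      rw [zpow_negSucc]
      exact hαinv (n + 1)
  have hAcomm : ∀ a b : A, a * b = b * a := by
    intro a b
    exact (inferInstance : IsMulCommutative (Subgroup.zpowers α)).is_comm.comm a b
  let H := G ⋊[φ] A
  have : Finite H := Finite.of_equiv _ (SemidirectProduct.equivProd (φ := φ)).symm
  -- the subgroup T = P × A
  let T : Subgroup H :=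
    { carrier := {h | h.left ∈ (P : Subgroup G)}
      one_mem' := by simp [(P : Subgroup G).one_mem]
      mul_mem' := by
        intro a b ha hb
        show (a * b).left ∈ (P : Subgroup G)
        have ha : a.left ∈ (P : Subgroup G) := ha
        have hb : b.left ∈ (P : Subgroup G) := hb
        rw [SemidirectProduct.mul_left, hAfix a.right b.left hb]
        exact (P : Subgroup G).mul_mem ha hb
      inv_mem' := by
        intro a ha
        show a⁻¹.left ∈ (P : Subgroup G)
        have ha : a.left ∈ (P : Subgroup G) := ha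
        rw [SemidirectProduct.inv_left, hAfix _ _ ((P : Subgroup G).inv_mem ha)]
        exact (P : Subgroup G).inv_mem ha }
  have hTmem : ∀ h : H, h ∈ T ↔ h.left ∈ (P : Subgroup G) := fun h => Iff.rfl
  -- T is abelian
  have hTab : ∀ x ∈ T, ∀ y ∈ T, x * y = y * x := by
    intro x hx y hy
    rw [hTmem] at hx hy
    apply SemidirectProduct.ext
    · rw [SemidirectProduct.mul_left, SemidirectProduct.mul_left, hAfix _ _ hy, hAfix _ _ hx]
      exact hab _ hx _ hy
    · rw [SemidirectProduct.mul_right, SemidirectProduct.mul_right]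
      exact hAcomm _ _
  -- card of T
  have hcardT : Nat.card T = Nat.card (P : Subgroup G) * Nat.card A := by
    rw [← Nat.card_prod]
    apply Nat.card_congr
    exact
      { toFun := fun t => (⟨t.1.left, t.2⟩, t.1.right)
        invFun := fun pa => ⟨⟨pa.1.1, pa.2⟩, pa.1.2⟩
        left_inv := fun t => by ext <;> rfl
        right_inv := fun pa => by ext <;> rfl }
  have hcardH : Nat.card H = Nat.card G * Nat.card A := by
    rw [← Nat.card_prod]
    exact Nat.card_congr SemidirectProduct.equivProd
  have hTsyl : Nat.card T = 2 ^ (Nat.card H).factorization 2 := by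
    rw [hcardT, hcardH, hcardA, Sylow.card_eq_multiplicity,
      Nat.factorization_mul Nat.card_pos.ne' (by positivity), Finsupp.add_apply,
      Nat.Prime.factorization_pow Nat.prime_two, Finsupp.single_eq_same, pow_add]
  let Ts : Sylow 2 H := Sylow.ofCard T hTsyl
  have hTs : (Ts : Subgroup H) = T := rfl
  have hT2 : IsPGroup 2 T := by rw [← hTs]; exact Ts.isPGroup'
  -- oddCore H = ⊥
  have hOH : Cfsg.oddCore H = ⊥ := by
    have hN : (Cfsg.pPrimeCore 2 H).Normal := inferInstance
    have hodd : (Nat.card (Cfsg.pPrimeCore 2 H)).Coprime 2 :=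
      Cfsg.Agent.Helper19.pPrimeCore_coprime 2
    -- intersection with G is trivial
    have h1 : (Cfsg.pPrimeCore 2 H).comap (inl : G →* H) ≤ Cfsg.pPrimeCore 2 G := by
      apply le_sSup
      refine ⟨inferInstance, ?_⟩
      have hinj : Function.Injective
          ((inl : G →* H).subgroupComap (Cfsg.pPrimeCore 2 H)) := by
        intro a b hab'
        have := congrArg Subtype.val hab'
        exact Subtype.ext (inl_injective this)
      have hdvd : Nat.card ((Cfsg.pPrimeCore 2 H).comap (inl : G →* H)) ∣
          Nat.card (Cfsg.pPrimeCore 2 H) :=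
        Subgroup.card_dvd_of_injective _ hinj
      exact Nat.Coprime.coprime_dvd_left hdvd hodd
    rw [hcore] at h1
    -- so rightHom is injective on the core
    have hinj2 : Function.Injective
        ((rightHom : H →* A).comp (Cfsg.pPrimeCore 2 H).subtype) := by
      rw [injective_iff_map_eq_one]
      intro x hx
      have hx' : (x : H) ∈ (rightHom : H →* A).ker := hx
      rw [← range_inl_eq_ker_rightHom] at hx'
      obtain ⟨g, hg⟩ := hx'
      have hg' : g ∈ (Cfsg.pPrimeCore 2 H).comap (inl : G →* H) := by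
        rw [Subgroup.mem_comap, hg]; exact x.2
      have : g = 1 := by
        have := h1 hg'
        rwa [Subgroup.mem_bot] at this
      apply Subtype.ext
      rw [← hg, this, map_one]; rfl
    have hdvd2 : Nat.card (Cfsg.pPrimeCore 2 H) ∣ Nat.card A :=
      Subgroup.card_dvd_of_injective _ hinj2
    rw [hcardA] at hdvd2
    have hone : Nat.card (Cfsg.pPrimeCore 2 H) = 1 := by
      have := Nat.Coprime.eq_one_of_dvd (Nat.Coprime.pow_right j hodd) hdvd2
      exact this
    exact Subgroup.card_eq_one.1 hone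
  -- the fusion system
  have hsat := Cfsg.Agent.S5076.result 2 Ts
  obtain ⟨-, hsup⟩ := Cfsg.Agent.S5330.result 2 (by rw [hTs]; exact hT2)
    (groupFusionSystem (Ts : Subgroup H)) hsat (by rw [hTs]; exact hTab)
  have hcen := Cfsg.Agent.S5094.result Ts
  set F := groupFusionSystem (Ts : Subgroup H) with hF
  -- focal subgroup lies in T and in the kernel of rightHom
  have hfocT : F.focalSubgroup ≤ T :=
    (le_sup_right : F.focalSubgroup ≤ F.center ⊔ F.focalSubgroup).trans hsup.le
  have hcenT : F.center ≤ T :=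
    (le_sup_left : F.center ≤ F.center ⊔ F.focalSubgroup).trans hsup.le
  have hfocK : F.focalSubgroup ≤ (rightHom : H →* A).ker := by
    unfold FusionSystem.focalSubgroup
    rw [Subgroup.closure_le]
    rintro y ⟨Q, ψ, x, hψ, rfl⟩
    obtain ⟨-, -, g, hg⟩ := hψ
    rw [SetLike.mem_coe, MonoidHom.mem_ker, hg x]
    simp only [map_mul, map_inv]
    rw [hAcomm (rightHom g) (rightHom (x : H))]
    group
  -- decompose inr α
  let a : H := inr ⟨α, Subgroup.mem_zpowers α⟩
  have haT : a ∈ T := by
    rw [hTmem]; show (inr _ : H).left ∈ _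
    rw [left_inr]; exact (P : Subgroup G).one_mem
  have hnorm : F.center ≤ Subgroup.normalizer (F.focalSubgroup : Set H) := by
    intro z hz
    rw [Subgroup.mem_normalizer_iff]
    intro f
    constructor
    · intro hf
      have : z * f * z⁻¹ = f := by
        rw [hTab z (hcenT hz) f (hfocT hf), mul_inv_cancel_right]
      rw [this]; exact hf
    · intro hf
      have hfT : z * f * z⁻¹ ∈ T := hfocT hf
      have hfT' : f ∈ T := by
        have : f = z⁻¹ * (z * f * z⁻¹) * z := by simp [mul_assoc]
        rw [this]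
        exact T.mul_mem (T.mul_mem (T.inv_mem (hcenT hz)) hfT) (hcenT hz)
      have : z * f * z⁻¹ = f := by
        rw [hTab z (hcenT hz) f hfT', mul_inv_cancel_right]
      rwa [this] at hf
  have hamem : a ∈ ((F.center ⊔ F.focalSubgroup : Subgroup H) : Set H) :=
    hsup.symm.le haT
  rw [Subgroup.coe_mul_of_left_le_normalizer_right _ _ hnorm] at hamem
  obtain ⟨z, hz, f, hf, hzf⟩ := Set.mem_mul.1 hamem
  -- z is central in H
  have hzc : ∀ h : H, h * z = z * h := by
    intro h
    have hz' : z ∈ F.center := hz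
    rw [hcen] at hz'
    have hz2 : QuotientGroup.mk' (oddCore H) z ∈ Subgroup.center (H ⧸ oddCore H) := hz'.2
    rw [Subgroup.mem_center_iff] at hz2
    have := hz2 (QuotientGroup.mk h)
    rw [QuotientGroup.mk'_apply, ← QuotientGroup.mk_mul, ← QuotientGroup.mk_mul,
      QuotientGroup.eq, hOH, Subgroup.mem_bot] at this
    calc h * z = (h * z) * 1 := (mul_one _).symm
      _ = (h * z) * ((h * z)⁻¹ * (z * h)) := by rw [this]
      _ = z * h := mul_inv_cancel_left _ _
  -- f = inl s with s ∈ P
  have hfr : f.right = 1 := hfocK hf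
  have hfl : f.left ∈ (P : Subgroup G) := (hTmem f).1 (hfocT hf)
  refine ⟨f.left, hfl, ?_⟩
  intro x
  have hz_eq : z = a * f⁻¹ := by rw [← hzf, mul_inv_cancel_right]
  have hzl : z.left = f.left⁻¹ := by
    rw [hz_eq, mul_left, inv_left]
    show (1 : G) * (φ ⟨α, _⟩) ((φ f.right⁻¹) f.left⁻¹) = f.left⁻¹
    rw [hfr, inv_one, map_one, MulAut.one_apply, one_mul]
    exact hAfix _ _ ((P : Subgroup G).inv_mem hfl)
  have hzr : z.right = ⟨α, Subgroup.mem_zpowers α⟩ := by
    rw [hz_eq, mul_right, inv_right, hfr, inv_one, mul_one]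
    rfl
  have hcomm := hzc (inl x)
  have hl := congrArg SemidirectProduct.left hcomm
  rw [mul_left, mul_left, left_inl, right_inl, map_one, MulAut.one_apply, hzl, hzr] at hl
  -- hl : x * f.left⁻¹ = f.left⁻¹ * φ ⟨α,_⟩ x
  have hl' : x * f.left⁻¹ = f.left⁻¹ * α x := hl
  calc α x = f.left * (f.left⁻¹ * α x) := (mul_inv_cancel_left _ _).symm
    _ = f.left * (x * f.left⁻¹) := by rw [hl']
    _ = f.left * x * f.left⁻¹ := (mul_assoc _ _ _).symm
  
end Cfsg.Agent.Helper16.AutCentSylow
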