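import Mathlib

/-!
General lemmas on automorphisms of odd order of a group: they are trivial as soon as they
stabilise a suitable series.
-/

set_option autoImplicit false

namespace Cfsg.Agent.Helper16.AutOdd

variable {X : Type*} [Group X]

theorem pow_apply_fixed (α : MulAut X) (x : X) (h : α x = x) (k : ℕ) : (α ^ k) x = x := by
  induction k with
  | zero => simp
  | succ k ih => rw [pow_succ, MulAut.mul_apply, h, ih]

/-- `α x = x c`, `α c = c` gives `α^m x = x c^m`. -/
theorem pow_apply_stab (α : MulAut X) (x c : X) (h1 : α x = x * c) (h2 : α c = c) (m : ℕ) :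
    (α ^ m) x = x * c ^ m := by
  induction m with
  | zero => simp
  | succ m ih =>
    rw [pow_succ, MulAut.mul_apply, h1, map_mul, ih, pow_apply_fixed α c h2, mul_assoc, ← pow_succ]

theorem eq_one_of_pow_odd {c : X} {m : ℕ} (hm : Odd m) (hc : c ^ m = 1) (j : ℕ)
    (hc2 : c ^ (2 ^ j) = 1) : c = 1 := by
  have h1 : orderOf c ∣ m := orderOf_dvd_of_pow_eq_one hc
  have h2 : orderOf c ∣ 2 ^ j := orderOf_dvd_of_pow_eq_one hc2
  have hcop : Nat.Coprime m (2 ^ j) := Nat.Coprime.pow_right j (Nat.Coprime.symm (Nat.coprime_two_left.mpr hm))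
  have h3 : Nat.Coprime (orderOf c) (2 ^ j) := Nat.Coprime.coprime_dvd_left h1 hcop
  have h4 : orderOf c = 1 := Nat.Coprime.eq_one_of_dvd h3 h2
  exact orderOf_eq_one_iff.mp h4

/-- an automorphism of odd order with `α x = x c`, `α c = c`, `c` a 2-element, fixes `x` -/
theorem fix_of_stab (α : MulAut X) (hodd : Odd (orderOf α)) (x c : X) (h1 : α x = x * c)
    (h2 : α c = c) (j : ℕ) (hc : c ^ (2 ^ j) = 1) : α x = x := by
  have h3 := pow_apply_stab α x c h1 h2 (orderOf α)
  rw [pow_orderOf_eq_one, MulAut.one_apply] at h3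
  have h4 : c ^ orderOf α = 1 := by
    have : x * 1 = x * c ^ orderOf α := by rw [mul_one]; exact h3
    exact (mul_left_cancel this).symm
  have h5 := eq_one_of_pow_odd hodd h4 j hc
  rw [h1, h5, mul_one]

/-- an automorphism of odd order whose square fixes `a` fixes `a` -/
theorem fix_of_sq_fix (α : MulAut X) (hodd : Odd (orderOf α)) (a : X) (h : α (α a) = a) :
    α a = a := by
  obtain ⟨j, hj⟩ := hodd
  have h2 : ∀ i : ℕ, (α ^ (2 * i)) a = a := by
    intro i
    induction i with
    | zero => simp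
    | succ i ih =>
      have : 2 * (i + 1) = 2 * i + 1 + 1 := by ring
      rw [this, pow_succ, pow_succ, MulAut.mul_apply, MulAut.mul_apply, h, ih]
  have h3 : (α ^ (2 * j + 1)) a = a := by
    rw [← hj, pow_orderOf_eq_one, MulAut.one_apply]
  rw [pow_succ', MulAut.mul_apply, h2 j] at h3
  exact h3

/-- an automorphism of odd order stabilising an abelian subgroup `P` and fixing its involutions
fixes all 2-elements of `P` -/
theorem fix_of_fix_invol (α : MulAut X) (hodd : Odd (orderOf α)) (P : Subgroup X)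
    (hP : ∀ a ∈ P, ∀ b ∈ P, a * b = b * a) (hα : ∀ a ∈ P, α a ∈ P)
    (hinv : ∀ a ∈ P, orderOf a = 2 → α a = a) :
    ∀ k : ℕ, ∀ x ∈ P, x ^ (2 ^ k) = 1 → α x = x := by
  intro k
  induction k with
  | zero =>
    intro x _ hx
    rw [pow_zero, pow_one] at hx
    rw [hx, map_one]
  | succ k ih =>
    intro x hxP hx
    have hy : α (x ^ 2) = x ^ 2 := by
      apply ih _ (P.pow_mem hxP 2)
      rw [← pow_mul, ← pow_succ']; exact hx
    have hαx := hα x hxP
    obtain ⟨c, hc⟩ : ∃ c, c = x⁻¹ * α x := ⟨_, rfl⟩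
    have hcP : c ∈ P := by rw [hc]; exact P.mul_mem (P.inv_mem hxP) hαx
    have hc2 : c ^ 2 = 1 := by
      have hcomm : x⁻¹ * α x = α x * x⁻¹ := hP _ (P.inv_mem hxP) _ hαx
      rw [hc, pow_two]
      calc x⁻¹ * α x * (x⁻¹ * α x) = x⁻¹ * (α x * x⁻¹) * α x := by group
        _ = x⁻¹ * (x⁻¹ * α x) * α x := by rw [hcomm]
        _ = (x ^ 2)⁻¹ * (α x) ^ 2 := by rw [pow_two, pow_two]; group
        _ = 1 := by rw [← map_pow, hy]; group
    have hαc : α c = c := by
      by_cases h1 : c = 1
      · rw [h1, map_one]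
      · apply hinv c hcP
        exact orderOf_eq_prime hc2 h1
    have hx1 : α x = x * c := by rw [hc]; group
    exact fix_of_stab α hodd x c hx1 hαc 1 (by rw [pow_one]; exact hc2)

/-- if all automorphisms of odd order are trivial, the automorphism group is a 2-group -/
theorem isPGroup_of_odd_trivial [Finite X] (h : ∀ α : MulAut X, Odd (orderOf α) → α = 1) :
    IsPGroup 2 (MulAut X) := by
  intro α
  have hpos : orderOf α ≠ 0 := (orderOf_pos α).ne'
  obtain ⟨k, m, hm, hkm⟩ := Nat.exists_eq_two_pow_mul_odd hpos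
  refine ⟨k, ?_⟩
  apply h
  have h1 : (α ^ 2 ^ k) ^ m = 1 := by rw [← pow_mul, ← hkm, pow_orderOf_eq_one]
  exact Odd.of_dvd_nat hm (orderOf_dvd_of_pow_eq_one h1)

/-- automorphisms preserve the centre -/
theorem map_central (α : MulAut X) (y : X) (hy : ∀ v : X, y * v = v * y) (v : X) :
    α y * v = v * α y := by
  have h1 := hy (α⁻¹ v)
  have h2 := congrArg α h1
  rw [map_mul, map_mul, MulAut.apply_inv_self] at h2
  exact h2

end Cfsg.Agent.Helper16.AutOdd
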