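import Mathlib
import Cfsg.Agent.Helper16.BCDefs

set_option autoImplicit false

/-! S5110 piece PAIR1. -/

namespace Cfsg.Agent.Helper16.BC

open Cfsg Cfsg.FusionSystem Cfsg.Agent.Helper25

variable {Ω : Type*} [Group Ω] {S : Subgroup Ω}

/-- Local version of `Helper25.exists_hom_into_autS`: only the class of `X` needs a fully
automized receptive member. -/
theorem exists_hom_into_autS_local [Finite S] (p : ℕ) [Fact p.Prime] (F : FusionSystem S)
    {X : Subgroup Ω} (hXS : X ≤ S)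
    (hsat : ∃ Q, F.IsConj X Q ∧ F.IsFullyAutomized p Q ∧ F.IsReceptive Q)
    (U : Subgroup (MulAut X)) (hU : U ≤ F.autGroup X) (hUp : IsPGroup p U) :
    ∃ (Q : Subgroup Ω) (χ : X →* Ω), χ ∈ F.Hom X ∧ χ.range = Q ∧ F.IsFullyAutomized p Q ∧
      F.IsReceptive Q ∧ ∀ u ∈ U, ∃ s ∈ S, ∀ x : X, χ (u x) = s * χ x * s⁻¹ := by
  obtain ⟨Q, ⟨ψ, hψ, hr⟩, hFA, hrec⟩ := hsat
  obtain ⟨hQS, R, hR⟩ := hFA
  have hfinQ : Finite Q := finite_of_le hQS
  have hfinA : Finite (MulAut Q) :=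
    Finite.of_injective (fun e : MulAut Q => (e : Q → Q)) (fun a b h => DFunLike.coe_injective h)
  set e := isoOfHom ψ (F.injective_of_mem hψ) hr with he
  set U' : Subgroup (F.autGroup Q) :=
    (U.map (MulAut.congr e).toMonoidHom).subgroupOf (F.autGroup Q) with hU'def
  have hU' : IsPGroup p U' := (hUp.map _).comap_subtype
  obtain ⟨c, -, hc⟩ := Cfsg.Agent.Helper10.exists_conj_le_sylow_of_le R ⊤ U' le_top hU' le_top
  have hcF : autHom (c : MulAut Q) ∈ F.Hom Q := (mem_autGroup_iff F hQS _).mp c.2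
  have hval : ∀ x : X, ψ x ∈ Q := fun x => hr ▸ ⟨x, rfl⟩
  refine ⟨Q, (autHom (c : MulAut Q)).comp (ψ.codRestrict Q hval), F.comp_mem hψ hcF _, ?_,
    ⟨hQS, R, hR⟩, hrec, ?_⟩
  · ext y
    constructor
    · rintro ⟨x, rfl⟩
      exact ((c : MulAut Q) _).2
    · intro hy
      refine ⟨e.symm ((c : MulAut Q)⁻¹ ⟨y, hy⟩), ?_⟩
      show (((c : MulAut Q) ⟨ψ (e.symm ((c : MulAut Q)⁻¹ ⟨y, hy⟩)), _⟩ : Q) : Ω) = y
      have h1 : (⟨ψ (e.symm ((c : MulAut Q)⁻¹ ⟨y, hy⟩)), hval _⟩ : Q) =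
          e (e.symm ((c : MulAut Q)⁻¹ ⟨y, hy⟩)) := Subtype.ext rfl
      rw [h1, MulEquiv.apply_symm_apply, MulAut.apply_inv_self]
  · intro u hu
    have hu' : (⟨MulAut.congr e u, congr_mem_autGroup F hψ hr (hU hu)⟩ : F.autGroup Q) ∈ U' := by
      rw [hU'def, Subgroup.mem_subgroupOf]
      exact ⟨u, hu, rfl⟩
    have h1 := hc _ hu'
    rw [hR, Subgroup.mem_subgroupOf] at h1
    obtain ⟨s, hsS, hs⟩ := (mem_autInducedBy_iff S Q _).mp h1
    refine ⟨s, hsS, fun x => ?_⟩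
    have h2 := hs ((c : MulAut Q) (e x))
    have e1 : ((c * ⟨MulAut.congr e u, congr_mem_autGroup F hψ hr (hU hu)⟩ * c⁻¹ :
        F.autGroup Q) : MulAut Q) ((c : MulAut Q) (e x)) = (c : MulAut Q) (e (u x)) := by
      show (c : MulAut Q) ((MulAut.congr e u) ((c : MulAut Q)⁻¹ ((c : MulAut Q) (e x)))) = _
      rw [MulAut.inv_apply_self]
      show (c : MulAut Q) (e (u (e.symm (e x)))) = _
      rw [MulEquiv.symm_apply_apply]
    rw [e1] at h2
    exact h2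

theorem pair1 [Finite S] (p : ℕ) [Fact p.Prime] (hS : IsPGroup p S) (F : FusionSystem S)
    {X : Subgroup Ω} (hXS : X ≤ S)
    (hsat : ∃ Q, F.IsConj X Q ∧ F.IsFullyAutomized p Q ∧ F.IsReceptive Q)
    (K : Subgroup (MulAut X)) :
    ∃ ψ ∈ F.Hom X, F.IsFullyAutomized p ψ.range ∧ F.IsReceptive ψ.range ∧
      Nat.card (KSvia S ψ K) = pPart p (Nat.card ↥(K ⊓ F.autGroup X)) := by
  have hfinX : Finite X := finite_of_le hXS
  have hfinA : Finite (MulAut X) :=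
    Finite.of_injective (fun e : MulAut X => (e : X → X)) (fun a b h => DFunLike.coe_injective h)
  have hbound : ∀ ψ' ∈ F.Hom X,
      Nat.card (KSvia S ψ' K) ≤ pPart p (Nat.card ↥(K ⊓ F.autGroup X)) := fun ψ' hψ' =>
    card_le_pPart_of_isPGroup p (KSvia_isPGroup hS (F.injective_of_mem hψ') K)
      (le_inf (KSvia_le S ψ' K) (KSvia_le_autGroup F hψ' K))
  obtain ⟨T, -, hTG, hTp, hTcard⟩ := exists_pSubgroup_card_eq_pPart p
    (U := (⊥ : Subgroup (MulAut X))) (H := K ⊓ F.autGroup X) IsPGroup.of_bot bot_le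
  obtain ⟨Q, χ, hχ, hχr, hFA, hrec, hχU⟩ :=
    exists_hom_into_autS_local p F hXS hsat T (hTG.trans inf_le_right) hTp
  have hTle : T ≤ KSvia S χ K := fun u hu => ⟨(hTG hu).1, hχU u hu⟩
  have hcardχ : Nat.card (KSvia S χ K) = pPart p (Nat.card ↥(K ⊓ F.autGroup X)) :=
    le_antisymm (hbound χ hχ) (hTcard ▸ Subgroup.card_le_of_le hTle)
  subst hχr
  exact ⟨χ, hχ, hFA, hrec, hcardχ⟩

end Cfsg.Agent.Helper16.BC
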