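import Mathlib
import Cfsg.Agent.Helper16.BCDefs
import Cfsg.Agent.Helper16.BCArrowLib
import Cfsg.Agent.Helper16.BCPAIR1
import Cfsg.Agent.Helper25.FusionAlperin

set_option autoImplicit false

/-! S5110 piece STEP: confluence of an elementary step. -/

namespace Cfsg.Agent.Helper16.BC

open Cfsg Cfsg.FusionSystem Cfsg.Agent.Helper25

variable {Ω : Type*} [Group Ω] {S : Subgroup Ω}

theorem card_le_of_le_S [Finite S] {A B : Subgroup Ω} (hBS : B ≤ S) (h : A ≤ B) :
    Nat.card A ≤ Nat.card B := by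
  have : Finite B := finite_of_le hBS
  exact Subgroup.card_le_of_le h

/-- Confluence: if every elementary step over a subgroup of order `> k` is confluent and
`X ⇒ A`, `X ⇒ B` with `|N_S(X)| > k ≥ |X|`, then `A ~ B`. -/
theorem conf [Finite S] (F : FusionSystem S) (n k : ℕ)
    (hstep : ∀ (Q R : Subgroup Ω) (ψ : R →* Ω), Nat.card Q = n → Q ≤ R →
      R ≤ normalizerIn S Q → R ≠ Q → ψ ∈ F.Hom R → k < Nat.card R → NEquiv F Q (img ψ Q))
    {X A B : Subgroup Ω} (hXS : X ≤ S) (hXn : Nat.card X = n)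
    (hk : k < Nat.card (normalizerIn S X)) (hnk : n ≤ k)
    (hA : NArrow F X A) (hB : NArrow F X B) : NEquiv F A B := by
  have hAn : Nat.card A = n := by rw [narrow_card F hXS hA]; exact hXn
  obtain ⟨μA, hμA, rfl⟩ := hA
  obtain ⟨μB, hμB, rfl⟩ := hB
  have hinjA := F.injective_of_mem hμA
  obtain ⟨ι, hι, hιinv, hιr⟩ := exists_inv_mem F hμA rfl
  have hιval : ∀ z : μA.range, ι z ∈ normalizerIn S X := by
    intro z
    have hz : ι z ∈ ι.range := ⟨z, rfl⟩
    rwa [hιr] at hz
  set ν : μA.range →* Ω := μB.comp (ι.codRestrict _ hιval) with hν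
  have hνF : ν ∈ F.Hom μA.range := F.comp_mem hι hμB hιval
  have himgι : img ι (img μA X) = X := by
    ext y
    rw [mem_img]
    constructor
    · rintro ⟨⟨_, x, rfl⟩, hz, rfl⟩
      have e : ι ⟨μA x, ⟨x, rfl⟩⟩ = (x : Ω) := hιinv x _
      rw [e]
      exact mem_of_mem_img hinjA hz
    · intro hy
      have hyN : y ∈ normalizerIn S X := le_normalizerIn_self hXS hy
      refine ⟨⟨μA ⟨y, hyN⟩, ⟨_, rfl⟩⟩, mem_img_of_mem μA _ hy, ?_⟩
      exact hιinv ⟨y, hyN⟩ _
  have himgν : img ν (img μA X) = img μB X := by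
    rw [hν, img_comp ι μB hιval, himgι]
  have hcardM : Nat.card μA.range = Nat.card (normalizerIn S X) :=
    (Nat.card_congr (isoOfHom μA hinjA rfl).toEquiv).symm
  have hne : μA.range ≠ img μA X := by
    intro h
    have h1 : Nat.card μA.range = n := by rw [h]; exact hAn
    omega
  have := hstep (img μA X) μA.range ν hAn (img_le_range μA X)
    (by
      rintro _ ⟨x, rfl⟩
      exact map_mem_normalizerIn F hμA le_rfl x) hne hνF (by omega)
  rwa [himgν] at this

theorem step [Finite S] (p : ℕ) [Fact p.Prime] (hS : IsPGroup p S) (F : FusionSystem S)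
    (ℋ : Set (Subgroup Ω)) (hyp : Hyp p F ℋ) (n : ℕ) (hbig : Big S ℋ n)
    {Q R : Subgroup Ω} (hQn : Nat.card Q = n) (hQR : Q ≤ R) (hRN : R ≤ normalizerIn S Q)
    (hne : R ≠ Q) {ψ : R →* Ω} (hψ : ψ ∈ F.Hom R) : NEquiv F Q (img ψ Q) := by
  have main : ∀ m : ℕ, ∀ (Q R : Subgroup Ω) (ψ : R →* Ω), Nat.card Q = n → Q ≤ R →
      R ≤ normalizerIn S Q → R ≠ Q → ψ ∈ F.Hom R → Nat.card S - Nat.card R = m →
      NEquiv F Q (img ψ Q) := by
    intro m
    induction m using Nat.strong_induction_on with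
    | _ m ih =>
    intro Q R ψ hQn hQR hRN hne hψ hm
    have hRS : R ≤ S := hRN.trans inf_le_left
    have hQS : Q ≤ S := hQR.trans hRS
    have hinj := F.injective_of_mem hψ
    have hfinR : Finite R := finite_of_le hRS
    have hcardRS : Nat.card R ≤ Nat.card S :=
      Nat.card_le_card_of_injective (Subgroup.inclusion hRS) (Subgroup.inclusion_injective _)
    have hQlt : n < Nat.card R := by
      rw [← hQn]
      exact card_lt_of_lt hRS (lt_of_le_of_ne hQR (Ne.symm hne))
    -- the induction hypothesis in `conf` form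
    have hstep : ∀ (Q' R' : Subgroup Ω) (ψ' : R' →* Ω), Nat.card Q' = n → Q' ≤ R' →
        R' ≤ normalizerIn S Q' → R' ≠ Q' → ψ' ∈ F.Hom R' → Nat.card R < Nat.card R' →
        NEquiv F Q' (img ψ' Q') := by
      intro Q' R' ψ' h1 h2 h3 h4 h5 h6
      have hR'S : R' ≤ S := h3.trans inf_le_left
      have hc : Nat.card R' ≤ Nat.card S :=
        Nat.card_le_card_of_injective (Subgroup.inclusion hR'S) (Subgroup.inclusion_injective _)
      exact ih (Nat.card S - Nat.card R') (by omega) Q' R' ψ' h1 h2 h3 h4 h5 rfl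
    set Q' := img ψ Q with hQ'
    have hQ'n : Nat.card Q' = n := by rw [hQ', card_img hinj hQR]; exact hQn
    have hrangeS : ψ.range ≤ S := by
      rintro _ ⟨x, rfl⟩
      exact (F.le_of_mem hψ).2 x
    have hQ'S : Q' ≤ S := (img_le_range ψ Q).trans hrangeS
    have hrangeN : ψ.range ≤ normalizerIn S Q' := by
      rintro _ ⟨x, rfl⟩
      exact map_mem_normalizerIn F hψ hRN x
    -- Case 1
    by_cases hc1 : R = normalizerIn S Q
    · exact ⟨Q', narrow_of_eq F hψ hc1, narrow_refl F hQ'S⟩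
    -- Case 2
    by_cases hc2 : ψ.range = normalizerIn S Q'
    · obtain ⟨ι, hι, hιinv, hιr⟩ := exists_inv_mem F hψ rfl
      have h1 : NArrow F Q' (img ι Q') := narrow_of_eq F hι hc2
      have h2 : img ι Q' = Q := by
        ext y
        rw [mem_img]
        constructor
        · rintro ⟨⟨_, x, rfl⟩, hz, rfl⟩
          have e : ι ⟨ψ x, ⟨x, rfl⟩⟩ = (x : Ω) := hιinv x _
          rw [e]
          exact mem_of_mem_img hinj hz
        · intro hy
          refine ⟨⟨ψ ⟨y, hQR hy⟩, ⟨_, rfl⟩⟩, mem_img_of_mem ψ _ hy, ?_⟩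
          exact hιinv ⟨y, hQR hy⟩ _
      rw [h2] at h1
      exact ⟨Q, narrow_refl F hQS, h1⟩
    -- Case 3
    have hNp : IsPGroup p (normalizerIn S Q) := hS.to_le inf_le_left
    have hfinN : Finite (normalizerIn S Q) := finite_of_le inf_le_left
    have hNp' : IsPGroup p (normalizerIn S Q') := hS.to_le inf_le_left
    have hfinN' : Finite (normalizerIn S Q') := finite_of_le inf_le_left
    -- pair data
    have hRℋ : R ∈ ℋ := hbig R hRS hQlt
    obtain ⟨ψs, hψs, -, hrec, hcard⟩ := pair1 p hS F hRS (hyp.sat R hRℋ) (stabAut R Q)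
    have hinjs := F.injective_of_mem hψs
    set Qs := img ψs Q with hQs
    have hQsn : Nat.card Qs = n := by rw [hQs, card_img hinjs hQR]; exact hQn
    have hQsS : Qs ≤ S := by
      intro y hy
      obtain ⟨x, -, rfl⟩ := (mem_img ψs Q y).mp hy
      exact (F.le_of_mem hψs).2 x
    -- generic construction: from `ψ' ∈ F.Hom R` with `ψ'.range < N_S(ψ' Q)` get `ψ' Q ~ Qs`
    have gen : ∀ (ψ' : R →* Ω), ψ' ∈ F.Hom R → ψ'.range ≠ normalizerIn S (img ψ' Q) →
        NEquiv F (img ψ' Q) Qs ∧
          Nat.card R < Nat.card (normalizerIn S Qs) := by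
      intro ψ' hψ' hneN
      have hinj' := F.injective_of_mem hψ'
      have hr'S : ψ'.range ≤ S := by
        rintro _ ⟨x, rfl⟩
        exact (F.le_of_mem hψ').2 x
      have hr'N : ψ'.range ≤ normalizerIn S (img ψ' Q) := by
        rintro _ ⟨x, rfl⟩
        exact map_mem_normalizerIn F hψ' hRN x
      have hQ''S : img ψ' Q ≤ S := (img_le_range ψ' Q).trans hr'S
      have hNp'' : IsPGroup p (normalizerIn S (img ψ' Q)) := hS.to_le inf_le_left
      have hfinN'' : Finite (normalizerIn S (img ψ' Q)) := finite_of_le inf_le_left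
      obtain ⟨χ, hχ, ρ, hρ, hρe⟩ :=
        exists_extension_of_sylow p hS F hRS (stabAut R Q) hψs hrec hcard hψ'
      -- the subgroup D
      set D : Subgroup Ω := normalizerIn (normalizerIn S (img ψ' Q)) ψ'.range with hD
      have hDle : D ≤ ψ'.range ⊔ NKvia S ψ' (stabAut R Q) := by
        intro g hg
        apply (le_sup_right : NKvia S ψ' (stabAut R Q) ≤ _)
        have hg1 : g ∈ normalizerIn S (img ψ' Q) := (Subgroup.mem_inf.mp hg).1
        exact mem_NKvia_stab hinj' (Subgroup.mem_inf.mp hg1).1 (Subgroup.mem_inf.mp hg).2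
          (Subgroup.mem_inf.mp hg1).2
      have hrD : ψ'.range ≤ D := le_inf hr'N Subgroup.le_normalizer
      have hDN : D ≤ normalizerIn S (img ψ' Q) := inf_le_left
      have hDS : D ≤ S := hDN.trans inf_le_left
      have hQD : img ψ' Q ≤ D := (img_le_range ψ' Q).trans hrD
      -- D is strictly bigger than ψ'.range
      obtain ⟨g, hgN, hgn⟩ := exists_mem_normalizerIn_not_mem p hNp'' hr'N hneN
      have hgD : g ∈ D := hgN
      have hcardD : Nat.card R < Nat.card D := by
        have h1 : Nat.card ψ'.range = Nat.card R :=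
          (Nat.card_congr (isoOfHom ψ' hinj' rfl).toEquiv).symm
        rw [← h1]
        exact card_lt_of_lt hDS (lt_of_le_of_ne hrD (fun h => hgn (h ▸ hgD)))
      set ρD : D →* Ω := ρ.comp (Subgroup.inclusion hDle) with hρD
      have hρDF : ρD ∈ F.Hom D := restrict_mem F hDle hρ
      have hDne : D ≠ img ψ' Q := by
        intro h
        have h1 : Nat.card D = n := by
          rw [h, card_img hinj' hQR]; exact hQn
        omega
      have hQ''n : Nat.card (img ψ' Q) = n := by rw [card_img hinj' hQR]; exact hQn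
      have h1 := hstep (img ψ' Q) D ρD hQ''n hQD hDN hDne hρDF hcardD
      -- image of ψ' Q under ρD is Qs
      have himg : img ρD (img ψ' Q) = Qs := by
        ext y
        rw [mem_img, hQs, mem_img]
        constructor
        · rintro ⟨z, hz, rfl⟩
          obtain ⟨x, hx, hxz⟩ := (mem_img ψ' Q _).mp hz
          refine ⟨χ x, (hχ.1 x).mpr hx, ?_⟩
          rw [← hρe x (hDle (hxz ▸ z.2))]
          show ρ _ = ρ _
          congr 1
          exact Subtype.ext hxz
        · rintro ⟨x, hx, rfl⟩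
          have hx' : ((χ⁻¹ x : R) : Ω) ∈ Q := by
            have := hχ.1 (χ⁻¹ x)
            rw [MulAut.apply_inv_self] at this
            exact this.mp hx
          have hmem : ψ' (χ⁻¹ x) ∈ D := hQD (mem_img_of_mem ψ' _ hx')
          refine ⟨⟨ψ' (χ⁻¹ x), hmem⟩, mem_img_of_mem ψ' _ hx', ?_⟩
          show ρ ⟨ψ' (χ⁻¹ x), _⟩ = ψs x
          rw [hρe (χ⁻¹ x) (hDle hmem), MulAut.apply_inv_self]
      rw [himg] at h1
      refine ⟨h1, ?_⟩
      -- ρD maps D into N_S(Qs)
      have hval : ∀ x : D, ρD x ∈ normalizerIn S Qs := by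
        intro x
        rw [← himg]
        exact map_mem_normalizerIn F hρDF hDN x
      have hfinNs : Finite (normalizerIn S Qs) := finite_of_le inf_le_left
      have h2 : Nat.card D ≤ Nat.card (normalizerIn S Qs) :=
        Nat.card_le_card_of_injective (ρD.codRestrict _ hval) (fun a b hab =>
          F.injective_of_mem hρDF (congrArg Subtype.val hab))
      omega
    -- apply to ψ' = inclusion and ψ' = ψ
    have himg0 : img R.subtype Q = Q := by
      ext y
      rw [mem_img]
      constructor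
      · rintro ⟨x, hx, rfl⟩
        exact hx
      · intro hy
        exact ⟨⟨y, hQR hy⟩, hy, rfl⟩
    have hg0 := gen R.subtype (subtype_mem F hRS) (by
      rw [himg0, Subgroup.range_subtype]; exact hc1)
    rw [himg0] at hg0
    obtain ⟨⟨A, hQA, hQsA⟩, hkN⟩ := hg0
    obtain ⟨⟨B, hQ'B, hQsB⟩, -⟩ := gen ψ hψ hc2
    obtain ⟨C, hAC, hBC⟩ := conf F n (Nat.card R) hstep hQsS hQsn hkN (le_of_lt hQlt) hQsA hQsB
    exact ⟨C, narrow_trans F hQA hAC, narrow_trans F hQ'B hBC⟩
  exact main _ Q R ψ hQn hQR hRN hne hψ rfl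

end Cfsg.Agent.Helper16.BC
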