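import Mathlib
import Cfsg.Agent.Helper16.BCDefs
import Cfsg.Agent.Helper16.BCArrowLib
import Cfsg.Agent.Helper16.BCSTEP
import Cfsg.Agent.Helper16.BCGENPRIN

set_option autoImplicit false

/-! S5110 piece ARROW. -/

namespace Cfsg.Agent.Helper16.BC

open Cfsg Cfsg.FusionSystem Cfsg.Agent.Helper25

variable {Ω : Type*} [Group Ω] {S : Subgroup Ω}

/-- The image under the inverse map of the image is the original subgroup. -/
theorem img_inv {R : Subgroup Ω} {ψ : R →* Ω} (hinj : Function.Injective ψ)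
    (ι : ψ.range →* Ω) (hι : ∀ (x : R) (h : ψ x ∈ ψ.range), ι ⟨ψ x, h⟩ = (x : Ω))
    {Q : Subgroup Ω} (hQR : Q ≤ R) : img ι (img ψ Q) = Q := by
  ext y
  rw [mem_img]
  constructor
  · rintro ⟨⟨_, x, rfl⟩, hz, rfl⟩
    have e : ι ⟨ψ x, ⟨x, rfl⟩⟩ = (x : Ω) := hι x _
    rw [e]
    exact mem_of_mem_img hinj hz
  · intro hy
    refine ⟨⟨ψ ⟨y, hQR hy⟩, ⟨_, rfl⟩⟩, mem_img_of_mem ψ _ hy, ?_⟩
    exact hι ⟨y, hQR hy⟩ _

theorem nequiv_symm (F : FusionSystem S) {A B : Subgroup Ω} (h : NEquiv F A B) : NEquiv F B A := by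
  obtain ⟨C, h1, h2⟩ := h
  exact ⟨C, h2, h1⟩

theorem eq_top_of_card [Finite S] {A : Subgroup Ω} (hA : A ≤ S) (h : Nat.card S ≤ Nat.card A) :
    A = S := Subgroup.eq_of_le_of_card_ge hA h

theorem arrow [Finite S] (p : ℕ) [Fact p.Prime] (hS : IsPGroup p S) (F : FusionSystem S)
    (ℋ : Set (Subgroup Ω)) (hyp : Hyp p F ℋ) (n : ℕ) (hbig : Big S ℋ n)
    {A B : Subgroup Ω} (hAn : Nat.card A = n) (hAℋ : A ∉ ℋ) (hAB : F.IsConj A B)
    (hB : F.IsFullyNormalized B) : NArrow F A B := by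
  have hstep : ∀ (Q R : Subgroup Ω) (ψ : R →* Ω), Nat.card Q = n → Q ≤ R →
      R ≤ normalizerIn S Q → R ≠ Q → ψ ∈ F.Hom R → n < Nat.card R → NEquiv F Q (img ψ Q) :=
    fun Q R ψ h1 h2 h3 h4 h5 _ => step p hS F ℋ hyp n hbig h1 h2 h3 h4 h5
  -- transitivity of `NEquiv` on subgroups of order `n`
  have htrans : ∀ {A B C : Subgroup Ω}, B ≤ S → Nat.card B = n → NEquiv F A B → NEquiv F B C →
      NEquiv F A C := by
    intro A B C hBS hBn ⟨X, hAX, hBX⟩ ⟨Y, hBY, hCY⟩
    by_cases hBtop : B = S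
    · have hX : X = S := by
        apply eq_top_of_card (narrow_le F hBX)
        rw [narrow_card F hBS hBX, hBtop]
      have hY : Y = S := by
        apply eq_top_of_card (narrow_le F hBY)
        rw [narrow_card F hBS hBY, hBtop]
      exact ⟨S, hX ▸ hAX, hY ▸ hCY⟩
    · obtain ⟨g, hgN, hgB⟩ := exists_mem_normalizerIn_not_mem p hS hBS hBtop
      have hlt : n < Nat.card (normalizerIn S B) := by
        rw [← hBn]
        exact card_lt_of_lt inf_le_left
          (lt_of_le_of_ne (le_normalizerIn_self hBS) (fun h => hgB (h ▸ hgN)))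
      obtain ⟨Z, hXZ, hYZ⟩ := conf F n n hstep hBS hBn hlt le_rfl hBX hBY
      exact ⟨Z, narrow_trans F hAX hXZ, narrow_trans F hCY hYZ⟩
  have key := genprin p F ℋ hyp {A | A ≤ S ∧ Nat.card A = n ∧ A ∉ ℋ}
    (by
      rintro A ⟨hAS, hAn, hAℋ⟩ B hAB
      exact ⟨(isConj_le F hAB).2, by rw [← card_eq_of_isConj F hAB]; exact hAn,
        fun h => hAℋ (hyp.conj B h A (isConj_symm F hAB))⟩)
    (fun A hA => hA.2.2)
    (fun A φ => NEquiv F A φ.range)
    (by
      rintro A ⟨hAS, hAn, hAℋ⟩ g hg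
      refine ⟨(conjHom A g).range, ?_, narrow_refl F ?_⟩
      · refine ⟨conjHom (normalizerIn S A) g, F.conj_mem inf_le_left hg, ?_⟩
        ext y
        rw [mem_img]
        constructor
        · rintro ⟨x, hx, rfl⟩
          exact ⟨⟨x, hx⟩, rfl⟩
        · rintro ⟨x, rfl⟩
          exact ⟨⟨x, le_normalizerIn_self hAS x.2⟩, x.2, rfl⟩
      · rintro _ ⟨x, rfl⟩
        exact (F.le_of_mem (F.conj_mem hAS hg)).2 x)
    (by
      rintro A ⟨hAS, hAn, hAℋ⟩ φ B ψ χ hφ hr hψ hχ h1 h2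
      have hrange : χ.range = ψ.range := by
        ext y
        constructor
        · rintro ⟨x, rfl⟩
          exact ⟨⟨φ x, hr ▸ ⟨x, rfl⟩⟩, (hχ x _).symm⟩
        · rintro ⟨z, rfl⟩
          have hz : (z : Ω) ∈ φ.range := hr.symm ▸ z.2
          obtain ⟨x, hx⟩ := hz
          refine ⟨x, ?_⟩
          rw [hχ x (hx ▸ z.2)]
          congr 1
          exact Subtype.ext hx
      show NEquiv F A χ.range
      rw [hrange]
      have hBS : B ≤ S := by
        rw [← hr]
        rintro _ ⟨x, rfl⟩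
        exact (F.le_of_mem hφ).2 x
      have hBn : Nat.card B = n := by
        rw [← hAn]
        exact (card_eq_of_isConj F ⟨φ, hφ, hr⟩).symm
      have h1' : NEquiv F A B := hr ▸ h1
      exact htrans hBS hBn h1' h2)
    (by
      rintro A ⟨hAS, hAn, hAℋ⟩ φ B ψ hφ hr hψ hinv h1
      have hrange : ψ.range = A := by
        ext y
        constructor
        · rintro ⟨z, rfl⟩
          have hz : (z : Ω) ∈ φ.range := hr.symm ▸ z.2
          obtain ⟨x, hx⟩ := hz
          have : ψ z = (x : Ω) := by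
            rw [← hinv x (hx ▸ z.2)]
            congr 1
            exact Subtype.ext hx.symm
          rw [this]
          exact x.2
        · intro hy
          exact ⟨⟨φ ⟨y, hy⟩, hr ▸ ⟨_, rfl⟩⟩, hinv ⟨y, hy⟩ _⟩
      show NEquiv F B ψ.range
      rw [hrange]
      have h1' : NEquiv F A B := hr ▸ h1
      exact nequiv_symm F h1')
    (by
      rintro R hR ψ hψ A ⟨hAS, hAn, hAℋ⟩ hAR
      have hRS : R ≤ S := hyp.le R hR
      have hfinR : Finite R := finite_of_le hRS
      have hRp : IsPGroup p R := hS.to_le hRS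
      have hneAR : A ≠ R := fun h => hAℋ (h ▸ hR)
      obtain ⟨g, hgN, hgA⟩ := exists_mem_normalizerIn_not_mem p hRp hAR hneAR
      have hle : normalizerIn R A ≤ R := inf_le_left
      have hAR' : A ≤ normalizerIn R A := le_inf hAR Subgroup.le_normalizer
      have hRN : normalizerIn R A ≤ normalizerIn S A := inf_le_inf_right _ hRS
      have hne : normalizerIn R A ≠ A := fun h => hgA (h ▸ hgN)
      have h1 := step p hS F ℋ hyp n hbig hAn hAR' hRN hne (restrict_mem F hle hψ)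
      rw [img_restrict hle ψ A hAR'] at h1
      have hrange : (ψ.comp (Subgroup.inclusion hAR)).range = img ψ A := by
        ext y
        rw [mem_img]
        constructor
        · rintro ⟨x, rfl⟩
          exact ⟨Subgroup.inclusion hAR x, x.2, rfl⟩
        · rintro ⟨x, hx, rfl⟩
          exact ⟨⟨x, hx⟩, rfl⟩
      show NEquiv F A (ψ.comp (Subgroup.inclusion hAR)).range
      rw [hrange]
      exact h1)
  obtain ⟨φ, hφ, hr⟩ := hAB
  have hAS : A ≤ S := (F.le_of_mem hφ).1
  have h1 := key A ⟨hAS, hAn, hAℋ⟩ φ hφ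
  rw [hr] at h1
  obtain ⟨C, hAC, hBC⟩ := h1
  -- `B ⇒ C` with `B` fully normalized gives `C ⇒ B`
  have hBS : B ≤ S := hB.1
  obtain ⟨μ, hμ, rfl⟩ := hBC
  have hinj := F.injective_of_mem hμ
  have hconj : F.IsConj B (img μ B) := by
    refine ⟨μ.comp (Subgroup.inclusion (le_normalizerIn_self hBS)),
      restrict_mem F (le_normalizerIn_self hBS) hμ, ?_⟩
    ext y
    rw [mem_img]
    constructor
    · rintro ⟨x, rfl⟩
      exact ⟨Subgroup.inclusion (le_normalizerIn_self hBS) x, x.2, rfl⟩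
    · rintro ⟨x, hx, rfl⟩
      exact ⟨⟨x, hx⟩, rfl⟩
  have hcard1 := hB.2 _ hconj
  have hval : μ.range ≤ normalizerIn S (img μ B) := by
    rintro _ ⟨x, rfl⟩
    exact map_mem_normalizerIn F hμ le_rfl x
  have hfinN : Finite (normalizerIn S (img μ B)) := finite_of_le inf_le_left
  have hrange : μ.range = normalizerIn S (img μ B) := by
    apply Subgroup.eq_of_le_of_card_ge hval
    rw [← Nat.card_congr (isoOfHom μ hinj rfl).toEquiv]
    exact hcard1
  obtain ⟨ι, hι, hιinv, -⟩ := exists_inv_mem F hμ rfl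
  have h2 : NArrow F (img μ B) (img ι (img μ B)) := narrow_of_eq F hι hrange
  rw [img_inv hinj ι hιinv (le_normalizerIn_self hBS)] at h2
  exact narrow_trans F hAC h2

end Cfsg.Agent.Helper16.BC
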