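import Mathlib
import Cfsg.Agent.Helper16.BCDefs
import Cfsg.Agent.Helper16.BCElem
import Cfsg.Agent.Helper16.BCArrowLib
import Cfsg.Agent.Helper16.BCPAIR1
import Cfsg.Agent.S5078

set_option autoImplicit false

/-! S5110 piece GOOD, part 1: transport lemmas. -/

namespace Cfsg.Agent.Helper16.BC

open Cfsg Cfsg.FusionSystem Cfsg.Agent.Helper25

variable {Ω : Type*} [Group Ω] {S : Subgroup Ω}

/-- An element `g` inducing `κ ∈ stabAut R Q` through `ψ` normalizes `ψ(Q)`. -/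
theorem via_normalizes_img {R Q : Subgroup Ω} (hQR : Q ≤ R) {ψ : R →* Ω}
    {g : Ω} {κ : MulAut R} (hκ : κ ∈ stabAut R Q)
    (hg : ∀ x : R, ψ (κ x) = g * ψ x * g⁻¹) :
    g ∈ Subgroup.normalizer (img ψ Q : Set Ω) := by
  rw [Subgroup.mem_normalizer_iff]
  intro h
  constructor
  · intro hh
    obtain ⟨x, hx, rfl⟩ := (mem_img ψ Q h).mp hh
    rw [← hg]
    exact mem_img_of_mem ψ _ ((hκ x).mpr hx)
  · intro hh
    obtain ⟨x', hx', hxe⟩ := (mem_img ψ Q _).mp hh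
    have h1 := hg (κ⁻¹ x')
    rw [MulAut.apply_inv_self, hxe] at h1
    have h2 : h = ψ (κ⁻¹ x') := mul_left_cancel (mul_right_cancel h1)
    rw [h2]
    apply mem_img_of_mem
    have := hκ (κ⁻¹ x')
    rw [MulAut.apply_inv_self] at this
    exact this.mp hx'

/-- Transport of a `K`-normalizing element along `θ`. -/
theorem transport_via {R Q : Subgroup Ω} (hQR : Q ≤ R) {ψs : R →* Ω}
    {θ : ↥(normalizerIn S (img ψs Q)) →* Ω}
    (hval : ∀ x, ψs x ∈ normalizerIn S (img ψs Q)) {g : Ω} {κ : MulAut R}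
    (hκ : κ ∈ stabAut R Q) (hgS : g ∈ S) (hg : ∀ x : R, ψs (κ x) = g * ψs x * g⁻¹) :
    ∃ hgN : g ∈ normalizerIn S (img ψs Q), ∀ x : R,
      θ ⟨ψs (κ x), hval _⟩ = θ ⟨g, hgN⟩ * θ ⟨ψs x, hval x⟩ * (θ ⟨g, hgN⟩)⁻¹ := by
  have hgN : g ∈ normalizerIn S (img ψs Q) :=
    Subgroup.mem_inf.mpr ⟨hgS, via_normalizes_img hQR hκ hg⟩
  refine ⟨hgN, fun x => ?_⟩
  rw [← map_inv, ← map_mul, ← map_mul]
  congr 1
  exact Subtype.ext (hg x)

/-- `θ(ι w) = w`-type lemma: the inverse composed the other way round. -/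
theorem apply_inv_apply {A : Subgroup Ω} {θ : A →* Ω}
    (ι : θ.range →* Ω) (hι : ∀ (x : A) (h : θ x ∈ θ.range), ι ⟨θ x, h⟩ = (x : Ω))
    (w : θ.range) : ∃ h : ι w ∈ A, θ ⟨ι w, h⟩ = (w : Ω) := by
  obtain ⟨_, x, rfl⟩ := w
  have e : ι ⟨θ x, ⟨x, rfl⟩⟩ = (x : Ω) := hι x _
  refine ⟨e ▸ x.2, ?_⟩
  congr 1
  exact Subtype.ext e

end Cfsg.Agent.Helper16.BC
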