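import Mathlib
import Cfsg.Agent.Helper16.BCGOOD1

set_option autoImplicit false

/-! S5110 piece GOOD, part 2: the transported map `ψo = θ ∘ ψs`. -/

namespace Cfsg.Agent.Helper16.BC

open Cfsg Cfsg.FusionSystem Cfsg.Agent.Helper25

variable {Ω : Type*} [Group Ω] {S : Subgroup Ω}

theorem psio_mem (F : FusionSystem S) {Q R : Subgroup Ω} {ψs : R →* Ω} (hψs : ψs ∈ F.Hom R)
    {θ : ↥(normalizerIn S (img ψs Q)) →* Ω} (hθ : θ ∈ F.Hom (normalizerIn S (img ψs Q)))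
    (hval : ∀ x, ψs x ∈ normalizerIn S (img ψs Q)) :
    θ.comp (ψs.codRestrict _ hval) ∈ F.Hom R := F.comp_mem hψs hθ hval

theorem psio_img {Q R : Subgroup Ω} {ψs : R →* Ω}
    {θ : ↥(normalizerIn S (img ψs Q)) →* Ω} (hθQ : img θ (img ψs Q) = Q)
    (hval : ∀ x, ψs x ∈ normalizerIn S (img ψs Q)) :
    img (θ.comp (ψs.codRestrict _ hval)) Q = Q := by
  rw [img_comp ψs θ hval Q, hθQ]

theorem KSvia_le_psio (F : FusionSystem S) {Q R : Subgroup Ω} (hQR : Q ≤ R) {ψs : R →* Ω}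
    {θ : ↥(normalizerIn S (img ψs Q)) →* Ω} (hθ : θ ∈ F.Hom (normalizerIn S (img ψs Q)))
    (hval : ∀ x, ψs x ∈ normalizerIn S (img ψs Q)) :
    KSvia S ψs (stabAut R Q) ≤ KSvia S (θ.comp (ψs.codRestrict _ hval)) (stabAut R Q) := by
  rintro κ ⟨hκ, g, hgS, hg⟩
  obtain ⟨hgN, h⟩ := transport_via (θ := θ) hQR hval hκ hgS hg
  exact ⟨hκ, θ ⟨g, hgN⟩, (F.le_of_mem hθ).2 _, h⟩

theorem NKvia_transport (F : FusionSystem S) {Q R : Subgroup Ω} (hQR : Q ≤ R) {ψs : R →* Ω}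
    {θ : ↥(normalizerIn S (img ψs Q)) →* Ω} (hθ : θ ∈ F.Hom (normalizerIn S (img ψs Q)))
    (hval : ∀ x, ψs x ∈ normalizerIn S (img ψs Q))
    {g : Ω} (hg : g ∈ NKvia S ψs (stabAut R Q)) :
    ∃ hgN : g ∈ normalizerIn S (img ψs Q),
      θ ⟨g, hgN⟩ ∈ NKvia S (θ.comp (ψs.codRestrict _ hval)) (stabAut R Q) := by
  obtain ⟨hgS, κ, hκ, hg⟩ := hg
  obtain ⟨hgN, h⟩ := transport_via (θ := θ) hQR hval hκ hgS hg
  exact ⟨hgN, (F.le_of_mem hθ).2 _, κ, hκ, h⟩

/-- Cardinality of `KSvia` for the transported map. -/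
theorem card_KSvia_psio [Finite S] (p : ℕ) [Fact p.Prime] (hS : IsPGroup p S) (F : FusionSystem S)
    {Q R : Subgroup Ω} (hQR : Q ≤ R) (hRS : R ≤ S)
    {ψs : R →* Ω} (hψs : ψs ∈ F.Hom R)
    (hcard : Nat.card (KSvia S ψs (stabAut R Q)) =
      pPart p (Nat.card ↥(stabAut R Q ⊓ F.autGroup R)))
    {θ : ↥(normalizerIn S (img ψs Q)) →* Ω} (hθ : θ ∈ F.Hom (normalizerIn S (img ψs Q)))
    (hval : ∀ x, ψs x ∈ normalizerIn S (img ψs Q)) :
    Nat.card (KSvia S (θ.comp (ψs.codRestrict _ hval)) (stabAut R Q)) =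
      pPart p (Nat.card ↥(stabAut R Q ⊓ F.autGroup R)) := by
  have hfinR : Finite R := finite_of_le hRS
  have hfinA : Finite (MulAut R) :=
    Finite.of_injective (fun e : MulAut R => (e : R → R)) (fun a b h => DFunLike.coe_injective h)
  have hψo := psio_mem F hψs hθ hval
  apply le_antisymm
  · exact card_le_pPart_of_isPGroup p (KSvia_isPGroup hS (F.injective_of_mem hψo) _)
      (le_inf (KSvia_le S _ _) (KSvia_le_autGroup F hψo _))
  · rw [← hcard]
    exact Subgroup.card_le_of_le (KSvia_le_psio F hQR hθ hval)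

/-- Every element of `N_S^K` for the transported map comes from `N_S^K` for `ψs` through `θ`. -/
theorem NKvia_psio_surj [Finite S] (p : ℕ) [Fact p.Prime] (hS : IsPGroup p S) (F : FusionSystem S)
    {Q R : Subgroup Ω} (hQR : Q ≤ R) (hRS : R ≤ S)
    {ψs : R →* Ω} (hψs : ψs ∈ F.Hom R) (hrec : F.IsReceptive ψs.range)
    (hcard : Nat.card (KSvia S ψs (stabAut R Q)) =
      pPart p (Nat.card ↥(stabAut R Q ⊓ F.autGroup R)))
    {θ : ↥(normalizerIn S (img ψs Q)) →* Ω} (hθ : θ ∈ F.Hom (normalizerIn S (img ψs Q)))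
    (hval : ∀ x, ψs x ∈ normalizerIn S (img ψs Q))
    {h : Ω} (hh : h ∈ NKvia S (θ.comp (ψs.codRestrict _ hval)) (stabAut R Q)) :
    ∃ hs ∈ NKvia S ψs (stabAut R Q), ∃ hN : hs ∈ normalizerIn S (img ψs Q), θ ⟨hs, hN⟩ = h := by
  have hψo := psio_mem F hψs hθ hval
  have hinjθ := F.injective_of_mem hθ
  set ψo := θ.comp (ψs.codRestrict _ hval) with hψodef
  have hDsN : NKvia S ψs (stabAut R Q) ≤ normalizerIn S (img ψs Q) := by
    intro g hg
    exact (NKvia_transport F hQR hθ hval hg).1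
  -- the image of `Ds` under `θ`
  have hTle : img θ (NKvia S ψs (stabAut R Q)) ≤ NKvia S ψo (stabAut R Q) := by
    intro y hy
    obtain ⟨x, hx, rfl⟩ := (mem_img θ _ y).mp hy
    obtain ⟨hgN, h1⟩ := NKvia_transport F hQR hθ hval hx
    exact h1
  have hfinDo : Finite (NKvia S ψo (stabAut R Q)) := finite_of_le (NKvia_le S _ _)
  have hcardT : Nat.card (img θ (NKvia S ψs (stabAut R Q))) =
      Nat.card (NKvia S ψs (stabAut R Q)) := card_img hinjθ hDsN
  have hFC := Cfsg.Agent.S5078.result F ψs.range hrec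
  have hconj : F.IsConj ψs.range ψo.range := by
    have h1 : F.IsConj R ψs.range := ⟨ψs, hψs, rfl⟩
    have h2 : F.IsConj R ψo.range := ⟨ψo, hψo, rfl⟩
    exact isConj_trans F (isConj_symm F h1) h2
  have hcent := hFC.2 _ hconj
  have hle : Nat.card (NKvia S ψo (stabAut R Q)) ≤
      Nat.card (img θ (NKvia S ψs (stabAut R Q))) := by
    rw [hcardT, card_NKvia (F.injective_of_mem hψo), card_NKvia (F.injective_of_mem hψs),
      card_KSvia_psio p hS F hQR hRS hψs hcard hθ hval, hcard]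
    exact Nat.mul_le_mul_right _ hcent
  have heq := Subgroup.eq_of_le_of_card_ge hTle hle
  have hh' : h ∈ img θ (NKvia S ψs (stabAut R Q)) := heq ▸ hh
  obtain ⟨x, hx, rfl⟩ := (mem_img θ _ h).mp hh'
  exact ⟨x, hx, x.2, rfl⟩

end Cfsg.Agent.Helper16.BC
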