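import Mathlib
import Cfsg.Agent.Helper16.BCGOOD2

set_option autoImplicit false

/-! S5110 piece GOOD, part 3: the transported subgroup is fully automized in `N_F(Q)`. -/

namespace Cfsg.Agent.Helper16.BC

open Cfsg Cfsg.FusionSystem Cfsg.Agent.Helper25

variable {Ω : Type*} [Group Ω] {S : Subgroup Ω}

theorem img_autHom_of_stab {R' Q : Subgroup Ω} {β : MulAut R'} (hβ : β ∈ stabAut R' Q)
    (hQR' : Q ≤ R') : img (autHom β) Q = Q := by
  ext y
  rw [mem_img]
  constructor
  · rintro ⟨x, hx, rfl⟩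
    exact (hβ x).mpr hx
  · intro hy
    have h1 := hβ (β⁻¹ ⟨y, hQR' hy⟩)
    rw [MulAut.apply_inv_self] at h1
    refine ⟨β⁻¹ ⟨y, hQR' hy⟩, h1.mp hy, ?_⟩
    show ((β (β⁻¹ ⟨y, hQR' hy⟩) : R') : Ω) = y
    rw [MulAut.apply_inv_self]

theorem stab_of_img_autHom {R' Q : Subgroup Ω} {β : MulAut R'}
    (h : img (autHom β) Q = Q) : β ∈ stabAut R' Q := by
  intro y
  constructor
  · intro hy
    have hy' : (autHom β) y ∈ img (autHom β) Q := h.symm ▸ hy
    have hinj : Function.Injective (autHom β) := fun a b hab =>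
      β.injective (Subtype.ext hab)
    exact mem_of_mem_img hinj hy'
  · intro hy
    have := mem_img_of_mem (autHom β) y hy
    rwa [h] at this

theorem good_automized [Finite S] (p : ℕ) [Fact p.Prime] (hS : IsPGroup p S)
    (F : FusionSystem S) {Q R : Subgroup Ω} (hQS : Q ≤ S) (hQR : Q ≤ R) (hRN : R ≤ N0 S Q)
    {ψo : R →* Ω} (hψo : ψo ∈ F.Hom R) (himg : img ψo Q = Q)
    (hcardo : Nat.card (KSvia S ψo (stabAut R Q)) =
      pPart p (Nat.card ↥(stabAut R Q ⊓ F.autGroup R))) :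
    (NSys F Q hQS).IsFullyAutomized p ψo.range := by
  have hRS : R ≤ S := hRN.trans (N0_le S Q)
  have hinj := F.injective_of_mem hψo
  have hfinR : Finite R := finite_of_le hRS
  have hfinA : Finite (MulAut R) :=
    Finite.of_injective (fun e : MulAut R => (e : R → R)) (fun a b h => DFunLike.coe_injective h)
  have hfinN0 : Finite (N0 S Q) := finite_of_le (N0_le S Q)
  set R' := ψo.range with hR'
  set e : R ≃* R' := isoOfHom ψo (F.injective_of_mem hψo) rfl with he
  have hecoe : ∀ x : R, ((e x : R') : Ω) = ψo x := fun x => rfl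
  have hesymm : ∀ y : R', ψo (e.symm y) = (y : Ω) := by
    intro y
    rw [← hecoe, MulEquiv.apply_symm_apply]
  have hQR' : Q ≤ R' := by
    have := img_le_range ψo Q
    rwa [himg] at this
  have hRN' : R ≤ normalizerIn S Q := (N0_eq S Q) ▸ hRN
  have hR'N : R' ≤ N0 S Q := by
    rintro _ ⟨x, rfl⟩
    have := map_mem_normalizerIn F hψo hRN' x
    rw [himg] at this
    rw [N0_eq]
    exact this
  have hR'S : R' ≤ S := hR'N.trans (N0_le S Q)
  have hψoQ : ∀ x : R, ψo x ∈ Q ↔ (x : Ω) ∈ Q := by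
    intro x
    constructor
    · intro hx
      have hx' : ψo x ∈ img ψo Q := himg.symm ▸ hx
      exact mem_of_mem_img hinj hx'
    · intro hx
      have := mem_img_of_mem ψo x hx
      rwa [himg] at this
  -- transport of stabilizers
  have hstab1 : ∀ α : MulAut R, α ∈ stabAut R Q → MulAut.congr e α ∈ stabAut R' Q := by
    intro α hα y
    show ((e (α (e.symm y)) : R') : Ω) ∈ Q ↔ _
    rw [hecoe, hψoQ, hα (e.symm y), ← hψoQ, hesymm]
  have hstab2 : ∀ β : MulAut R', β ∈ stabAut R' Q → MulAut.congr e.symm β ∈ stabAut R Q := by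
    intro β hβ x
    show ((e.symm (β (e.symm.symm x)) : R) : Ω) ∈ Q ↔ _
    rw [← hψoQ, hesymm, hβ, MulEquiv.symm_symm, hecoe, hψoQ]
  set E := NSys F Q hQS with hE
  set G := ↥(stabAut R Q ⊓ F.autGroup R) with hG
  set Φ : ↥(stabAut R Q ⊓ F.autGroup R) →* MulAut R' :=
    (MulAut.congr e).toMonoidHom.comp (Subgroup.subtype _) with hΦ
  have hΦcoe : ∀ (α : ↥(stabAut R Q ⊓ F.autGroup R)) (y : R'),
      Φ α y = e ((α : MulAut R) (e.symm y)) := fun α y => rfl
  have hcongr : ∀ β : MulAut R', MulAut.congr e (MulAut.congr e.symm β) = β := by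
    intro β
    apply MulEquiv.ext
    intro y
    show e (e.symm (β (e.symm.symm (e.symm y)))) = β y
    rw [MulEquiv.apply_symm_apply, MulEquiv.symm_symm, MulEquiv.apply_symm_apply]
  -- pull back of an `F`-automorphism of `R'`
  have hpull : ∀ β : MulAut R', autHom β ∈ F.Hom R' → MulAut.congr e.symm β ∈ F.autGroup R := by
    intro β hβF
    rw [mem_autGroup_iff F hRS]
    have hval1 : ∀ x : R, ψo x ∈ R' := fun x => ⟨x, rfl⟩
    have h1 : (autHom β).comp (ψo.codRestrict R' hval1) ∈ F.Hom R := F.comp_mem hψo hβF hval1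
    have hsymm := isoOfHom_symm_mem F hψo rfl
    refine comp_mem' F h1 hsymm (fun x => (β _).2) (fun x => ?_)
    show ((e.symm (β (e.symm.symm x)) : R) : Ω) = ((e.symm ⟨_, _⟩ : R) : Ω)
    rw [MulEquiv.symm_symm]
    rfl
  have hrange : Φ.range = E.autGroup R' := by
    ext β
    constructor
    · rintro ⟨α, rfl⟩
      rw [mem_autGroup_iff E hR'N, hE, mem_NSys_iff F hQS hQR']
      refine ⟨(mem_autGroup_iff F hR'S _).mp (congr_mem_autGroup F hψo rfl α.2.2), hR'N, ?_⟩
      exact img_autHom_of_stab (hstab1 _ α.2.1) hQR'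
    · intro hβ
      rw [mem_autGroup_iff E hR'N, hE, mem_NSys_iff F hQS hQR'] at hβ
      obtain ⟨hβF, -, hβimg⟩ := hβ
      have hβs : β ∈ stabAut R' Q := stab_of_img_autHom hβimg
      exact ⟨⟨MulAut.congr e.symm β, hstab2 β hβs, hpull β hβF⟩, hcongr β⟩
  have hKSle : KSvia S ψo (stabAut R Q) ≤ stabAut R Q ⊓ F.autGroup R :=
    le_inf (KSvia_le S _ _) (KSvia_le_autGroup F hψo _)
  have hmap : ((KSvia S ψo (stabAut R Q)).subgroupOf (stabAut R Q ⊓ F.autGroup R)).map Φ =
      autInducedBy (N0 S Q) R' := by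
    ext β
    constructor
    · rintro ⟨⟨α, hαG⟩, hαR, rfl⟩
      rw [SetLike.mem_coe, Subgroup.mem_subgroupOf] at hαR
      obtain ⟨hαK, g, hgS, hg⟩ := hαR
      rw [mem_autInducedBy_iff]
      refine ⟨g, ?_, fun y => ?_⟩
      · rw [mem_N0_iff]
        refine ⟨hgS, ?_⟩
        have := via_normalizes_img hQR hαK hg
        rwa [himg] at this
      · rw [hΦcoe, hecoe]
        show ψo (α (e.symm y)) = _
        rw [hg, hesymm]
    · intro hβ
      obtain ⟨g, hgN, hg⟩ := (mem_autInducedBy_iff _ R' β).mp hβ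
      have hgN' := (mem_N0_iff S Q g).mp hgN
      have hα : ∀ x : R, ψo ((MulAut.congr e.symm β) x) = g * ψo x * g⁻¹ := by
        intro x
        show ψo (e.symm (β (e.symm.symm x))) = _
        rw [hesymm, MulEquiv.symm_symm, hg]
        rfl
      have hαK : MulAut.congr e.symm β ∈ stabAut R Q := by
        intro x
        rw [← hψoQ, hα, ← hψoQ x]
        exact (Subgroup.mem_normalizer_iff.mp hgN'.2 _).symm
      have hαR : MulAut.congr e.symm β ∈ KSvia S ψo (stabAut R Q) := ⟨hαK, g, hgN'.1, hα⟩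
      refine ⟨⟨MulAut.congr e.symm β, hKSle hαR⟩, ?_, hcongr β⟩
      rw [SetLike.mem_coe, Subgroup.mem_subgroupOf]
      exact hαR
  have hcard' : Nat.card ((KSvia S ψo (stabAut R Q)).subgroupOf (stabAut R Q ⊓ F.autGroup R)) =
      pPart p (Nat.card ↥(stabAut R Q ⊓ F.autGroup R)) := by
    rw [card_subgroupOf_eq_card_inf, inf_of_le_left hKSle]
    exact hcardo
  rw [isFullyAutomized_iff_card E p hR'N, ← hmap, ← hrange]
  exact card_map_eq_pPart_range p Φ _ hcard'

end Cfsg.Agent.Helper16.BC
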