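import Mathlib
import Cfsg.Agent.Helper16.BCGOOD2

set_option autoImplicit false

/-! S5110 piece GOOD, part 4: the transported subgroup is receptive in `N_F(Q)`. -/

namespace Cfsg.Agent.Helper16.BC

open Cfsg Cfsg.FusionSystem Cfsg.Agent.Helper25

variable {Ω : Type*} [Group Ω] {S : Subgroup Ω}

theorem good_receptive [Finite S] (p : ℕ) [Fact p.Prime] (hS : IsPGroup p S)
    (F : FusionSystem S) {Q R : Subgroup Ω} (hQS : Q ≤ S) (hQR : Q ≤ R) (hRN : R ≤ N0 S Q)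
    {ψs : R →* Ω} (hψs : ψs ∈ F.Hom R) (hrec : F.IsReceptive ψs.range)
    (hcard : Nat.card (KSvia S ψs (stabAut R Q)) =
      pPart p (Nat.card ↥(stabAut R Q ⊓ F.autGroup R)))
    {θ : ↥(normalizerIn S (img ψs Q)) →* Ω} (hθ : θ ∈ F.Hom (normalizerIn S (img ψs Q)))
    (hθQ : img θ (img ψs Q) = Q)
    (hval : ∀ x, ψs x ∈ normalizerIn S (img ψs Q)) :
    (NSys F Q hQS).IsReceptive (θ.comp (ψs.codRestrict _ hval)).range := by
  have hRS : R ≤ S := hRN.trans (N0_le S Q)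
  have hψo := psio_mem F hψs hθ hval
  have himg := psio_img hθQ hval
  set ψo := θ.comp (ψs.codRestrict _ hval) with hψodef
  have hinjo := F.injective_of_mem hψo
  have hinjθ := F.injective_of_mem hθ
  have hRN' : R ≤ normalizerIn S Q := (N0_eq S Q) ▸ hRN
  have hR'N : ψo.range ≤ N0 S Q := by
    rintro _ ⟨x, rfl⟩
    have := map_mem_normalizerIn F hψo hRN' x
    rw [himg] at this
    rw [N0_eq]
    exact this
  have hQR' : Q ≤ ψo.range := by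
    have := img_le_range ψo Q
    rwa [himg] at this
  have hQsRs : img ψs Q ≤ ψs.range := img_le_range ψs Q
  refine ⟨hR'N, ?_⟩
  intro P φ hφ hφr
  -- Step 1: `Q ≤ P`
  have hQP : Q ≤ P := by
    obtain ⟨-, -, -, ψ', hψ', hψ'P, κ, -, hψ'Q⟩ := hφ
    intro q hq
    have h1 : ((κ ⟨q, hq⟩ : Q) : Ω) ∈ φ.range := hφr.symm ▸ hQR' (κ ⟨q, hq⟩).2
    obtain ⟨x, hx⟩ := h1
    rw [← hψ'P x, ← hψ'Q ⟨q, hq⟩] at hx
    have h2 := F.injective_of_mem hψ' hx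
    have h3 : (x : Ω) = q := congrArg Subtype.val h2
    rw [← h3]
    exact x.2
  obtain ⟨hφF, hPN, hφQ⟩ := (mem_NSys_iff F hQS hQP φ).mp hφ
  have hPS : P ≤ S := hPN.trans (N0_le S Q)
  have hφN : ∀ x : P, φ x ∈ N0 S Q := fun x => hR'N (hφr ▸ ⟨x, rfl⟩)
  -- Step 2: `φs = θ⁻¹ ∘ φ`
  obtain ⟨ι, hι, hιinv, -⟩ := exists_inv_mem F hθ rfl
  have hR'θ : ψo.range ≤ θ.range := by
    rintro _ ⟨x, rfl⟩
    exact ⟨_, rfl⟩
  have hφθ : ∀ x : P, φ x ∈ θ.range := fun x => hR'θ (hφr ▸ ⟨x, rfl⟩)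
  set φs : P →* Ω := ι.comp (φ.codRestrict θ.range hφθ) with hφsdef
  have hφs : φs ∈ F.Hom P := F.comp_mem hφF hι hφθ
  have hstar : ∀ x : P, ∃ hN : φs x ∈ normalizerIn S (img ψs Q), θ ⟨φs x, hN⟩ = φ x :=
    fun x => apply_inv_apply ι hιinv ⟨φ x, hφθ x⟩
  have hφsr : φs.range = ψs.range := by
    ext y
    constructor
    · rintro ⟨x, rfl⟩
      have h1 : φ x ∈ ψo.range := hφr ▸ ⟨x, rfl⟩
      obtain ⟨r, hr⟩ := h1
      refine ⟨r, ?_⟩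
      have hmem : θ ⟨ψs r, hval r⟩ ∈ θ.range := ⟨_, rfl⟩
      have e2 : ι ⟨θ ⟨ψs r, hval r⟩, hmem⟩ = ψs r := hιinv ⟨ψs r, hval r⟩ hmem
      show ψs r = ι ⟨φ x, hφθ x⟩
      rw [← e2]
      congr 1
      exact Subtype.ext hr
    · rintro ⟨r, rfl⟩
      have h1 : ψo r ∈ φ.range := hφr.symm ▸ ⟨r, rfl⟩
      obtain ⟨x, hx⟩ := h1
      refine ⟨x, ?_⟩
      have hmem : θ ⟨ψs r, hval r⟩ ∈ θ.range := ⟨_, rfl⟩
      have e2 : ι ⟨θ ⟨ψs r, hval r⟩, hmem⟩ = ψs r := hιinv ⟨ψs r, hval r⟩ hmem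
      show ι ⟨φ x, hφθ x⟩ = ψs r
      rw [← e2]
      congr 1
      exact Subtype.ext hx
  have hφsS : ∀ x, φs x ∈ S := (F.le_of_mem hφs).2
  -- Step 3: receptivity of `ψs.range`
  obtain ⟨ρs, hρs, hρse⟩ := hrec.2 P φs hφs hφsr
  have hPext : P ≤ extender S P φs := le_extender hPS φs hφsS
  -- Step 4: generators
  set T : Subgroup Ω := (((normalizerIn S (img ψs Q)).comap ρs).map (extender S P φs).subtype) with hT
  have hMT : extender (N0 S Q) P φ ≤ T := by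
    unfold extender
    rw [Subgroup.closure_le]
    rintro g ⟨hgN0, hgN, h, hhN0, hh⟩
    have hgS : g ∈ S := N0_le S Q hgN0
    have hhS : h ∈ S := N0_le S Q hhN0
    have hhR' : h ∈ Subgroup.normalizer (ψo.range : Set Ω) :=
      witness_mem_normalizer φ hφr hgN hh
    have hhQ : h ∈ Subgroup.normalizer (img ψo Q : Set Ω) := by
      rw [himg]
      exact ((mem_N0_iff S Q h).mp hhN0).2
    have hhNK : h ∈ NKvia S ψo (stabAut R Q) := mem_NKvia_stab hinjo hhS hhR' hhQ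
    obtain ⟨hs, hhs, hsN, hθhs⟩ :=
      NKvia_psio_surj p hS F hQR hRS hψs hrec hcard hθ hval hhNK
    have hsS : hs ∈ S := NKvia_le S _ _ hhs
    -- `g` is a generator of `extender S P φs` with witness `hs`
    have hwit : ∀ (x : P) (hx : g * (x : Ω) * g⁻¹ ∈ P),
        φs ⟨g * x * g⁻¹, hx⟩ = hs * φs x * hs⁻¹ := by
      intro x hx
      obtain ⟨hN1, h1⟩ := hstar ⟨g * x * g⁻¹, hx⟩
      obtain ⟨hN2, h2⟩ := hstar x
      have h3 : θ ⟨φs ⟨g * x * g⁻¹, hx⟩, hN1⟩ =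
          θ (⟨hs, hsN⟩ * ⟨φs x, hN2⟩ * ⟨hs, hsN⟩⁻¹) := by
        rw [h1, hh x hx, map_mul, map_mul, map_inv, hθhs, h2]
      exact congrArg Subtype.val (hinjθ h3)
    have hgext : g ∈ extender S P φs :=
      Subgroup.subset_closure ⟨hgS, hgN, hs, hsS, hwit⟩
    refine ⟨⟨g, hgext⟩, ?_, rfl⟩
    show ρs ⟨g, hgext⟩ ∈ normalizerIn S (img ψs Q)
    -- `c = hs⁻¹ * ρs g` centralizes `ψs.range`
    have hρsS : ρs ⟨g, hgext⟩ ∈ S := (F.le_of_mem hρs).2 _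
    have hcent : hs⁻¹ * ρs ⟨g, hgext⟩ ∈ Subgroup.centralizer (ψs.range : Set Ω) := by
      rw [Subgroup.mem_centralizer_iff]
      intro y hy
      have hy' : y ∈ φs.range := hφsr.symm ▸ hy
      obtain ⟨x, rfl⟩ := hy'
      have hx' : g * (x : Ω) * g⁻¹ ∈ P := (Subgroup.mem_normalizer_iff.mp hgN _).mp x.2
      have e1 : ρs ⟨(x : Ω), hPext x.2⟩ = φs x := hρse x x.2 (hPext x.2)
      have e2 : ρs ⟨g * (x : Ω) * g⁻¹, hPext hx'⟩ = φs ⟨g * x * g⁻¹, hx'⟩ :=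
        hρse _ hx' (hPext hx')
      have e3 : ρs ⟨g * (x : Ω) * g⁻¹, hPext hx'⟩ =
          ρs ⟨g, hgext⟩ * ρs ⟨(x : Ω), hPext x.2⟩ * (ρs ⟨g, hgext⟩)⁻¹ := by
        rw [← map_inv, ← map_mul, ← map_mul]
        congr 1
      have e4 : ρs ⟨g, hgext⟩ * φs x * (ρs ⟨g, hgext⟩)⁻¹ = hs * φs x * hs⁻¹ := by
        rw [← e1, ← e3, e2, hwit x hx', e1]
      calc φs x * (hs⁻¹ * ρs ⟨g, hgext⟩)
          = hs⁻¹ * (hs * φs x * hs⁻¹) * ρs ⟨g, hgext⟩ := by group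
        _ = hs⁻¹ * (ρs ⟨g, hgext⟩ * φs x * (ρs ⟨g, hgext⟩)⁻¹) * ρs ⟨g, hgext⟩ := by rw [e4]
        _ = hs⁻¹ * ρs ⟨g, hgext⟩ * φs x := by group
    have hcN : hs⁻¹ * ρs ⟨g, hgext⟩ ∈ normalizerIn S (img ψs Q) := by
      refine Subgroup.mem_inf.mpr ⟨S.mul_mem (S.inv_mem hsS) hρsS, ?_⟩
      exact Subgroup.centralizer_le_normalizer _
        (Subgroup.centralizer_le hQsRs hcent)
    have : ρs ⟨g, hgext⟩ = hs * (hs⁻¹ * ρs ⟨g, hgext⟩) := by group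
    rw [this]
    exact (normalizerIn S (img ψs Q)).mul_mem hsN hcN
  have hTle : T ≤ extender S P φs := by
    rintro _ ⟨z, -, rfl⟩
    exact z.2
  have hMle : extender (N0 S Q) P φ ≤ extender S P φs := hMT.trans hTle
  have hMval : ∀ z : ↥(extender (N0 S Q) P φ),
      (ρs.comp (Subgroup.inclusion hMle)) z ∈ normalizerIn S (img ψs Q) := by
    intro z
    obtain ⟨z', hz', hzz'⟩ := hMT z.2
    have : Subgroup.inclusion hMle z = z' := Subtype.ext hzz'.symm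
    show ρs (Subgroup.inclusion hMle z) ∈ normalizerIn S (img ψs Q)
    rw [this]
    exact hz'
  -- Step 6: the extension
  have hρ1 : ρs.comp (Subgroup.inclusion hMle) ∈ F.Hom (extender (N0 S Q) P φ) :=
    restrict_mem F hMle hρs
  set ρ : ↥(extender (N0 S Q) P φ) →* Ω :=
    θ.comp ((ρs.comp (Subgroup.inclusion hMle)).codRestrict (normalizerIn S (img ψs Q)) hMval) with hρdef
  have hρF : ρ ∈ F.Hom (extender (N0 S Q) P φ) := F.comp_mem hρ1 hθ hMval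
  have hρext : ∀ (x : Ω) (hP : x ∈ P) (hM : x ∈ extender (N0 S Q) P φ),
      ρ ⟨x, hM⟩ = φ ⟨x, hP⟩ := by
    intro x hP hM
    obtain ⟨hN, h1⟩ := hstar ⟨x, hP⟩
    rw [← h1]
    show θ ⟨ρs (Subgroup.inclusion hMle ⟨x, hM⟩), _⟩ = θ ⟨φs ⟨x, hP⟩, hN⟩
    congr 1
    apply Subtype.ext
    exact hρse x hP (hMle hM)
  have hPM : P ≤ extender (N0 S Q) P φ := le_extender hPN φ hφN
  have hMN0 : extender (N0 S Q) P φ ≤ N0 S Q :=
    (extender_le_normalizerIn P φ).trans inf_le_left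
  have hρQ : img ρ Q = Q := by
    refine Eq.trans ?_ hφQ
    ext y
    rw [mem_img, mem_img]
    constructor
    · rintro ⟨z, hz, rfl⟩
      exact ⟨⟨z, hQP hz⟩, hz, (hρext z (hQP hz) z.2).symm⟩
    · rintro ⟨z, hz, rfl⟩
      exact ⟨⟨z, hPM z.2⟩, hz, hρext z z.2 (hPM z.2)⟩
  refine ⟨ρ, ?_, hρext⟩
  rw [mem_NSys_iff F hQS (hQP.trans hPM)]
  exact ⟨hρF, hMN0, hρQ⟩

end Cfsg.Agent.Helper16.BC
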