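import Mathlib
import Cfsg.Agent.Helper16.BCGOOD3
import Cfsg.Agent.Helper16.BCGOOD4

set_option autoImplicit false

/-! S5110 piece GOOD: `N_F(Q)` is saturated on the overgroups of `Q`. -/

namespace Cfsg.Agent.Helper16.BC

open Cfsg Cfsg.FusionSystem Cfsg.Agent.Helper25

variable {Ω : Type*} [Group Ω] {S : Subgroup Ω}

theorem good [Finite S] (p : ℕ) [Fact p.Prime] (hS : IsPGroup p S) (F : FusionSystem S)
    {Q : Subgroup Ω} (hQS : Q ≤ S) (harrow : ∀ A, F.IsConj A Q → NArrow F A Q)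
    {R : Subgroup Ω} (hQR : Q ≤ R) (hRN : R ≤ N0 S Q)
    (hsatR : ∃ R₁, F.IsConj R R₁ ∧ F.IsFullyAutomized p R₁ ∧ F.IsReceptive R₁) :
    ∃ R', (NSys F Q hQS).IsConj R R' ∧ (NSys F Q hQS).IsFullyAutomized p R' ∧
      (NSys F Q hQS).IsReceptive R' := by
  have hRS : R ≤ S := hRN.trans (N0_le S Q)
  obtain ⟨ψs, hψs, -, hrec, hcard⟩ := pair1 p hS F hRS hsatR (stabAut R Q)
  have hRN' : R ≤ normalizerIn S Q := (N0_eq S Q) ▸ hRN
  have hval : ∀ x, ψs x ∈ normalizerIn S (img ψs Q) := map_mem_normalizerIn F hψs hRN'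
  have hconj : F.IsConj (img ψs Q) Q := by
    apply isConj_symm
    refine ⟨ψs.comp (Subgroup.inclusion hQR), restrict_mem F hQR hψs, ?_⟩
    ext y
    rw [mem_img]
    constructor
    · rintro ⟨x, rfl⟩
      exact ⟨Subgroup.inclusion hQR x, x.2, rfl⟩
    · rintro ⟨x, hx, rfl⟩
      exact ⟨⟨x, hx⟩, rfl⟩
  obtain ⟨θ, hθ, hθQ⟩ := harrow _ hconj
  have hψo := psio_mem F hψs hθ hval
  have himg := psio_img hθQ hval
  refine ⟨(θ.comp (ψs.codRestrict _ hval)).range, ⟨θ.comp (ψs.codRestrict _ hval), ?_, rfl⟩,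
    good_automized p hS F hQS hQR hRN hψo himg
      (card_KSvia_psio p hS F hQR hRS hψs hcard hθ hval),
    good_receptive p hS F hQS hQR hRN hψs hrec hcard hθ hθQ hval⟩
  rw [mem_NSys_iff F hQS hQR]
  exact ⟨hψo, hRN, himg⟩

end Cfsg.Agent.Helper16.BC
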