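import Mathlib
import Cfsg.Agent.Helper16.BCDefs
import Cfsg.Agent.Helper16.BCElem
import Cfsg.Agent.Helper16.BCARROW
import Cfsg.Agent.Helper16.BCGOOD
import Cfsg.Agent.Helper13.BCGEN
import Cfsg.Agent.Helper15.BCKHYP
import Cfsg.Agent.Helper15.BCTOP
import Cfsg.Agent.Helper15.BCTRANSFER
import Cfsg.Agent.Helper25.BCBCORE
import Cfsg.Agent.Helper18.BCBFINAL
import Cfsg.Agent.Helper25.FusionAlperin2

set_option autoImplicit false

/-! Assembly of the BCGLO saturation criterion (S5110). -/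

namespace Cfsg.Agent.Helper16.BC

open Cfsg Cfsg.FusionSystem Cfsg.Agent.Helper25

variable {Ω : Type*} [Group Ω] {S : Subgroup Ω}

/-- The key step: a subgroup of order `n` outside `ℋ`, when all larger subgroups are in `ℋ`,
is conjugate to a fully automized receptive subgroup. -/
theorem key [Finite S] (p : ℕ) [Fact p.Prime] (hS : IsPGroup p S) (F : FusionSystem S)
    (ℋ : Set (Subgroup Ω)) (hyp : Hyp p F ℋ) (n : ℕ) (hbig : Big S ℋ n)
    (hstar : ∀ P : Subgroup Ω, F.IsCentric P → P ∉ ℋ → ∃ Q, F.IsConj P Q ∧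
      ¬ (autInducedBy S Q ⊓ (pCore p ↥(F.autGroup Q)).map (F.autGroup Q).subtype ≤ Inn Q))
    {P : Subgroup Ω} (hPS : P ≤ S) (hPn : Nat.card P = n) (hPℋ : P ∉ ℋ) :
    ∃ Q, F.IsConj P Q ∧ F.IsFullyAutomized p Q ∧ F.IsReceptive Q := by
  by_cases hPtop : P = S
  · subst hPtop
    obtain ⟨h1, h2⟩ := top_case p hS F ℋ hyp hPℋ
    exact ⟨P, isConj_refl F hPS, h1, h2⟩
  obtain ⟨Q, hPQ, hQFN⟩ := exists_isConj_fullyNormalized F hPS
  have hQS : Q ≤ S := hQFN.1
  have hQn : Nat.card Q = n := by rw [← card_eq_of_isConj F hPQ]; exact hPn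
  have hQℋ : Q ∉ ℋ := fun h => hPℋ (hyp.conj Q h P (isConj_symm F hPQ))
  have hQne : Q ≠ S := by
    intro h
    apply hPtop
    have : Finite S := inferInstance
    apply Subgroup.eq_of_le_of_card_ge hPS
    rw [card_eq_of_isConj F hPQ, h]
  have harrow : ∀ A, F.IsConj A Q → NArrow F A Q := by
    intro A hA
    have hAn : Nat.card A = n := by rw [card_eq_of_isConj F hA]; exact hQn
    have hAℋ : A ∉ ℋ := fun h => hQℋ (hyp.conj A h Q hA)
    exact arrow p hS F ℋ hyp n hbig hAn hAℋ hA hQFN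
  obtain ⟨K, hKle, hKnorm, hKp, hQR0, hR0, hK5⟩ :=
    khyp p hS F hQS harrow (fun hc => hstar Q hc hQℋ)
  have hfinN : Finite (N0 S Q) := finite_of_le (NKvia_le S _ _)
  have hNp : IsPGroup p (N0 S Q) := hS.to_le (NKvia_le S _ _)
  have hQN : Q ≤ N0 S Q := by
    rw [N0_eq]
    exact le_inf hQS Subgroup.le_normalizer
  have hnorm : ∀ (R : Subgroup Ω) (φ : R →* Ω), φ ∈ (NSys F Q hQS).Hom R → Q ≤ R →
      img φ Q = Q := by
    intro R φ hφ hQR
    exact ((mem_NSys_iff F hQS hQR φ).mp hφ).2.2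
  have hsat : ∀ R, Q ≤ R → R ≤ N0 S Q → R ≠ Q →
      ∃ R', (NSys F Q hQS).IsConj R R' ∧ (NSys F Q hQS).IsFullyAutomized p R' ∧
        (NSys F Q hQS).IsReceptive R' := by
    intro R hQR hRN hne
    have hRS : R ≤ S := hRN.trans (NKvia_le S _ _)
    have hlt : Nat.card Q < Nat.card R := card_lt_of_lt hRS (lt_of_le_of_ne hQR (Ne.symm hne))
    have hRℋ : R ∈ ℋ := hbig R hRS (hQn ▸ hlt)
    exact good p hS F hQS harrow hQR hRN (hyp.sat R hRℋ)
  have hgen : ∀ Γ' : Subgroup (MulAut Q),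
      (∀ (R : Subgroup Ω) (hQR : Q ≤ R) (ψ : R →* Ω), R ≠ Q → ψ ∈ (NSys F Q hQS).Hom R →
        ∀ α : MulAut Q, IsRes hQR ψ α → α ∈ Γ') → (NSys F Q hQS).autGroup Q ≤ Γ' := by
    intro Γ' h
    rw [NSys_autGroup]
    apply gen p hS F ℋ hyp hQS hQℋ hQne harrow Γ'
    intro R hQR ψ hne hRN hψ himg α hα
    refine h R hQR ψ hne ?_ α hα
    rw [mem_NSys_iff F hQS hQR]
    exact ⟨hψ, (N0_eq S Q) ▸ hRN, himg⟩
  have hKle' : K ≤ (NSys F Q hQS).autGroup Q := by rw [NSys_autGroup]; exact hKle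
  have hKnorm' : (K.subgroupOf ((NSys F Q hQS).autGroup Q)).Normal := by
    rw [NSys_autGroup]; exact hKnorm
  have hQR0' : Q ≤ NKvia (N0 S Q) Q.subtype K := by rw [NKvia_N0]; exact hQR0
  have hR0' : ¬ (NKvia (N0 S Q) Q.subtype K ≤ Q) := by rw [NKvia_N0]; exact hR0
  have hK5' : K ≤ autInducedBy (N0 S Q) Q ∨ centralizerIn (N0 S Q) Q ≤ Q := by
    rw [autInducedBy_N0, centralizerIn_N0]; exact hK5
  have hall := bcore p hNp (NSys F Q hQS) hQN hnorm hsat hgen K hKle' hKnorm' hKp hQR0' hR0' hK5'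
  obtain ⟨hfa, hrec⟩ := bfinal p hNp (NSys F Q hQS) hQN hnorm hsat K hKle' hKnorm' hQR0' hR0' hall
  obtain ⟨h1, h2⟩ := transfer p hS F hQS harrow hfa hrec
  exact ⟨Q, hPQ, h1, h2⟩

/-- Induction on the order bound. -/
theorem main_ind [Finite S] (p : ℕ) [Fact p.Prime] (hS : IsPGroup p S) (F : FusionSystem S) :
    ∀ (n : ℕ) (ℋ : Set (Subgroup Ω)), Hyp p F ℋ → Big S ℋ n →
    (∀ P : Subgroup Ω, F.IsCentric P → P ∉ ℋ → ∃ Q, F.IsConj P Q ∧
      ¬ (autInducedBy S Q ⊓ (pCore p ↥(F.autGroup Q)).map (F.autGroup Q).subtype ≤ Inn Q)) →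
    F.IsSaturated p := by
  intro n
  induction n with
  | zero =>
    intro ℋ hyp hbig _ P hP
    have : Finite P := finite_of_le hP
    exact hyp.sat P (hbig P hP Nat.card_pos)
  | succ n ih =>
    intro ℋ hyp hbig hstar
    let ℋ' : Set (Subgroup Ω) := ℋ ∪ {R | R ≤ S ∧ Nat.card R = n + 1}
    have hsub : ℋ ⊆ ℋ' := Set.subset_union_left
    have hyp' : Hyp p F ℋ' := by
      refine ⟨?_, ?_, ?_, ?_⟩
      · rintro P (hP | hP)
        · exact hyp.le P hP
        · exact hP.1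
      · rintro P (hP | hP) Q hPQ
        · exact Or.inl (hyp.conj P hP Q hPQ)
        · exact Or.inr ⟨(isConj_le F hPQ).2, by rw [← card_eq_of_isConj F hPQ]; exact hP.2⟩
      · rintro P hP
        by_cases hPℋ : P ∈ ℋ
        · exact hyp.sat P hPℋ
        · rcases hP with hP | hP
          · exact absurd hP hPℋ
          · exact key p hS F ℋ hyp (n + 1) hbig hstar hP.1 hP.2 hPℋ
      · intro E hE
        exact hyp.gen E (fun P hP => hE P (hsub hP))
    have hbig' : Big S ℋ' n := by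
      intro R hRS hn
      by_cases h : Nat.card R = n + 1
      · exact Or.inr ⟨hRS, h⟩
      · exact Or.inl (hbig R hRS (by omega))
    exact ih ℋ' hyp' hbig' (fun P hc hP => hstar P hc (fun h => hP (hsub h)))

/-- The BCGLO saturation criterion. -/
theorem bcglo [Finite S] (p : ℕ) [Fact p.Prime] (hS : IsPGroup p S) (F : FusionSystem S)
    (ℋ : Set (Subgroup Ω)) (hyp : Hyp p F ℋ)
    (hstar : ∀ P : Subgroup Ω, F.IsCentric P → P ∉ ℋ → ∃ Q, F.IsConj P Q ∧
      ¬ (autInducedBy S Q ⊓ (pCore p ↥(F.autGroup Q)).map (F.autGroup Q).subtype ≤ Inn Q)) :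
    F.IsSaturated p := by
  apply main_ind p hS F (Nat.card S) ℋ hyp ?_ hstar
  intro R hRS hlt
  exfalso
  have := Nat.card_le_card_of_injective (Subgroup.inclusion hRS) (Subgroup.inclusion_injective _)
  omega

end Cfsg.Agent.Helper16.BC
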