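import Mathlib
import Cfsg.Prelude.Def_OddOrderLocal
import Cfsg.Agent.Helper1.BG147D
import Cfsg.Agent.Helper10.BG16A

/-!
# B&G Theorem 14.7: clauses 2, 3, 4 of S1434 for a partner pair

`M`, `M*` a partner pair with `K`, `K* = C_{M_σ}(K)`, `Z = K K*`:
`K*` is a Hall `σ(M)`-subgroup of `M*`; `C_M(x) = C_{M*}(y) = C_G(xy) = Z` for `x ∈ K#`, `y ∈ K*#`;
no element of `Z - (K ∪ K*)` lies in a conjugate `M^g`, `g ∉ M`.
-/

set_option autoImplicit false
set_option linter.unusedSectionVars false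
set_option linter.unusedVariables false
set_option linter.style.haveILetI false

namespace Cfsg.Agent.Helper16.BG147

open Subgroup Cfsg
open Cfsg.Agent.Helper1.BG147 (PT Partner Hyp2 mem_zz_iff ks_comm)
open Cfsg.Agent.Helper29.BG14 (Hyp)

universe u

variable {G : Type u} [Group G] [Finite G]

/-- `y ∈ centralizer {x} ↔ x * y = y * x` -/
theorem mem_centralizer_singleton' {x y : G} : y ∈ centralizer ({x} : Set G) ↔ x * y = y * x := by
  rw [mem_centralizer_iff]
  constructor
  · intro h; exact h x rfl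
  · intro h z hz
    rw [Set.mem_singleton_iff] at hz
    subst hz; exact h

/-- an abelian subgroup centralizes each of its elements -/
theorem le_centralizer_singleton_of_comm {Z : Subgroup G}
    (hZ : ∀ a ∈ Z, ∀ b ∈ Z, a * b = b * a) {x : G} (hx : x ∈ Z) :
    Z ≤ centralizer ({x} : Set G) := by
  intro z hz
  rw [mem_centralizer_singleton']
  exact hZ x hx z hz

/-- `C_G(x) ≤ C_G(X)` for `X ≤ ⟨x⟩` -/
theorem centralizer_singleton_le {x : G} {X : Subgroup G} (hX : X ≤ zpowers x) :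
    centralizer ({x} : Set G) ≤ centralizer (X : Set G) := by
  intro g hg
  rw [mem_centralizer_singleton'] at hg
  rw [mem_centralizer_iff]
  intro w hw
  obtain ⟨n, rfl⟩ := mem_zpowers_iff.mp (hX hw)
  have hc : Commute x g := hg
  exact (hc.zpow_left n).eq

/-- `C_G(w) ≤ C_G(x)` for `x ∈ ⟨w⟩` -/
theorem centralizer_singleton_le_of_mem_zpowers {x w : G} (hx : x ∈ zpowers w) :
    centralizer ({w} : Set G) ≤ centralizer ({x} : Set G) := by
  intro g hg
  rw [mem_centralizer_singleton'] at hg ⊢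
  obtain ⟨n, rfl⟩ := mem_zpowers_iff.mp hx
  have hc : Commute w g := hg
  exact (hc.zpow_left n).eq

section pair

variable {M K Ms : Subgroup G}

/-- `Z = K K*` is abelian -/
theorem zz_comm (H : Hyp2 G) (c : Partner M K Ms) :
    ∀ a ∈ K ⊔ (Cfsg.sigmaCore M ⊓ centralizer (K : Set G)),
      ∀ b ∈ K ⊔ (Cfsg.sigmaCore M ⊓ centralizer (K : Set G)), a * b = b * a := by
  haveI := c.isCyclic_zz H
  intro a ha b hb
  have hc : IsMulCommutative ↥(K ⊔ (Cfsg.sigmaCore M ⊓ centralizer (K : Set G))) :=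
    IsCyclic.isMulCommutative
  have h := hc.is_comm.comm (⟨a, ha⟩ : ↥(K ⊔ (Cfsg.sigmaCore M ⊓ centralizer (K : Set G)))) ⟨b, hb⟩
  exact congrArg Subtype.val h

/-- `C_G(x) ≤ M*` for `x ∈ K#` -/
theorem centralizer_le_partner (H : Hyp2 G) (c : Partner M K Ms) {x : G} (hx : x ∈ K)
    (hx1 : x ≠ 1) : centralizer ({x} : Set G) ≤ Ms := by
  obtain ⟨X₀, hX₀, hX₀p⟩ := Cfsg.Agent.Helper10.BG16.exists_prime_card_le_zpowers hx1
  have hX₀K : X₀ ≤ K := hX₀.trans (zpowers_le.mpr hx)
  exact (centralizer_singleton_le hX₀).trans ((c.main H.h).2.2 X₀ hX₀K hX₀p)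

/-- `C_M(x) = Z` for `x ∈ K#` -/
theorem inf_centralizer_eq (H : Hyp2 G) (c : Partner M K Ms) {x : G} (hx : x ∈ K)
    (hx1 : x ≠ 1) :
    M ⊓ centralizer ({x} : Set G) = K ⊔ (Cfsg.sigmaCore M ⊓ centralizer (K : Set G)) := by
  apply le_antisymm
  · rw [← (c.main H.h).1]
    exact inf_le_inf_left _ (centralizer_le_partner H c hx hx1)
  · exact le_inf c.P.zz_le (le_centralizer_singleton_of_comm (zz_comm H c) (mem_sup_left hx))

/-- the `Z` of the symmetric pair is the same `Z` -/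
theorem zz_symm (c : Partner M K Ms) :
    (Cfsg.sigmaCore M ⊓ centralizer (K : Set G)) ⊔ (Cfsg.sigmaCore Ms ⊓
      centralizer ((Cfsg.sigmaCore M ⊓ centralizer (K : Set G) : Subgroup G) : Set G)) =
      K ⊔ (Cfsg.sigmaCore M ⊓ centralizer (K : Set G)) := by
  rw [← c.eq, sup_comm]

/-- **clauses 2, 3, 4 of S1434** -/
theorem s1434_mid (H : Hyp2 G) (c : Partner M K Ms) :
    Cfsg.IsPiHallOf (Cfsg.sigma M) (Cfsg.sigmaCore M ⊓ centralizer (K : Set G)) Ms ∧
      (∀ x ∈ K, x ≠ 1 → ∀ y ∈ (Cfsg.sigmaCore M ⊓ centralizer (K : Set G)), y ≠ 1 →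
        M ⊓ centralizer ({x} : Set G) = K ⊔ (Cfsg.sigmaCore M ⊓ centralizer (K : Set G)) ∧
        Ms ⊓ centralizer ({y} : Set G) = K ⊔ (Cfsg.sigmaCore M ⊓ centralizer (K : Set G)) ∧
        centralizer ({x * y} : Set G) = K ⊔ (Cfsg.sigmaCore M ⊓ centralizer (K : Set G))) ∧
      (∀ g : G, g ∉ M → ∀ z ∈ ((↑(K ⊔ (Cfsg.sigmaCore M ⊓ centralizer (K : Set G))) : Set G) \
          ((K : Set G) ∪ ↑(Cfsg.sigmaCore M ⊓ centralizer (K : Set G)))),
        z ∉ M.map (MulAut.conj g).toMonoidHom) := by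
  have hmain := c.main H.h
  have hKsMs : Cfsg.sigmaCore M ⊓ centralizer (K : Set G) ≤ Ms := c.Ps.K_le
  have hKsσ : ∀ p : ℕ, p.Prime → p ∣ Nat.card ↥(Cfsg.sigmaCore M ⊓ centralizer (K : Set G)) →
      p ∈ Cfsg.sigma M := fun p hp hd =>
    Cfsg.Agent.H9.BG12.mem_sigma_of_dvd_card_sigmaCore hp
      (hd.trans (Subgroup.card_dvd_of_le inf_le_left))
  have h1431 := H.h.h1431 M c.P.coatom K c.P.hall c.P.ne
  refine ⟨?_, ?_, ?_⟩
  · -- Hall
    have hsolv : Group.IsSolvable ↥Ms := H.h.hG.2.2.2 Ms c.Ps.coatom.1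
    obtain ⟨Hh, hHh, hle⟩ :=
      Cfsg.Agent.Lead.exists_isPiHallOf_ge (π := Cfsg.sigma M) hsolv hKsMs hKsσ
    have hne : Hh ⊓ (Cfsg.sigmaCore M ⊓ centralizer (K : Set G)) ≠ ⊥ := by
      rw [inf_eq_right.mpr hle]; exact c.Ps.ne
    have hHhσ : Hh ≤ Cfsg.sigmaCore M := h1431.2.2.2 Hh hHh.2.1 hne
    have hHhM : Hh ≤ M := hHhσ.trans (Cfsg.Agent.H9.BG12.sigmaCore_le M)
    have hHhZ : Hh ≤ K ⊔ (Cfsg.sigmaCore M ⊓ centralizer (K : Set G)) := by
      rw [← hmain.1]; exact le_inf hHhM hHh.1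
    have hHhKs : Hh ≤ Cfsg.sigmaCore M ⊓ centralizer (K : Set G) := by
      rw [← c.P.zz_inf_sigmaCore]; exact le_inf hHhZ hHhσ
    have : Hh = Cfsg.sigmaCore M ⊓ centralizer (K : Set G) := le_antisymm hHhKs hle
    rw [← this]; exact hHh
  · -- centralizers
    intro x hx hx1 y hy hy1
    have h1 := inf_centralizer_eq H c hx hx1
    have h2 : Ms ⊓ centralizer ({y} : Set G) =
        K ⊔ (Cfsg.sigmaCore M ⊓ centralizer (K : Set G)) := by
      have := inf_centralizer_eq H c.symm hy hy1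
      rw [zz_symm c] at this
      exact this
    refine ⟨h1, h2, ?_⟩
    have hxy : x * y = y * x := ks_comm hx hy
    have hcop : (orderOf x).Coprime (orderOf y) := by
      have hox : orderOf x ∣ Nat.card K := by
        have := orderOf_dvd_natCard (⟨x, hx⟩ : ↥K)
        rwa [Subgroup.orderOf_mk] at this
      have hoy : orderOf y ∣ Nat.card (Cfsg.sigmaCore M) := by
        have := orderOf_dvd_natCard (⟨y, hy.1⟩ : ↥(Cfsg.sigmaCore M))
        rwa [Subgroup.orderOf_mk] at this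
      exact Nat.Coprime.coprime_dvd_left hox (Nat.Coprime.coprime_dvd_right hoy c.P.coprime)
    have hxz : x ∈ zpowers (x * y) :=
      Cfsg.Agent.Helper8.mem_zpowers_mul_of_coprime (show Commute x y from hxy) hcop
    have hyz : y ∈ zpowers (x * y) := by
      have := Cfsg.Agent.Helper8.mem_zpowers_mul_of_coprime (show Commute y x from hxy.symm)
        hcop.symm
      rwa [← hxy] at this
    apply le_antisymm
    · have hCx : centralizer ({x * y} : Set G) ≤ Ms :=
        (centralizer_singleton_le_of_mem_zpowers hxz).trans (centralizer_le_partner H c hx hx1)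
      have hCy : centralizer ({x * y} : Set G) ≤ M :=
        (centralizer_singleton_le_of_mem_zpowers hyz).trans
          (centralizer_le_partner H c.symm hy hy1)
      rw [← hmain.1]; exact le_inf hCy hCx
    · exact le_centralizer_singleton_of_comm (zz_comm H c)
        (mul_mem (mem_sup_left hx) (mem_sup_right hy))
  · -- the TI-type clause
    intro g hg z hz hzM
    obtain ⟨hzZ, hznot⟩ := hz
    obtain ⟨k, hk, s, hs, rfl⟩ := mem_zz_iff.mp hzZ
    have hs1 : s ≠ 1 := by
      intro h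
      apply hznot
      left
      rw [h, mul_one]; exact hk
    have hks : k * s = s * k := ks_comm hk hs
    have hcop : (orderOf s).Coprime (orderOf k) := by
      have hok : orderOf k ∣ Nat.card K := by
        have := orderOf_dvd_natCard (⟨k, hk⟩ : ↥K)
        rwa [Subgroup.orderOf_mk] at this
      have hos : orderOf s ∣ Nat.card (Cfsg.sigmaCore M) := by
        have := orderOf_dvd_natCard (⟨s, hs.1⟩ : ↥(Cfsg.sigmaCore M))
        rwa [Subgroup.orderOf_mk] at this
      exact (Nat.Coprime.coprime_dvd_left hok (Nat.Coprime.coprime_dvd_right hos c.P.coprime)).symm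
    have hsz : s ∈ zpowers (k * s) := by
      have := Cfsg.Agent.Helper8.mem_zpowers_mul_of_coprime (show Commute s k from hks.symm) hcop
      rwa [← hks] at this
    have hsM : s ∈ M.map (MulAut.conj g).toMonoidHom :=
      (zpowers_le.mpr hzM) hsz
    have hbot := h1431.1 g hg
    have : s ∈ (Cfsg.sigmaCore M ⊓ centralizer (K : Set G)) ⊓
        M.map (MulAut.conj g).toMonoidHom := ⟨hs, hsM⟩
    rw [hbot, mem_bot] at this
    exact hs1 this

end pair

end Cfsg.Agent.Helper16.BG147
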