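import Mathlib
import Cfsg.Agent.S1350
import Cfsg.Agent.S1414
import Cfsg.Agent.S1420
import Cfsg.Agent.S1423
import Cfsg.Agent.S1429
import Cfsg.Agent.Helper16.BG11R
import Cfsg.Agent.Helper27.BG15I
import Cfsg.Agent.Helper27.BG15D
import Cfsg.Agent.Helper28.BG13T1b
import Cfsg.Agent.Helper10.BG16I
import Cfsg.Agent.Helper29.NilpHall
import Cfsg.Agent.Helper10.BG13L
import Cfsg.Agent.Helper4.BG147L

/-!
# `F(M)` is a TI-subset for maximal subgroups of type `𝒫₂` (B&G Cor. 15.9, TI clause of S1372)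

`M = K U M_σ` with `U ≠ 1` and `M' = U M_σ`.  Then every prime divisor of `|M_σ|` lies in `β(M)`
(otherwise `U ≤ O_{t'}(M')` centralizes the Sylow `t`-subgroup of the nilpotent group `M_σ`,
against S1429), hence `C_G(x) ≤ M` for all `x ∈ M_σ` of prime order (S1423) and `F(M)` is a
TI-subset.  No use of S1440 (B&G 15.7).
-/

set_option autoImplicit false
set_option linter.unusedSectionVars false
set_option linter.unusedVariables false
set_option linter.style.haveILetI false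

namespace Cfsg.Agent.Helper16.BG15T

open Subgroup Cfsg
open Cfsg.Agent.Helper14 (IsSylowIn cj cj_apply mem_normalizer_iff_map_cj cj_injective
  exists_isSylowIn_ge exists_isSylowIn map_cj_centralizer mem_map_cj)
open Cfsg.Agent.Helper16.BG11 (BG bg_of_results)

universe u
variable {G : Type u} [Group G] [Finite G]

/-- coprime normal subgroups `T`, `D` of `L` commute elementwise -/
theorem commute_of_coprime_normal {L T D : Subgroup G} (hTL : T ≤ L) (hDL : D ≤ L)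
    (hLD : L ≤ normalizer (D : Set G)) (hLT : L ≤ normalizer (T : Set G))
    (hcop : (Nat.card T).Coprime (Nat.card D)) : ∀ d ∈ D, ∀ y ∈ T, d * y = y * d := by
  intro d hd y hy
  have h1 : d * y * d⁻¹ ∈ T := (Subgroup.mem_normalizer_iff.mp (hLT (hDL hd)) y).mp hy
  have h2 : y * d⁻¹ * y⁻¹ ∈ D :=
    (Subgroup.mem_normalizer_iff.mp (hLD (hTL hy)) d⁻¹).mp (D.inv_mem hd)
  have hc : d * y * d⁻¹ * y⁻¹ ∈ T ⊓ D := by
    refine ⟨T.mul_mem h1 (T.inv_mem hy), ?_⟩
    have := D.mul_mem hd h2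
    have e : d * (y * d⁻¹ * y⁻¹) = d * y * d⁻¹ * y⁻¹ := by group
    rwa [e] at this
  rw [(Subgroup.disjoint_of_coprime_natCard hcop).eq_bot, Subgroup.mem_bot] at hc
  have e : d * y = (d * y * d⁻¹ * y⁻¹) * (y * d) := by group
  rw [e, hc, one_mul]

/-- an element of `L = D T` (`D ⊴ L`) of order prime to `|T|` lies in `D` -/
theorem mem_of_coprime_of_decomp {L T D : Subgroup G} (hDL : D ≤ L)
    (hLD : L ≤ normalizer (D : Set G))
    (hdec : ∀ n ∈ L, ∃ k ∈ D, ∃ n₁ ∈ T, n = k * n₁) (hTL : T ≤ L) {x : G} (hx : x ∈ L)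
    (hcop : (orderOf x).Coprime (Nat.card T)) : x ∈ D := by
  haveI : (D.subgroupOf L).Normal := Subgroup.normal_subgroupOf_of_le_normalizer hLD
  obtain ⟨k, hk, n₁, hn₁, rfl⟩ := hdec x hx
  have hkL : k ∈ L := hDL hk
  have hnL : n₁ ∈ L := hTL hn₁
  set q := QuotientGroup.mk' (D.subgroupOf L) with hq
  have h1 : q ⟨k * n₁, hx⟩ = q ⟨n₁, hnL⟩ := by
    have e : (⟨k * n₁, hx⟩ : ↥L) = ⟨k, hkL⟩ * ⟨n₁, hnL⟩ := rfl
    rw [e, map_mul]
    have : q ⟨k, hkL⟩ = 1 := by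
      rw [hq, QuotientGroup.mk'_apply, QuotientGroup.eq_one_iff, Subgroup.mem_subgroupOf]
      exact hk
    rw [this, one_mul]
  have h2 : orderOf (q ⟨k * n₁, hx⟩) ∣ orderOf (k * n₁) := by
    have := orderOf_map_dvd q (⟨k * n₁, hx⟩ : ↥L)
    rwa [Subgroup.orderOf_mk] at this
  have h3 : orderOf (q ⟨n₁, hnL⟩) ∣ Nat.card T := by
    have h4 := orderOf_map_dvd q (⟨n₁, hnL⟩ : ↥L)
    rw [Subgroup.orderOf_mk] at h4
    have h5 : orderOf n₁ ∣ Nat.card T := by
      have := orderOf_dvd_natCard (⟨n₁, hn₁⟩ : ↥T)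
      rwa [Subgroup.orderOf_mk] at this
    exact h4.trans h5
  rw [h1] at h2
  have h6 : orderOf (q ⟨n₁, hnL⟩) = 1 := Nat.eq_one_of_dvd_coprimes hcop h2 h3
  rw [orderOf_eq_one_iff, ← h1, hq, QuotientGroup.mk'_apply, QuotientGroup.eq_one_iff,
    Subgroup.mem_subgroupOf] at h6
  exact h6


/-- in a finite cyclic group, an element killed by `s` lies in the subgroup generated by an
element of order `s` -/
theorem mem_zpowers_of_isCyclic {α : Type*} [Group α] [Finite α] [IsCyclic α] {a b : α} {s : ℕ}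
    (hs : 0 < s) (ha : orderOf a = s) (hb : b ^ s = 1) : b ∈ zpowers a := by
  classical
  haveI := Fintype.ofFinite α
  by_contra hb'
  have h1 := IsCyclic.card_pow_eq_one_le (α := α) hs
  let A : Finset α := Finset.univ.filter (fun x => x ∈ zpowers a)
  have hA : A.card = s := by
    rw [← ha, ← Nat.card_zpowers, Nat.card_eq_fintype_card, Fintype.card_subtype]
  have hbA : b ∉ A := by simp [A, hb']
  have hsub : insert b A ⊆ Finset.univ.filter (fun x : α => x ^ s = 1) := by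
    intro x hx
    rw [Finset.mem_insert] at hx
    rw [Finset.mem_filter]
    refine ⟨Finset.mem_univ _, ?_⟩
    rcases hx with rfl | hx
    · exact hb
    · have hx' : x ∈ zpowers a := by simpa [A] using hx
      obtain ⟨k, rfl⟩ := hx'
      rw [← zpow_natCast, ← zpow_mul, mul_comm, zpow_mul, zpow_natCast, ← ha, pow_orderOf_eq_one,
        one_zpow]
  have h2 := Finset.card_le_card hsub
  rw [Finset.card_insert_of_notMem hbA, hA] at h2
  omega

/-- two elements of prime order `s` of a nilpotent subgroup `F ≤ M` generate the same subgroup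
when `M` has `s`-rank at most `1` -/
theorem mem_zpowers_of_rank_one (hG : Cfsg.IsMinSimpleOddOrder G) {M F : Subgroup G}
    (hFM : F ≤ M) (hF : Group.IsNilpotent F) {s : ℕ} [hs : Fact s.Prime]
    (hrk : Cfsg.PRankLE s 1 ↥M) {a b : G} (ha : a ∈ F) (hb : b ∈ F) (hao : orderOf a = s)
    (hbo : orderOf b = s) : b ∈ zpowers a := by
  have hPa : IsPGroup s (zpowers a) := by
    apply IsPGroup.of_card (n := 1)
    rw [Nat.card_zpowers, hao, pow_one]
  have hPb : IsPGroup s (zpowers b) := by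
    apply IsPGroup.of_card (n := 1)
    rw [Nat.card_zpowers, hbo, pow_one]
  obtain ⟨P, hP, hleP⟩ := exists_isSylowIn_ge (Subgroup.zpowers_le.mpr ha) hPa
  obtain ⟨P', hP', hleP'⟩ := exists_isSylowIn_ge (Subgroup.zpowers_le.mpr hb) hPb
  have hcopP : (Nat.card P).Coprime (P.relIndex F) := by
    obtain ⟨k, hk⟩ := IsPGroup.iff_card.mp hP.2.1
    rw [hk]
    apply Nat.Coprime.pow_left
    rw [Nat.Prime.coprime_iff_not_dvd hs.out]
    exact (hP.toSylow).not_dvd_index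
  have hPP' : P = P' := by
    apply Cfsg.Agent.Helper27.BG15.hall_unique_of_isNilpotent hF hP.1 hP'.1 _ hcopP
    rw [Cfsg.Agent.Lead.BG8.IsSylowIn.card_eq hP, Cfsg.Agent.Lead.BG8.IsSylowIn.card_eq hP']
  subst hPP'
  have hPM : P ≤ M := hP.1.trans hFM
  have hrkP : Cfsg.PRankLE s 1 ↥P :=
    Cfsg.Agent.Helper7.PRankLE.of_injective (Subgroup.inclusion hPM)
      (Subgroup.inclusion_injective hPM) hrk
  haveI hcyc : IsCyclic ↥P := Cfsg.Agent.H9.BG12.isCyclic_of_pRankLE_one hG hP.2.1 hrkP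
  have haP : a ∈ P := hleP (Subgroup.mem_zpowers a)
  have hbP : b ∈ P := hleP' (Subgroup.mem_zpowers b)
  have h1 : (⟨b, hbP⟩ : ↥P) ∈ zpowers (⟨a, haP⟩ : ↥P) := by
    apply mem_zpowers_of_isCyclic hs.out.pos
    · rw [Subgroup.orderOf_mk]; exact hao
    · apply Subtype.ext
      simp only [Subgroup.coe_pow, Subgroup.coe_one]
      rw [← hbo]; exact pow_orderOf_eq_one b
  obtain ⟨k, hk⟩ := h1
  exact ⟨k, by simpa using congrArg Subtype.val hk⟩

section decomp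

variable {M K U : Subgroup G}

/-- a prime divisor of `|U|` lies outside `σ(M) ∪ κ(M)` -/
theorem not_mem_of_dvd_card_U (hG : Cfsg.IsMinSimpleOddOrder G) (hM : IsCoatom M)
    (hKU : Cfsg.IsSigmaDecomposition M K U) {r : ℕ} (hr : r.Prime) (hrU : r ∣ Nat.card U) :
    r ∉ Cfsg.sigma M ∪ Cfsg.kappa M ∧ r ∣ Nat.card M ∧ ¬ r ∣ Nat.card K := by
  have h1350 : Cfsg.Agent.H9.BG12.St1350 G := fun M hM => Cfsg.Agent.S1350.result hG M hM
  have hσ := (h1350 M hM).1
  have hrM : r ∣ Nat.card M := hrU.trans (Subgroup.card_dvd_of_le hKU.compl.1)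
  have hrσ : r ∉ Cfsg.sigma M := by
    intro h
    apply hσ.2.2 r hr h
    rw [Cfsg.Agent.Helper10.BG16.sd_relIndex_sigma h1350 hM hKU]
    exact hrU.mul_right _
  have hrK : ¬ r ∣ Nat.card K := by
    intro h
    apply hKU.hall.2.2 r hr (hKU.hall.2.1 r hr h)
    rw [Cfsg.Agent.Helper10.BG16.sd_relIndex_K h1350 hM hKU]
    exact hrU.mul_right _
  have hrκ : r ∉ Cfsg.kappa M := by
    intro h
    apply hKU.hall.2.2 r hr h
    rw [Cfsg.Agent.Helper10.BG16.sd_relIndex_K h1350 hM hKU]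
    exact hrU.mul_right _
  refine ⟨?_, hrM, hrK⟩
  rintro (h | h)
  · exact hrσ h
  · exact hrκ h

/-- `M` is not of type `𝒫₁` when `U ≠ 1` -/
theorem not_P1 (hG : Cfsg.IsMinSimpleOddOrder G) (hM : IsCoatom M)
    (hKU : Cfsg.IsSigmaDecomposition M K U) (hU1 : U ≠ ⊥) :
    ¬ (∀ q : ℕ, q.Prime → q ∣ Nat.card M → q ∉ Cfsg.sigma M → q ∈ Cfsg.kappa M) := by
  intro h
  have hc : Nat.card U ≠ 1 := fun h' => hU1 (Subgroup.card_eq_one.mp h')
  obtain ⟨r, hr, hrU⟩ := Nat.exists_prime_and_dvd hc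
  obtain ⟨h1, h2, -⟩ := not_mem_of_dvd_card_U hG hM hKU hr hrU
  exact h1 (Or.inr (h r hr h2 (fun h' => h1 (Or.inl h'))))

/-- `M_σ` is nilpotent when `U ≠ 1` (S1429) -/
theorem sigmaCore_nilpotent (hG : Cfsg.IsMinSimpleOddOrder G) (hM : IsCoatom M)
    (hKU : Cfsg.IsSigmaDecomposition M K U) (hU1 : U ≠ ⊥) :
    Group.IsNilpotent (Cfsg.sigmaCore M) := by
  have hc : Nat.card U ≠ 1 := fun h' => hU1 (Subgroup.card_eq_one.mp h')
  obtain ⟨r, hr, hrU⟩ := Nat.exists_prime_and_dvd hc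
  obtain ⟨h1, h2, -⟩ := not_mem_of_dvd_card_U hG hM hKU hr hrU
  haveI : Fact r.Prime := ⟨hr⟩
  obtain ⟨S⟩ : Nonempty (Sylow r ↥M) := inferInstance
  exact (Cfsg.Agent.S1429.result hG M hM (not_P1 hG hM hKU hU1) r h2 h1 S).2.2

/-- elements of `M` of order dividing a prime `r ∣ |U|` lie in `M' = U M_σ` -/
theorem mem_commutator_of_pow_eq_one (hG : Cfsg.IsMinSimpleOddOrder G) (hM : IsCoatom M)
    (hKU : Cfsg.IsSigmaDecomposition M K U) (hM' : ⁅M, M⁆ = U ⊔ Cfsg.sigmaCore M)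
    {r : ℕ} (hr : r.Prime) (hrU : r ∣ Nat.card U) {x : G} (hxM : x ∈ M) (hxr : x ^ r = 1) :
    x ∈ ⁅M, M⁆ := by
  have h1350 : Cfsg.Agent.H9.BG12.St1350 G := fun M hM => Cfsg.Agent.S1350.result hG M hM
  obtain ⟨-, -, hrK⟩ := not_mem_of_dvd_card_U hG hM hKU hr hrU
  have hle : ⁅M, M⁆ ≤ M := Subgroup.commutator_le_self M
  have hnorm : M ≤ normalizer ((⁅M, M⁆ : Subgroup G) : Set G) :=
    Cfsg.Agent.Lead.le_normalizer_commutator_left M M
  haveI : ((⁅M, M⁆ : Subgroup G).subgroupOf M).Normal :=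
    Subgroup.normal_subgroupOf_of_le_normalizer hnorm
  have hcardL : Nat.card (⁅M, M⁆ : Subgroup G) = Nat.card U * Nat.card (Cfsg.sigmaCore M) := by
    rw [hM']; exact Cfsg.Agent.Helper10.BG16.sd_card_U_sup_sigma hKU
  have hrel : (⁅M, M⁆ : Subgroup G).relIndex M = Nat.card K := by
    have h1 := Cfsg.Agent.Lead.relIndex_mul_card' hle
    rw [Cfsg.Agent.Helper10.BG16.sd_card h1350 hM hKU, hcardL] at h1
    have hpos : 0 < Nat.card U * Nat.card (Cfsg.sigmaCore M) :=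
      Nat.mul_pos Nat.card_pos Nat.card_pos
    apply Nat.eq_of_mul_eq_mul_right hpos
    rw [h1]; ring
  have hcop : (Nat.card (Subgroup.zpowers (⟨x, hxM⟩ : ↥M))).Coprime
      ((⁅M, M⁆ : Subgroup G).subgroupOf M).index := by
    rw [Nat.card_zpowers, Subgroup.orderOf_mk]
    change (orderOf x).Coprime ((⁅M, M⁆ : Subgroup G).relIndex M)
    rw [hrel]
    have hd : orderOf x ∣ r := orderOf_dvd_of_pow_eq_one hxr
    exact Nat.Coprime.coprime_dvd_left hd ((Nat.Prime.coprime_iff_not_dvd hr).mpr hrK)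
  have h2 := Cfsg.Agent.H9.BG12.le_of_coprime_card_index hcop
  have h3 : (⟨x, hxM⟩ : ↥M) ∈ (⁅M, M⁆ : Subgroup G).subgroupOf M :=
    h2 (Subgroup.mem_zpowers _)
  exact Subgroup.mem_subgroupOf.mp h3

/-- **every prime divisor of `|M_σ|` is in `β(M)`** when `U ≠ 1` and `M' = U M_σ` -/
theorem mem_beta_of_dvd_card_sigmaCore (hG : Cfsg.IsMinSimpleOddOrder G) (hM : IsCoatom M)
    (hKU : Cfsg.IsSigmaDecomposition M K U) (hU1 : U ≠ ⊥)
    (hM' : ⁅M, M⁆ = U ⊔ Cfsg.sigmaCore M)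
    {t : ℕ} (ht : t.Prime) (htd : t ∣ Nat.card (Cfsg.sigmaCore M)) : t ∈ Cfsg.beta M := by
  by_contra htβ
  haveI : Fact t.Prime := ⟨ht⟩
  have hbg : BG G := bg_of_results hG
  have h1350 : Cfsg.Agent.H9.BG12.St1350 G := fun M hM => Cfsg.Agent.S1350.result hG M hM
  have hσM : Cfsg.sigmaCore M ≤ M := Cfsg.Agent.H9.BG12.sigmaCore_le M
  have htM : t ∣ Nat.card M := htd.trans (Subgroup.card_dvd_of_le hσM)
  have htσ : t ∈ Cfsg.sigma M := Cfsg.Agent.H9.BG12.mem_sigma_of_dvd_card_sigmaCore ht htd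
  have hnpc : Cfsg.HasNormalPComplement t ↥(⁅M, M⁆ : Subgroup G) :=
    ((Cfsg.Agent.S1414.result hG M hM).2.2.2.2 t ht htM htβ).1
  have hnil := sigmaCore_nilpotent hG hM hKU hU1
  have hσM' : Cfsg.sigmaCore M ≤ ⁅M, M⁆ := by rw [hM']; exact le_sup_right
  have hM'M : (⁅M, M⁆ : Subgroup G) ≤ M := Subgroup.commutator_le_self M
  -- the Sylow `t`-subgroup of `M_σ`
  obtain ⟨T, hT⟩ := exists_isSylowIn (p := t) (Cfsg.sigmaCore M)
  have hT1 : T ≠ ⊥ := Cfsg.Agent.Helper16.BG11.IsSylowIn.ne_bot_of_dvd hT htd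
  have hTM' : IsSylowIn t T (⁅M, M⁆ : Subgroup G) := by
    refine ⟨hT.1.trans hσM', hT.2.1, ?_⟩
    intro Q hQ hQt hTQ
    exact hT.2.2 Q (Cfsg.Agent.H9.BG12.le_sigmaCore_of_isPGroup h1350 hM htσ (hQ.trans hM'M) hQt)
      hQt hTQ
  obtain ⟨D, hDL, hLD, hdec, hcop⟩ := Cfsg.Agent.Helper28.BG13T1.npc_ambient hTM' hnpc
  -- `T` is normal in `M`
  have hcopT : (Nat.card T).Coprime (T.relIndex (Cfsg.sigmaCore M)) := by
    obtain ⟨k, hk⟩ := IsPGroup.iff_card.mp hT.2.1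
    rw [hk]
    apply Nat.Coprime.pow_left
    rw [Nat.Prime.coprime_iff_not_dvd ht]
    exact (hT.toSylow).not_dvd_index
  have hMT : M ≤ normalizer (T : Set G) := by
    intro m hm
    rw [mem_normalizer_iff_map_cj]
    symm
    apply Cfsg.Agent.Helper27.BG15.hall_unique_of_isNilpotent hnil hT.1 _ _ hcopT
    · have h1 : T.map (cj m) ≤ (Cfsg.sigmaCore M).map (cj m) := Subgroup.map_mono hT.1
      rwa [mem_normalizer_iff_map_cj.mp (Cfsg.Agent.H9.BG12.le_normalizer_sigmaCore M hm)] at h1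
    · exact (Subgroup.card_map_of_injective (cj_injective m)).symm
  have hcomm := commute_of_coprime_normal (L := (⁅M, M⁆ : Subgroup G)) hTM'.1 hDL hLD
    (hM'M.trans hMT) hcop
  -- a prime `r ∣ |U|` and S1429
  have hc : Nat.card U ≠ 1 := fun h' => hU1 (Subgroup.card_eq_one.mp h')
  obtain ⟨r, hr, hrU⟩ := Nat.exists_prime_and_dvd hc
  obtain ⟨h1, h2, -⟩ := not_mem_of_dvd_card_U hG hM hKU hr hrU
  haveI : Fact r.Prime := ⟨hr⟩
  obtain ⟨S⟩ : Nonempty (Sylow r ↥M) := inferInstance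
  have h1429 := (Cfsg.Agent.S1429.result hG M hM (not_P1 hG hM hKU hU1) r h2 h1 S).2.1
  have hrt : r ≠ t := fun h => h1 (Or.inl (h ▸ htσ))
  apply hT1
  rw [eq_bot_iff, ← h1429]
  refine le_inf hT.1 ?_
  rw [Subgroup.le_centralizer_iff, Subgroup.closure_le]
  rintro x ⟨hxS, hxr⟩
  have hxM : x ∈ M := Subgroup.map_subtype_le _ hxS
  have hxM' := mem_commutator_of_pow_eq_one hG hM hKU hM' hr hrU hxM hxr
  have hxD : x ∈ D := by
    apply mem_of_coprime_of_decomp hDL hLD hdec hTM'.1 hxM'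
    obtain ⟨k, hk⟩ := IsPGroup.iff_card.mp hT.2.1
    rw [hk]
    apply Nat.Coprime.pow_right
    have hd : orderOf x ∣ r := orderOf_dvd_of_pow_eq_one hxr
    exact Nat.Coprime.coprime_dvd_left hd ((Nat.coprime_primes hr ht).mpr hrt)
  rw [SetLike.mem_coe, Subgroup.mem_centralizer_iff]
  intro y hy
  exact (hcomm x hxD y hy).symm

/-- `M_σ ≤ F(M)` when `U ≠ 1` -/
theorem sigmaCore_le_fittingOf (hG : Cfsg.IsMinSimpleOddOrder G) (hM : IsCoatom M)
    (hKU : Cfsg.IsSigmaDecomposition M K U) (hU1 : U ≠ ⊥) :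
    Cfsg.sigmaCore M ≤ Cfsg.fittingOf M := by
  have hnil := sigmaCore_nilpotent hG hM hKU hU1
  unfold Cfsg.sigmaCore Cfsg.fittingOf
  apply Subgroup.map_mono
  apply Cfsg.Agent.Helper7.le_fittingSubgroup (Cfsg.piCore_normal _ _)
  have e : ↥(Cfsg.piCore (Cfsg.sigma M) ↥M) ≃* ↥(Cfsg.sigmaCore M) :=
    (Cfsg.piCore (Cfsg.sigma M) ↥M).equivMapOfInjective M.subtype M.subtype_injective
  exact Group.nilpotent_of_surjective e.symm.toMonoidHom e.symm.surjective

/-- **B&G Cor. 15.9, TI clause**: for `M` of type `𝒫₂` (`U ≠ 1`, `M' = U M_σ`) the Fitting subgroup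
meets its conjugates by elements outside `M` trivially -/
theorem fittingOf_inf_map_eq_bot (hG : Cfsg.IsMinSimpleOddOrder G) (hM : IsCoatom M)
    (hKU : Cfsg.IsSigmaDecomposition M K U) (hU1 : U ≠ ⊥)
    (hM' : ⁅M, M⁆ = U ⊔ Cfsg.sigmaCore M) {g : G} (hg : g ∉ M) :
    Cfsg.fittingOf M ⊓ (Cfsg.fittingOf M).map (MulAut.conj g).toMonoidHom = ⊥ := by
  by_contra hne
  have hbg : BG G := bg_of_results hG
  have h1350 : Cfsg.Agent.H9.BG12.St1350 G := fun M hM => Cfsg.Agent.S1350.result hG M hM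
  set F := Cfsg.fittingOf M with hFdef
  have hFM : F ≤ M := Cfsg.Agent.Lead.BG8.fittingOf_le M
  have hFnil : Group.IsNilpotent F := Cfsg.Agent.Lead.BG8.fittingOf_isNilpotent M
  have hσF : Cfsg.sigmaCore M ≤ F := sigmaCore_le_fittingOf hG hM hKU hU1
  have hσM : Cfsg.sigmaCore M ≤ M := Cfsg.Agent.H9.BG12.sigmaCore_le M
  obtain ⟨z, hz, hz1⟩ : ∃ z ∈ F ⊓ F.map (cj g), z ≠ 1 := by
    by_contra hcon
    push Not at hcon
    exact hne ((Subgroup.eq_bot_iff_forall _).mpr hcon)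
  have hzo : orderOf z ≠ 1 := fun h => hz1 (orderOf_eq_one_iff.mp h)
  obtain ⟨s, hs, hsz⟩ := Nat.exists_prime_and_dvd hzo
  haveI : Fact s.Prime := ⟨hs⟩
  set z₁ := z ^ (orderOf z / s) with hz₁def
  have hz₁o : orderOf z₁ = s := orderOf_pow_orderOf_div (orderOf_pos z).ne' hsz
  have hz₁1 : z₁ ≠ 1 := by
    intro h
    rw [h, orderOf_one] at hz₁o
    exact hs.one_lt.ne hz₁o
  have hz₁F : z₁ ∈ F := F.pow_mem hz.1 _
  have hz₁F' : z₁ ∈ F.map (cj g) := (F.map (cj g)).pow_mem hz.2 _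
  rw [mem_map_cj] at hz₁F'
  set f := g⁻¹ * z₁ * g with hfdef
  have hfo : orderOf f = s := by
    have e : f = cj g⁻¹ z₁ := by rw [cj_apply, inv_inv]
    rw [e, orderOf_injective (cj g⁻¹) (cj_injective _) z₁]; exact hz₁o
  have hf1 : f ≠ 1 := by
    intro h
    rw [h, orderOf_one] at hfo
    exact hs.one_lt.ne hfo
  have hzf : z₁ = g * f * g⁻¹ := by rw [hfdef]; group
  -- the common conclusion: `M` is the unique maximal subgroup over `C(z₁)` and over `C(f)`
  have key : (centralizer ({z₁} : Set G) ≤ M ∧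
      ∀ L : Subgroup G, IsCoatom L → centralizer ({z₁} : Set G) ≤ L → L = M) →
      centralizer ({f} : Set G) ≤ M → False := by
    rintro ⟨-, huniq⟩ hf
    have h1 : centralizer ({g * f * g⁻¹} : Set G) ≤ M.map (MulAut.conj g).toMonoidHom :=
      Cfsg.Agent.Helper10.BG13K.centralizer_conj_le hf
    rw [← hzf] at h1
    have h2 := huniq _ (Cfsg.Agent.Helper10.BG13K.isCoatom_map_conj hM g) h1
    exact hg (Cfsg.Agent.H9.BG12.mem_of_map_cj_eq hG hM h2)
  have hcz : ∀ x : G, centralizer ((zpowers x : Subgroup G) : Set G) = centralizer ({x} : Set G) := by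
    intro x
    rw [Subgroup.zpowers_eq_closure, Subgroup.centralizer_closure]
  by_cases hsσ : s ∈ Cfsg.sigma M
  · -- `s ∈ σ(M)`: then `s ∈ β(M)` and S1423 applies
    have hmem : ∀ x ∈ F, orderOf x = s → x ∈ Cfsg.sigmaCore M := by
      intro x hx hxo
      have hPx : IsPGroup s (zpowers x) := by
        apply IsPGroup.of_card (n := 1)
        rw [Nat.card_zpowers, hxo, pow_one]
      exact Cfsg.Agent.H9.BG12.le_sigmaCore_of_isPGroup h1350 hM hsσ
        (Subgroup.zpowers_le.mpr (hFM hx)) hPx (Subgroup.mem_zpowers x)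
    have hsd : s ∣ Nat.card (Cfsg.sigmaCore M) := by
      have := orderOf_dvd_natCard (⟨z₁, hmem z₁ hz₁F hz₁o⟩ : ↥(Cfsg.sigmaCore M))
      rwa [Subgroup.orderOf_mk, hz₁o] at this
    have hsβ := mem_beta_of_dvd_card_sigmaCore hG hM hKU hU1 hM' hs hsd
    obtain ⟨P⟩ : Nonempty (Sylow s ↥(Cfsg.sigmaCore M)) := inferInstance
    have hA := (Cfsg.Agent.S1423.result hG M hM s hsσ (zpowers z₁)
      (Subgroup.zpowers_le.mpr (hFM hz₁F)) (by rw [Nat.card_zpowers, hz₁o]) P (Or.inl hsβ)).1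
    have hB := (Cfsg.Agent.S1423.result hG M hM s hsσ (zpowers f)
      (Subgroup.zpowers_le.mpr (hFM hz₁F')) (by rw [Nat.card_zpowers, hfo]) P (Or.inl hsβ)).1
    rw [hcz] at hA hB
    exact key hA hB.1
  · -- `s ∉ σ(M)`
    have hsσc : ¬ s ∣ Nat.card (Cfsg.sigmaCore M) := fun h =>
      hsσ (Cfsg.Agent.H9.BG12.mem_sigma_of_dvd_card_sigmaCore hs h)
    have hσ1 : Cfsg.sigmaCore M ≠ ⊥ :=
      Cfsg.Agent.Helper10.BG16.sigmaCore_ne_bot hG h1350 hbg.uniq96 hM
    obtain ⟨y, hy, hy1⟩ : ∃ y ∈ Cfsg.sigmaCore M, y ≠ 1 := by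
      by_contra hcon
      push Not at hcon
      exact hσ1 ((Subgroup.eq_bot_iff_forall _).mpr hcon)
    have hhat : ∀ x ∈ F, orderOf x = s → x ∈ Cfsg.sigmaHat M := by
      intro x hx hxo
      refine ⟨hFM hx, y, hy, hy1, ?_⟩
      haveI := hFnil
      have hcop : (orderOf (⟨x, hx⟩ : ↥F)).Coprime (orderOf (⟨y, hσF hy⟩ : ↥F)) := by
        rw [Subgroup.orderOf_mk, Subgroup.orderOf_mk, hxo, Nat.Prime.coprime_iff_not_dvd hs]
        intro hd
        apply hsσc
        have := orderOf_dvd_natCard (⟨y, hy⟩ : ↥(Cfsg.sigmaCore M))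
        rw [Subgroup.orderOf_mk] at this
        exact hd.trans this
      have h3 := Cfsg.Agent.Helper29.commute_of_nilpotent_of_coprime_orderOf ↥F
        ⟨x, hx⟩ ⟨y, hσF hy⟩ hcop
      exact congrArg Subtype.val h3.eq
    by_cases hτ2 : s ∈ Cfsg.tau2 M
    · obtain ⟨E, hE⟩ := Cfsg.Agent.H9.BG12.exists_complIn_sigmaCore h1350 hM
      have h1420 := (Cfsg.Agent.S1420.result hG M hM E hE).2.2.2
      have hprimes : ∀ x : G, orderOf x = s →
          ∀ p : ℕ, p.Prime → p ∣ orderOf x → p ∈ Cfsg.tau2 M := by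
        intro x hxo p hp hpd
        rw [hxo] at hpd
        rw [(Nat.prime_dvd_prime_iff_eq hp hs).mp hpd]; exact hτ2
      have hA := h1420 z₁ (hFM hz₁F) hz₁1 (hprimes z₁ hz₁o) (hhat z₁ hz₁F hz₁o)
      have hB := h1420 f (hFM hz₁F') hf1 (hprimes f hfo) (hhat f hz₁F' hfo)
      exact key hA hB.1
    · -- `s`-rank one: `⟨z₁⟩` is normalized by `M` and by `g`
      have hrk2 : Cfsg.PRankLE s 2 ↥M := Cfsg.Agent.Helper16.BG11.pRankLE_two_of_not_mem_sigma hbg hM hsσ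
      have hrk1 : Cfsg.PRankLE s 1 ↥M := by
        by_contra h
        exact hτ2 ⟨hs, hsσ, hrk2, h⟩
      set Z := zpowers z₁ with hZ
      have hZM : Z ≤ M := Subgroup.zpowers_le.mpr (hFM hz₁F)
      have hZ1 : Z ≠ ⊥ := by
        intro h
        have : z₁ ∈ (⊥ : Subgroup G) := h ▸ Subgroup.mem_zpowers z₁
        exact hz₁1 (Subgroup.mem_bot.mp this)
      have hFn : M ≤ normalizer (F : Set G) := Cfsg.Agent.Lead.Bender.le_normalizer_fittingOf M
      have hconj : ∀ m : G, m * z₁ * m⁻¹ ∈ F → Z.map (cj m) ≤ Z := by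
        intro m hm
        rw [hZ, MonoidHom.map_zpowers, Subgroup.zpowers_le, cj_apply]
        apply mem_zpowers_of_rank_one hG hFM hFnil hrk1 hz₁F hm hz₁o
        have e : m * z₁ * m⁻¹ = cj m z₁ := rfl
        rw [e, orderOf_injective (cj m) (cj_injective _) z₁]; exact hz₁o
      have hMZ : M ≤ normalizer (Z : Set G) := by
        apply Cfsg.Agent.Helper14.le_normalizer_of_map_cj_le
        intro m hm
        apply hconj
        exact (Subgroup.mem_normalizer_iff.mp (hFn hm) z₁).mp hz₁F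
      have hNZ := Cfsg.Agent.Helper16.BG11.normalizer_eq hbg hM hZM hZ1 hMZ
      have hgi : g⁻¹ ∈ normalizer (Z : Set G) := by
        rw [mem_normalizer_iff_map_cj]
        apply Subgroup.eq_of_le_of_card_ge
        · apply hconj
          rw [inv_inv]; exact hz₁F'
        · rw [Subgroup.card_map_of_injective (cj_injective g⁻¹)]
      rw [hNZ] at hgi
      exact hg (by simpa using M.inv_mem hgi)

/-- **S1372** (`M = K U M_σ`, `K ≠ 1`, `U ≠ 1`: `|K|` is prime, `F(M)` is a TI-subset and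
`M_σ ≤ F(M)`) relative to the statements of S1365 and S1430 only -/
theorem s1372_of (hG : Cfsg.IsMinSimpleOddOrder G)
    (h1365 : ∀ (M : Subgroup G), IsCoatom M → ∀ (K U : Subgroup G),
      Cfsg.IsSigmaDecomposition M K U → K ≠ ⊥ → ⁅M, M⁆ = U ⊔ Cfsg.sigmaCore M)
    (h1430 : Cfsg.Agent.Helper10.BG16.St1430 G) (hM : IsCoatom M)
    (hKU : Cfsg.IsSigmaDecomposition M K U) (hK1 : K ≠ ⊥) (hU1 : U ≠ ⊥) :
    (Nat.card K).Prime ∧ Cfsg.IsTISubset (Cfsg.fittingOf M : Set G) ∧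
      Cfsg.sigmaCore M ≤ Cfsg.fittingOf M := by
  have h1350 : Cfsg.Agent.H9.BG12.St1350 G := fun M hM => Cfsg.Agent.S1350.result hG M hM
  have hM' := h1365 M hM K U hKU hK1
  refine ⟨?_, ?_, sigmaCore_le_fittingOf hG hM hKU hU1⟩
  · apply Cfsg.Agent.Helper4.BG147L.card_prime_of_compl_ne hG h1430 hM hKU.hall hK1
    rw [Cfsg.Agent.Helper10.BG16.sd_card h1350 hM hKU]
    intro h
    have hpos : 0 < Nat.card K * Nat.card (Cfsg.sigmaCore M) :=
      Nat.mul_pos Nat.card_pos Nat.card_pos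
    have h1 : Nat.card U = 1 := by
      have h2 : 1 * (Nat.card K * Nat.card (Cfsg.sigmaCore M)) =
          Nat.card U * (Nat.card K * Nat.card (Cfsg.sigmaCore M)) := by rw [one_mul]; exact h
      exact (Nat.eq_of_mul_eq_mul_right hpos h2).symm
    exact hU1 (Subgroup.card_eq_one.mp h1)
  · intro g hg x hx hgx
    have hgM : g ∉ M := fun h => hg (Cfsg.Agent.Lead.Bender.le_normalizer_fittingOf M h)
    have h0 := fittingOf_inf_map_eq_bot hG hM hKU hU1 hM' hgM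
    have h1 : g * x * g⁻¹ ∈
        Cfsg.fittingOf M ⊓ (Cfsg.fittingOf M).map (MulAut.conj g).toMonoidHom :=
      ⟨hgx, ⟨x, hx, rfl⟩⟩
    rw [h0, Subgroup.mem_bot] at h1
    have h2 : x = g⁻¹ * (g * x * g⁻¹) * g := by group
    rw [h2, h1]; group

end decomp

end Cfsg.Agent.Helper16.BG15T
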