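import Mathlib
import Cfsg.Agent.Helper17.Basic

/-!
Towards a Baer–Suzuki type theorem for odd `p` in groups with a normal `p`-complement:
group-theoretic core lemmas (independence of three twisted centralizers, counting).
-/

set_option autoImplicit false

namespace Cfsg.Agent.Helper16.BSOdd

open Subgroup

variable {G : Type*} [Group G]

/-- independence of the centralizers of `c`, `zc`, `z²c` in an abelian normal subgroup on which
`z` and `z²` act fixed-point-freely -/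
theorem eq_one_of_mul_eq {N : Subgroup G} [hNn : N.Normal] {c z : G} (hzc : Commute z c)
    (hz1 : ∀ n ∈ N, Commute n z → n = 1) (hz2 : ∀ n ∈ N, Commute n (z ^ 2) → n = 1)
    {a b e : G} (haN : a ∈ N) (hbN : b ∈ N)
    (ha : Commute a c) (hb : Commute b (z * c)) (he : Commute e (z ^ 2 * c)) (habe : a * b = e) :
    a = 1 ∧ b = 1 := by
  have hz2c : Commute (z ^ 2) c := hzc.pow_left 2
  have hzzc : Commute z (z * c) := (Commute.refl z).mul_right hzc
  set a' := z ^ 2 * a * (z ^ 2)⁻¹ with ha'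
  set b' := z * b * z⁻¹ with hb'
  have ha'N : a' ∈ N := hNn.conj_mem a haN _
  have hb'N : b' ∈ N := hNn.conj_mem b hbN _
  have h1 : (z ^ 2 * c) * a * (z ^ 2 * c)⁻¹ = a' := by
    have : (z ^ 2 * c) * a * (z ^ 2 * c)⁻¹ = z ^ 2 * (c * a * c⁻¹) * (z ^ 2)⁻¹ := by group
    rw [this, ← ha.eq, mul_inv_cancel_right]
  have h2 : (z ^ 2 * c) * b * (z ^ 2 * c)⁻¹ = b' := by
    have : (z ^ 2 * c) * b * (z ^ 2 * c)⁻¹ = z * ((z * c) * b * (z * c)⁻¹) * z⁻¹ := by
      simp only [pow_two, mul_inv_rev, mul_assoc]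
    rw [this, ← hb.eq, mul_inv_cancel_right]
  have h3 : a' * b' = a * b := by
    have : (z ^ 2 * c) * (a * b) * (z ^ 2 * c)⁻¹ = a * b := by
      rw [habe, ← he.eq, mul_inv_cancel_right]
    rw [← this, ← h1, ← h2]
    group
  have h4 : a⁻¹ * a' = b * b'⁻¹ := by
    have : a⁻¹ * (a' * b') * b'⁻¹ = a⁻¹ * (a * b) * b'⁻¹ := by rw [h3]
    rw [mul_assoc a⁻¹, mul_inv_cancel_right, inv_mul_cancel_left] at this
    exact this
  set w := a⁻¹ * a' with hw
  have hwN : w ∈ N := N.mul_mem (N.inv_mem haN) ha'N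
  have hwc : Commute w c := by
    apply Commute.mul_left ha.inv_left
    exact (hz2c.mul_left ha).mul_left hz2c.inv_left
  have hwzc : Commute w (z * c) := by
    rw [h4]
    apply Commute.mul_left hb
    apply Commute.inv_left
    exact (hzzc.mul_left hb).mul_left hzzc.inv_left
  have hwz : Commute w z := by
    have : z = (z * c) * c⁻¹ := by group
    rw [this]
    exact hwzc.mul_right hwc.inv_right
  have hw1 : w = 1 := hz1 w hwN hwz
  have haa : a' = a := by
    rw [hw, inv_mul_eq_one] at hw1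
    exact hw1.symm
  have hbb : b' = b := by
    rw [hw1] at h4
    have := h4.symm
    rw [mul_inv_eq_one] at this
    exact this.symm
  constructor
  · apply hz2 a haN
    have : z ^ 2 * a * (z ^ 2)⁻¹ = a := haa
    rw [mul_inv_eq_iff_eq_mul] at this
    exact this.symm
  · apply hz1 b hbN
    have : z * b * z⁻¹ = b := hbb
    rw [mul_inv_eq_iff_eq_mul] at this
    exact this.symm


theorem card_centralizer_cube_le [Finite G] {N : Subgroup G} [hNn : N.Normal]
    (hNc : ∀ a ∈ N, ∀ b ∈ N, a * b = b * a) {c z X : G} (hzc : Commute z c) (hzX : Commute z X)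
    (hX : X⁻¹ * c * X = z * c)
    (hz1 : ∀ n ∈ N, Commute n z → n = 1) (hz2 : ∀ n ∈ N, Commute n (z ^ 2) → n = 1) :
    Nat.card (N ⊓ centralizer {c} : Subgroup G) ^ 3 ≤ Nat.card N := by
  set E : Subgroup G := N ⊓ centralizer {c} with hE
  have hEN : ∀ a : E, (a : G) ∈ N := fun a => (mem_inf.mp a.2).1
  have hEc : ∀ a : E, Commute (a : G) c := fun a => by
    have := (mem_inf.mp a.2).2
    rw [mem_centralizer_singleton_iff] at this
    exact this
  have hX2 : X⁻¹ * (z * c) * X = z ^ 2 * c := by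
    have : X⁻¹ * (z * c) * X = (X⁻¹ * z * X) * (X⁻¹ * c * X) := by group
    rw [this, hX, mul_assoc X⁻¹ z X, hzX.eq, inv_mul_cancel_left, pow_two, mul_assoc]
  -- conjugates
  have hconjN : ∀ n ∈ N, X⁻¹ * n * X ∈ N := by
    intro n hn
    have := hNn.conj_mem n hn X⁻¹
    rwa [inv_inv] at this
  have hc1 : ∀ a : E, Commute (X⁻¹ * (a : G) * X) (z * c) := by
    intro a
    have h := hEc a
    rw [← hX]
    have : Commute (X⁻¹ * (a : G) * X) (X⁻¹ * c * X) := by
      unfold Commute SemiconjBy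
      have e1 : X⁻¹ * (a : G) * X * (X⁻¹ * c * X) = X⁻¹ * ((a : G) * c) * X := by group
      have e2 : X⁻¹ * c * X * (X⁻¹ * (a : G) * X) = X⁻¹ * (c * (a : G)) * X := by group
      rw [e1, e2, h.eq]
    exact this
  have hc2 : ∀ a : E, Commute (X⁻¹ * (X⁻¹ * (a : G) * X) * X) (z ^ 2 * c) := by
    intro a
    have h := hc1 a
    rw [← hX2]
    unfold Commute SemiconjBy
    have e1 : X⁻¹ * (X⁻¹ * (a : G) * X) * X * (X⁻¹ * (z * c) * X) =
        X⁻¹ * ((X⁻¹ * (a : G) * X) * (z * c)) * X := by group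
    have e2 : X⁻¹ * (z * c) * X * (X⁻¹ * (X⁻¹ * (a : G) * X) * X) =
        X⁻¹ * ((z * c) * (X⁻¹ * (a : G) * X)) * X := by group
    rw [e1, e2, h.eq]
  let φ : E × E × E → N := fun t =>
    ⟨(t.1 : G) * (X⁻¹ * (t.2.1 : G) * X) * (X⁻¹ * (X⁻¹ * (t.2.2 : G) * X) * X),
      N.mul_mem (N.mul_mem (hEN t.1) (hconjN _ (hEN t.2.1)))
        (hconjN _ (hconjN _ (hEN t.2.2)))⟩
  have hφ : Function.Injective φ := by
    rintro ⟨a, b, e⟩ ⟨a', b', e'⟩ h
    have h0 : (a : G) * (X⁻¹ * (b : G) * X) * (X⁻¹ * (X⁻¹ * (e : G) * X) * X) =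
        (a' : G) * (X⁻¹ * (b' : G) * X) * (X⁻¹ * (X⁻¹ * (e' : G) * X) * X) :=
      congrArg Subtype.val h
    set b1 := X⁻¹ * (b : G) * X with hb1
    set b1' := X⁻¹ * (b' : G) * X with hb1'
    set e1 := X⁻¹ * (X⁻¹ * (e : G) * X) * X with he1
    set e1' := X⁻¹ * (X⁻¹ * (e' : G) * X) * X with he1'
    have hb1N : b1 ∈ N := hconjN _ (hEN b)
    have hb1'N : b1' ∈ N := hconjN _ (hEN b')
    have he1N : e1 ∈ N := hconjN _ (hconjN _ (hEN e))
    have he1'N : e1' ∈ N := hconjN _ (hconjN _ (hEN e'))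
    -- rearrange using commutativity of `N`
    have h1 : ((a' : G)⁻¹ * a) * (b1'⁻¹ * b1) = e1' * e1⁻¹ := by
      have hc' : (a : G) * b1'⁻¹ = b1'⁻¹ * a := hNc _ (hEN a) _ (N.inv_mem hb1'N)
      calc ((a' : G)⁻¹ * a) * (b1'⁻¹ * b1) = (a' : G)⁻¹ * ((a : G) * b1'⁻¹) * b1 := by
            simp only [mul_assoc]
        _ = (a' : G)⁻¹ * b1'⁻¹ * ((a : G) * b1) := by
            rw [hc']; simp only [mul_assoc]
        _ = (a' : G)⁻¹ * b1'⁻¹ * ((a : G) * b1 * e1) * e1⁻¹ := by group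
        _ = (a' : G)⁻¹ * b1'⁻¹ * ((a' : G) * b1' * e1') * e1⁻¹ := by rw [h0]
        _ = (a' : G)⁻¹ * (b1'⁻¹ * (a' : G)) * b1' * e1' * e1⁻¹ := by group
        _ = e1' * e1⁻¹ := by
            rw [hNc _ (N.inv_mem hb1'N) _ (hEN a')]
            group
    have key := eq_one_of_mul_eq (N := N) hzc hz1 hz2
      (N.mul_mem (N.inv_mem (hEN a')) (hEN a)) (N.mul_mem (N.inv_mem hb1'N) hb1N)
      ((hEc a').inv_left.mul_left (hEc a)) ((hc1 b').inv_left.mul_left (hc1 b))
      ((hc2 e').mul_left (hc2 e).inv_left) h1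
    obtain ⟨k1, k2⟩ := key
    have haa : (a : G) = a' := by
      rw [inv_mul_eq_one] at k1; exact k1.symm
    have hbb : b1 = b1' := by
      rw [inv_mul_eq_one] at k2; exact k2.symm
    have hee : e1 = e1' := by
      rw [haa, hbb] at h0
      exact mul_left_cancel h0
    have hb' : (b : G) = b' := by
      have := hbb
      rw [hb1, hb1'] at this
      exact mul_left_cancel (mul_right_cancel this)
    have he' : (e : G) = e' := by
      have := hee
      rw [he1, he1'] at this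
      exact mul_left_cancel (mul_right_cancel (mul_left_cancel (mul_right_cancel this)))
    rw [Prod.mk.injEq, Prod.mk.injEq]
    exact ⟨Subtype.ext haa, Subtype.ext hb', Subtype.ext he'⟩
  have := Nat.card_le_card_of_injective φ hφ
  rw [Nat.card_prod, Nat.card_prod] at this
  calc Nat.card E ^ 3 = Nat.card E * (Nat.card E * Nat.card E) := by ring
    _ ≤ Nat.card N := this


/-- the hypotheses of the theorem -/
structure Hyp (p : ℕ) (P N : Subgroup G) (C D : Set G) : Prop where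
  pP : IsPGroup p P
  nN : N.Normal
  cop : (Nat.card N).Coprime p
  sup : N ⊔ P = ⊤
  hC : closure C = P
  hD : closure D = P
  pg : ∀ x ∈ N, ∀ c ∈ C, ∀ d ∈ D, IsPGroup p (closure ({x * c * x⁻¹, d} : Set G))

section hyp

variable [Finite G] {p : ℕ} [hp : Fact p.Prime] {P N : Subgroup G} {C D : Set G}

theorem Hyp.disj (h : Hyp p P N C D) : P ⊓ N = ⊥ := by
  obtain ⟨k, hk⟩ := IsPGroup.iff_card.mp h.pP
  have : (Nat.card P).Coprime (Nat.card N) := by
    rw [hk]; exact Nat.Coprime.pow_left k h.cop.symm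
  exact (disjoint_of_coprime_natCard this).eq_bot

theorem Hyp.card_eq (h : Hyp p P N C D) : Nat.card G = Nat.card N * Nat.card P := by
  have := h.nN
  have h1 := Cfsg.Agent.Helper17.card_sup_mul_card_inf_of_normal N P
  rw [h.sup, inf_comm, h.disj, card_bot, mul_one, card_top] at h1
  exact h1

theorem Hyp.not_dvd_index (h : Hyp p P N C D) : ¬ p ∣ P.index := by
  have h1 := P.card_mul_index
  rw [h.card_eq] at h1
  have h2 : P.index = Nat.card N :=
    Nat.eq_of_mul_eq_mul_left Nat.card_pos (h1.trans (mul_comm _ _))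
  rw [h2]
  intro hdvd
  have := Nat.Coprime.eq_one_of_dvd h.cop.symm hdvd
  exact hp.out.one_lt.ne' this

omit [Finite G] hp in
theorem Hyp.subC (h : Hyp p P N C D) : C ⊆ P := by
  rw [← h.hC]; exact subset_closure

omit [Finite G] hp in
theorem Hyp.subD (h : Hyp p P N C D) : D ⊆ P := by
  rw [← h.hD]; exact subset_closure

/-- the factorization `N = C_N(d) C_N(c)` -/
theorem Hyp.factor (h : Hyp p P N C D) {x c d : G} (hx : x ∈ N) (hc : c ∈ C) (hd : d ∈ D) :
    ∃ y ∈ N, Commute y d ∧ Commute (y⁻¹ * x) c := by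
  have hNn := h.nN
  have hcP : c ∈ P := h.subC hc
  have hdP : d ∈ P := h.subD hd
  set R : Subgroup G := closure ({x * c * x⁻¹, d} : Set G) with hR
  have hRp : IsPGroup p R := h.pg x hx c hc d hd
  obtain ⟨Q, hQ⟩ := hRp.exists_le_sylow
  set S : Sylow p G := h.pP.toSylow h.not_dvd_index with hS
  obtain ⟨g, hg⟩ := MulAction.exists_smul_eq G Q S
  have hconj : ∀ r ∈ R, g * r * g⁻¹ ∈ P := by
    intro r hr
    have h1 : g * r * g⁻¹ ∈ ((g • Q : Sylow p G) : Subgroup G) := by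
      rw [Sylow.coe_subgroup_smul, mem_pointwise_smul_iff_inv_smul_mem]
      have : (MulAut.conj g)⁻¹ • (g * r * g⁻¹) = r := by
        simp [MulAut.smul_def]
        group
      rw [this]
      exact hQ hr
    rw [hg, hS, IsPGroup.toSylow_coe] at h1
    exact h1
  -- decompose `g = u * n`
  have hgmem : g ∈ (↑(P ⊔ N) : Set G) := by
    rw [sup_comm, h.sup]; trivial
  rw [mul_normal] at hgmem
  obtain ⟨u, hu, n, hn, rfl⟩ := hgmem
  have hconj' : ∀ r ∈ R, n * r * n⁻¹ ∈ P := by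
    intro r hr
    have h1 := hconj r hr
    have h2 : n * r * n⁻¹ = u⁻¹ * (u * n * r * (u * n)⁻¹) * u := by group
    rw [h2]
    exact P.mul_mem (P.mul_mem (P.inv_mem hu) h1) hu
  have hbot : ∀ t : G, t ∈ P → t ∈ N → t = 1 := by
    intro t h1 h2
    have : t ∈ P ⊓ N := mem_inf.mpr ⟨h1, h2⟩
    rwa [h.disj, mem_bot] at this
  refine ⟨n⁻¹, N.inv_mem hn, ?_, ?_⟩
  · have hdR : d ∈ R := subset_closure (by simp)
    have h1 : n * d * n⁻¹ * d⁻¹ ∈ P := P.mul_mem (hconj' d hdR) (P.inv_mem hdP)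
    have h2 : n * d * n⁻¹ * d⁻¹ ∈ N := by
      have : n * d * n⁻¹ * d⁻¹ = n * (d * n⁻¹ * d⁻¹) := by group
      rw [this]
      exact N.mul_mem hn (hNn.conj_mem _ (N.inv_mem hn) d)
    have h3 := hbot _ h1 h2
    unfold Commute SemiconjBy
    have h4 : n * d = d * n := by
      have : n * d * n⁻¹ * d⁻¹ * (d * n) = n * d := by group
      rw [← this, h3, one_mul]
    calc n⁻¹ * d = n⁻¹ * (d * n) * n⁻¹ := by group
      _ = n⁻¹ * (n * d) * n⁻¹ := by rw [h4]
      _ = d * n⁻¹ := by group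
  · rw [inv_inv]
    have hcR : x * c * x⁻¹ ∈ R := subset_closure (by simp)
    have h1 : n * (x * c * x⁻¹) * n⁻¹ * c⁻¹ ∈ P := P.mul_mem (hconj' _ hcR) (P.inv_mem hcP)
    have h2 : n * (x * c * x⁻¹) * n⁻¹ * c⁻¹ ∈ N := by
      have : n * (x * c * x⁻¹) * n⁻¹ * c⁻¹ = (n * x) * (c * (n * x)⁻¹ * c⁻¹) := by group
      rw [this]
      exact N.mul_mem (N.mul_mem hn hx) (hNn.conj_mem _ (N.inv_mem (N.mul_mem hn hx)) c)
    have h3 := hbot _ h1 h2
    unfold Commute SemiconjBy
    have : n * (x * c * x⁻¹) * n⁻¹ * c⁻¹ * (c * (n * x)) = n * x * c := by group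
    rw [← this, h3, one_mul]

end hyp

end Cfsg.Agent.Helper16.BSOdd
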