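import Mathlib
import Cfsg.Agent.S0519
import Cfsg.Agent.Helper1.UniqueOrderP
import Cfsg.Agent.Helper9.NormalSeries
import Cfsg.Agent.Helper9.NormalElemAb
import Cfsg.Agent.Helper9.PGroupCent
import Cfsg.Agent.Helper23.Cyclic

/-!
# Normal elementary abelian subgroups of order `p²` in `p`-groups and adapted generators
-/

set_option autoImplicit false

namespace Cfsg.Agent.Helper16.PImprim

open Subgroup

universe u

variable {G : Type u} [Group G] [Finite G]

/-- a `p`-group all of whose abelian subgroups are cyclic has a unique subgroup of order `p` -/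
theorem uniqP_of_abelian_cyclic (p : ℕ) [hp : Fact p.Prime] (hG : IsPGroup p G)
    (h : ∀ B : Subgroup G, IsMulCommutative B → IsCyclic B) : Cfsg.Agent.Helper1.UniqP p G := by
  intro X Y hX hY
  have hnt : Nontrivial G := by
    by_contra hn
    rw [not_nontrivial_iff_subsingleton] at hn
    have : Nat.card X = 1 := Nat.card_eq_one_iff_unique.mpr
      ⟨⟨fun a b => Subtype.ext (Subsingleton.elim _ _)⟩, ⟨1⟩⟩
    rw [hX] at this
    exact hp.out.one_lt.ne' this
  have hcn : Nontrivial (center G) := hG.center_nontrivial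
  have hdvd : p ∣ Nat.card (center G) := by
    obtain ⟨k, hk⟩ := IsPGroup.iff_card.mp (hG.to_subgroup (center G))
    rcases k with _ | k
    · exfalso
      rw [pow_zero] at hk
      have := (Nat.card_eq_one_iff_unique.mp hk).1
      exact not_subsingleton _ this
    · rw [hk, pow_succ]; exact dvd_mul_left p _
  obtain ⟨z', hz'⟩ := exists_prime_orderOf_dvd_card' p hdvd
  set z : G := (z' : G) with hz
  have hzo : orderOf z = p := by rw [← hz', hz]; exact Subgroup.orderOf_coe z'
  have hzc : ∀ g : G, g * z = z * g := fun g => (mem_center_iff.mp z'.2 g)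
  have hZcard : Nat.card (zpowers z) = p := by rw [Nat.card_zpowers, hzo]
  have key : ∀ X : Subgroup G, Nat.card X = p → X = zpowers z := by
    intro X hXp
    have hXcyc : IsCyclic X := isCyclic_of_prime_card hXp
    have hXcomm : X ≤ centralizer (X : Set G) := by
      rw [le_centralizer_iff_isMulCommutative]
      exact IsCyclic.isMulCommutative
    have hZX : zpowers z ≤ centralizer (X : Set G) := by
      rw [zpowers_le]
      intro x _
      exact (hzc x)
    have hZZ : zpowers z ≤ centralizer (zpowers z : Set G) := by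
      rw [le_centralizer_iff_isMulCommutative]
      infer_instance
    set A : Subgroup G := X ⊔ zpowers z with hA
    have hAcomm : IsMulCommutative A := by
      rw [← le_centralizer_iff_isMulCommutative]
      apply sup_le
      · rw [le_centralizer_iff]
        exact sup_le hXcomm hZX
      · rw [le_centralizer_iff]
        exact sup_le (le_centralizer_iff.mp hZX) hZZ
    have hAcyc : IsCyclic A := h A hAcomm
    exact Cfsg.Agent.Helper23.eq_of_card_eq_of_isCyclic A hAcyc X (zpowers z)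
      le_sup_left le_sup_right (by rw [hXp, hZcard])
  rw [key X hX, key Y hY]


/-- a `p`-group which is not cyclic, generalized quaternion, dihedral or quasidihedral has a normal
elementary abelian subgroup of order `p²` -/
theorem exists_normal_elemAb_sq' (p : ℕ) [hp : Fact p.Prime] (hG : IsPGroup p G)
    (hnc : ¬ IsCyclic G) (hnq : ∀ n : ℕ, ¬ Nonempty (G ≃* QuaternionGroup n))
    (hnd : ∀ n : ℕ, ¬ Nonempty (G ≃* DihedralGroup n)) (hnsd : ¬ Cfsg.IsQuasiDihedral G) :
    ∃ A : Subgroup G, A.Normal ∧ Cfsg.IsElementaryAbelian p A ∧ Nat.card A = p ^ 2 := by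
  by_cases hcase : ∀ A : Subgroup G, A.Normal → IsMulCommutative A → IsCyclic A
  · exfalso
    by_cases hm : ∃ B : Subgroup G, IsMulCommutative B ∧ ¬ IsCyclic B
    · obtain ⟨-, ⟨n, h⟩ | ⟨n, -, h⟩ | h⟩ := Cfsg.Agent.S0519.result p hG hcase hm
      · exact hnq n h
      · exact hnd n h
      · exact hnsd h
    · push Not at hm
      have hU := uniqP_of_abelian_cyclic p hG hm
      rcases Cfsg.Agent.Helper1.UniqP.cyclic_or_quaternion p hG hU with h | ⟨-, n, h⟩
      · exact hnc h
      · exact hnq _ h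
  · push Not at hcase
    obtain ⟨A₀, hA₀n, hA₀c, hA₀nc⟩ := hcase
    -- the subgroup of elements of order dividing p
    let Ω : Subgroup G :=
      { carrier := {a | a ∈ A₀ ∧ a ^ p = 1}
        one_mem' := ⟨A₀.one_mem, one_pow p⟩
        mul_mem' := by
          rintro a b ⟨ha, ha'⟩ ⟨hb, hb'⟩
          refine ⟨A₀.mul_mem ha hb, ?_⟩
          have hcomm : Commute a b := setLike_mul_comm (s := A₀) ha hb
          rw [hcomm.mul_pow, ha', hb', one_mul]
        inv_mem' := by
          rintro a ⟨ha, ha'⟩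
          exact ⟨A₀.inv_mem ha, by rw [inv_pow, ha', inv_one]⟩ }
    have hΩn : Ω.Normal := by
      constructor
      rintro a ⟨ha, ha'⟩ g
      refine ⟨hA₀n.conj_mem a ha g, ?_⟩
      rw [conj_pow, ha', mul_one, mul_inv_cancel]
    have hΩA : Ω ≤ A₀ := fun a ha => ha.1
    -- an elementary abelian subgroup of order p² inside A₀
    let _ : CommGroup A₀ :=
      { (inferInstance : Group A₀) with mul_comm := fun a b => mul_comm' a b }
    obtain ⟨E, hEe, hEc⟩ := Cfsg.Agent.Helper9.exists_elemAb_sq_of_commGroup (R := A₀)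
      (hG.to_subgroup A₀) hA₀nc
    have hEΩ : E.map A₀.subtype ≤ Ω := by
      rintro _ ⟨e, he, rfl⟩
      refine ⟨e.2, ?_⟩
      have := hEe.2 e he
      exact congrArg Subtype.val this
    have hΩcard : p ^ 2 ≤ Nat.card Ω := by
      rw [← hEc, ← card_map_of_injective A₀.subtype_injective]
      exact Nat.le_of_dvd Nat.card_pos (card_dvd_of_le hEΩ)
    obtain ⟨B, hBn, hBΩ, hBc⟩ := Cfsg.Agent.Helper9.exists_normal_le_card_eq hG Ω 2 hΩcard
    refine ⟨B, hBn, ⟨?_, fun a ha => (hBΩ ha).2⟩, hBc⟩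
    refine ⟨⟨fun a b => Subtype.ext ?_⟩⟩
    exact setLike_mul_comm (s := A₀) (hΩA (hBΩ a.2)) (hΩA (hBΩ b.2))


open scoped commutatorElement in
/-- generators `x, y` of a normal elementary abelian subgroup of order `p²` adapted to the
conjugation action: `y` central and `x^g ∈ x⟨y⟩` -/
theorem exists_adapted_pair (p : ℕ) [hp : Fact p.Prime] (hG : IsPGroup p G) (A : Subgroup G)
    (hAn : A.Normal) (hAe : Cfsg.IsElementaryAbelian p A) (hAc : Nat.card A = p ^ 2) :
    ∃ x y : G, x ∈ A ∧ y ∈ A ∧ x ^ p = 1 ∧ y ^ p = 1 ∧ y ≠ 1 ∧ (∀ g : G, g * y = y * g) ∧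
      (∀ g : G, ∃ k : ℕ, g * x * g⁻¹ = x * y ^ k) ∧ x ∉ zpowers y := by
  obtain ⟨B₀, hB₀n, hcomm, hB₀A, hB₀c⟩ :=
    Cfsg.Agent.Helper9.exists_normal_index_p hG A 1 (by rw [hAc])
  rw [pow_one] at hB₀c
  obtain ⟨B₀₀, -, hcomm0, -, hc0⟩ :=
    Cfsg.Agent.Helper9.exists_normal_index_p hG B₀ 0 (by rw [hB₀c, zero_add, pow_one])
  rw [pow_zero, card_eq_one] at hc0
  rw [hc0, le_bot_iff, commutator_eq_bot_iff_le_centralizer] at hcomm0
  have hB₀cent : ∀ b ∈ B₀, ∀ g : G, g * b = b * g := fun b hb g => hcomm0 hb g (mem_top g)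
  have hB₀nt : Nontrivial B₀ := by
    rw [← Finite.one_lt_card_iff_nontrivial, hB₀c]
    exact hp.out.one_lt
  obtain ⟨y', hy'⟩ := exists_ne (1 : B₀)
  have hgen : ∀ b : B₀, b ∈ zpowers y' := fun b => mem_zpowers_of_prime_card hB₀c hy'
  have hxex : ∃ x ∈ A, x ∉ B₀ := by
    by_contra hcon
    push Not at hcon
    have hle : A ≤ B₀ := hcon
    have := card_le_of_le hle
    rw [hAc, hB₀c] at this
    have : p < p ^ 2 := by
      calc p = p ^ 1 := (pow_one p).symm
        _ < p ^ 2 := Nat.pow_lt_pow_right hp.out.one_lt (by norm_num)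
    omega
  obtain ⟨x, hxA, hxB⟩ := hxex
  set y : G := (y' : G) with hy
  have hyB : y ∈ B₀ := y'.2
  have hzy : zpowers y = B₀ := by
    apply le_antisymm (zpowers_le.mpr hyB)
    intro b hb
    obtain ⟨k, hk⟩ := mem_zpowers_iff.mp (hgen ⟨b, hb⟩)
    refine mem_zpowers_iff.mpr ⟨k, ?_⟩
    have := congrArg Subtype.val hk
    simpa using this
  refine ⟨x, y, hxA, hB₀A hyB, hAe.2 x hxA, hAe.2 y (hB₀A hyB), ?_, hB₀cent y hyB, ?_, ?_⟩
  · intro h
    exact hy' (Subtype.ext h)
  · intro g
    have h1 : ⁅x, g⁆ ∈ B₀ := hcomm (commutator_mem_commutator hxA (mem_top g))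
    have h2 : g * x * g⁻¹ * x⁻¹ ∈ B₀ := by
      have : g * x * g⁻¹ * x⁻¹ = ⁅x, g⁆⁻¹ := by
        rw [commutatorElement_def]; group
      rw [this]
      exact B₀.inv_mem h1
    rw [← hzy] at h2
    rw [← mem_powers_iff_mem_zpowers] at h2
    obtain ⟨k, hk⟩ := (Submonoid.mem_powers_iff _ _).mp h2
    refine ⟨k, ?_⟩
    have hc : y ^ k * x = x * y ^ k := by
      have := hB₀cent (y ^ k) (B₀.pow_mem hyB k) x
      exact this.symm
    rw [← hc, hk]; group
  · rw [hzy]; exact hxB

end Cfsg.Agent.Helper16.PImprim
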