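import Mathlib
import Cfsg.Agent.Helper16.BSOdd
import Cfsg.Agent.Helper16.PImprim
import Cfsg.Agent.S0041
import Cfsg.Agent.Helper23.Cyclic

/-!
The final contradiction: a nontrivial `p`-group (`p` odd) generated by `C` and by `D`, acting
faithfully and irreducibly on an abelian normal `p'`-subgroup `N`, cannot satisfy
`N = C_N(d) C_N(c)` for all `c ∈ C`, `d ∈ D`.
-/

set_option autoImplicit false

namespace Cfsg.Agent.Helper16.BSOdd

open Subgroup

universe u

variable {G : Type u} [Group G] [Finite G] {p : ℕ} [hp : Fact p.Prime] {P N : Subgroup G}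
  {C D : Set G}

theorem mem_normalizer_of_conj_mem' (H : Subgroup G) (g : G)
    (h : ∀ x ∈ H, g * x * g⁻¹ ∈ H) : g ∈ normalizer (H : Set G) := by
  rw [mem_normalizer_iff_map_conj_eq]
  have hle : H.map (MulAut.conj g).toMonoidHom ≤ H := by
    rintro _ ⟨x, hx, rfl⟩
    exact h x hx
  apply Subgroup.eq_of_le_of_card_ge hle
  rw [Subgroup.card_map_of_injective (MulAut.conj g).injective]

/-- central elements of `P` act fixed-point-freely -/
theorem central_fpf (h : Hyp p P N C D) (hfaith : P ⊓ centralizer (N : Set G) = ⊥)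
    (hirr : ∀ M : Subgroup G, M ≤ N → P ≤ normalizer (M : Set G) → M = ⊥ ∨ M = N)
    {z : G} (hzP : z ∈ P) (hzc : ∀ u ∈ P, Commute u z) (hz1 : z ≠ 1) :
    ∀ n ∈ N, Commute n z → n = 1 := by
  have hNn := h.nN
  set M : Subgroup G := N ⊓ centralizer {z} with hM
  have hMN : M ≤ N := inf_le_left
  have hPM : P ≤ normalizer (M : Set G) := by
    intro u hu
    apply mem_normalizer_of_conj_mem'
    intro m hm
    obtain ⟨hmN, hmz⟩ := mem_inf.mp hm
    rw [mem_centralizer_singleton_iff] at hmz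
    refine mem_inf.mpr ⟨hNn.conj_mem m hmN u, ?_⟩
    rw [mem_centralizer_singleton_iff]
    have huz := (hzc u hu)
    have hmz' : Commute m z := hmz
    exact ((huz.mul_left hmz').mul_left huz.inv_left).eq
  rcases hirr M hMN hPM with h0 | h0
  · intro n hn hnz
    have : n ∈ M := mem_inf.mpr ⟨hn, by rw [mem_centralizer_singleton_iff]; exact hnz.eq⟩
    rwa [h0, mem_bot] at this
  · exfalso
    apply hz1
    have : z ∈ P ⊓ centralizer (N : Set G) := by
      refine mem_inf.mpr ⟨hzP, ?_⟩
      rw [mem_centralizer_iff]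
      intro n hn
      have : n ∈ M := h0 ▸ hn
      have := (mem_inf.mp this).2
      rw [mem_centralizer_singleton_iff] at this
      exact this
    rwa [hfaith, mem_bot] at this

/-- counting consequence of the factorization -/
theorem card_le_mul (h : Hyp p P N C D) {c d : G} (hc : c ∈ C) (hd : d ∈ D) :
    Nat.card N ≤ Nat.card (N ⊓ centralizer {d} : Subgroup G) *
      Nat.card (N ⊓ centralizer {c} : Subgroup G) := by
  let φ : (N ⊓ centralizer {d} : Subgroup G) × (N ⊓ centralizer {c} : Subgroup G) → N :=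
    fun t => ⟨(t.1 : G) * (t.2 : G),
      N.mul_mem (mem_inf.mp t.1.2).1 (mem_inf.mp t.2.2).1⟩
  have hφ : Function.Surjective φ := by
    rintro ⟨x, hx⟩
    obtain ⟨y, hyN, hyd, hyc⟩ := h.factor hx hc hd
    refine ⟨(⟨y, mem_inf.mpr ⟨hyN, ?_⟩⟩, ⟨y⁻¹ * x, mem_inf.mpr ⟨N.mul_mem (N.inv_mem hyN) hx, ?_⟩⟩),
      ?_⟩
    · rw [mem_centralizer_singleton_iff]; exact hyd.eq
    · rw [mem_centralizer_singleton_iff]; exact hyc.eq
    · apply Subtype.ext
      change y * (y⁻¹ * x) = x
      rw [mul_inv_cancel_left]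
  have := Nat.card_le_card_of_surjective φ hφ
  rwa [Nat.card_prod] at this


theorem final_cyclic (h : Hyp p P N C D) (hfaith : P ⊓ centralizer (N : Set G) = ⊥)
    (hirr : ∀ M : Subgroup G, M ≤ N → P ≤ normalizer (M : Set G) → M = ⊥ ∨ M = N)
    (hP1 : P ≠ ⊥) (hcyc : IsCyclic P) : False := by
  have hcomm : ∀ u ∈ P, ∀ z ∈ P, Commute u z := by
    intro u hu z hz
    have hc := IsCyclic.isMulCommutative (α := P)
    have := hc.is_comm.comm ⟨u, hu⟩ ⟨z, hz⟩
    exact congrArg Subtype.val this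
  -- a nontrivial element of `C`
  have hexC : ∃ c ∈ C, c ≠ 1 := by
    by_contra hcon
    push Not at hcon
    apply hP1
    rw [← h.hC, eq_bot_iff, closure_le]
    intro c hc
    rw [SetLike.mem_coe, mem_bot]
    exact hcon c hc
  obtain ⟨c, hc, hc1⟩ := hexC
  have hcP : c ∈ P := h.subC hc
  have hfpf := central_fpf h hfaith hirr hcP (fun u hu => hcomm u hu c hcP) hc1
  apply hP1
  rw [← h.hD, eq_bot_iff, closure_le]
  intro d hd
  rw [SetLike.mem_coe, mem_bot]
  have hdP : d ∈ P := h.subD hd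
  have : d ∈ P ⊓ centralizer (N : Set G) := by
    refine mem_inf.mpr ⟨hdP, ?_⟩
    rw [mem_centralizer_iff]
    intro n hn
    obtain ⟨y, hyN, hyd, hyc⟩ := h.factor hn hc hd
    have h1 := hfpf (y⁻¹ * n) (N.mul_mem (N.inv_mem hyN) hn) hyc
    rw [inv_mul_eq_one] at h1
    rw [← h1]
    exact hyd.eq
  rwa [hfaith, mem_bot] at this

theorem not_quat_of_odd {H : Type*} [Group H] [Finite H] (hodd : Odd (Nat.card H)) {K : Type*}
    [Group K] (e : H ≃* K) (t : K) (ht : t ^ 4 = 1) (ht1 : t ≠ 1) : False := by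
  have h1 : (e.symm t) ^ 4 = 1 := by rw [← map_pow, ht, map_one]
  have h2 : orderOf (e.symm t) ∣ 4 := orderOf_dvd_of_pow_eq_one h1
  have h3 : orderOf (e.symm t) ∣ Nat.card H := orderOf_dvd_natCard _
  have h4 : Odd (orderOf (e.symm t)) := Odd.of_dvd_nat hodd h3
  have h5 : orderOf (e.symm t) = 1 := by
    have hle : orderOf (e.symm t) ≤ 4 := Nat.le_of_dvd (by norm_num) h2
    obtain ⟨k, hk⟩ := h4
    interval_cases hk' : orderOf (e.symm t)
    · omega
    · rfl
    · omega
    · norm_num at h2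
    · omega
  rw [orderOf_eq_one_iff] at h5
  apply ht1
  have := congrArg e h5
  rwa [MulEquiv.apply_symm_apply, map_one] at this


theorem final_noncyclic (hp2 : p ≠ 2) (h : Hyp p P N C D)
    (hNc : ∀ a ∈ N, ∀ b ∈ N, a * b = b * a)
    (hfaith : P ⊓ centralizer (N : Set G) = ⊥)
    (hirr : ∀ M : Subgroup G, M ≤ N → P ≤ normalizer (M : Set G) → M = ⊥ ∨ M = N)
    (hN1 : N ≠ ⊥) (hnc : ¬ IsCyclic P) : False := by
  have hNn := h.nN
  have hPp : IsPGroup p P := h.pP
  obtain ⟨k, hk⟩ := IsPGroup.iff_card.mp hPp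
  have hpodd : Odd p := hp.out.odd_of_ne_two hp2
  have hodd : Odd (Nat.card P) := by rw [hk]; exact hpodd.pow
  -- a normal elementary abelian subgroup of order `p²` of `P`
  have hnq : ∀ n : ℕ, ¬ Nonempty (P ≃* QuaternionGroup n) := by
    rintro n ⟨e⟩
    refine not_quat_of_odd hodd e (QuaternionGroup.xa 0) (QuaternionGroup.xa_pow_four 0) ?_
    rw [QuaternionGroup.one_def]
    exact fun h => by cases h
  have hnd : ∀ n : ℕ, ¬ Nonempty (P ≃* DihedralGroup n) := by
    rintro n ⟨e⟩
    refine not_quat_of_odd hodd e (DihedralGroup.sr 0) ?_ ?_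
    · have : (DihedralGroup.sr (0 : ZMod n)) ^ 2 = 1 := by
        rw [pow_two, DihedralGroup.sr_mul_self]
      rw [show 4 = 2 * 2 from rfl, pow_mul, this, one_pow]
    · rw [DihedralGroup.one_def]
      exact fun h => by cases h
  have hnsd : ¬ Cfsg.IsQuasiDihedral P := by
    rintro ⟨n, -, hc, -⟩
    rw [hc] at hodd
    exact (Nat.not_odd_iff_even.mpr (Nat.even_pow.mpr ⟨even_two, by omega⟩)) hodd
  obtain ⟨A, hAn, hAe, hAc⟩ :=
    Cfsg.Agent.Helper16.PImprim.exists_normal_elemAb_sq' p hPp hnc hnq hnd hnsd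
  obtain ⟨x, y, -, -, hxp, hyp, hy1, hyc, hkx, hxy⟩ :=
    Cfsg.Agent.Helper16.PImprim.exists_adapted_pair p hPp A hAn hAe hAc
  set X : G := (x : G) with hX
  set Y : G := (y : G) with hY
  have hXP : X ∈ P := x.2
  have hYP : Y ∈ P := y.2
  have hXp : X ^ p = 1 := by
    have := congrArg Subtype.val hxp
    simpa using this
  have hYp : Y ^ p = 1 := by
    have := congrArg Subtype.val hyp
    simpa using this
  have hY1 : Y ≠ 1 := fun h0 => hy1 (Subtype.ext h0)
  have hYc : ∀ u ∈ P, Commute u Y := by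
    intro u hu
    have := congrArg Subtype.val (hyc ⟨u, hu⟩)
    exact this
  have hkX : ∀ u ∈ P, ∃ j : ℕ, u * X * u⁻¹ = X * Y ^ j := by
    intro u hu
    obtain ⟨j, hj⟩ := hkx ⟨u, hu⟩
    refine ⟨j, ?_⟩
    have := congrArg Subtype.val hj
    simpa using this
  have hXY : X ∉ zpowers Y := by
    intro h0
    apply hxy
    obtain ⟨i, hi⟩ := mem_zpowers_iff.mp h0
    refine mem_zpowers_iff.mpr ⟨i, ?_⟩
    apply Subtype.ext
    rw [← hX, ← hi]
    simp [hY]
  -- central elements act fixed-point-freely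
  have hfpf : ∀ z ∈ P, (∀ u ∈ P, Commute u z) → z ≠ 1 → ∀ n ∈ N, Commute n z → n = 1 :=
    fun z hz hzc hz1 => central_fpf h hfaith hirr hz hzc hz1
  -- `X` is not central in `P`
  have hXnc : ¬ P ≤ centralizer {X} := by
    intro hcon
    have hXc : ∀ u ∈ P, Commute u X := by
      intro u hu
      have := hcon hu
      rw [mem_centralizer_singleton_iff] at this
      exact this
    set E : Subgroup G := closure ({X, Y} : Set G) with hE
    have hEP : E ≤ P := by
      rw [hE, closure_le]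
      rintro g (rfl | rfl)
      · exact hXP
      · exact hYP
    have hEc : ∀ e ∈ E, ∀ u ∈ P, Commute u e := by
      intro e he u hu
      have : E ≤ centralizer {u} := by
        rw [hE, closure_le]
        rintro g (rfl | rfl)
        · rw [SetLike.mem_coe, mem_centralizer_singleton_iff]; exact (hXc u hu).eq.symm
        · rw [SetLike.mem_coe, mem_centralizer_singleton_iff]; exact (hYc u hu).eq.symm
      have := this he
      rw [mem_centralizer_singleton_iff] at this
      exact this.symm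
    have hEcomm : IsMulCommutative E :=
      ⟨⟨fun a b => Subtype.ext (hEc b b.2 a (hEP a.2)).eq⟩⟩
    have hNcomm : IsMulCommutative N :=
      ⟨⟨fun a b => Subtype.ext (hNc a a.2 b b.2)⟩⟩
    have hEcyc : IsCyclic E := by
      apply Cfsg.Agent.S0041.result E N hN1
      · rw [normalizer_eq_top_iff.mpr hNn]; exact le_top
      · intro a ha ha1
        rw [eq_bot_iff]
        intro n hn
        obtain ⟨hnN, hnc'⟩ := mem_inf.mp hn
        rw [mem_centralizer_singleton_iff] at hnc'
        rw [mem_bot]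
        exact hfpf a (hEP ha) (hEc a ha) ha1 n hnN hnc'
      · exact Or.inl hEcomm
    have hXo : orderOf X = p := by
      apply orderOf_eq_prime hXp
      intro h0
      exact hXY (h0 ▸ one_mem _)
    have hYo : orderOf Y = p := orderOf_eq_prime hYp hY1
    have heq := Cfsg.Agent.Helper23.eq_of_card_eq_of_isCyclic E hEcyc (zpowers X) (zpowers Y)
      (by rw [zpowers_le]; exact subset_closure (by simp))
      (by rw [zpowers_le]; exact subset_closure (by simp))
      (by rw [Nat.card_zpowers, Nat.card_zpowers, hXo, hYo])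
    exact hXY (heq ▸ mem_zpowers X)
  -- elements of `C` and `D` not centralizing `X`
  have hex : ∀ S : Set G, closure S = P → ∃ s ∈ S, ¬ Commute s X := by
    intro S hS
    by_contra hcon
    push Not at hcon
    apply hXnc
    rw [← hS, closure_le]
    intro s hs
    rw [SetLike.mem_coe, mem_centralizer_singleton_iff]
    exact (hcon s hs).eq
  -- the bound for such elements
  have hbound : ∀ u ∈ P, ¬ Commute u X →
      Nat.card (N ⊓ centralizer {u} : Subgroup G) ^ 3 ≤ Nat.card N := by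
    intro u hu hnu
    obtain ⟨j, hj⟩ := hkX u hu
    set z : G := Y ^ j with hz
    have hzP : z ∈ P := P.pow_mem hYP j
    have hzc : ∀ v ∈ P, Commute v z := fun v hv => (hYc v hv).pow_right j
    have hz1 : z ≠ 1 := by
      intro h0
      apply hnu
      rw [h0, mul_one] at hj
      unfold Commute SemiconjBy
      rw [mul_inv_eq_iff_eq_mul] at hj
      exact hj
    have hzp : z ^ p = 1 := by rw [hz, ← pow_mul, mul_comm, pow_mul, hYp, one_pow]
    have hz21 : z ^ 2 ≠ 1 := by
      intro h0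
      have h1 : orderOf z ∣ 2 := orderOf_dvd_of_pow_eq_one h0
      have h2 : orderOf z ∣ p := orderOf_dvd_of_pow_eq_one hzp
      have h3 : orderOf z ∣ Nat.gcd 2 p := Nat.dvd_gcd h1 h2
      have h4 : Nat.gcd 2 p = 1 := by
        rw [Nat.coprime_primes Nat.prime_two hp.out |>.mpr (Ne.symm hp2)]
      rw [h4, Nat.dvd_one, orderOf_eq_one_iff] at h3
      exact hz1 h3
    have hXu : X⁻¹ * u * X = z * u := by
      have h1 : u * X = X * z * u := by
        rw [mul_inv_eq_iff_eq_mul] at hj
        exact hj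
      have h2 : X⁻¹ * u * X = X⁻¹ * (u * X) := by group
      rw [h2, h1]
      group
    exact card_centralizer_cube_le hNc (hzc u hu).symm (hzc X hXP).symm hXu
      (hfpf z hzP hzc hz1) (hfpf (z ^ 2) (P.pow_mem hzP 2) (fun v hv => (hzc v hv).pow_right 2) hz21)
  obtain ⟨c, hc, hcX⟩ := hex C h.hC
  obtain ⟨d, hd, hdX⟩ := hex D h.hD
  have h1 := hbound c (h.subC hc) hcX
  have h2 := hbound d (h.subD hd) hdX
  have h3 := card_le_mul h hc hd
  have hn2 : 2 ≤ Nat.card N := by
    have : Nat.card N ≠ 1 := fun h0 => hN1 (card_eq_one.mp h0)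
    have : 0 < Nat.card N := Nat.card_pos
    omega
  set a := Nat.card (N ⊓ centralizer {c} : Subgroup G) with ha
  set b := Nat.card (N ⊓ centralizer {d} : Subgroup G) with hb
  set n := Nat.card N with hn
  have h4 : n ^ 3 ≤ n ^ 2 := by
    calc n ^ 3 ≤ (b * a) ^ 3 := Nat.pow_le_pow_left h3 3
      _ = b ^ 3 * a ^ 3 := by ring
      _ ≤ n * n := Nat.mul_le_mul h2 h1
      _ = n ^ 2 := by ring
  have h5 : n ^ 2 * n ≤ n ^ 2 * 1 := by
    calc n ^ 2 * n = n ^ 3 := by ring
      _ ≤ n ^ 2 := h4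
      _ = n ^ 2 * 1 := by ring
  have h6 : n ≤ 1 := Nat.le_of_mul_le_mul_left h5 (by positivity)
  omega

end Cfsg.Agent.Helper16.BSOdd
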