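import Mathlib
import Cfsg.Agent.Helper16.BSOdd2
import Cfsg.Agent.Helper9.PLenExpA
import Cfsg.Agent.Lead.CoprimeFrattini
import Cfsg.Agent.Lead.CoprimeAbelian
import Cfsg.Agent.Lead.Coprime3
import Cfsg.Agent.Helper1.PGroup

/-!
Baer–Suzuki type theorem for odd `p` in groups with a normal `p`-complement: transfers of the
hypotheses to subgroups and quotients, and the minimal counterexample argument.
-/

set_option autoImplicit false

namespace Cfsg.Agent.Helper16.BSOdd

open Subgroup

universe u

section transfer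

variable {G : Type u} [Group G] {p : ℕ} {P N : Subgroup G} {C D : Set G}

theorem Hyp.map {G' : Type*} [Group G'] (h : Hyp p P N C D) (f : G →* G')
    (hf : Function.Surjective f) : Hyp p (P.map f) (N.map f) (f '' C) (f '' D) where
  pP := h.pP.map f
  nN := h.nN.map f hf
  cop := Nat.Coprime.coprime_dvd_left (card_map_dvd N f) h.cop
  sup := by rw [← Subgroup.map_sup, h.sup, Subgroup.map_top_of_surjective f hf]
  hC := by rw [← MonoidHom.map_closure, h.hC]
  hD := by rw [← MonoidHom.map_closure, h.hD]
  pg := by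
    rintro _ ⟨x, hx, rfl⟩ _ ⟨c, hc, rfl⟩ _ ⟨d, hd, rfl⟩
    have h1 := (h.pg x hx c hc d hd).map f
    rw [MonoidHom.map_closure, Set.image_pair, map_mul, map_mul, map_inv] at h1
    exact h1

theorem Hyp.sub (h : Hyp p P N C D) (M : Subgroup G) (hMN : M ≤ N)
    (hPM : P ≤ normalizer (M : Set G)) :
    Hyp p (P.subgroupOf (M ⊔ P)) (M.subgroupOf (M ⊔ P)) ((M ⊔ P).subtype ⁻¹' C)
      ((M ⊔ P).subtype ⁻¹' D) := by
  set L : Subgroup G := M ⊔ P with hL
  have hML : M ≤ L := le_sup_left
  have hPL : P ≤ L := le_sup_right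
  have hcl : ∀ S : Set G, closure S = P → closure (L.subtype ⁻¹' S) = P.subgroupOf L := by
    intro S hS
    apply Subgroup.map_injective L.subtype_injective
    rw [MonoidHom.map_closure, Subgroup.map_subgroupOf_eq_of_le hPL, ← hS]
    congr 1
    rw [Set.image_preimage_eq_inter_range]
    apply Set.inter_eq_left.mpr
    intro s hs
    have : s ∈ P := hS ▸ subset_closure hs
    exact ⟨⟨s, hPL this⟩, rfl⟩
  refine ⟨h.pP.comap_subtype, ?_, ?_, ?_, hcl C h.hC, hcl D h.hD, ?_⟩
  · apply Subgroup.normal_subgroupOf_of_le_normalizer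
    exact sup_le le_normalizer hPM
  · have : Nat.card (M.subgroupOf L) = Nat.card M :=
      Nat.card_congr (Subgroup.subgroupOfEquivOfLe hML).toEquiv
    rw [this]
    exact Nat.Coprime.coprime_dvd_left (Subgroup.card_dvd_of_le hMN) h.cop
  · rw [← Subgroup.subgroupOf_sup hML hPL, ← hL, Subgroup.subgroupOf_self]
  · intro x hx c hc d hd
    have hxN : (x : G) ∈ N := hMN (mem_subgroupOf.mp hx)
    have h1 := h.pg (x : G) hxN (c : G) hc (d : G) hd
    have h2 : (closure ({x * c * x⁻¹, d} : Set L)).map L.subtype =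
        closure ({(x : G) * c * (x : G)⁻¹, (d : G)} : Set G) := by
      rw [MonoidHom.map_closure, Set.image_pair]
      simp
    rw [← h2] at h1
    exact h1.of_equiv
      (Subgroup.equivMapOfInjective _ L.subtype L.subtype_injective).symm

end transfer


section main

open scoped commutatorElement

theorem main (p : ℕ) [hp : Fact p.Prime] (hp2 : p ≠ 2) :
    ∀ (n : ℕ) (G : Type u) [Group G] [Finite G], Nat.card G = n →
      ∀ (P N : Subgroup G) (C D : Set G), Hyp p P N C D → ⁅P, N⁆ = ⊥ := by
  intro n
  induction n using Nat.strong_induction_on with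
  | _ n ih =>
  intro G _ _ hcard P N C D h
  by_contra hne
  have hNn := h.nN
  have hPN : P ≤ normalizer (N : Set G) := by
    rw [normalizer_eq_top_iff.mpr hNn]; exact le_top
  obtain ⟨k, hk⟩ := IsPGroup.iff_card.mp h.pP
  have hcop : (Nat.card P).Coprime (Nat.card N) := by
    rw [hk]; exact Nat.Coprime.pow_left k h.cop.symm
  have hPsolv : Group.IsSolvable P := by
    have := h.pP.isNilpotent
    infer_instance
  have hsolv : Group.IsSolvable P ∨ Group.IsSolvable N := Or.inl hPsolv
  have hbot : ∀ t : G, t ∈ P → t ∈ N → t = 1 := by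
    intro t h1 h2
    have : t ∈ P ⊓ N := mem_inf.mpr ⟨h1, h2⟩
    rwa [h.disj, mem_bot] at this
  -- Step 1: proper invariant subgroups are centralized
  have step1 : ∀ M : Subgroup G, M ≤ N → P ≤ normalizer (M : Set G) → M ≠ N → ⁅P, M⁆ = ⊥ := by
    intro M hMN hPM hne'
    have hML : M ≤ M ⊔ P := le_sup_left
    have hPL : P ≤ M ⊔ P := le_sup_right
    have hlt : Nat.card (M ⊔ P : Subgroup G) < n := by
      have h1 := Cfsg.Agent.Helper17.card_sup_mul_card_inf M P hPM
      have h2 : M ⊓ P = ⊥ := by
        rw [eq_bot_iff]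
        intro t ht
        rw [mem_bot]
        exact hbot t (mem_inf.mp ht).2 (hMN (mem_inf.mp ht).1)
      rw [h2, card_bot, mul_one] at h1
      rw [h1, ← hcard, h.card_eq]
      have h3 : Nat.card M < Nat.card N := by
        by_contra hge
        push Not at hge
        exact hne' (eq_of_le_of_card_ge hMN hge)
      exact Nat.mul_lt_mul_of_pos_right h3 Nat.card_pos
    have h4 := ih _ hlt (M ⊔ P : Subgroup G) rfl _ _ _ _ (h.sub M hMN hPM)
    rw [commutator_eq_bot_iff_le_centralizer] at h4 ⊢
    intro u hu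
    rw [mem_centralizer_iff]
    intro m hm
    have h5 := h4 (show (⟨u, hPL hu⟩ : (M ⊔ P : Subgroup G)) ∈ P.subgroupOf (M ⊔ P) from
      mem_subgroupOf.mpr hu)
    rw [mem_centralizer_iff] at h5
    have h6 := h5 ⟨m, hML hm⟩ (show (⟨m, hML hm⟩ : (M ⊔ P : Subgroup G)) ∈ M.subgroupOf (M ⊔ P) from
      mem_subgroupOf.mpr hm)
    exact congrArg Subtype.val h6
  -- Step 2: nontrivial normal subgroups contain `[P, N]`
  have step2 : ∀ K : Subgroup G, K.Normal → K ≠ ⊥ → ⁅P, N⁆ ≤ K := by
    intro K hKn hK1
    have hlt : Nat.card (G ⧸ K) < n := by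
      have h1 := Subgroup.card_eq_card_quotient_mul_card_subgroup K
      have h2 : 2 ≤ Nat.card K := by
        have : Nat.card K ≠ 1 := fun h0 => hK1 (card_eq_one.mp h0)
        have : 0 < Nat.card K := Nat.card_pos
        omega
      have h3 : 0 < Nat.card (G ⧸ K) := Nat.card_pos
      rw [← hcard, h1]
      nlinarith
    have h4 := ih _ hlt (G ⧸ K) rfl _ _ _ _
      (h.map (QuotientGroup.mk' K) (QuotientGroup.mk'_surjective K))
    rw [← Subgroup.map_commutator, (Subgroup.map_eq_bot_iff _), QuotientGroup.ker_mk'] at h4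
    exact h4
  -- an element of `P` not centralizing `N`
  have hexy : ∃ y ∈ P, y ∉ centralizer (N : Set G) := by
    by_contra hcon
    push Not at hcon
    apply hne
    rw [commutator_eq_bot_iff_le_centralizer]
    exact hcon
  obtain ⟨y, hyP, hyN⟩ := hexy
  -- Step 3: `N` is an `r`-group
  obtain ⟨r, hr, R, hRN, hRr, hPR, hyR⟩ :=
    Cfsg.Agent.Helper9.PLenExp.exists_inv_sylow_not_cent P N hPN hcop hsolv y hyN
  have hRN' : R = N := by
    by_contra hne'
    have := step1 R hRN hPR hne'
    rw [commutator_eq_bot_iff_le_centralizer] at this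
    exact hyR (this hyP)
  have hNr : IsPGroup r N := hRN' ▸ hRr
  have : Fact r.Prime := ⟨hr⟩
  -- Step 4: `N` is abelian
  have hfr : frattini N = ⊥ := by
    by_contra hfr
    have hΦ1 : (frattini N).map N.subtype ≠ ⊥ := by
      rw [Ne, Subgroup.map_eq_bot_iff_of_injective _ N.subtype_injective]
      exact hfr
    have hΦn : ((frattini N).map N.subtype).Normal := inferInstance
    have hle := step2 _ hΦn hΦ1
    have hcop' : (Nat.card P).Coprime (Nat.card (frattini N)) :=
      Nat.Coprime.coprime_dvd_right (Subgroup.card_subgroup_dvd_card _) hcop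
    have := Cfsg.Agent.Lead.centralizes_of_trivial_on_frattini_quotient P N hPN hcop' (by
      intro a ha k hk
      have := commutator_mem_commutator ha hk
      rw [commutatorElement_def] at this
      exact hle this)
    exact hyN (this hyP)
  have hNc : ∀ a ∈ N, ∀ b ∈ N, a * b = b * a := by
    intro a ha b hb
    have h1 := Cfsg.Agent.Helper1.IsPGroup.commutator_le_frattini hNr
    rw [hfr, le_bot_iff] at h1
    have h2 : ⁅(⟨a, ha⟩ : N), ⟨b, hb⟩⁆ ∈ _root_.commutator N :=
      commutator_mem_commutator (mem_top _) (mem_top _)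
    rw [h1, mem_bot, commutatorElement_eq_one_iff_mul_comm] at h2
    exact congrArg Subtype.val h2
  -- Step 5: `P` acts faithfully
  have hfaith : P ⊓ centralizer (N : Set G) = ⊥ := by
    by_contra hP0
    set P₀ : Subgroup G := P ⊓ centralizer (N : Set G) with hP₀
    have hP₀n : P₀.Normal := by
      rw [← normalizer_eq_top_iff, eq_top_iff, ← h.sup]
      apply sup_le
      · intro n hn
        apply mem_normalizer_of_conj_mem'
        intro t ht
        have h1 := (mem_inf.mp ht).2
        rw [mem_centralizer_iff] at h1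
        have : n * t * n⁻¹ = t := by rw [h1 n hn, mul_inv_cancel_right]
        rw [this]; exact ht
      · intro u hu
        apply mem_normalizer_of_conj_mem'
        intro t ht
        obtain ⟨htP, htc⟩ := mem_inf.mp ht
        rw [mem_centralizer_iff] at htc
        refine mem_inf.mpr ⟨P.mul_mem (P.mul_mem hu htP) (P.inv_mem hu), ?_⟩
        rw [mem_centralizer_iff]
        intro m hm
        have h1 : u⁻¹ * m * u ∈ N := by
          have := hNn.conj_mem m hm u⁻¹
          rwa [inv_inv] at this
        have h2 := htc _ h1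
        calc m * (u * t * u⁻¹) = u * ((u⁻¹ * m * u) * t) * u⁻¹ := by group
          _ = u * (t * (u⁻¹ * m * u)) * u⁻¹ := by rw [h2]
          _ = u * t * u⁻¹ * m := by group
    have hle := step2 P₀ hP₀n hP0
    apply hne
    rw [eq_bot_iff]
    intro t ht
    rw [mem_bot]
    have h1 : t ∈ P := (mem_inf.mp (hle ht)).1
    have h2 : t ∈ N := by
      have : ⁅P, N⁆ ≤ N := commutator_le_right P N
      exact this ht
    exact hbot t h1 h2
  -- Step 6: irreducibility
  have hNcomm : IsMulCommutative N := ⟨⟨fun a b => Subtype.ext (hNc a a.2 b b.2)⟩⟩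
  have hNP : ⁅N, P⁆ = N := by
    by_contra hne'
    have h1 := step1 ⁅N, P⁆ (commutator_le_left N P)
      (Cfsg.Agent.Lead.le_normalizer_commutator_right N P) hne'
    rw [commutator_comm, Cfsg.Agent.Lead.coprime_commutator_commutator P N hPN hcop hsolv,
      commutator_comm] at h1
    exact hne h1
  have hCNP : N ⊓ centralizer (P : Set G) = ⊥ := by
    have := Cfsg.Agent.Lead.coprime_abelian_inf P N hPN hcop
    rw [hNP, inf_eq_left.mpr (inf_le_left : N ⊓ centralizer (P : Set G) ≤ N)] at this
    exact this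
  have hirr : ∀ M : Subgroup G, M ≤ N → P ≤ normalizer (M : Set G) → M = ⊥ ∨ M = N := by
    intro M hMN hPM
    by_cases hMeq : M = N
    · exact Or.inr hMeq
    · left
      have h1 := step1 M hMN hPM hMeq
      rw [commutator_comm, commutator_eq_bot_iff_le_centralizer] at h1
      rw [eq_bot_iff, ← hCNP]
      exact le_inf hMN h1
  have hN1 : N ≠ ⊥ := by
    intro h0
    apply hne
    rw [h0, eq_bot_iff]
    exact commutator_le_right P ⊥
  have hP1 : P ≠ ⊥ := by
    intro h0
    apply hne
    rw [h0, eq_bot_iff]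
    exact commutator_le_left ⊥ N
  by_cases hcyc : IsCyclic P
  · exact final_cyclic h hfaith hirr hP1 hcyc
  · exact final_noncyclic hp2 h hNc hfaith hirr hN1 hcyc

end main

end Cfsg.Agent.Helper16.BSOdd
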