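import Mathlib
import Cfsg.Agent.Helper2.InvolCount
import Cfsg.Agent.Helper20.Basic

set_option autoImplicit false

namespace Cfsg.Agent.Helper16

open Cfsg.Agent.Helper2

section
variable {G : Type*} [Group G]

/-- number of ordered pairs of involutions with product `x` -/
noncomputable def beta (x : G) : ℕ :=
  Nat.card {p : G × G // orderOf p.1 = 2 ∧ orderOf p.2 = 2 ∧ p.1 * p.2 = x}

/-- number of involutions -/
noncomputable def numInvol (G : Type*) [Group G] : ℕ := Nat.card {t : G // orderOf t = 2}

theorem sum_beta [Fintype G] : ∑ x : G, beta x = numInvol G ^ 2 := by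
  classical
  let α := {p : G × G // orderOf p.1 = 2 ∧ orderOf p.2 = 2}
  let f : α → G := fun p => p.1.1 * p.1.2
  have e1 : (Σ x : G, {a : α // f a = x}) ≃ α := Equiv.sigmaFiberEquiv f
  have e2 : ∀ x : G, {a : α // f a = x} ≃
      {p : G × G // orderOf p.1 = 2 ∧ orderOf p.2 = 2 ∧ p.1 * p.2 = x} := fun x =>
    { toFun := fun a => ⟨a.1.1, a.1.2.1, a.1.2.2, a.2⟩
      invFun := fun p => ⟨⟨p.1, p.2.1, p.2.2.1⟩, p.2.2.2⟩
      left_inv := fun a => rfl
      right_inv := fun p => rfl }
  have e3 : α ≃ {t : G // orderOf t = 2} × {t : G // orderOf t = 2} :=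
    Equiv.subtypeProdEquivProd (p := fun t : G => orderOf t = 2) (q := fun t : G => orderOf t = 2)
  calc ∑ x : G, beta x = ∑ x : G, Nat.card {a : α // f a = x} := by
        apply Finset.sum_congr rfl; intro x _; exact (Nat.card_congr (e2 x)).symm
    _ = Nat.card (Σ x : G, {a : α // f a = x}) := (Nat.card_sigma).symm
    _ = Nat.card α := Nat.card_congr e1
    _ = numInvol G ^ 2 := by rw [Nat.card_congr e3, Nat.card_prod, pow_two]; rfl

theorem beta_one : beta (1 : G) = numInvol G := by
  unfold beta numInvol
  rw [card_invol_pairs]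
  apply Nat.card_congr
  apply Equiv.subtypeEquivRight
  intro t
  constructor
  · rintro ⟨h, _, _⟩; exact h
  · intro h; exact ⟨h, by simp, ne_one_of_orderOf_two h⟩

/-- the extended centralizer `C*(x) = {g | x^g = x or x^g = x⁻¹}` -/
def extCentralizer (x : G) : Subgroup G where
  carrier := {g | g * x * g⁻¹ = x ∨ g * x * g⁻¹ = x⁻¹}
  one_mem' := Or.inl (by simp)
  mul_mem' := by
    intro a b ha hb
    have e : a * b * x * (a * b)⁻¹ = a * (b * x * b⁻¹) * a⁻¹ := by group
    have e' : a * x⁻¹ * a⁻¹ = (a * x * a⁻¹)⁻¹ := by group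
    rcases ha with ha | ha <;> rcases hb with hb | hb
    · left; show a * b * x * (a * b)⁻¹ = x; rw [e, hb, ha]
    · right; show a * b * x * (a * b)⁻¹ = x⁻¹; rw [e, hb, e', ha]
    · right; show a * b * x * (a * b)⁻¹ = x⁻¹; rw [e, hb, ha]
    · left; show a * b * x * (a * b)⁻¹ = x; rw [e, hb, e', ha, inv_inv]
  inv_mem' := by
    intro a ha
    rcases ha with ha | ha
    · left
      show a⁻¹ * x * a⁻¹⁻¹ = x
      have := congrArg (fun t => a⁻¹ * t * a) ha
      simp only [inv_inv] at this ⊢
      rw [← this]; group
    · right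
      show a⁻¹ * x * a⁻¹⁻¹ = x⁻¹
      have := congrArg (fun t => a⁻¹ * t⁻¹ * a) ha
      simp only [inv_inv] at this ⊢
      rw [← this]; group

theorem mem_extCentralizer {x g : G} :
    g ∈ extCentralizer x ↔ g * x * g⁻¹ = x ∨ g * x * g⁻¹ = x⁻¹ := Iff.rfl

theorem card_extCentralizer [Finite G] (x : G) (hx : x ^ 2 ≠ 1) (hreal : IsConj x x⁻¹) :
    Nat.card (extCentralizer x) = 2 * Nat.card (Subgroup.centralizer ({x} : Set G)) := by
  have hne : x ≠ x⁻¹ := by
    intro h
    apply hx
    rw [pow_two]
    nth_rewrite 2 [h]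
    exact mul_inv_cancel x
  have hset : ((extCentralizer x : Subgroup G) : Set G) =
      ((Subgroup.centralizer ({x} : Set G) : Subgroup G) : Set G) ∪ {g | g * x * g⁻¹ = x⁻¹} := by
    ext g
    simp only [SetLike.mem_coe, mem_extCentralizer, Set.mem_union, Set.mem_ofPred_eq,
      Subgroup.mem_centralizer_singleton_iff]
    constructor
    · rintro (h | h)
      · left
        calc g * x = g * x * g⁻¹ * g := by group
          _ = x * g := by rw [h]
      · right; exact h
    · rintro (h | h)
      · left
        rw [h]; group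
      · right; exact h
  have hdisj : Disjoint (((Subgroup.centralizer ({x} : Set G) : Subgroup G) : Set G))
      {g | g * x * g⁻¹ = x⁻¹} := by
    rw [Set.disjoint_left]
    intro g hg hg'
    rw [SetLike.mem_coe, Subgroup.mem_centralizer_singleton_iff] at hg
    apply hne
    rw [← hg', hg]; group
  have h1 : Nat.card (extCentralizer x) = ((extCentralizer x : Subgroup G) : Set G).ncard := rfl
  have h2 : Nat.card (Subgroup.centralizer ({x} : Set G)) =
      ((Subgroup.centralizer ({x} : Set G) : Subgroup G) : Set G).ncard := rfl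
  have h3 : Nat.card {g : G // g * x * g⁻¹ = x⁻¹} = ({g | g * x * g⁻¹ = x⁻¹} : Set G).ncard := rfl
  rw [h1, hset, Set.ncard_union_eq hdisj (Set.toFinite _) (Set.toFinite _), ← h2, ← h3,
    card_inverting x hreal]
  ring

end

section
variable {G : Type*} [Group G] [Finite G]

theorem sum_ite_invol [Fintype G] (c : ℕ) :
    ∑ x : G, (if orderOf x = 2 then c else 0) = numInvol G * c := by
  classical
  rw [Finset.sum_ite, Finset.sum_const_zero, add_zero, Finset.sum_const, smul_eq_mul]
  congr 1
  unfold numInvol
  rw [Nat.card_eq_fintype_card, Fintype.card_subtype]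

/-- per-involution bound in the Brauer–Fowler argument -/
theorem bf_invol_bound
    (hA : ∀ H : Subgroup G, H ≠ ⊤ → H.index ≠ 2 ∧
      Nat.card G * (Nat.card G + numInvol G) ≤ 2 * H.index * numInvol G ^ 2)
    (hZ : Odd (Nat.card (Subgroup.center G))) (x : G) (hx : orderOf x = 2) :
    (beta x + 2) * (Nat.card G + numInvol G) ≤ 2 * numInvol G ^ 2 := by
  have hCne : Subgroup.centralizer ({x} : Set G) ≠ ⊤ := by
    intro h
    have hxc : x ∈ Subgroup.center G := by
      rw [Subgroup.mem_center_iff]; intro g
      have : g ∈ Subgroup.centralizer ({x} : Set G) := h ▸ Subgroup.mem_top g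
      exact Subgroup.mem_centralizer_singleton_iff.mp this
    have h2 : orderOf (⟨x, hxc⟩ : Subgroup.center G) = 2 := by
      rw [← hx]; exact Subgroup.orderOf_mk x hxc
    have hd : 2 ∣ Nat.card (Subgroup.center G) := h2 ▸ orderOf_dvd_natCard _
    exact (Nat.not_even_iff_odd.mpr hZ) (even_iff_two_dvd.mpr hd)
  obtain ⟨_, h2⟩ := hA _ hCne
  have h3 : beta x + 2 ≤ Nat.card (Subgroup.centralizer ({x} : Set G)) :=
    card_invol_pairs_add_two_le x hx
  have h4 := (Subgroup.centralizer ({x} : Set G)).card_mul_index
  have hg : 0 < Nat.card G := Nat.card_pos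
  have : (beta x + 2) * (Nat.card G + numInvol G) * Nat.card G ≤
      2 * numInvol G ^ 2 * Nat.card G := by
    calc (beta x + 2) * (Nat.card G + numInvol G) * Nat.card G
        = (beta x + 2) * (Nat.card G * (Nat.card G + numInvol G)) := by ring
      _ ≤ (beta x + 2) * (2 * (Subgroup.centralizer ({x} : Set G)).index * numInvol G ^ 2) :=
          Nat.mul_le_mul_left _ h2
      _ ≤ Nat.card (Subgroup.centralizer ({x} : Set G)) *
            (2 * (Subgroup.centralizer ({x} : Set G)).index * numInvol G ^ 2) :=
          Nat.mul_le_mul_right _ h3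
      _ = 2 * numInvol G ^ 2 * (Nat.card (Subgroup.centralizer ({x} : Set G)) *
            (Subgroup.centralizer ({x} : Set G)).index) := by ring
      _ = 2 * numInvol G ^ 2 * Nat.card G := by rw [h4]
  exact Nat.le_of_mul_le_mul_right this hg

/-- bound for elements with `x² ≠ 1` in the Brauer–Fowler argument -/
theorem bf_noninvol_bound
    (hA : ∀ H : Subgroup G, H ≠ ⊤ → H.index ≠ 2 ∧
      Nat.card G * (Nat.card G + numInvol G) ≤ 2 * H.index * numInvol G ^ 2)
    (x : G) (hx : x ^ 2 ≠ 1) :
    2 * beta x * (Nat.card G + numInvol G) ≤ 2 * numInvol G ^ 2 := by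
  by_cases hreal : IsConj x x⁻¹
  swap
  · have : beta x = 0 := card_invol_pairs_eq_zero x hreal
    rw [this]; simp
  have hcard := card_extCentralizer x hx hreal
  have hCle : beta x ≤ Nat.card (Subgroup.centralizer ({x} : Set G)) := card_invol_pairs_le x
  have hEne : extCentralizer x ≠ ⊤ := by
    intro h
    have hC2 : (Subgroup.centralizer ({x} : Set G)).index = 2 := by
      have h1 := (Subgroup.centralizer ({x} : Set G)).card_mul_index
      have h2 : Nat.card (extCentralizer x) = Nat.card G := by rw [h]; exact Subgroup.card_top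
      rw [hcard] at h2
      have hCpos : 0 < Nat.card (Subgroup.centralizer ({x} : Set G)) := Nat.card_pos
      have : Nat.card (Subgroup.centralizer ({x} : Set G)) *
          (Subgroup.centralizer ({x} : Set G)).index =
          Nat.card (Subgroup.centralizer ({x} : Set G)) * 2 := by rw [h1, ← h2]; ring
      exact Nat.eq_of_mul_eq_mul_left hCpos this
    have hCne : Subgroup.centralizer ({x} : Set G) ≠ ⊤ := by
      intro hC; rw [hC, Subgroup.index_top] at hC2; omega
    exact (hA _ hCne).1 hC2
  obtain ⟨_, h2⟩ := hA _ hEne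
  have h4 := (extCentralizer x).card_mul_index
  have hg : 0 < Nat.card G := Nat.card_pos
  have : 2 * beta x * (Nat.card G + numInvol G) * Nat.card G ≤
      2 * numInvol G ^ 2 * Nat.card G := by
    calc 2 * beta x * (Nat.card G + numInvol G) * Nat.card G
        = (2 * beta x) * (Nat.card G * (Nat.card G + numInvol G)) := by ring
      _ ≤ (2 * beta x) * (2 * (extCentralizer x).index * numInvol G ^ 2) :=
          Nat.mul_le_mul_left _ h2
      _ ≤ Nat.card (extCentralizer x) * (2 * (extCentralizer x).index * numInvol G ^ 2) := by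
          apply Nat.mul_le_mul_right
          rw [hcard]; omega
      _ = 2 * numInvol G ^ 2 * (Nat.card (extCentralizer x) * (extCentralizer x).index) := by ring
      _ = 2 * numInvol G ^ 2 * Nat.card G := by rw [h4]
  exact Nat.le_of_mul_le_mul_right this hg

/-- Brauer–Fowler index bound. -/
theorem brauer_fowler_index (heven : Even (Nat.card G))
    (hZ : Odd (Nat.card (Subgroup.center G))) :
    ∃ H : Subgroup G, H ≠ ⊤ ∧ (H.index = 2 ∨
      2 * H.index * numInvol G ^ 2 < Nat.card G * (Nat.card G + numInvol G)) := by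
  classical
  by_contra hcon
  push Not at hcon
  have hA : ∀ H : Subgroup G, H ≠ ⊤ → H.index ≠ 2 ∧
      Nat.card G * (Nat.card G + numInvol G) ≤ 2 * H.index * numInvol G ^ 2 := hcon
  have := Fintype.ofFinite G
  have hnpos : 0 < numInvol G := by
    have : Fact (Nat.Prime 2) := ⟨Nat.prime_two⟩
    obtain ⟨t, ht⟩ := exists_prime_orderOf_dvd_card' 2 (even_iff_two_dvd.mp heven)
    have : Nonempty {t : G // orderOf t = 2} := ⟨⟨t, ht⟩⟩
    exact Nat.card_pos
  have hgpos : 0 < Nat.card G := Nat.card_pos
  have hbound : ∀ x : G, 2 * (Nat.card G + numInvol G) * beta x +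
      (if orderOf x = 2 then 2 * (2 * (Nat.card G + numInvol G)) else 0) ≤
      2 * numInvol G ^ 2 + (if x = 1 then 2 * (Nat.card G + numInvol G) * numInvol G else 0) +
        (if orderOf x = 2 then 2 * numInvol G ^ 2 else 0) := by
    intro x
    by_cases h1 : x = 1
    · subst h1
      rw [beta_one]
      simp [orderOf_one]
    · by_cases h2 : orderOf x = 2
      · have := bf_invol_bound hA hZ x h2
        simp only [h1, h2, if_true, if_false]
        nlinarith
      · have hx2 : x ^ 2 ≠ 1 := by
          intro h
          have hd := orderOf_dvd_of_pow_eq_one h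
          rcases (Nat.dvd_prime Nat.prime_two).mp hd with h' | h'
          · exact h1 (orderOf_eq_one_iff.mp h')
          · exact h2 h'
        have := bf_noninvol_bound hA x hx2
        simp only [h1, h2, if_false]
        nlinarith
  have hsum := Finset.sum_le_sum (fun x _ => hbound x) (s := Finset.univ)
  rw [Finset.sum_add_distrib, Finset.sum_add_distrib, Finset.sum_add_distrib, ← Finset.mul_sum,
    sum_beta, sum_ite_invol, sum_ite_invol, Finset.sum_const, Finset.card_univ,
    ← Nat.card_eq_fintype_card, smul_eq_mul, Finset.sum_ite_eq'] at hsum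
  simp only [Finset.mem_univ, if_true] at hsum
  nlinarith [Nat.mul_pos hgpos hnpos, Nat.mul_pos hnpos hnpos]

/-- the class of an involution consists of involutions: `|G| ≤ n * |C(t)|` -/
theorem card_le_numInvol_mul_centralizer (t : G) (ht : orderOf t = 2) :
    Nat.card G ≤ numInvol G * Nat.card (Subgroup.centralizer ({t} : Set G)) := by
  have h1 := Cfsg.Agent.Helper20.ncard_setOf_isConj t
  have h2 : {h : G | IsConj t h}.ncard ≤ ({h : G | orderOf h = 2} : Set G).ncard := by
    apply Set.ncard_le_ncard _ (Set.toFinite _)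
    intro h hh
    obtain ⟨c, hc⟩ := isConj_iff.mp hh
    show orderOf h = 2
    have hs : SemiconjBy c t h := by
      show c * t = h * c
      rw [← hc]; group
    rw [← hs.orderOf_eq, ht]
  have h3 : ({h : G | orderOf h = 2} : Set G).ncard = numInvol G := rfl
  have h4 := (Subgroup.centralizer ({t} : Set G)).card_mul_index
  calc Nat.card G = Nat.card (Subgroup.centralizer ({t} : Set G)) *
        (Subgroup.centralizer ({t} : Set G)).index := h4.symm
    _ ≤ Nat.card (Subgroup.centralizer ({t} : Set G)) * numInvol G := by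
        apply Nat.mul_le_mul_left; rw [← h1, ← h3]; exact h2
    _ = _ := by ring

/-- a simple group embeds into the symmetric group on the cosets of a proper subgroup -/
theorem card_le_factorial_index [IsSimpleGroup G] (H : Subgroup G) (hH : H ≠ ⊤) :
    Nat.card G ≤ Nat.factorial H.index := by
  classical
  have hker : (MulAction.toPermHom G (G ⧸ H)).ker = ⊥ := by
    rcases (MulAction.toPermHom G (G ⧸ H)).normal_ker.eq_bot_or_eq_top with h | h
    · exact h
    · exfalso
      apply hH
      rw [← Subgroup.normalCore_eq_ker] at h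
      exact top_le_iff.mp (h ▸ Subgroup.normalCore_le H)
  have hinj : Function.Injective (MulAction.toPermHom G (G ⧸ H)) :=
    (MonoidHom.ker_eq_bot_iff _).mp hker
  have := Fintype.ofFinite (G ⧸ H)
  calc Nat.card G ≤ Nat.card (Equiv.Perm (G ⧸ H)) := Nat.card_le_card_of_injective _ hinj
    _ = Nat.factorial H.index := by
      rw [Nat.card_eq_fintype_card, Fintype.card_perm, ← Nat.card_eq_fintype_card]
      rfl

/-- consequence of the index bound in terms of one involution centralizer -/
theorem bf_exists_index (hZ : Odd (Nat.card (Subgroup.center G))) (t : G) (ht : orderOf t = 2) :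
    ∃ H : Subgroup G, H ≠ ⊤ ∧ (H.index = 2 ∨
      2 * H.index < Nat.card (Subgroup.centralizer ({t} : Set G)) *
        (Nat.card (Subgroup.centralizer ({t} : Set G)) + 1)) := by
  have heven : Even (Nat.card G) := by
    rw [even_iff_two_dvd, ← ht]; exact orderOf_dvd_natCard t
  obtain ⟨H, hH, h⟩ := brauer_fowler_index heven hZ
  refine ⟨H, hH, ?_⟩
  rcases h with h | h
  · left; exact h
  · right
    have hle := card_le_numInvol_mul_centralizer t ht
    have hnpos : 0 < numInvol G := by
      have : Nonempty {t : G // orderOf t = 2} := ⟨⟨t, ht⟩⟩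
      exact Nat.card_pos
    set n := numInvol G
    set c := Nat.card (Subgroup.centralizer ({t} : Set G))
    set g := Nat.card G
    have h1 : g * (g + n) ≤ (n * c) * (n * c + n) :=
      Nat.mul_le_mul hle (Nat.add_le_add_right hle n)
    have h2 : 2 * H.index * n ^ 2 < (c * (c + 1)) * n ^ 2 := by
      calc 2 * H.index * n ^ 2 < g * (g + n) := h
        _ ≤ (n * c) * (n * c + n) := h1
        _ = (c * (c + 1)) * n ^ 2 := by ring
    exact Nat.lt_of_mul_lt_mul_right h2

end

end Cfsg.Agent.Helper16
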