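import Mathlib
import Cfsg.Prelude.Def_ClassicalGeometry
import Cfsg.Agent.Helper28.CDGen

set_option autoImplicit false
set_option linter.unusedSectionVars false

/-! Reflections generate `O(Q)` in characteristic two, for any field with at least three
elements (piece CD2G of the S1082 drive). -/

namespace Cfsg.Agent.Helper16.CD2G

open Matrix LinearMap.BilinForm Module
open Cfsg.Agent.Helper28

variable {F : Type*} [Field F] {ι : Type} [Fintype ι] [DecidableEq ι]
  (Q : QuadraticForm F (ι → F))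

/-- matrix of an isometry -/
abbrev mt (g : ↥(Cfsg.isometryGroup F ⇑Q)) : Matrix ι ι F :=
  ((g : GL ι F) : Matrix ι ι F)

theorem mt_mul (a b : ↥(Cfsg.isometryGroup F ⇑Q)) (x : ι → F) :
    mt Q (a * b) *ᵥ x = mt Q a *ᵥ (mt Q b *ᵥ x) := by
  simp only [mt, Subgroup.coe_mul, Units.val_mul, Matrix.mulVec_mulVec]

theorem mt_one (x : ι → F) : mt Q 1 *ᵥ x = x := by
  simp [mt]

theorem mt_refl (v : ι → F) (hv : Q v ≠ 0) (x : ι → F) :
    mt Q (Spin.reflO Q v hv) *ᵥ x = Cfsg.reflectionMatrix ⇑Q v *ᵥ x := rfl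

theorem eq_one_of_fix (g : ↥(Cfsg.isometryGroup F ⇑Q)) (h : ∀ x, mt Q g *ᵥ x = x) : g = 1 := by
  apply Subtype.ext
  apply Units.ext
  apply Spin.matrix_ext_mulVec
  intro x
  rw [h x]
  simp

/-- "good" elements: in `H`, fixing pointwise everything orthogonal to `W` -/
def Good (H : Subgroup ↥(Cfsg.isometryGroup F ⇑Q)) (W : Submodule F (ι → F))
    (r : ↥(Cfsg.isometryGroup F ⇑Q)) : Prop :=
  r ∈ H ∧ ∀ x, (∀ w ∈ W, QuadraticMap.polar ⇑Q w x = 0) → mt Q r *ᵥ x = x

theorem good_one (H : Subgroup ↥(Cfsg.isometryGroup F ⇑Q)) (W : Submodule F (ι → F)) :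
    Good Q H W 1 := ⟨H.one_mem, fun x _ => mt_one Q x⟩

theorem good_mul {H : Subgroup ↥(Cfsg.isometryGroup F ⇑Q)} {W : Submodule F (ι → F)}
    {a b : ↥(Cfsg.isometryGroup F ⇑Q)} (ha : Good Q H W a) (hb : Good Q H W b) :
    Good Q H W (a * b) :=
  ⟨H.mul_mem ha.1 hb.1, fun x hx => by rw [mt_mul, hb.2 x hx, ha.2 x hx]⟩

theorem good_refl {H : Subgroup ↥(Cfsg.isometryGroup F ⇑Q)}
    (hH : ∀ (v : ι → F) (hv : Q v ≠ 0), Spin.reflO Q v hv ∈ H)
    {W : Submodule F (ι → F)} {v : ι → F} (hvW : v ∈ W) (hv : Q v ≠ 0) :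
    Good Q H W (Spin.reflO Q v hv) :=
  ⟨hH v hv, fun x hx => by rw [mt_refl]; exact Spin.refl_fix Q (hx v hvW)⟩

theorem neg_eq' (h2 : (2 : F) = 0) (a : F) : -a = a := by
  linear_combination (-a) * h2

theorem polar_self2 (h2 : (2 : F) = 0) (x : ι → F) : QuadraticMap.polar ⇑Q x x = 0 := by
  rw [Spin.polar_self', h2, zero_mul]

/-- Step 2: moving a nonsingular vector to another of the same norm. -/
theorem exists_move (h2 : (2 : F) = 0) (hF : ∃ a : F, a ≠ 0 ∧ a ≠ 1)
    {H : Subgroup ↥(Cfsg.isometryGroup F ⇑Q)}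
    (hH : ∀ (v : ι → F) (hv : Q v ≠ 0), Spin.reflO Q v hv ∈ H)
    (W : Submodule F (ι → F))
    (hW : ∀ x ∈ W, x ≠ 0 → ∃ y ∈ W, QuadraticMap.polar ⇑Q x y ≠ 0)
    {u u' : ι → F} (huW : u ∈ W) (hu'W : u' ∈ W) (hQ' : Q u' = Q u) (hu : Q u ≠ 0) :
    ∃ r, Good Q H W r ∧ mt Q r *ᵥ u' = u := by
  by_cases hd : Q (u - u') ≠ 0
  · exact ⟨Spin.reflO Q (u - u') hd, good_refl Q hH (W.sub_mem huW hu'W) hd,
      Spin.refl_move Q hQ'.symm hd⟩
  push Not at hd
  have hpuu' : QuadraticMap.polar ⇑Q u u' = 0 := by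
    have := CDG.map_sub' Q u u'
    rw [hd, hQ'] at this
    linear_combination this + (Q u) * h2
  have hu0 : u ≠ 0 := by
    rintro rfl
    exact hu (by simp)
  have hu'0 : u' ≠ 0 := by
    rintro rfl
    apply hu
    rw [← hQ']; simp
  obtain ⟨y1, hy1W, hy1⟩ := hW u huW hu0
  obtain ⟨y2, hy2W, hy2⟩ := hW u' hu'W hu'0
  -- a vector nonorthogonal to both
  obtain ⟨y, hyW, hyu, hyu'⟩ : ∃ y ∈ W, QuadraticMap.polar ⇑Q u y ≠ 0 ∧
      QuadraticMap.polar ⇑Q u' y ≠ 0 := by
    by_cases h1 : QuadraticMap.polar ⇑Q u' y1 ≠ 0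
    · exact ⟨y1, hy1W, hy1, h1⟩
    by_cases h3 : QuadraticMap.polar ⇑Q u y2 ≠ 0
    · exact ⟨y2, hy2W, h3, hy2⟩
    push Not at h1 h3
    refine ⟨y1 + y2, W.add_mem hy1W hy2W, ?_, ?_⟩
    · rw [QuadraticMap.polar_add_right, h3, add_zero]; exact hy1
    · rw [QuadraticMap.polar_add_right, h1, zero_add]; exact hy2
  -- make it nonsingular
  obtain ⟨z, hzW, hzu, hzu', hz⟩ : ∃ z ∈ W, QuadraticMap.polar ⇑Q u z ≠ 0 ∧
      QuadraticMap.polar ⇑Q u' z ≠ 0 ∧ Q z ≠ 0 := by
    by_cases hy : Q y ≠ 0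
    · exact ⟨y, hyW, hyu, hyu', hy⟩
    push Not at hy
    obtain ⟨a, ha0, ha1⟩ := hF
    set c0 : F := (Q u)⁻¹ * QuadraticMap.polar ⇑Q u y with hc0
    have hc0ne : c0 ≠ 0 := mul_ne_zero (inv_ne_zero hu) hyu
    refine ⟨y + (a * c0) • u, W.add_mem hyW (W.smul_mem _ huW), ?_, ?_, ?_⟩
    · rw [QuadraticMap.polar_add_right, QuadraticMap.polar_smul_right, polar_self2 Q h2,
        smul_zero, add_zero]
      exact hyu
    · rw [QuadraticMap.polar_add_right, QuadraticMap.polar_smul_right,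
        QuadraticMap.polar_comm (⇑Q) u' u, hpuu', smul_zero, add_zero]
      exact hyu'
    · rw [Spin.map_add_smul', hy, QuadraticMap.polar_comm (⇑Q) y u]
      have hpe : QuadraticMap.polar ⇑Q u y = c0 * Q u := by
        rw [hc0]; field_simp
      rw [hpe]
      have : 0 + (a * c0) ^ 2 * Q u + a * c0 * (c0 * Q u) = a * c0 ^ 2 * Q u * (a + 1) := by
        ring
      rw [this]
      have ha1' : a + 1 ≠ 0 := by
        intro h
        apply ha1
        have := neg_eq' h2 (1 : F)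
        linear_combination h + this
      exact mul_ne_zero (mul_ne_zero (mul_ne_zero ha0 (pow_ne_zero 2 hc0ne)) hu) ha1'
  -- the intermediate vector
  set c : F := (Q z)⁻¹ * QuadraticMap.polar ⇑Q z u with hc
  have hcne : c ≠ 0 := by
    rw [hc, QuadraticMap.polar_comm]
    exact mul_ne_zero (inv_ne_zero hz) hzu
  set u'' : ι → F := Cfsg.reflectionMatrix ⇑Q z *ᵥ u with hu''
  have hu''e : u'' = u - c • z := Spin.refl_mulVec Q z u
  have hQu'' : Q u'' = Q u := Spin.refl_pres Q hz u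
  have hu''W : u'' ∈ W := by
    rw [hu''e]; exact W.sub_mem huW (W.smul_mem _ hzW)
  have hd1 : Q (u - u'') ≠ 0 := by
    have : u - u'' = c • z := by rw [hu''e]; abel
    rw [this, QuadraticMap.map_smul]
    exact mul_ne_zero (mul_ne_zero hcne hcne) hz
  have hd2 : Q (u'' - u') ≠ 0 := by
    rw [CDG.map_sub', hQu'', hQ', hu''e, QuadraticMap.polar_sub_left,
      QuadraticMap.polar_smul_left, hpuu', smul_eq_mul]
    have : Q u + Q u - (0 - c * QuadraticMap.polar ⇑Q z u') =
        c * QuadraticMap.polar ⇑Q z u' + Q u * 2 := by ring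
    rw [this, h2, mul_zero, add_zero, QuadraticMap.polar_comm]
    exact mul_ne_zero hcne hzu'
  refine ⟨Spin.reflO Q (u - u'') hd1 * Spin.reflO Q (u'' - u') hd2,
    good_mul Q (good_refl Q hH (W.sub_mem huW hu''W) hd1)
      (good_refl Q hH (W.sub_mem hu''W hu'W) hd2), ?_⟩
  rw [mt_mul, mt_refl, mt_refl, Spin.refl_move Q (hQu''.trans hQ'.symm) hd2,
    Spin.refl_move Q hQu''.symm hd1]

/-- Step 3: fixing the second vector of a hyperbolic pair. -/
theorem exists_fix
    {H : Subgroup ↥(Cfsg.isometryGroup F ⇑Q)}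
    (hH : ∀ (v : ι → F) (hv : Q v ≠ 0), Spin.reflO Q v hv ∈ H)
    (W : Submodule F (ι → F)) {u : ι → F} (huW : u ∈ W) (hu : Q u ≠ 0)
    (huperp : ∀ z ∈ W, QuadraticMap.polar ⇑Q u z = 0)
    {v v1 : ι → F} (huv : QuadraticMap.polar ⇑Q u v = 1) (hQv : Q v1 = Q v)
    (hw : v1 - v ∈ W) :
    ∃ r, Good Q H W r ∧ mt Q r *ᵥ v1 = v := by
  by_cases hd : Q (v - v1) ≠ 0
  · refine ⟨Spin.reflO Q (v - v1) hd, good_refl Q hH ?_ hd, Spin.refl_move Q hQv.symm hd⟩
    have : v - v1 = -(v1 - v) := by abel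
    rw [this]; exact W.neg_mem hw
  push Not at hd
  have huv1 : QuadraticMap.polar ⇑Q u v1 = 1 := by
    have : v1 = v + (v1 - v) := by abel
    rw [this, QuadraticMap.polar_add_right, huv, huperp _ hw, add_zero]
  set v2 : ι → F := Cfsg.reflectionMatrix ⇑Q u *ᵥ v1 with hv2
  have hv2e : v2 = v1 - (Q u)⁻¹ • u := by
    rw [hv2, Spin.refl_mulVec, huv1, mul_one]
  have hQv2 : Q v2 = Q v := (Spin.refl_pres Q hu v1).trans hQv
  have hdiff : v - v2 = (v - v1) + (Q u)⁻¹ • u := by rw [hv2e]; abel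
  have hd2 : Q (v - v2) ≠ 0 := by
    rw [hdiff, Spin.map_add_smul', hd]
    have hp : QuadraticMap.polar ⇑Q (v - v1) u = 0 := by
      rw [QuadraticMap.polar_comm]
      have : v - v1 = -(v1 - v) := by abel
      rw [this]
      exact huperp _ (W.neg_mem hw)
    rw [hp, mul_zero, add_zero, zero_add]
    have : ((Q u)⁻¹) ^ 2 * Q u = (Q u)⁻¹ := by field_simp
    rw [this]
    exact inv_ne_zero hu
  have hmem : v - v2 ∈ W := by
    rw [hdiff]
    refine W.add_mem ?_ (W.smul_mem _ huW)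
    have : v - v1 = -(v1 - v) := by abel
    rw [this]; exact W.neg_mem hw
  refine ⟨Spin.reflO Q (v - v2) hd2 * Spin.reflO Q u hu,
    good_mul Q (good_refl Q hH hmem hd2) (good_refl Q hH huW hu), ?_⟩
  rw [mt_mul, mt_refl, mt_refl, ← hv2, Spin.refl_move Q hQv2.symm hd2]


/-- relative version: an isometry fixing a nondegenerate subspace pointwise lies in `H` -/
theorem cd2_rel (h2 : (2 : F) = 0) (hQ : (QuadraticMap.polarBilin Q).Nondegenerate)
    (hF : ∃ a : F, a ≠ 0 ∧ a ≠ 1)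
    (H : Subgroup ↥(Cfsg.isometryGroup F ⇑Q))
    (hH : ∀ (v : ι → F) (hv : Q v ≠ 0), Spin.reflO Q v hv ∈ H) :
    ∀ (k : ℕ) (U : Submodule F (ι → F)), Fintype.card ι ≤ finrank F U + k →
      U ⊓ LinearMap.BilinForm.orthogonal (QuadraticMap.polarBilin Q) U = ⊥ →
      ∀ g : ↥(Cfsg.isometryGroup F ⇑Q), (∀ u ∈ U, mt Q g *ᵥ u = u) → g ∈ H := by
  set B : LinearMap.BilinForm F (ι → F) := QuadraticMap.polarBilin Q with hB
  have hBa : ∀ x y, B x y = QuadraticMap.polar ⇑Q x y := fun x y => rfl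
  have hrefl : B.IsRefl := by
    intro x y h
    rw [hBa] at h ⊢
    rw [QuadraticMap.polar_comm]; exact h
  have htop : ∀ g : ↥(Cfsg.isometryGroup F ⇑Q),
      (∀ u ∈ (⊤ : Submodule F (ι → F)), mt Q g *ᵥ u = u) → g ∈ H := by
    intro g hg
    rw [eq_one_of_fix Q g (fun x => hg x Submodule.mem_top)]
    exact H.one_mem
  intro k
  induction k with
  | zero =>
    intro U hk _ g hgU
    have hU : U = ⊤ := by
      apply Submodule.eq_top_of_finrank_eq
      have := Submodule.finrank_le U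
      rw [Module.finrank_fintype_fun_eq_card] at this ⊢
      omega
    subst hU
    exact htop g hgU
  | succ k ih =>
    intro U hk hUnd g hgU
    by_cases hU : U = ⊤
    · subst hU
      exact htop g hgU
    set W := B.orthogonal U with hW
    have hfrW : finrank F W = Fintype.card ι - finrank F U := by
      rw [hW, finrank_orthogonal hQ, Module.finrank_fintype_fun_eq_card]
    have hUlt : finrank F U < Fintype.card ι := by
      have h1 := Submodule.finrank_le U
      rw [Module.finrank_fintype_fun_eq_card] at h1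
      rcases Nat.lt_or_ge (finrank F U) (Fintype.card ι) with h | h
      · exact h
      · exfalso
        apply hU
        apply Submodule.eq_top_of_finrank_eq
        rw [Module.finrank_fintype_fun_eq_card]
        omega
    have hWmem : ∀ x, x ∈ W ↔ ∀ n ∈ U, QuadraticMap.polar ⇑Q n x = 0 := by
      intro x
      rw [hW, mem_orthogonal_iff]
      rfl
    -- W is nondegenerate
    have hWnd : ∀ x ∈ W, x ≠ 0 → ∃ y ∈ W, QuadraticMap.polar ⇑Q x y ≠ 0 := by
      intro x hxW hx0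
      by_contra hcon
      push Not at hcon
      have hxWW : x ∈ B.orthogonal W := by
        rw [mem_orthogonal_iff]
        intro y hy
        show B y x = 0
        rw [hBa, QuadraticMap.polar_comm]
        exact hcon y hy
      rw [hW, orthogonal_orthogonal hQ hrefl] at hxWW
      have : x ∈ U ⊓ W := ⟨hxWW, hxW⟩
      rw [hUnd] at this
      exact hx0 (by simpa using this)
    -- a nonsingular vector in W
    have hexu : ∃ u ∈ W, Q u ≠ 0 := by
      by_contra hcon
      push Not at hcon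
      have hWbot : W = ⊥ := by
        rw [eq_bot_iff]
        intro x hx
        by_contra hx0
        obtain ⟨y, hy, hxy⟩ := hWnd x hx hx0
        apply hxy
        rw [QuadraticMap.polar, hcon _ (W.add_mem hx hy), hcon _ hx, hcon _ hy]
        simp
      rw [hWbot, finrank_bot] at hfrW
      omega
    obtain ⟨u, huW, hu⟩ := hexu
    have hgpol : ∀ (g' : ↥(Cfsg.isometryGroup F ⇑Q)) (x y : ι → F),
        QuadraticMap.polar ⇑Q (mt Q g' *ᵥ x) (mt Q g' *ᵥ y) = QuadraticMap.polar ⇑Q x y :=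
      fun g' x y => Spin.polar_isom Q (Spin.isom_apply Q g') x y
    -- isometries fixing U preserve W
    have hpresW : ∀ g' : ↥(Cfsg.isometryGroup F ⇑Q), (∀ n ∈ U, mt Q g' *ᵥ n = n) →
        ∀ x ∈ W, mt Q g' *ᵥ x ∈ W := by
      intro g' hg' x hx
      rw [hWmem] at hx ⊢
      intro n hn
      have := hgpol g' n x
      rw [hg' n hn] at this
      rw [this]
      exact hx n hn
    -- good elements fix U
    have hgoodU : ∀ (W' : Submodule F (ι → F)), W' ≤ W → ∀ r, Good Q H W' r →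
        ∀ n ∈ U, mt Q r *ᵥ n = n := by
      intro W' hW' r hr n hn
      apply hr.2
      intro w hw
      rw [QuadraticMap.polar_comm]
      exact (hWmem w).1 (hW' hw) n hn
    -- step 2
    obtain ⟨r1, hr1, hr1u⟩ := exists_move Q h2 hF hH W hWnd huW (hpresW g hgU u huW)
      (Spin.isom_apply Q g u) hu
    set g1 := r1 * g with hg1
    have hg1U : ∀ n ∈ U, mt Q g1 *ᵥ n = n := by
      intro n hn
      rw [hg1, mt_mul, hgU n hn, hgoodU W le_rfl r1 hr1 n hn]
    have hg1u : mt Q g1 *ᵥ u = u := by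
      rw [hg1, mt_mul, hr1u]
    -- the partner v
    have hu0 : u ≠ 0 := by
      rintro rfl
      exact hu (by simp)
    obtain ⟨y, hyW, hy⟩ := hWnd u huW hu0
    set v : ι → F := (QuadraticMap.polar ⇑Q u y)⁻¹ • y with hv
    have hvW : v ∈ W := W.smul_mem _ hyW
    have huv : QuadraticMap.polar ⇑Q u v = 1 := by
      rw [hv, QuadraticMap.polar_smul_right, smul_eq_mul, inv_mul_cancel₀ hy]
    -- step 3
    set W2 : Submodule F (ι → F) := W ⊓ LinearMap.ker (B u) with hW2
    have hW2mem : ∀ z, z ∈ W2 ↔ z ∈ W ∧ QuadraticMap.polar ⇑Q u z = 0 := by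
      intro z
      rw [hW2, Submodule.mem_inf, LinearMap.mem_ker]
      rfl
    have huW2 : u ∈ W2 := (hW2mem u).2 ⟨huW, polar_self2 Q h2 u⟩
    have hdiff : mt Q g1 *ᵥ v - v ∈ W2 := by
      rw [hW2mem]
      refine ⟨W.sub_mem (hpresW g1 hg1U v hvW) hvW, ?_⟩
      rw [QuadraticMap.polar_sub_right, huv]
      have := hgpol g1 u v
      rw [hg1u] at this
      rw [this, huv, sub_self]
    obtain ⟨r2, hr2, hr2v⟩ := exists_fix Q hH W2 huW2 hu (fun z hz => ((hW2mem z).1 hz).2)
      huv (Spin.isom_apply Q g1 v) hdiff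
    set g2 := r2 * g1 with hg2
    have hW2le : W2 ≤ W := inf_le_left
    have hg2U : ∀ n ∈ U, mt Q g2 *ᵥ n = n := by
      intro n hn
      rw [hg2, mt_mul, hg1U n hn, hgoodU W2 hW2le r2 hr2 n hn]
    have hg2u : mt Q g2 *ᵥ u = u := by
      rw [hg2, mt_mul, hg1u]
      apply hr2.2
      intro w hw
      rw [QuadraticMap.polar_comm]
      exact ((hW2mem w).1 hw).2
    have hg2v : mt Q g2 *ᵥ v = v := by
      rw [hg2, mt_mul, hr2v]
    -- the enlarged subspace
    set U' := U ⊔ Submodule.span F {u, v} with hU'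
    have hmem : ∀ x ∈ U', ∃ n ∈ U, ∃ a b : F, x = n + (a • u + b • v) := by
      intro x hx
      obtain ⟨n, hn, z, hz, rfl⟩ := Submodule.mem_sup.mp hx
      obtain ⟨a, b, rfl⟩ := Submodule.mem_span_pair.mp hz
      exact ⟨n, hn, a, b, rfl⟩
    have huU' : u ∈ U' :=
      Submodule.mem_sup_right (Submodule.subset_span (by simp))
    have hvU' : v ∈ U' :=
      Submodule.mem_sup_right (Submodule.subset_span (by simp))
    have hunotU : u ∉ U := by
      intro huU
      have : u ∈ U ⊓ W := ⟨huU, huW⟩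
      rw [hUnd] at this
      exact hu0 (by simpa using this)
    have hlt : U < U' := by
      apply lt_of_le_of_ne le_sup_left
      intro h
      apply hunotU
      rw [h]
      exact huU'
    have hfr' := Submodule.finrank_lt_finrank_of_lt hlt
    have hU'nd : U' ⊓ B.orthogonal U' = ⊥ := by
      rw [eq_bot_iff]
      rintro x ⟨hx1, hx2⟩
      obtain ⟨n, hn, a, b, rfl⟩ := hmem x hx1
      have e1 := (mem_orthogonal_iff.mp hx2) u huU'
      have e2 := (mem_orthogonal_iff.mp hx2) v hvU'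
      change B u (n + (a • u + b • v)) = 0 at e1
      change B v (n + (a • u + b • v)) = 0 at e2
      have hnu : QuadraticMap.polar ⇑Q u n = 0 := by
        rw [QuadraticMap.polar_comm]; exact (hWmem u).1 huW n hn
      have hnv : QuadraticMap.polar ⇑Q v n = 0 := by
        rw [QuadraticMap.polar_comm]; exact (hWmem v).1 hvW n hn
      rw [hBa, QuadraticMap.polar_add_right, QuadraticMap.polar_add_right,
        QuadraticMap.polar_smul_right, QuadraticMap.polar_smul_right, hnu, polar_self2 Q h2,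
        huv, smul_zero, zero_add, zero_add, smul_eq_mul, mul_one] at e1
      rw [hBa, QuadraticMap.polar_add_right, QuadraticMap.polar_add_right,
        QuadraticMap.polar_smul_right, QuadraticMap.polar_smul_right, hnv, polar_self2 Q h2,
        QuadraticMap.polar_comm (⇑Q) v u, huv, smul_zero, zero_add, add_zero, smul_eq_mul,
        mul_one] at e2
      subst e1 e2
      simp only [zero_smul, add_zero] at hx2 ⊢
      have : n ∈ U ⊓ B.orthogonal U := by
        refine ⟨hn, ?_⟩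
        show n ∈ B.orthogonal U
        rw [mem_orthogonal_iff]
        intro n' hn'
        exact (mem_orthogonal_iff.mp hx2) n' (Submodule.mem_sup_left hn')
      rw [hUnd] at this
      exact this
    have hg2U' : ∀ x ∈ U', mt Q g2 *ᵥ x = x := by
      intro x hx
      obtain ⟨n, hn, a, b, rfl⟩ := hmem x hx
      rw [Matrix.mulVec_add, Matrix.mulVec_add, Matrix.mulVec_smul, Matrix.mulVec_smul,
        hg2U n hn, hg2u, hg2v]
    have hg2H : g2 ∈ H := ih U' (by omega) hU'nd g2 hg2U'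
    rw [hg2, H.mul_mem_cancel_left hr2.1, hg1, H.mul_mem_cancel_left hr1.1] at hg2H
    exact hg2H

end Cfsg.Agent.Helper16.CD2G

open Cfsg.Agent.Helper28.Spin in
/-- Piece CD2G: reflections generate `O(Q)` in characteristic two over a field with at least
three elements. -/
theorem Cfsg.Agent.Helper16.refl_gen_char_two {F : Type*} [Field F] {ι : Type} [Fintype ι]
    [DecidableEq ι]
    (Q : QuadraticForm F (ι → F)) (h2 : (2 : F) = 0)
    (hQ : (QuadraticMap.polarBilin Q).Nondegenerate) (hF : ∃ a : F, a ≠ 0 ∧ a ≠ 1)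
    (H : Subgroup ↥(Cfsg.isometryGroup F ⇑Q))
    (hH : ∀ (v : ι → F) (hv : Q v ≠ 0), reflO Q v hv ∈ H) : ∀ g, g ∈ H := by
  intro g
  apply Cfsg.Agent.Helper16.CD2G.cd2_rel Q h2 hQ hF H hH (Fintype.card ι) ⊥ (by omega) (by simp) g
  intro u hu
  rw [Submodule.mem_bot] at hu
  rw [hu, Matrix.mulVec_zero]
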