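import Mathlib
import Cfsg.Prelude.Def_CaseTheorems
import Cfsg.Prelude.Def_Transfer
import Cfsg.Agent.Helper7.PConstrained
import Cfsg.Agent.Helper7.FStar
import Cfsg.Agent.Helper7.SL23
import Cfsg.Agent.Helper7.Fitting
import Cfsg.Agent.Helper14.PCore
import Cfsg.Agent.Helper21.ExpSix
import Cfsg.Agent.Helper1.FpfCompl
import Cfsg.Agent.Helper1.UniqueOrderP
import Cfsg.Agent.Lead.ThompsonPQ
import Cfsg.Agent.Lead.ZGroupCoprime

set_option autoImplicit false
set_option linter.unusedSectionVars false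
set_option linter.style.haveILetI false

/-! Solvable groups with `O(H) = 1` in which involution centralizers have normal 2-complements:
involution centralizers are 2-groups, a Hall 2'-subgroup `X` acts fixed-point-freely on `O₂(H)`,
has cyclic Sylow subgroups, `X O₂(H)` is normal with cyclic 2-group quotient (S3215). -/

namespace Cfsg.Agent.Helper16.CIT

open Cfsg

section general

variable {G : Type*} [Group G] [Finite G]

/-- A normal subgroup whose order is coprime to the index of `K` lies in `K`. -/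
theorem normal_le_of_coprime_index (K M : Subgroup G) [M.Normal]
    (hcop : (Nat.card M).Coprime K.index) : M ≤ K := by
  have h1 : Nat.card K * K.relIndex (K ⊔ M) = Nat.card ↥(K ⊔ M) := by
    have := Subgroup.relIndex_mul_relIndex (H := ⊥) (K := K) (L := K ⊔ M) bot_le le_sup_left
    rwa [Subgroup.relIndex_bot_left, Subgroup.relIndex_bot_left] at this
  have h2 : Nat.card M * M.relIndex (K ⊔ M) = Nat.card ↥(K ⊔ M) := by
    have := Subgroup.relIndex_mul_relIndex (H := ⊥) (K := M) (L := K ⊔ M) bot_le le_sup_right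
    rwa [Subgroup.relIndex_bot_left, Subgroup.relIndex_bot_left] at this
  have h3 : M.relIndex (K ⊔ M) = M.relIndex K := Subgroup.relIndex_sup_right K M
  have h4 : M.relIndex K ∣ Nat.card K := Subgroup.relIndex_dvd_card M K
  have h5 : K.relIndex (K ⊔ M) ∣ Nat.card M := by
    obtain ⟨e, he⟩ := h4
    rw [h3] at h2
    have hpos : 0 < M.relIndex K := by
      apply Nat.pos_of_ne_zero
      intro h0
      rw [h0, zero_mul] at he
      exact Nat.card_pos.ne' he
    have h6 : M.relIndex K * (e * K.relIndex (K ⊔ M)) = M.relIndex K * Nat.card M := by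
      rw [← mul_assoc, ← he, h1, ← h2, mul_comm]
    exact Dvd.intro_left e (Nat.eq_of_mul_eq_mul_left hpos h6)
  have h6 : K.relIndex (K ⊔ M) ∣ K.index := Subgroup.relIndex_dvd_index_of_le le_sup_left
  have h7 : K.relIndex (K ⊔ M) = 1 := Nat.eq_one_of_dvd_coprimes hcop h5 h6
  exact le_sup_right.trans (Subgroup.relIndex_eq_one.mp h7)

/-- A nontrivial 2-element has a power which is an involution. -/
theorem exists_pow_orderOf_two {y : G} (hy : ∃ k : ℕ, y ^ 2 ^ k = 1) (hy1 : y ≠ 1) :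
    ∃ i : ℕ, orderOf (y ^ i) = 2 := by
  obtain ⟨k, hk⟩ := hy
  obtain ⟨j, -, hj⟩ := (Nat.dvd_prime_pow Nat.prime_two).1 (orderOf_dvd_of_pow_eq_one hk)
  cases j with
  | zero =>
    exfalso; apply hy1
    rwa [pow_zero, orderOf_eq_one_iff] at hj
  | succ j =>
    refine ⟨2 ^ j, ?_⟩
    rw [orderOf_pow_of_dvd (by positivity) (by rw [hj]; exact pow_dvd_pow 2 (Nat.le_succ j)), hj,
      pow_succ, Nat.mul_div_cancel_left _ (by positivity)]

end general

variable {H : Type*} [Group H] [Finite H]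

theorem centralizer_pCore_le (hsol : Group.IsSolvable H) (hO : Cfsg.oddCore H = ⊥) :
    Subgroup.centralizer (Cfsg.pCore 2 H : Set H) ≤ Cfsg.pCore 2 H := by
  have : Fact (Nat.Prime 2) := ⟨Nat.prime_two⟩
  have h1 : Cfsg.fittingSubgroup H = Cfsg.pCore 2 H :=
    Cfsg.Agent.Helper7.fittingSubgroup_eq_pCore_of_pPrimeCore_eq_bot hO
  have h2 := (Cfsg.Agent.Helper7.centralizer_fitting_le_iff_layer_eq_bot (G := H)).mpr
    Cfsg.Agent.Helper7.layer_eq_bot_of_isSolvable
  rw [h1] at h2; exact h2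

/-- In a solvable group with `O(H) = 1`, an involution centralizer with a normal 2-complement is
a 2-group. -/
theorem centralizer_isPGroup (hsol : Group.IsSolvable H) (hO : Cfsg.oddCore H = ⊥)
    (t : H) (ht : orderOf t = 2)
    (hI : Cfsg.HasNormalPComplement 2 ↥(Subgroup.centralizer ({t} : Set H))) :
    IsPGroup 2 ↥(Subgroup.centralizer ({t} : Set H)) := by
  haveI : Fact (Nat.Prime 2) := ⟨Nat.prime_two⟩
  obtain ⟨P, N, hNn, hc⟩ := hI
  have hNodd : (Nat.card N).Coprime 2 := by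
    rw [Nat.coprime_comm, Nat.Prime.coprime_iff_not_dvd Nat.prime_two, ← hc.index_eq_card]
    exact P.not_dvd_index
  obtain ⟨A, hA⟩ : ∃ A : Subgroup H, A = N.map (Subgroup.centralizer ({t} : Set H)).subtype :=
    ⟨_, rfl⟩
  have hAcard : Nat.card A = Nat.card N := by
    rw [hA]; exact Subgroup.card_map_of_injective (Subgroup.subtype_injective _)
  have hAcop : (Nat.card A).Coprime 2 := by rw [hAcard]; exact hNodd
  have hAC : A ≤ Subgroup.centralizer ({t} : Set H) := by
    rw [hA]; exact Subgroup.map_subtype_le N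
  have hYp : IsPGroup 2 ↥(Cfsg.pCore 2 H) := Cfsg.Agent.Helper14.pCore_isPGroup 2
  have hYn : (Cfsg.pCore 2 H).Normal := Cfsg.pCore_normal 2 H
  have hnt : Subgroup.normalizer ((Cfsg.pCore 2 H : Subgroup H) : Set H) = ⊤ :=
    Subgroup.normalizer_eq_top_iff.2 hYn
  have hdis : Disjoint A (Cfsg.pCore 2 H) := by
    apply Subgroup.disjoint_of_coprime_natCard
    obtain ⟨k, hk⟩ := IsPGroup.iff_card.1 hYp
    rw [hk]; exact Nat.Coprime.pow_right _ hAcop
  have hAle : A ≤ Subgroup.centralizer ((Cfsg.pCore 2 H : Subgroup H) : Set H) := by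
    apply Cfsg.Agent.Lead.thompson_PQ 2 (Subgroup.zpowers t) A (Cfsg.pCore 2 H) ?_ hAcop hYp
      ?_ ?_ ?_ ?_
    · apply IsPGroup.of_card (n := 1); rw [Nat.card_zpowers, ht, pow_one]
    · rw [Subgroup.zpowers_le, Subgroup.mem_centralizer_iff]
      intro d hd
      exact ((Subgroup.mem_centralizer_iff.1 (hAC hd)) t rfl).symm
    · rw [hnt]; exact le_top
    · rw [hnt]; exact le_top
    · intro u hu
      rw [Subgroup.mem_centralizer_iff]
      intro d hd
      have hut : t * u = u * t :=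
        (Subgroup.mem_centralizer_iff.1 hu.2) t (Subgroup.mem_zpowers t)
      have huC : u ∈ Subgroup.centralizer ({t} : Set H) := by
        rw [Subgroup.mem_centralizer_iff]
        intro h hh
        rw [Set.mem_singleton_iff] at hh
        rw [hh]; exact hut
      rw [hA] at hd
      obtain ⟨n, hn, rfl⟩ := hd
      have h1 : u * (n : H) * u⁻¹ ∈ A := by
        rw [hA]
        exact ⟨⟨u, huC⟩ * n * ⟨u, huC⟩⁻¹, hNn.conj_mem n hn _, by simp⟩
      have hnA : (n : H) ∈ A := by rw [hA]; exact ⟨n, hn, rfl⟩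
      have h2 : (n : H)⁻¹ * (u * n * u⁻¹) ∈ A := A.mul_mem (A.inv_mem hnA) h1
      have h3 : (n : H)⁻¹ * (u * n * u⁻¹) ∈ Cfsg.pCore 2 H := by
        have h31 : (n : H)⁻¹ * u * (n : H) ∈ Cfsg.pCore 2 H := by
          have := hYn.conj_mem u hu.1 (n : H)⁻¹
          simpa using this
        have e : (n : H)⁻¹ * (u * n * u⁻¹) = ((n : H)⁻¹ * u * n) * u⁻¹ := by group
        rw [e]; exact (Cfsg.pCore 2 H).mul_mem h31 ((Cfsg.pCore 2 H).inv_mem hu.1)
      have h4 : (n : H)⁻¹ * (u * n * u⁻¹) = 1 := by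
        have : (n : H)⁻¹ * (u * n * u⁻¹) ∈ A ⊓ Cfsg.pCore 2 H := ⟨h2, h3⟩
        rwa [disjoint_iff.1 hdis, Subgroup.mem_bot] at this
      calc (n : H) * u = n * ((n : H)⁻¹ * (u * n * u⁻¹)) * u := by rw [h4, mul_one]
        _ = u * n := by group
  have hA1 : A = ⊥ := by
    rw [eq_bot_iff]; intro a ha
    have : a ∈ A ⊓ Cfsg.pCore 2 H := ⟨ha, centralizer_pCore_le hsol hO (hAle ha)⟩
    rwa [disjoint_iff.1 hdis] at this
  have hN1 : Nat.card N = 1 := by rw [← hAcard, hA1, Subgroup.card_bot]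
  have hcard := hc.card_mul_card
  rw [hN1, one_mul] at hcard
  obtain ⟨k, hk⟩ := IsPGroup.iff_card.1 P.2
  exact IsPGroup.of_card (n := k) (by rw [← hcard, hk])

/-- The standing hypotheses of S3215. -/
structure Hyp (X : Subgroup H) : Prop where
  sol : Group.IsSolvable H
  core : Cfsg.oddCore H = ⊥
  cent : ∀ t : H, orderOf t = 2 →
    Cfsg.HasNormalPComplement 2 ↥(Subgroup.centralizer ({t} : Set H))
  odd : Odd (Nat.card X)
  idx : ∃ k : ℕ, X.index = 2 ^ k

variable {X : Subgroup H}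

/-- An element of odd order commuting with a nontrivial 2-element is trivial. -/
theorem Hyp.eq_one_of_commute (hh : Hyp X) {x y : H} (hx : Odd (orderOf x))
    (hy : ∃ k : ℕ, y ^ 2 ^ k = 1) (hy1 : y ≠ 1) (hxy : x * y = y * x) : x = 1 := by
  obtain ⟨i, hi⟩ := exists_pow_orderOf_two hy hy1
  have hP := centralizer_isPGroup hh.sol hh.core (y ^ i) hi (hh.cent _ hi)
  have hxC : x ∈ Subgroup.centralizer ({y ^ i} : Set H) := by
    rw [Subgroup.mem_centralizer_iff]
    intro h hhh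
    rw [Set.mem_singleton_iff] at hhh
    rw [hhh]
    exact ((show Commute x y from hxy).pow_right i).symm
  obtain ⟨k, hk⟩ := hP ⟨x, hxC⟩
  have hk' : x ^ 2 ^ k = 1 := by simpa using congrArg Subtype.val hk
  have hd : orderOf x ∣ 2 ^ k := orderOf_dvd_of_pow_eq_one hk'
  have hc : (orderOf x).Coprime (2 ^ k) :=
    Nat.Coprime.pow_right _ (Nat.Coprime.symm (Nat.coprime_two_left.2 hx))
  exact orderOf_eq_one_iff.1 (Nat.Coprime.eq_one_of_dvd hc hd)

theorem Hyp.odd_orderOf (hh : Hyp X) {a : H} (ha : a ∈ X) : Odd (orderOf a) := by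
  have : orderOf a ∣ Nat.card X := by
    have := orderOf_dvd_natCard (⟨a, ha⟩ : ↥X)
    rwa [Subgroup.orderOf_mk] at this
  exact Odd.of_dvd_nat hh.odd this

theorem mem_pCore_pow {y : H} (hy : y ∈ Cfsg.pCore 2 H) : ∃ k : ℕ, y ^ 2 ^ k = 1 := by
  obtain ⟨k, hk⟩ := (Cfsg.Agent.Helper14.pCore_isPGroup (G := H) 2) ⟨y, hy⟩
  exact ⟨k, by simpa using congrArg Subtype.val hk⟩

/-- Part 1: `X` acts fixed-point-freely on `O₂(H)`. -/
theorem Hyp.fpf (hh : Hyp X) : ∀ x ∈ X, x ≠ 1 → ∀ y ∈ Cfsg.pCore 2 H, y ≠ 1 → x * y ≠ y * x := by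
  intro x hx x1 y hy y1 hxy
  exact x1 (hh.eq_one_of_commute (hh.odd_orderOf hx) (mem_pCore_pow hy) y1 hxy)

theorem Hyp.forall_eq_one_of_pCore_eq_bot (hh : Hyp X) (hY : Cfsg.pCore 2 H = ⊥) (h : H) :
    h = 1 := by
  have hle := centralizer_pCore_le hh.sol hh.core
  rw [hY] at hle
  have : h ∈ (⊥ : Subgroup H) := by
    apply hle
    rw [Subgroup.mem_centralizer_iff]
    intro y hy
    have : y = 1 := Subgroup.mem_bot.1 hy
    rw [this]; simp
  exact Subgroup.mem_bot.1 this

/-- Part 2: the Sylow subgroups of `X` are cyclic. -/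
theorem Hyp.sylow_isCyclic (hh : Hyp X) (p : ℕ) [Fact p.Prime] (P : Sylow p ↥X) :
    IsCyclic ↥(P : Subgroup ↥X) := by
  by_cases hY : Cfsg.pCore 2 H = ⊥
  · have hall := hh.forall_eq_one_of_pCore_eq_bot hY
    have : Subsingleton ↥(P : Subgroup ↥X) :=
      ⟨fun a b => Subtype.ext (Subtype.ext (by rw [hall a.1.1, hall b.1.1]))⟩
    exact isCyclic_of_subsingleton
  · obtain ⟨Q, hQ⟩ : ∃ Q : Subgroup H, Q = (P : Subgroup ↥X).map X.subtype := ⟨_, rfl⟩
    have hQp : IsPGroup p Q := by rw [hQ]; exact P.2.map _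
    have hQX : Q ≤ X := by rw [hQ]; exact Subgroup.map_subtype_le _
    have hfpf : ∀ a ∈ Q, a ≠ 1 →
        Cfsg.pCore 2 H ⊓ Subgroup.centralizer ({a} : Set H) = ⊥ := by
      intro a ha a1
      rw [eq_bot_iff]; intro y hy
      rw [Subgroup.mem_bot]; by_contra y1
      exact hh.fpf a (hQX ha) a1 y hy.1 y1 ((Subgroup.mem_centralizer_iff.1 hy.2) a rfl)
    have e : ↥(P : Subgroup ↥X) ≃* ↥Q := by
      rw [hQ]; exact Subgroup.equivMapOfInjective _ _ X.subtype_injective
    rcases Cfsg.Agent.Helper1.fpf_pgroup_cyclic_or_quaternion hY Q hQp hfpf with h | ⟨h2, n, ⟨e'⟩⟩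
    · exact e.isCyclic.2 h
    · exfalso
      have hc : Nat.card ↥Q = 4 * 2 ^ n := by
        haveI : NeZero (2 ^ n) := ⟨by positivity⟩
        rw [Nat.card_congr e'.toEquiv, Nat.card_eq_fintype_card, QuaternionGroup.card]
      have hd : Nat.card ↥Q ∣ Nat.card ↥X := by
        have := Subgroup.card_dvd_of_le hQX
        exact this
      have hodd : Odd (Nat.card ↥Q) := Odd.of_dvd_nat hh.odd hd
      rw [hc] at hodd
      exact (Nat.not_even_iff_odd.2 hodd) ⟨2 * 2 ^ n, by ring⟩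

end Cfsg.Agent.Helper16.CIT
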