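import Mathlib
import Cfsg.Agent.Helper16.CIT

set_option autoImplicit false
set_option linter.unusedSectionVars false
set_option linter.style.haveILetI false

namespace Cfsg.Agent.Helper16.CIT

open Cfsg
open scoped commutatorElement

variable {H : Type*} [Group H] [Finite H] {X : Subgroup H}

/-- the quotient map `H → H / O₂(H)` -/
abbrev quo (H : Type*) [Group H] : H →* H ⧸ Cfsg.pCore 2 H := QuotientGroup.mk' (Cfsg.pCore 2 H)

theorem quo_eq_one_iff {h : H} : quo H h = 1 ↔ h ∈ Cfsg.pCore 2 H :=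
  QuotientGroup.eq_one_iff h

theorem Hyp.odd_map (hh : Hyp X) : Odd (Nat.card ↥(X.map (quo H))) :=
  Odd.of_dvd_nat hh.odd (Subgroup.card_map_dvd _ _)

theorem Hyp.index_map (hh : Hyp X) : ∃ k : ℕ, (X.map (quo H)).index = 2 ^ k := by
  obtain ⟨k, hk⟩ := hh.idx
  have h1 : (X.map (quo H)).index ∣ X.index :=
    Subgroup.index_map_dvd X (QuotientGroup.mk'_surjective _)
  rw [hk] at h1
  obtain ⟨j, -, hj⟩ := (Nat.dvd_prime_pow Nat.prime_two).1 h1
  exact ⟨j, hj⟩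

/-- The Fitting subgroup of `H / O₂(H)`: a cyclic normal self-centralizing subgroup inside the
image of `X`. -/
theorem Hyp.quotient_facts (hh : Hyp X) :
    ∃ F : Subgroup (H ⧸ Cfsg.pCore 2 H), F.Normal ∧ IsCyclic ↥F ∧ F ≤ X.map (quo H) ∧
      Subgroup.centralizer (F : Set (H ⧸ Cfsg.pCore 2 H)) ≤ F := by
  haveI : Fact (Nat.Prime 2) := ⟨Nat.prime_two⟩
  haveI := hh.sol
  have hCF : Subgroup.centralizer (Cfsg.fittingSubgroup (H ⧸ Cfsg.pCore 2 H) :
      Set (H ⧸ Cfsg.pCore 2 H)) ≤ Cfsg.fittingSubgroup (H ⧸ Cfsg.pCore 2 H) :=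
    (Cfsg.Agent.Helper7.centralizer_fitting_le_iff_layer_eq_bot (G := H ⧸ Cfsg.pCore 2 H)).mpr
      Cfsg.Agent.Helper7.layer_eq_bot_of_isSolvable
  have hFX : Cfsg.fittingSubgroup (H ⧸ Cfsg.pCore 2 H) ≤ X.map (quo H) := by
    rw [Cfsg.Agent.Helper7.fittingSubgroup_eq_pCoreSup, Cfsg.Agent.Helper7.pCoreSup_le_iff]
    intro q hq
    haveI : Fact q.Prime := ⟨hq⟩
    by_cases hq2 : q = 2
    · rw [hq2, Cfsg.Agent.Helper21.ExpSix.pCore_quotient_pCore_eq_bot]; exact bot_le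
    · apply normal_le_of_coprime_index
      obtain ⟨a, ha⟩ := IsPGroup.iff_card.1
        (Cfsg.Agent.Helper14.pCore_isPGroup (G := H ⧸ Cfsg.pCore 2 H) q)
      obtain ⟨k, hk⟩ := hh.index_map
      rw [ha, hk]
      exact Nat.Coprime.pow _ _ ((Nat.coprime_primes hq Nat.prime_two).2 hq2)
  haveI hZX : IsZGroup ↥X := ⟨fun p hp P => by
    haveI : Fact p.Prime := ⟨hp⟩
    exact hh.sylow_isCyclic p P⟩
  haveI hZXb : IsZGroup ↥(X.map (quo H)) :=
    IsZGroup.of_surjective (f := (quo H).subgroupMap X) ((quo H).subgroupMap_surjective X)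
  haveI hZF : IsZGroup ↥(Cfsg.fittingSubgroup (H ⧸ Cfsg.pCore 2 H)) :=
    IsZGroup.of_injective (f := Subgroup.inclusion hFX) (Subgroup.inclusion_injective hFX)
  haveI hnil : Group.IsNilpotent ↥(Cfsg.fittingSubgroup (H ⧸ Cfsg.pCore 2 H)) :=
    Cfsg.Agent.Helper7.fittingSubgroup_isNilpotent
  exact ⟨Cfsg.fittingSubgroup (H ⧸ Cfsg.pCore 2 H), inferInstance, inferInstance, hFX, hCF⟩

theorem Hyp.commutator_mem (hh : Hyp X) (a b : H ⧸ Cfsg.pCore 2 H) :
    ⁅a, b⁆ ∈ X.map (quo H) := by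
  obtain ⟨F, hFn, hFc, hFX, hCF⟩ := hh.quotient_facts
  have hnt : Subgroup.normalizer (F : Set (H ⧸ Cfsg.pCore 2 H)) = ⊤ :=
    Subgroup.normalizer_eq_top_iff.2 hFn
  apply hFX; apply hCF
  apply Cfsg.Agent.Lead.commutator_mem_centralizer_of_isCyclic F <;> rw [hnt] <;>
    exact Subgroup.mem_top _

theorem Hyp.map_normal (hh : Hyp X) : (X.map (quo H)).Normal := by
  constructor
  intro x hx q
  have e : q * x * q⁻¹ = ⁅q, x⁆ * x := by simp [commutatorElement_def]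
  rw [e]; exact (X.map (quo H)).mul_mem (hh.commutator_mem q x) hx

theorem sup_eq_comap : X ⊔ Cfsg.pCore 2 H = (X.map (quo H)).comap (quo H) := by
  rw [Subgroup.comap_map_eq, QuotientGroup.ker_mk']

/-- Part 3a: `X O₂(H)` is normal. -/
theorem Hyp.sup_normal (hh : Hyp X) : (X ⊔ Cfsg.pCore 2 H).Normal := by
  rw [sup_eq_comap]
  exact hh.map_normal.comap _

theorem Hyp.commutator_mem_sup (hh : Hyp X) (a b : H) : ⁅a, b⁆ ∈ X ⊔ Cfsg.pCore 2 H := by
  rw [sup_eq_comap, Subgroup.mem_comap, map_commutatorElement]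
  exact hh.commutator_mem _ _

end Cfsg.Agent.Helper16.CIT
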