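import Mathlib
import Cfsg.Agent.Helper16.CIT2

set_option autoImplicit false
set_option linter.unusedSectionVars false
set_option linter.style.haveILetI false

namespace Cfsg.Agent.Helper16.CIT

open Cfsg
open scoped commutatorElement

section general

variable {Q : Type*} [Group Q]

/-- An element of 2-power order in a subgroup of odd order is trivial. -/
theorem eq_one_of_mem_odd [Finite Q] {K : Subgroup Q} (hK : Odd (Nat.card K)) {z : Q} (hz : z ∈ K)
    (hz2 : ∃ e : ℕ, z ^ 2 ^ e = 1) : z = 1 := by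
  obtain ⟨e, he⟩ := hz2
  have h1 : orderOf z ∣ 2 ^ e := orderOf_dvd_of_pow_eq_one he
  have h2 : orderOf z ∣ Nat.card K := by
    have := orderOf_dvd_natCard (⟨z, hz⟩ : ↥K)
    rwa [Subgroup.orderOf_mk] at this
  have hc : (2 ^ e).Coprime (Nat.card K) :=
    Nat.Coprime.pow_left _ (Nat.coprime_two_left.2 hK)
  exact orderOf_eq_one_iff.1 (Nat.eq_one_of_dvd_coprimes hc h1 h2)

/-- An involutory conjugation acts on an element of prime order of a cyclic normal subgroup
trivially or by inversion. -/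
theorem conj_eq_or_eq_inv (F : Subgroup Q) [hFn : F.Normal] [hFc : IsCyclic ↥F] {x : Q}
    (hx : x ∈ F) {r : ℕ} (hr : r.Prime) (hxr : orderOf x = r) {q : Q} (hq : q * q = 1) :
    q * x * q⁻¹ = x ∨ q * x * q⁻¹ = x⁻¹ := by
  obtain ⟨g, hg⟩ := IsCyclic.exists_generator (α := ↥F)
  obtain ⟨i, hi⟩ := Subgroup.mem_zpowers_iff.1 (hg ⟨x, hx⟩)
  obtain ⟨k, hk⟩ := Subgroup.mem_zpowers_iff.1 (hg ⟨q * g * q⁻¹, hFn.conj_mem g.1 g.2 q⟩)
  have hi' : (g : Q) ^ i = x := by simpa using congrArg Subtype.val hi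
  have hk' : (g : Q) ^ k = q * g * q⁻¹ := by simpa using congrArg Subtype.val hk
  have h1 : q * x * q⁻¹ = x ^ k := by
    rw [← hi', ← conj_zpow, ← hk', ← zpow_mul, mul_comm, zpow_mul]
  have h2 : q * (q * x * q⁻¹) * q⁻¹ = x := by
    have : q⁻¹ = q := inv_eq_of_mul_eq_one_right hq
    rw [this]
    calc q * (q * x * q) * q = (q * q) * x * (q * q) := by group
      _ = x := by rw [hq, one_mul, mul_one]
  have h3 : x ^ (k * k) = x ^ (1 : ℤ) := by
    rw [zpow_one, zpow_mul, ← h1, conj_zpow, ← h1]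
    exact h2
  rw [zpow_eq_zpow_iff_modEq, hxr, Int.modEq_iff_dvd] at h3
  have h4 : (r : ℤ) ∣ (k - 1) * (k + 1) := by
    have e : (k - 1) * (k + 1) = -(1 - k * k) := by ring
    rw [e]; exact (dvd_neg).2 h3
  rcases (Nat.prime_iff_prime_int.1 hr).dvd_or_dvd h4 with h5 | h5
  · left
    rw [h1]
    have : x ^ k = x ^ (1 : ℤ) := by
      rw [zpow_eq_zpow_iff_modEq, hxr, Int.modEq_iff_dvd]
      have e : (1 : ℤ) - k = -(k - 1) := by ring
      rw [e]; exact (dvd_neg).2 h5
    rw [this, zpow_one]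
  · right
    rw [h1]
    have : x ^ k = x ^ (-1 : ℤ) := by
      rw [zpow_eq_zpow_iff_modEq, hxr, Int.modEq_iff_dvd]
      have e : (-1 : ℤ) - k = -(k + 1) := by ring
      rw [e]; exact (dvd_neg).2 h5
    rw [this, zpow_neg, zpow_one]

end general

variable {H : Type*} [Group H] [Finite H] {X : Subgroup H}

/-- An `r`-element (`r` odd) whose image commutes with the image of `c` centralizes some element
of the coset `c O₂(H)`. -/
theorem exists_fixed_in_coset {x₁ c : H} {r e : ℕ} [hr : Fact r.Prime] (hr2 : r ≠ 2)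
    (hx : x₁ ^ r ^ e = 1) (hcomm : quo H x₁ * quo H c = quo H c * quo H x₁) :
    ∃ s : H, quo H s = quo H c ∧ x₁ * s = s * x₁ := by
  classical
  have hgc : ∀ g ∈ Subgroup.zpowers x₁, quo H g * quo H c = quo H c * quo H g := by
    intro g hg
    obtain ⟨j, rfl⟩ := Subgroup.mem_zpowers_iff.1 hg
    rw [map_zpow]
    exact ((show Commute (quo H x₁) (quo H c) from hcomm).zpow_left j)
  let S := {h : H // quo H h = quo H c}
  letI act : MulAction ↥(Subgroup.zpowers x₁) S :=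
    { smul := fun g s => ⟨(g : H) * s.1 * (g : H)⁻¹, by
        rw [map_mul, map_mul, map_inv, s.2, hgc g g.2, mul_inv_cancel_right]⟩
      one_smul := fun s => Subtype.ext (by
        show ((1 : ↥(Subgroup.zpowers x₁)) : H) * s.1 * ((1 : ↥(Subgroup.zpowers x₁)) : H)⁻¹ = s.1
        simp)
      mul_smul := fun g h s => Subtype.ext (by
        show ((g * h : ↥(Subgroup.zpowers x₁)) : H) * s.1 * ((g * h : ↥(Subgroup.zpowers x₁)) : H)⁻¹
          = (g : H) * ((h : H) * s.1 * (h : H)⁻¹) * (g : H)⁻¹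
        simp [mul_assoc]) }
  have hP : IsPGroup r ↥(Subgroup.zpowers x₁) := by
    intro g
    refine ⟨e, ?_⟩
    obtain ⟨j, hj⟩ := Subgroup.mem_zpowers_iff.1 g.2
    apply Subtype.ext
    rw [Subgroup.coe_pow, Subgroup.coe_one, ← hj, ← zpow_natCast, ← zpow_mul, mul_comm, zpow_mul,
      zpow_natCast, hx, one_zpow]
  let eqv : ↥(Cfsg.pCore 2 H) ≃ S :=
    { toFun := fun y => ⟨c * y, by rw [map_mul, (quo_eq_one_iff.2 y.2), mul_one]⟩
      invFun := fun s => ⟨c⁻¹ * s.1, by rw [← quo_eq_one_iff, map_mul, map_inv, s.2, inv_mul_cancel]⟩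
      left_inv := fun y => Subtype.ext (by simp)
      right_inv := fun s => Subtype.ext (by simp) }
  have hnd : ¬ r ∣ Nat.card S := by
    rw [← Nat.card_congr eqv]
    obtain ⟨k, hk⟩ := IsPGroup.iff_card.1 (Cfsg.Agent.Helper14.pCore_isPGroup (G := H) 2)
    rw [hk]
    intro hd
    exact hr2 ((Nat.prime_dvd_prime_iff_eq hr.out Nat.prime_two).1 (hr.out.dvd_of_dvd_pow hd))
  obtain ⟨s, hs⟩ := hP.nonempty_fixed_point_of_prime_not_dvd_card S hnd
  have h1 := congrArg Subtype.val (hs ⟨x₁, Subgroup.mem_zpowers x₁⟩)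
  have h2 : x₁ * s.1 * x₁⁻¹ = s.1 := h1
  exact ⟨s.1, s.2, mul_inv_eq_iff_eq_mul.1 h2⟩

end Cfsg.Agent.Helper16.CIT
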