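import Mathlib
import Cfsg.Agent.Helper16.CIT3

set_option autoImplicit false
set_option linter.unusedSectionVars false
set_option linter.style.haveILetI false

namespace Cfsg.Agent.Helper16.CIT

open Cfsg
open scoped commutatorElement

variable {H : Type*} [Group H] [Finite H] {X : Subgroup H}

theorem Hyp.quot_comm (hh : Hyp X) [hN : (X ⊔ Cfsg.pCore 2 H).Normal]
    (u v : H ⧸ (X ⊔ Cfsg.pCore 2 H)) : u * v = v * u := by
  obtain ⟨a, rfl⟩ := QuotientGroup.mk_surjective u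
  obtain ⟨b, rfl⟩ := QuotientGroup.mk_surjective v
  rw [← QuotientGroup.mk_mul, ← QuotientGroup.mk_mul]
  apply QuotientGroup.eq.2
  have := hh.commutator_mem_sup b⁻¹ a⁻¹
  rw [commutatorElement_def] at this
  simpa [mul_assoc] using this

theorem Hyp.exists_two_lift (hh : Hyp X) [hN : (X ⊔ Cfsg.pCore 2 H).Normal]
    (w : H ⧸ (X ⊔ Cfsg.pCore 2 H)) (hw2 : w ^ 2 = 1) :
    ∃ a : H, (QuotientGroup.mk a : H ⧸ (X ⊔ Cfsg.pCore 2 H)) = w ∧ (∃ e : ℕ, a ^ 2 ^ e = 1) ∧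
      quo H a * quo H a = 1 := by
  obtain ⟨a₀, rfl⟩ := QuotientGroup.mk_surjective w
  have hn₀ : orderOf a₀ ≠ 0 := (orderOf_pos a₀).ne'
  obtain ⟨e, m, hm, hnm⟩ := Nat.exists_eq_two_pow_mul_odd hn₀
  refine ⟨a₀ ^ m, ?_, ⟨e, ?_⟩, ?_⟩
  · obtain ⟨j, hj⟩ := hm
    rw [QuotientGroup.mk_pow, hj, pow_succ, pow_mul, hw2, one_pow, one_mul]
  · rw [← pow_mul, mul_comm, ← hnm, pow_orderOf_eq_one]
  · have h1 : (a₀ ^ m) ^ 2 ∈ X ⊔ Cfsg.pCore 2 H := by
      rw [← QuotientGroup.eq_one_iff, QuotientGroup.mk_pow, QuotientGroup.mk_pow, ← pow_mul,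
        mul_comm, pow_mul, hw2, one_pow]
    rw [sup_eq_comap, Subgroup.mem_comap] at h1
    have h2 : quo H ((a₀ ^ m) ^ 2) = 1 := by
      apply eq_one_of_mem_odd hh.odd_map h1
      refine ⟨e, ?_⟩
      rw [← map_pow, ← pow_mul, mul_comm 2, pow_mul, ← pow_mul a₀, mul_comm m, ← hnm,
        pow_orderOf_eq_one, one_pow, map_one]
    rw [← map_mul, ← pow_two]; exact h2

theorem Hyp.false_of_two_involutions (hh : Hyp X) [hN : (X ⊔ Cfsg.pCore 2 H).Normal]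
    (wa wb : H ⧸ (X ⊔ Cfsg.pCore 2 H)) (ha1 : wa ≠ 1) (ha2 : wa ^ 2 = 1)
    (hb1 : wb ≠ 1) (hb2 : wb ^ 2 = 1) (hab : wa ≠ wb) : False := by
  obtain ⟨F, hFn, hFc, hFX, hCF⟩ := hh.quotient_facts
  have hF1 : F ≠ ⊥ := by
    intro hF
    rw [hF] at hCF
    apply ha1
    obtain ⟨a, rfl⟩ := QuotientGroup.mk_surjective wa
    have : quo H a ∈ (⊥ : Subgroup (H ⧸ Cfsg.pCore 2 H)) := by
      apply hCF; rw [Subgroup.mem_centralizer_iff]; intro y hy
      rw [Subgroup.mem_bot.1 hy]; simp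
    rw [Subgroup.mem_bot, quo_eq_one_iff] at this
    exact (QuotientGroup.eq_one_iff a).2 ((le_sup_right : Cfsg.pCore 2 H ≤ X ⊔ Cfsg.pCore 2 H) this)
  have hFcard : Nat.card F ≠ 1 := fun h => hF1 (Subgroup.card_eq_one.1 h)
  obtain ⟨r, hr⟩ : ∃ r, r = (Nat.card F).minFac := ⟨_, rfl⟩
  have hrp : r.Prime := by rw [hr]; exact Nat.minFac_prime hFcard
  have hrF : r ∣ Nat.card F := by rw [hr]; exact Nat.minFac_dvd _
  haveI : Fact r.Prime := ⟨hrp⟩
  have hrodd : Odd r := Odd.of_dvd_nat hh.odd_map (hrF.trans (Subgroup.card_dvd_of_le hFX))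
  have hr2 : r ≠ 2 := by rintro rfl; exact (by decide : ¬ Odd 2) hrodd
  obtain ⟨f, hf⟩ := exists_prime_orderOf_dvd_card' r hrF
  obtain ⟨x, hx⟩ := QuotientGroup.mk_surjective (f : H ⧸ Cfsg.pCore 2 H)
  have hxq : quo H x = (f : H ⧸ Cfsg.pCore 2 H) := hx
  have hn : orderOf x ≠ 0 := (orderOf_pos x).ne'
  obtain ⟨e, m, hm, hnm⟩ := Nat.exists_eq_pow_mul_and_not_dvd hn r hrp.ne_one
  have hx1 : (x ^ m) ^ r ^ e = 1 := by rw [← pow_mul, mul_comm, ← hnm, pow_orderOf_eq_one]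
  have hordf : orderOf (f : H ⧸ Cfsg.pCore 2 H) = r := by rw [Subgroup.orderOf_coe, hf]
  have hord : orderOf (quo H (x ^ m)) = r := by
    rw [map_pow, hxq, Nat.Coprime.orderOf_pow, hordf]
    rw [hordf]; exact (Nat.Prime.coprime_iff_not_dvd hrp).2 hm
  have hmemF : quo H (x ^ m) ∈ F := by rw [map_pow, hxq]; exact F.pow_mem f.2 m
  have hx1odd : Odd (orderOf (x ^ m)) :=
    Odd.of_dvd_nat (hrodd.pow) (orderOf_dvd_of_pow_eq_one hx1)
  have hx1ne : x ^ m ≠ 1 := by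
    intro h; rw [h, map_one, orderOf_one] at hord; exact hrp.one_lt.ne hord
  obtain ⟨a, haw, ha2e, haq⟩ := hh.exists_two_lift wa ha2
  obtain ⟨b, hbw, hb2e, hbq⟩ := hh.exists_two_lift wb hb2
  have key : ∃ c : H, c ∉ X ⊔ Cfsg.pCore 2 H ∧ (∃ e : ℕ, c ^ 2 ^ e = 1) ∧
      quo H (x ^ m) * quo H c = quo H c * quo H (x ^ m) := by
    rcases conj_eq_or_eq_inv F hmemF hrp hord haq with h | h
    · refine ⟨a, ?_, ha2e, ?_⟩
      · intro hmem; apply ha1; rw [← haw]; exact (QuotientGroup.eq_one_iff a).2 hmem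
      · rw [mul_inv_eq_iff_eq_mul] at h; exact h.symm
    · rcases conj_eq_or_eq_inv F hmemF hrp hord hbq with h' | h'
      · refine ⟨b, ?_, hb2e, ?_⟩
        · intro hmem; apply hb1; rw [← hbw]; exact (QuotientGroup.eq_one_iff b).2 hmem
        · rw [mul_inv_eq_iff_eq_mul] at h'; exact h'.symm
      · have hcomm : quo H (a * b) * quo H (x ^ m) * (quo H (a * b))⁻¹ = quo H (x ^ m) := by
          rw [map_mul, mul_inv_rev]
          calc quo H a * quo H b * quo H (x ^ m) * ((quo H b)⁻¹ * (quo H a)⁻¹)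
              = quo H a * (quo H b * quo H (x ^ m) * (quo H b)⁻¹) * (quo H a)⁻¹ := by group
            _ = quo H a * (quo H (x ^ m))⁻¹ * (quo H a)⁻¹ := by rw [h']
            _ = (quo H a * quo H (x ^ m) * (quo H a)⁻¹)⁻¹ := by group
            _ = quo H (x ^ m) := by rw [h, inv_inv]
        have hn' : orderOf (a * b) ≠ 0 := (orderOf_pos _).ne'
        obtain ⟨e', m', hm', hnm'⟩ := Nat.exists_eq_two_pow_mul_odd hn'
        refine ⟨(a * b) ^ m', ?_, ⟨e', ?_⟩, ?_⟩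
        · intro hmem
          have h1 : (QuotientGroup.mk ((a * b) ^ m') : H ⧸ (X ⊔ Cfsg.pCore 2 H)) = 1 :=
            (QuotientGroup.eq_one_iff _).2 hmem
          rw [QuotientGroup.mk_pow, QuotientGroup.mk_mul, haw, hbw] at h1
          have h2 : (wa * wb) ^ 2 = 1 := by
            rw [(show Commute wa wb from hh.quot_comm wa wb).mul_pow, ha2, hb2, one_mul]
          obtain ⟨j, hj⟩ := hm'
          rw [hj, pow_succ, pow_mul, h2, one_pow, one_mul] at h1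
          apply hab
          have h3 : wb⁻¹ = wb := by
            rw [inv_eq_iff_mul_eq_one, ← pow_two]; exact hb2
          rw [← h3]; exact eq_inv_of_mul_eq_one_left h1
        · rw [← pow_mul, mul_comm, ← hnm', pow_orderOf_eq_one]
        · have hc1 : Commute (quo H (a * b)) (quo H (x ^ m)) := by
            rw [mul_inv_eq_iff_eq_mul] at hcomm; exact hcomm
          rw [map_pow]; exact (hc1.pow_left m').symm
  obtain ⟨c, hcN, ⟨ec, hc2⟩, hcx⟩ := key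
  obtain ⟨s, hs, hsx⟩ := exists_fixed_in_coset hr2 hx1 hcx
  have hs1 : s ≠ 1 := by
    intro h; rw [h, map_one] at hs
    exact hcN ((le_sup_right : Cfsg.pCore 2 H ≤ X ⊔ Cfsg.pCore 2 H) (quo_eq_one_iff.1 hs.symm))
  have hs2 : ∃ k : ℕ, s ^ 2 ^ k = 1 := by
    have h1 : quo H (s ^ 2 ^ ec) = 1 := by rw [map_pow, hs, ← map_pow, hc2, map_one]
    obtain ⟨k, hk⟩ := mem_pCore_pow (quo_eq_one_iff.1 h1)
    exact ⟨ec + k, by rw [pow_add, pow_mul]; exact hk⟩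
  exact hx1ne (hh.eq_one_of_commute hx1odd hs2 hs1 hsx)

theorem exists_gen_of_card_two {W : Type*} [Group W] (K : Subgroup W) (hK : Nat.card K = 2) :
    ∃ w : W, w ≠ 1 ∧ w ^ 2 = 1 ∧ K = Subgroup.zpowers w := by
  have hK1 : K ≠ ⊥ := by
    intro h; rw [h, Subgroup.card_bot] at hK; omega
  have : Finite K := Nat.finite_of_card_ne_zero (by omega)
  obtain ⟨w, hw⟩ := (Subgroup.ne_bot_iff_exists_ne_one).1 hK1
  have hd : orderOf w ∣ 2 := by rw [← hK]; exact orderOf_dvd_natCard w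
  have hw2 : w ^ 2 = 1 := orderOf_dvd_iff_pow_eq_one.1 hd
  have ho : orderOf w = 2 := by
    rcases (Nat.dvd_prime Nat.prime_two).1 hd with h | h
    · exact absurd (orderOf_eq_one_iff.1 h) hw
    · exact h
  refine ⟨(w : W), fun h => hw (Subtype.ext h), by simpa using congrArg Subtype.val hw2, ?_⟩
  symm
  apply Subgroup.eq_of_le_of_card_ge
  · rw [Subgroup.zpowers_le]; exact w.2
  · rw [Nat.card_zpowers, Subgroup.orderOf_coe, ho, hK]

/-- Part 3b: `H / X O₂(H)` is a cyclic 2-group. -/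
theorem Hyp.quot_isCyclic (hh : Hyp X) (hN : (X ⊔ Cfsg.pCore 2 H).Normal) :
    IsCyclic (H ⧸ (X ⊔ Cfsg.pCore 2 H)) ∧ IsPGroup 2 (H ⧸ (X ⊔ Cfsg.pCore 2 H)) := by
  haveI : Fact (Nat.Prime 2) := ⟨Nat.prime_two⟩
  have hP : IsPGroup 2 (H ⧸ (X ⊔ Cfsg.pCore 2 H)) := by
    have hidx : (X ⊔ Cfsg.pCore 2 H).index ∣ X.index := Subgroup.index_dvd_of_le le_sup_left
    obtain ⟨k, hk⟩ := hh.idx
    rw [hk] at hidx
    obtain ⟨j, -, hj⟩ := (Nat.dvd_prime_pow Nat.prime_two).1 hidx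
    exact IsPGroup.of_card (n := j) (by rw [← Subgroup.index_eq_card, hj])
  refine ⟨?_, hP⟩
  haveI : IsMulCommutative (H ⧸ (X ⊔ Cfsg.pCore 2 H)) := ⟨⟨fun u v => hh.quot_comm u v⟩⟩
  apply Cfsg.Agent.Helper1.UniqP.isCyclic_of_isMulCommutative hP
  intro K₁ K₂ h₁ h₂
  by_contra hne
  obtain ⟨wa, ha1, ha2, hKa⟩ := exists_gen_of_card_two K₁ h₁
  obtain ⟨wb, hb1, hb2, hKb⟩ := exists_gen_of_card_two K₂ h₂
  apply hh.false_of_two_involutions wa wb ha1 ha2 hb1 hb2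
  intro h
  apply hne
  rw [hKa, hKb, h]

end Cfsg.Agent.Helper16.CIT
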