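import Mathlib
import Cfsg.Agent.S5274
import Cfsg.Agent.S5076
import Cfsg.Agent.Helper20.Sylow

set_option autoImplicit false
open Cfsg

namespace Cfsg.Agent.Helper16.CamHerzGroup

variable {G : Type*} [Group G] [Finite G]

/-- Camina–Herzog for groups: if every element of the Sylow 2-subgroup `P` centralizes some
Sylow 2-subgroup of `G`, then `P` is abelian.  (Via the fusion-system version S5274.) -/
theorem comm_of_central (P : Sylow 2 G)
    (h : ∀ x ∈ (P : Subgroup G), ∃ Q : Sylow 2 G,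
      (Q : Subgroup G) ≤ Subgroup.centralizer ({x} : Set G)) :
    IsMulCommutative ↥(P : Subgroup G) := by
  have hS : IsPGroup 2 ↥(P : Subgroup G) := P.isPGroup'
  have hF := Cfsg.Agent.S5076.result 2 P
  refine Cfsg.Agent.S5274.result hS (groupFusionSystem (P : Subgroup G)) hF ?_
  intro x hx
  obtain ⟨Q, hQ⟩ := h x hx
  -- x is a 2-element
  obtain ⟨a, ha⟩ := Cfsg.Agent.Helper20.orderOf_eq_pow_of_mem_pgroup (P : Subgroup G) hS x hx
  have hxC : x ∈ Subgroup.centralizer ({x} : Set G) := by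
    rw [Subgroup.mem_centralizer_singleton_iff]
  obtain ⟨Q', hQ'C, hxQ'⟩ := Cfsg.Agent.Helper20.exists_sylow_le_and_mem
    (Subgroup.centralizer ({x} : Set G)) Q hQ x hxC a ha
  obtain ⟨g, hg⟩ := MulAction.exists_smul_eq G Q' P
  -- membership in P = g • Q'
  have hmem : ∀ y : G, y ∈ (P : Subgroup G) ↔ g⁻¹ * y * g ∈ (Q' : Subgroup G) := by
    intro y
    rw [← hg, Sylow.smul_def, Sylow.pointwise_smul_def,
      Subgroup.mem_pointwise_smul_iff_inv_smul_mem, ← map_inv, MulAut.smul_def,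
      MulAut.conj_apply, inv_inv]
  have hzP : g * x * g⁻¹ ∈ (P : Subgroup G) := by
    rw [hmem]
    have : g⁻¹ * (g * x * g⁻¹) * g = x := by group
    rw [this]; exact hxQ'
  have hzC : g * x * g⁻¹ ∈ Subgroup.centralizer ((P : Subgroup G) : Set G) := by
    rw [Subgroup.mem_centralizer_iff]
    intro y hy
    have hy' : g⁻¹ * y * g ∈ (Q' : Subgroup G) := (hmem y).1 hy
    have hc := hQ'C hy'
    rw [Subgroup.mem_centralizer_singleton_iff] at hc
    -- hc : g⁻¹ * y * g * x = x * (g⁻¹ * y * g)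
    calc y * (g * x * g⁻¹) = g * ((g⁻¹ * y * g) * x) * g⁻¹ := by group
      _ = g * (x * (g⁻¹ * y * g)) * g⁻¹ := by rw [hc]
      _ = g * x * g⁻¹ * y := by group
  refine ⟨g * x * g⁻¹, ⟨hzP, hzC⟩, ?_⟩
  refine ⟨conjHom (Subgroup.zpowers x) g, ?_, ?_⟩
  · refine ⟨?_, ?_, g, fun y => rfl⟩
    · rw [Subgroup.zpowers_le]; exact hx
    · rintro ⟨y, hy⟩
      obtain ⟨k, rfl⟩ := Subgroup.mem_zpowers_iff.1 hy
      show g * x ^ k * g⁻¹ ∈ (P : Subgroup G)
      have : g * x ^ k * g⁻¹ = (g * x * g⁻¹) ^ k := by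
        rw [conj_zpow]
      rw [this]
      exact Subgroup.zpow_mem _ hzP k
  · rfl

end Cfsg.Agent.Helper16.CamHerzGroup
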