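import Mathlib
import Cfsg.Prelude.Def_CaseTheorems
import Cfsg.Prelude.Def_Transfer

set_option autoImplicit false

/-! Transport lemmas: passing from a group `G` to a subgroup `C` (viewed as a group), isomorphism
invariance of the Sylow types, and subgroups of index 2 from normal subgroups of 2-power index. -/

namespace Cfsg.Agent.Helper16.CentSub

variable {G : Type*} [Group G]

theorem centralizer_subgroupOf (H C : Subgroup G) (h : H ≤ C) :
    Subgroup.centralizer ((H.subgroupOf C : Subgroup C) : Set C) =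
      (Subgroup.centralizer (H : Set G)).subgroupOf C := by
  ext g
  rw [Subgroup.mem_subgroupOf, Subgroup.mem_centralizer_iff, Subgroup.mem_centralizer_iff]
  constructor
  · intro hg a ha
    have := hg ⟨a, h ha⟩ (Subgroup.mem_subgroupOf.mpr ha)
    exact congrArg Subtype.val this
  · intro hg a ha
    apply Subtype.ext
    exact hg a (Subgroup.mem_subgroupOf.mp ha)

theorem normalizer_subgroupOf (H C : Subgroup G) (h : H ≤ C) :
    Subgroup.normalizer ((H.subgroupOf C : Subgroup C) : Set C) =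
      (Subgroup.normalizer (H : Set G)).subgroupOf C :=
  (Subgroup.subgroupOf_normalizer_eq h).symm

/-- the local index `|N(V) : V C(V)|` computed in a subgroup `C` containing `N(V)` and `C(V)` -/
theorem relIndex_local (V C : Subgroup G) (hV : V ≤ C)
    (hN : Subgroup.normalizer (V : Set G) ≤ C) (hC : Subgroup.centralizer (V : Set G) ≤ C) :
    ((V.subgroupOf C) ⊔ Subgroup.centralizer ((V.subgroupOf C : Subgroup C) : Set C)).relIndex
        (Subgroup.normalizer ((V.subgroupOf C : Subgroup C) : Set C)) =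
      (V ⊔ Subgroup.centralizer (V : Set G)).relIndex (Subgroup.normalizer (V : Set G)) := by
  rw [centralizer_subgroupOf V C hV, normalizer_subgroupOf V C hV, ← Subgroup.subgroupOf_sup hV hC,
    Subgroup.relIndex_subgroupOf hN]

theorem center_map_subgroupOf (S C : Subgroup G) (h : S ≤ C) :
    (Subgroup.center (S.subgroupOf C)).map (S.subgroupOf C).subtype =
      ((Subgroup.center S).map S.subtype).subgroupOf C := by
  ext g
  rw [Subgroup.mem_subgroupOf]
  constructor
  · rintro ⟨s, hs, rfl⟩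
    rw [SetLike.mem_coe, Subgroup.mem_center_iff] at hs
    have hsS : ((s : C) : G) ∈ S := Subgroup.mem_subgroupOf.mp s.2
    refine ⟨⟨((s : C) : G), hsS⟩, ?_, rfl⟩
    rw [SetLike.mem_coe, Subgroup.mem_center_iff]
    intro t
    have := hs ⟨⟨(t : G), h t.2⟩, Subgroup.mem_subgroupOf.mpr t.2⟩
    apply Subtype.ext
    have h2 := congrArg (fun u : (S.subgroupOf C) => ((u : C) : G)) this
    exact h2
  · rintro ⟨s, hs, hsg⟩
    rw [SetLike.mem_coe, Subgroup.mem_center_iff] at hs
    have hgS : g ∈ S.subgroupOf C := by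
      rw [Subgroup.mem_subgroupOf, ← hsg]; exact s.2
    refine ⟨⟨g, hgS⟩, ?_, rfl⟩
    rw [SetLike.mem_coe, Subgroup.mem_center_iff]
    intro t
    have htS : ((t : C) : G) ∈ S := Subgroup.mem_subgroupOf.mp t.2
    have := hs ⟨_, htS⟩
    apply Subtype.ext
    apply Subtype.ext
    have h2 := congrArg Subtype.val this
    show ((t : C) : G) * (g : G) = (g : G) * ((t : C) : G)
    rw [← hsg]
    exact h2

theorem isQuasiDihedral_of_equiv {S : Type*} {S' : Type*} [Group S] [Group S'] (e : S ≃* S')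
    (h : Cfsg.IsQuasiDihedral S) : Cfsg.IsQuasiDihedral S' := by
  obtain ⟨n, hn, hcard, x, y, hx, hy, hxy⟩ := h
  refine ⟨n, hn, by rw [← Nat.card_congr e.toEquiv]; exact hcard, e x, e y,
    by rw [MulEquiv.orderOf_eq]; exact hx, by rw [MulEquiv.orderOf_eq]; exact hy, ?_⟩
  rw [← map_inv, ← map_mul, ← map_mul, hxy, map_pow]

theorem isWreathed_of_equiv {S : Type*} {S' : Type*} [Group S] [Group S'] (e : S ≃* S')
    (h : Cfsg.IsWreathed S) : Cfsg.IsWreathed S' := by
  obtain ⟨n, hn, hcard, x, y, z, hx, hxy, hinf, hz, hzx⟩ := h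
  refine ⟨n, hn, by rw [← Nat.card_congr e.toEquiv]; exact hcard, e x, e y, e z,
    by rw [MulEquiv.orderOf_eq]; exact hx, by rw [← map_mul, ← map_mul, hxy], ?_,
    by rw [MulEquiv.orderOf_eq]; exact hz, by rw [← map_inv, ← map_mul, ← map_mul, hzx]⟩
  have h1 : Subgroup.zpowers (e x) = (Subgroup.zpowers x).map e.toMonoidHom := by
    rw [MonoidHom.map_zpowers]; rfl
  have h2 : Subgroup.zpowers (e y) = (Subgroup.zpowers y).map e.toMonoidHom := by
    rw [MonoidHom.map_zpowers]; rfl
  rw [h1, h2, ← Subgroup.map_inf _ _ _ e.injective, hinf, Subgroup.map_bot]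

theorem isKleinFour_of_equiv {T : Type*} {T' : Type*} [Group T] [Group T'] (e : T ≃* T')
    (h : IsKleinFour T) : IsKleinFour T' :=
  ⟨by rw [← Nat.card_congr e.toEquiv]; exact h.card_four,
    by rw [← Monoid.exponent_eq_of_mulEquiv e]; exact h.exponent_two⟩

/-- a normal subgroup of index `2^a`, `a ≥ 1`, gives a subgroup of index 2 -/
theorem exists_index_two [Finite G] (K : Subgroup G) [K.Normal] (a : ℕ) (ha : 1 ≤ a)
    (h : K.index = 2 ^ a) : ∃ H : Subgroup G, H.index = 2 := by
  have hp : Fact (Nat.Prime 2) := ⟨Nat.prime_two⟩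
  have hcard : Nat.card (G ⧸ K) = 2 ^ a := by rw [← Subgroup.index_eq_card]; exact h
  obtain ⟨H', hH'⟩ := Sylow.exists_subgroup_card_pow_prime (G := G ⧸ K) 2 (n := a - 1)
    (by rw [hcard]; exact pow_dvd_pow 2 (by omega))
  refine ⟨H'.comap (QuotientGroup.mk' K), ?_⟩
  rw [Subgroup.index_comap_of_surjective _ (QuotientGroup.mk'_surjective K)]
  have h1 := H'.card_mul_index
  rw [hH', hcard] at h1
  have h2 : (2 : ℕ) ^ a = 2 ^ (a - 1) * 2 := by
    rw [← pow_succ]; congr 1; omega
  rw [h2] at h1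
  exact Nat.eq_of_mul_eq_mul_left (by positivity) h1

/-- a normal 2-complement in a group of even order gives a subgroup of index 2 -/
theorem exists_index_two_of_complement [Finite G] (S : Sylow 2 G) (k : ℕ) (hk : 1 ≤ k)
    (hS : Nat.card S = 2 ^ k) (h : Cfsg.HasNormalPComplement 2 G) :
    ∃ H : Subgroup G, H.index = 2 := by
  have hp : Fact (Nat.Prime 2) := ⟨Nat.prime_two⟩
  obtain ⟨P, N, hN, hc⟩ := h
  have h1 : N.index = Nat.card P := hc.symm.index_eq_card
  have h2 : Nat.card P = Nat.card S := by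
    rw [Sylow.card_eq_multiplicity, Sylow.card_eq_multiplicity]
  exact exists_index_two N k hk (by rw [h1, h2, hS])

theorem isConj_of_card_classes_eq_one
    (h : Nat.card {C : ConjClasses G // ∃ t : G, orderOf t = 2 ∧ ConjClasses.mk t = C} = 1)
    (x y : G) (hx : orderOf x = 2) (hy : orderOf y = 2) : IsConj x y := by
  have hsub := (Nat.card_eq_one_iff_unique.mp h).1
  have h1 : (⟨ConjClasses.mk x, x, hx, rfl⟩ :
      {C : ConjClasses G // ∃ t : G, orderOf t = 2 ∧ ConjClasses.mk t = C}) =
      ⟨ConjClasses.mk y, y, hy, rfl⟩ := Subsingleton.elim _ _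
  exact ConjClasses.mk_eq_mk_iff_isConj.mp (congrArg Subtype.val h1)

/-- a central involution is its own conjugacy class -/
theorem eq_of_isConj_central {x y : G} (hx : ∀ g : G, g * x = x * g) (h : IsConj x y) : x = y := by
  obtain ⟨c, hc⟩ := isConj_iff.mp h
  rw [← hc, hx c, mul_inv_cancel_right]

theorem mem_smul_sylow [Finite G] (S : Sylow 2 G) (g s : G) :
    s ∈ ((g • S : Sylow 2 G) : Subgroup G) ↔ g⁻¹ * s * g ∈ (S : Subgroup G) := by
  rw [Sylow.coe_subgroup_smul, Subgroup.mem_pointwise_smul_iff_inv_smul_mem, MulAut.smul_def,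
    ← map_inv, MulAut.conj_apply, inv_inv]

/-- a conjugate Sylow subgroup having a given conjugate of a central element in its centre -/
theorem exists_sylow_central [Finite G] (S : Sylow 2 G) (z x : G) (hzS : z ∈ (S : Subgroup G))
    (hzc : ∀ s ∈ (S : Subgroup G), s * z = z * s) (h : IsConj z x) :
    ∃ S' : Sylow 2 G, Nonempty ((S : Subgroup G) ≃* (S' : Subgroup G)) ∧ x ∈ (S' : Subgroup G) ∧
      ∀ s ∈ (S' : Subgroup G), s * x = x * s := by
  obtain ⟨g, hg⟩ := isConj_iff.mp h
  refine ⟨g • S, ?_, ?_, ?_⟩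
  · exact ⟨(Subgroup.equivSMul (MulAut.conj g) (S : Subgroup G)).trans
      (MulEquiv.subgroupCongr (Sylow.coe_subgroup_smul (g := g) (P := S)).symm)⟩
  · rw [mem_smul_sylow, ← hg]
    have : g⁻¹ * (g * z * g⁻¹) * g = z := by group
    rw [this]; exact hzS
  · intro s hs
    rw [mem_smul_sylow] at hs
    have h1 := hzc _ hs
    rw [← hg]
    calc s * (g * z * g⁻¹) = g * (g⁻¹ * s * g * z) * g⁻¹ := by group
      _ = g * (z * (g⁻¹ * s * g)) * g⁻¹ := by rw [h1]
      _ = g * z * g⁻¹ * s := by group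

end Cfsg.Agent.Helper16.CentSub
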