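import Mathlib
import Cfsg.Agent.Helper18.QD8

/-!
Fusion in groups with quasi-dihedral Sylow 2-subgroups: consequences of
`|N(T):C(T)| = 6` (Klein four-subgroups) and `|N(Q):QC(Q)| = 6` (quaternion subgroups).
-/

set_option autoImplicit false

namespace Cfsg.Agent.Helper16.QDFusion

open Cfsg.Agent.Helper18.QD

section generic

variable {G : Type*} [Group G]

/-- for `g` of odd order, if `g²` commutes with `x` then so does `g` -/
theorem commute_of_sq_commute {g x : G} (hodd : Odd (orderOf g)) (h : Commute (g ^ 2) x) :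
    Commute g x := by
  obtain ⟨m, hm⟩ := hodd
  have h1 : g = (g ^ 2) ^ (m + 1) := by
    rw [← pow_mul, show 2 * (m + 1) = orderOf g + 1 by omega, pow_succ, pow_orderOf_eq_one,
      one_mul]
  rw [h1]; exact h.pow_left _

/-- stability argument: `g` of odd order with `g x g⁻¹ = u x`, `g` commuting with the
2-element `u`, commutes with `x` -/
theorem commute_of_conj_eq_mul {g x u : G} (hodd : Odd (orderOf g)) (hgu : Commute g u) (k : ℕ)
    (hu : u ^ 2 ^ k = 1) (h : g * x * g⁻¹ = u * x) : Commute g x := by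
  have key : ∀ i : ℕ, g ^ i * x * (g ^ i)⁻¹ = u ^ i * x := by
    intro i
    induction i with
    | zero => simp
    | succ i ih =>
      have e1 : g ^ (i + 1) * x * (g ^ (i + 1))⁻¹ = g * (g ^ i * x * (g ^ i)⁻¹) * g⁻¹ := by
        rw [pow_succ']; group
      rw [e1, ih]
      have h2 : g * (u ^ i * x) * g⁻¹ = u ^ i * (g * x * g⁻¹) := by
        have h3 := (hgu.pow_right i).eq
        calc g * (u ^ i * x) * g⁻¹ = (g * u ^ i) * x * g⁻¹ := by group
          _ = (u ^ i * g) * x * g⁻¹ := by rw [h3]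
          _ = u ^ i * (g * x * g⁻¹) := by group
      rw [h2, h, pow_succ, mul_assoc]
  have h1 := key (orderOf g)
  rw [pow_orderOf_eq_one, inv_one, mul_one, one_mul] at h1
  have h2 : u ^ orderOf g = 1 := by
    have h3 : u ^ orderOf g * x = 1 * x := by rw [one_mul]; exact h1.symm
    exact mul_right_cancel h3
  have h3 : orderOf u ∣ orderOf g := orderOf_dvd_of_pow_eq_one h2
  have h4 : orderOf u ∣ 2 ^ k := orderOf_dvd_of_pow_eq_one hu
  have h5 : Nat.Coprime (orderOf g) (2 ^ k) :=
    Nat.Coprime.pow_right k (Nat.coprime_two_right.mpr hodd)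
  have h6 : orderOf u = 1 := Nat.eq_one_of_dvd_coprimes h5 h3 h4
  rw [orderOf_eq_one_iff] at h6
  rw [h6, one_mul] at h
  show g * x = x * g
  calc g * x = g * x * g⁻¹ * g := by group
    _ = x * g := by rw [h]

theorem conj_mem_of_mem_normalizer {H : Subgroup G} {g h : G}
    (hg : g ∈ Subgroup.normalizer (H : Set G)) (hh : h ∈ H) : g * h * g⁻¹ ∈ H :=
  (Subgroup.mem_normalizer_iff.mp hg h).mp hh

theorem conj_inj {g a b : G} (h : g * a * g⁻¹ = g * b * g⁻¹) : a = b :=
  mul_left_cancel (mul_right_cancel h)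

variable [Finite G]

/-- if `3` divides `|N : M|` then `N` has an element of odd order outside `M` -/
theorem exists_odd_not_mem (M N : Subgroup G) (h3 : 3 ∣ M.relIndex N) :
    ∃ g ∈ N, g ∉ M ∧ Odd (orderOf g) := by
  have hp : Fact (Nat.Prime 3) := ⟨Nat.prime_three⟩
  by_contra hcon
  push Not at hcon
  obtain ⟨P⟩ : Nonempty (Sylow 3 N) := inferInstance
  have hle : (P : Subgroup N) ≤ M.subgroupOf N := by
    intro p hp'
    rw [Subgroup.mem_subgroupOf]
    by_contra hpM
    have h1 := hcon (p : G) p.2 hpM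
    apply h1
    obtain ⟨k, hk⟩ := (P.isPGroup' ⟨p, hp'⟩)
    have hk' : p ^ 3 ^ k = 1 := by
      have := congrArg Subtype.val hk
      simpa using this
    have h2 : orderOf (p : G) ∣ 3 ^ k := by
      rw [Subgroup.orderOf_coe]
      exact orderOf_dvd_of_pow_eq_one hk'
    obtain ⟨i, _, hi⟩ := (Nat.dvd_prime_pow Nat.prime_three).mp h2
    rw [hi]
    exact Odd.pow (by decide)
  have h1 : (M.subgroupOf N).index ∣ (P : Subgroup N).index := Subgroup.index_dvd_of_le hle
  exact P.not_dvd_index (dvd_trans h3 h1)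

end generic

section q8

set_option maxRecDepth 100000 in
theorem q8_coset : ∀ u v w : QuaternionGroup 2, u ^ 2 ≠ 1 → (∀ i : Fin 4, v ≠ u ^ (i : ℕ)) →
    (∀ i : Fin 4, w ≠ u ^ (i : ℕ)) → ∃ i : Fin 4, w = u ^ (i : ℕ) * v := by decide

variable {G : Type*} [Group G]

/-- an odd-order element normalizing `Q ≅ Q₈` and normalizing a cyclic subgroup of order 4 of
`Q` centralizes `Q` -/
theorem mem_centralizer_of_conj_mem_zpowers (Q : Subgroup G) (eQ : Q ≃* QuaternionGroup 2) (g : G)
    (hgN : g ∈ Subgroup.normalizer (Q : Set G)) (hodd : Odd (orderOf g)) (u : G) (huQ : u ∈ Q)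
    (hu : u ^ 2 ≠ 1) (hgu : g * u * g⁻¹ = u ∨ g * u * g⁻¹ = u⁻¹) :
    g ∈ Subgroup.centralizer (Q : Set G) := by
  have hcu : Commute g u := by
    rcases hgu with h | h
    · show g * u = u * g
      calc g * u = g * u * g⁻¹ * g := by group
        _ = u * g := by rw [h]
    · apply commute_of_sq_commute hodd
      show g ^ 2 * u = u * g ^ 2
      rw [pow_two]
      have e : g * g * u = g * (g * u * g⁻¹) * g⁻¹ * (g * g) := by group
      rw [e, h]
      have e2 : g * u⁻¹ * g⁻¹ = (g * u * g⁻¹)⁻¹ := by group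
      rw [e2, h, inv_inv]
  have hu4 : u ^ 4 = 1 := by
    have h1 := q8_pow_four (eQ ⟨u, huQ⟩)
    rw [← map_pow, ← map_one eQ] at h1
    have := congrArg Subtype.val (eQ.injective h1)
    simpa using this
  rw [Subgroup.mem_centralizer_iff]
  intro v hv
  symm
  by_cases hvu : ∃ i : Fin 4, v = u ^ (i : ℕ)
  · obtain ⟨i, rfl⟩ := hvu
    exact (hcu.pow_right _).eq
  · push Not at hvu
    have hw : g * v * g⁻¹ ∈ Q := conj_mem_of_mem_normalizer hgN hv
    have hwu : ∀ i : Fin 4, g * v * g⁻¹ ≠ u ^ (i : ℕ) := by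
      intro i h
      apply hvu i
      have h1 := (hcu.pow_right (i : ℕ)).eq
      have : v = g⁻¹ * (g * v * g⁻¹) * g := by group
      rw [this, h]
      calc g⁻¹ * u ^ (i : ℕ) * g = g⁻¹ * (u ^ (i : ℕ) * g) := by group
        _ = g⁻¹ * (g * u ^ (i : ℕ)) := by rw [h1]
        _ = u ^ (i : ℕ) := by group
    have key := q8_coset (eQ ⟨u, huQ⟩) (eQ ⟨v, hv⟩) (eQ ⟨_, hw⟩) (by
        intro h
        rw [← map_pow, ← map_one eQ] at h
        have := congrArg Subtype.val (eQ.injective h)
        apply hu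
        simpa using this) (by
        intro i h
        rw [← map_pow] at h
        have := congrArg Subtype.val (eQ.injective h)
        apply hvu i
        simpa using this) (by
        intro i h
        rw [← map_pow] at h
        have := congrArg Subtype.val (eQ.injective h)
        apply hwu i
        simpa using this)
    obtain ⟨i, hi⟩ := key
    rw [← map_pow, ← map_mul] at hi
    have hi' : g * v * g⁻¹ = u ^ (i : ℕ) * v := by
      have := congrArg Subtype.val (eQ.injective hi)
      simpa using this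
    refine commute_of_conj_eq_mul hodd (hcu.pow_right _) 2 ?_ hi'
    rw [← pow_mul, mul_comm, pow_mul]
    norm_num
    rw [hu4, one_pow]

end q8

section qd

variable {G : Type*} [Group G] (S : Sylow 2 G) (D : QDData (S : Subgroup G))

theorem sr_even_conj (j : ZMod (2 ^ D.n)) :
    ∃ c : (S : Subgroup G), c * D.sr (2 * j) * c⁻¹ = D.y := by
  refine ⟨D.r ((-j) * (1 + qq D.n)), ?_⟩
  rw [D.r_conj_sr_two, ← D.sr_zero]; congr 1; ring

theorem sr_odd_conj (j : ZMod (2 ^ D.n)) :
    ∃ c : (S : Subgroup G), c * D.sr (2 * j + 1) * c⁻¹ = D.sr 1 := by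
  refine ⟨D.r ((-j) * (1 + qq D.n)), ?_⟩
  rw [D.r_conj_sr_two]; congr 1; ring

theorem coe_conj {c s t : (S : Subgroup G)} (h : c * s * c⁻¹ = t) :
    (c : G) * (s : G) * (c : G)⁻¹ = (t : G) := by
  rw [← h]; simp

theorem isKleinFour_subgroupOf (T : Subgroup G) (hT : IsKleinFour T) (hTS : T ≤ S) :
    IsKleinFour (T.subgroupOf S) := by
  apply Cfsg.Agent.Helper18.Wr.isKleinFour_of_card_of_sq
  · rw [Nat.card_congr (Subgroup.subgroupOfEquivOfLe hTS).toEquiv]; exact hT.card_four
  · intro v hv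
    have hvT : (v : G) ∈ T := Subgroup.mem_subgroupOf.mp hv
    have := IsKleinFour.mul_self (⟨(v : G), hvT⟩ : T)
    apply Subtype.ext
    have h3 := congrArg Subtype.val this
    simpa using h3

variable [Finite G]

/-- `|N(T):C(T)|` divisible by 3 fuses the central involution with the non-central ones -/
theorem klein_fusion (T : Subgroup G) (hT : IsKleinFour T) (hTS : T ≤ S) (g : G)
    (hgN : g ∈ Subgroup.normalizer (T : Set G)) (hgC : g ∉ Subgroup.centralizer (T : Set G))
    (hodd : Odd (orderOf g)) :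
    ∃ c : G, c * ((D.z : (S : Subgroup G)) : G) * c⁻¹ = ((D.y : (S : Subgroup G)) : G) := by
  have hT'K := isKleinFour_subgroupOf S T hT hTS
  obtain ⟨j, hj⟩ := D.klein_form (T.subgroupOf S)
  obtain ⟨zG, hzG⟩ : ∃ zG : G, zG = ((D.z : (S : Subgroup G)) : G) := ⟨_, rfl⟩
  obtain ⟨aG, haG⟩ : ∃ aG : G, aG = ((D.sr (2 * j) : (S : Subgroup G)) : G) := ⟨_, rfl⟩
  have hzT : zG ∈ T := by
    have : D.z ∈ T.subgroupOf S := by
      rw [hj]; unfold QDData.z; rw [D.r_mem_sub, pow_one]; exact two_mul_hh D.hn1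
    rw [hzG]; exact Subgroup.mem_subgroupOf.mp this
  have haT : aG ∈ T := by
    have : D.sr (2 * j) ∈ T.subgroupOf S := by rw [hj]; exact D.sr_self_mem_sub
    rw [haG]; exact Subgroup.mem_subgroupOf.mp this
  have hmem : ∀ t ∈ T, t = 1 ∨ t = zG ∨ t = aG ∨ t = zG * aG := by
    intro t ht
    have h1 : (⟨t, hTS ht⟩ : (S : Subgroup G)) ∈ T.subgroupOf S := Subgroup.mem_subgroupOf.mpr ht
    rw [hj] at h1
    rcases h1 with ⟨c, hc, h⟩ | ⟨c, hc, h⟩
    · rw [pow_one, two_mul_eq_zero_iff D.hn1] at hc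
      rcases hc with rfl | rfl
      · left
        have := congrArg Subtype.val h
        rw [D.r_zero] at this
        simpa using this
      · right; left
        have := congrArg Subtype.val h
        rw [hzG]; exact this
    · rw [pow_one, two_mul_eq_zero_iff D.hn1] at hc
      rcases hc with rfl | rfl
      · right; right; left
        have := congrArg Subtype.val h
        rw [add_zero] at this
        rw [haG]; exact this
      · right; right; right
        have := congrArg Subtype.val h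
        rw [← D.z_mul_sr] at this
        rw [hzG, haG]; simpa using this
  have hz1 : zG ≠ 1 := by
    rw [hzG]; intro h
    exact D.z_ne_one (Subtype.ext (by simpa using h))
  have ha1 : aG ≠ 1 := by
    rw [haG]; intro h
    exact D.sr_ne_one _ (Subtype.ext (by simpa using h))
  have haz : aG ≠ zG := by
    rw [haG, hzG]; intro h
    exact D.r_ne_sr _ _ (Subtype.ext h).symm
  have hz2 : zG ^ 2 ^ 1 = 1 := by
    rw [hzG, pow_one, pow_two, ← Subgroup.coe_mul, D.z_mul_z]; rfl
  have hcent : Commute g zG → Commute g aG → g ∈ Subgroup.centralizer (T : Set G) := by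
    intro h1 h2
    rw [Subgroup.mem_centralizer_iff]
    intro t ht
    symm
    rcases hmem t ht with rfl | rfl | rfl | rfl
    · exact (Commute.one_right g).eq
    · exact h1.eq
    · exact h2.eq
    · exact (h1.mul_right h2).eq
  have conj_one : ∀ x : G, g * x * g⁻¹ = 1 → x = 1 := by
    intro x h
    have : x = g⁻¹ * (g * x * g⁻¹) * g := by group
    rw [this, h]; group
  have comm_of : ∀ x : G, g * x * g⁻¹ = x → Commute g x := by
    intro x h
    show g * x = x * g
    calc g * x = g * x * g⁻¹ * g := by group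
      _ = x * g := by rw [h]
  rcases hmem _ (conj_mem_of_mem_normalizer hgN hzT) with h | h | h | h
  · exact absurd (conj_one _ h) hz1
  · exfalso
    have hgz := comm_of _ h
    rcases hmem _ (conj_mem_of_mem_normalizer hgN haT) with h' | h' | h' | h'
    · exact absurd (conj_one _ h') ha1
    · exact haz (conj_inj (h'.trans h.symm))
    · exact hgC (hcent hgz (comm_of _ h'))
    · exact hgC (hcent hgz (commute_of_conj_eq_mul hodd hgz 1 hz2 h'))
  · obtain ⟨c, hc⟩ := sr_even_conj S D j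
    refine ⟨(c : G) * g, ?_⟩
    have := coe_conj S hc
    rw [← this, ← haG, ← h, ← hzG]; group
  · have e : zG * aG = ((D.sr (2 * (j + qq D.n)) : (S : Subgroup G)) : G) := by
      rw [hzG, haG, ← Subgroup.coe_mul, D.z_mul_sr]
      congr 2
      have := two_mul_qq D.hn2
      linear_combination -this
    obtain ⟨c, hc⟩ := sr_even_conj S D (j + qq D.n)
    refine ⟨(c : G) * g, ?_⟩
    have := coe_conj S hc
    rw [← this, ← e, ← h, ← hzG]; group

/-- `|N(Q):QC(Q)|` divisible by 3 fuses the elements of order 4 -/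
theorem quat_fusion (Q : Subgroup G) (hQS : Q ≤ S) (eQ : Q ≃* QuaternionGroup 2) (g : G)
    (hgN : g ∈ Subgroup.normalizer (Q : Set G)) (hgC : g ∉ Subgroup.centralizer (Q : Set G))
    (hodd : Odd (orderOf g)) :
    ∃ c : G, c * ((D.r (qq D.n) : (S : Subgroup G)) : G) * c⁻¹ =
      ((D.sr 1 : (S : Subgroup G)) : G) := by
  have hQ'e : Nonempty (Q.subgroupOf S ≃* QuaternionGroup 2) :=
    ⟨(Subgroup.subgroupOfEquivOfLe hQS).trans eQ⟩
  obtain ⟨j, hj⟩ := D.quat_form (Q.subgroupOf S) hQ'e
  obtain ⟨aG, haG⟩ : ∃ aG : G, aG = ((D.r (qq D.n) : (S : Subgroup G)) : G) := ⟨_, rfl⟩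
  have haQ : aG ∈ Q := by
    have : D.r (qq D.n) ∈ Q.subgroupOf S := by
      rw [hj, D.r_mem_sub]
      have := four_mul_qq D.hn2
      rw [← this]; norm_num
    rw [haG]; exact Subgroup.mem_subgroupOf.mp this
  have hw : g * aG * g⁻¹ ∈ Q := conj_mem_of_mem_normalizer hgN haQ
  have h1 : (⟨g * aG * g⁻¹, hQS hw⟩ : (S : Subgroup G)) ∈ Q.subgroupOf S :=
    Subgroup.mem_subgroupOf.mpr hw
  have hord : orderOf (⟨g * aG * g⁻¹, hQS hw⟩ : (S : Subgroup G)) = 4 := by
    rw [Subgroup.orderOf_mk, orderOf_conj', haG, Subgroup.orderOf_coe]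
    exact (D.order_four_iff _).mpr (Or.inl rfl)
  rw [hj] at h1
  rcases h1 with ⟨c, _, h⟩ | ⟨c, hc, h⟩
  · exfalso
    apply hgC
    have ha2 : aG ^ 2 ≠ 1 := by
      rw [haG]
      intro h2
      have h3 : (D.r (qq D.n)) ^ 2 = 1 := Subtype.ext (by simpa using h2)
      rw [D.r_sq, D.r_eq_one_iff, two_mul_qq D.hn2] at h3
      exact hh_ne_zero D.hn1 h3
    apply mem_centralizer_of_conj_mem_zpowers Q eQ g hgN hodd aG haQ ha2
    rcases (D.order_four_iff _).mp hord with h2 | h2 | ⟨j', h2⟩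
    · left
      have h3 : g * aG * g⁻¹ = ((D.r (qq D.n) : (S : Subgroup G)) : G) := congrArg Subtype.val h2
      rw [h3, haG]
    · right
      rw [D.r_neg] at h2
      have h3 : g * aG * g⁻¹ = (((D.r (qq D.n))⁻¹ : (S : Subgroup G)) : G) :=
        congrArg Subtype.val h2
      rw [h3, haG]; simp
    · rw [h] at h2
      exact absurd h2 (D.r_ne_sr _ _)
  · obtain ⟨c', rfl⟩ := (two_pow_mul_eq_zero_iff D.hn2 c).mp hc
    have e : (2 * j + 1 + 2 ^ (D.n - 2) * c' : ZMod (2 ^ D.n)) = 2 * (j + 2 ^ (D.n - 3) * c') + 1 := by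
      have : D.n - 2 = (D.n - 3) + 1 := by have := D.hn; omega
      rw [this, pow_succ]; ring
    rw [e] at h
    obtain ⟨c₁, hc₁⟩ := sr_odd_conj S D (j + 2 ^ (D.n - 3) * c')
    refine ⟨(c₁ : G) * g, ?_⟩
    have h2 := coe_conj S hc₁
    rw [← h2, ← h, ← haG]
    show _ = (c₁ : G) * (g * aG * g⁻¹) * (c₁ : G)⁻¹
    group

omit [Finite G] in
theorem isConj_coe {s t : (S : Subgroup G)} (c : (S : Subgroup G)) (h : c * s * c⁻¹ = t) :
    IsConj (s : G) (t : G) := by
  rw [isConj_iff]; exact ⟨(c : G), coe_conj S h⟩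

/-- involutions of `G` are conjugate to `z` or to `y` -/
theorem invol_conj (t : G) (ht : orderOf t = 2) :
    IsConj t ((D.z : (S : Subgroup G)) : G) ∨ IsConj t ((D.y : (S : Subgroup G)) : G) := by
  obtain ⟨g, hg⟩ := exists_conj_mem_sylow S t 1 (by rw [ht]; norm_num)
  have hconj : IsConj t (g * t * g⁻¹) := by rw [isConj_iff]; exact ⟨g, rfl⟩
  have hord : orderOf (⟨g * t * g⁻¹, hg⟩ : (S : Subgroup G)) = 2 := by
    rw [Subgroup.orderOf_mk, orderOf_conj', ht]
  rcases (D.invol_iff _).mp hord with h | ⟨j, h⟩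
  · left
    have h3 : g * t * g⁻¹ = ((D.z : (S : Subgroup G)) : G) := congrArg Subtype.val h
    rw [← h3]; exact hconj
  · right
    have h3 : g * t * g⁻¹ = ((D.sr (2 * j) : (S : Subgroup G)) : G) := congrArg Subtype.val h
    obtain ⟨c, hc⟩ := sr_even_conj S D j
    rw [h3] at hconj
    exact hconj.trans (isConj_coe S c hc)

/-- elements of order 4 of `G` are conjugate to `r qq` or to `sr 1` -/
theorem four_conj (t : G) (ht : orderOf t = 4) :
    IsConj t ((D.r (qq D.n) : (S : Subgroup G)) : G) ∨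
      IsConj t ((D.sr 1 : (S : Subgroup G)) : G) := by
  obtain ⟨g, hg⟩ := exists_conj_mem_sylow S t 2 (by rw [ht]; norm_num)
  have hconj : IsConj t (g * t * g⁻¹) := by rw [isConj_iff]; exact ⟨g, rfl⟩
  have hord : orderOf (⟨g * t * g⁻¹, hg⟩ : (S : Subgroup G)) = 4 := by
    rw [Subgroup.orderOf_mk, orderOf_conj', ht]
  rcases (D.order_four_iff _).mp hord with h | h | ⟨j, h⟩
  · left
    have h3 : g * t * g⁻¹ = ((D.r (qq D.n) : (S : Subgroup G)) : G) := congrArg Subtype.val h
    rw [← h3]; exact hconj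
  · left
    have h3 : g * t * g⁻¹ = ((D.r (-qq D.n) : (S : Subgroup G)) : G) := congrArg Subtype.val h
    rw [h3] at hconj
    refine hconj.trans (isConj_coe S D.y ?_)
    rw [D.y_conj_r, D.r_inj]
    unfold QDData.k
    have h1 := qq_mul_hh D.hn
    linear_combination -h1
  · right
    have h3 : g * t * g⁻¹ = ((D.sr (2 * j + 1) : (S : Subgroup G)) : G) := congrArg Subtype.val h
    obtain ⟨c, hc⟩ := sr_odd_conj S D j
    rw [h3] at hconj
    exact hconj.trans (isConj_coe S c hc)

theorem orderOf_z : orderOf ((D.z : (S : Subgroup G)) : G) = 2 := by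
  rw [Subgroup.orderOf_coe]; exact (D.invol_iff _).mpr (Or.inl rfl)

omit [Finite G] in
theorem orderOf_y : orderOf ((D.y : (S : Subgroup G)) : G) = 2 := by
  rw [Subgroup.orderOf_coe]; exact D.hy

theorem orderOf_r_qq : orderOf ((D.r (qq D.n) : (S : Subgroup G)) : G) = 4 := by
  rw [Subgroup.orderOf_coe]; exact (D.order_four_iff _).mpr (Or.inl rfl)

theorem orderOf_sr_one : orderOf ((D.sr 1 : (S : Subgroup G)) : G) = 4 := by
  rw [Subgroup.orderOf_coe]
  exact (D.order_four_iff _).mpr (Or.inr (Or.inr ⟨0, by rw [mul_zero, zero_add]⟩))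

/-- one class of involutions -/
theorem card_invol_classes_eq_one
    (hzy : IsConj ((D.z : (S : Subgroup G)) : G) ((D.y : (S : Subgroup G)) : G)) :
    Nat.card {C : ConjClasses G // ∃ t : G, orderOf t = 2 ∧ ConjClasses.mk t = C} = 1 := by
  have hset : {C : ConjClasses G | ∃ t : G, orderOf t = 2 ∧ ConjClasses.mk t = C} =
      {ConjClasses.mk ((D.z : (S : Subgroup G)) : G)} := by
    ext C
    simp only [Set.mem_ofPred_eq, Set.mem_singleton_iff]
    constructor
    · rintro ⟨t, ht, rfl⟩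
      rw [ConjClasses.mk_eq_mk_iff_isConj]
      rcases invol_conj S D t ht with h | h
      · exact h
      · exact h.trans hzy.symm
    · rintro rfl
      exact ⟨_, orderOf_z S D, rfl⟩
  show Nat.card ↥{C : ConjClasses G | ∃ t : G, orderOf t = 2 ∧ ConjClasses.mk t = C} = 1
  rw [Nat.card_coe_set_eq, hset, Set.ncard_singleton]

/-- two classes of involutions -/
theorem card_invol_classes_eq_two
    (hzy : ¬ IsConj ((D.z : (S : Subgroup G)) : G) ((D.y : (S : Subgroup G)) : G)) :
    Nat.card {C : ConjClasses G // ∃ t : G, orderOf t = 2 ∧ ConjClasses.mk t = C} = 2 := by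
  have hset : {C : ConjClasses G | ∃ t : G, orderOf t = 2 ∧ ConjClasses.mk t = C} =
      {ConjClasses.mk ((D.z : (S : Subgroup G)) : G),
        ConjClasses.mk ((D.y : (S : Subgroup G)) : G)} := by
    ext C
    simp only [Set.mem_ofPred_eq, Set.mem_insert_iff, Set.mem_singleton_iff]
    constructor
    · rintro ⟨t, ht, rfl⟩
      rw [ConjClasses.mk_eq_mk_iff_isConj, ConjClasses.mk_eq_mk_iff_isConj]
      exact invol_conj S D t ht
    · rintro (rfl | rfl)
      · exact ⟨_, orderOf_z S D, rfl⟩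
      · exact ⟨_, orderOf_y S D, rfl⟩
  have hne : ConjClasses.mk ((D.z : (S : Subgroup G)) : G) ≠
      ConjClasses.mk ((D.y : (S : Subgroup G)) : G) := by
    rw [Ne, ConjClasses.mk_eq_mk_iff_isConj]; exact hzy
  show Nat.card ↥{C : ConjClasses G | ∃ t : G, orderOf t = 2 ∧ ConjClasses.mk t = C} = 2
  rw [Nat.card_coe_set_eq, hset, Set.ncard_pair hne]

/-- one class of elements of order 4 -/
theorem card_four_classes_eq_one
    (hqs : IsConj ((D.r (qq D.n) : (S : Subgroup G)) : G) ((D.sr 1 : (S : Subgroup G)) : G)) :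
    Nat.card {C : ConjClasses G // ∃ t : G, orderOf t = 4 ∧ ConjClasses.mk t = C} = 1 := by
  have hset : {C : ConjClasses G | ∃ t : G, orderOf t = 4 ∧ ConjClasses.mk t = C} =
      {ConjClasses.mk ((D.r (qq D.n) : (S : Subgroup G)) : G)} := by
    ext C
    simp only [Set.mem_ofPred_eq, Set.mem_singleton_iff]
    constructor
    · rintro ⟨t, ht, rfl⟩
      rw [ConjClasses.mk_eq_mk_iff_isConj]
      rcases four_conj S D t ht with h | h
      · exact h
      · exact h.trans hqs.symm
    · rintro rfl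
      exact ⟨_, orderOf_r_qq S D, rfl⟩
  show Nat.card ↥{C : ConjClasses G | ∃ t : G, orderOf t = 4 ∧ ConjClasses.mk t = C} = 1
  rw [Nat.card_coe_set_eq, hset, Set.ncard_singleton]

/-- two classes of elements of order 4 -/
theorem card_four_classes_eq_two
    (hqs : ¬ IsConj ((D.r (qq D.n) : (S : Subgroup G)) : G) ((D.sr 1 : (S : Subgroup G)) : G)) :
    Nat.card {C : ConjClasses G // ∃ t : G, orderOf t = 4 ∧ ConjClasses.mk t = C} = 2 := by
  have hset : {C : ConjClasses G | ∃ t : G, orderOf t = 4 ∧ ConjClasses.mk t = C} =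
      {ConjClasses.mk ((D.r (qq D.n) : (S : Subgroup G)) : G),
        ConjClasses.mk ((D.sr 1 : (S : Subgroup G)) : G)} := by
    ext C
    simp only [Set.mem_ofPred_eq, Set.mem_insert_iff, Set.mem_singleton_iff]
    constructor
    · rintro ⟨t, ht, rfl⟩
      rw [ConjClasses.mk_eq_mk_iff_isConj, ConjClasses.mk_eq_mk_iff_isConj]
      exact four_conj S D t ht
    · rintro (rfl | rfl)
      · exact ⟨_, orderOf_r_qq S D, rfl⟩
      · exact ⟨_, orderOf_sr_one S D, rfl⟩
  have hne : ConjClasses.mk ((D.r (qq D.n) : (S : Subgroup G)) : G) ≠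
      ConjClasses.mk ((D.sr 1 : (S : Subgroup G)) : G) := by
    rw [Ne, ConjClasses.mk_eq_mk_iff_isConj]; exact hqs
  show Nat.card ↥{C : ConjClasses G | ∃ t : G, orderOf t = 4 ∧ ConjClasses.mk t = C} = 2
  rw [Nat.card_coe_set_eq, hset, Set.ncard_pair hne]

/-- a subgroup containing `x` and `y` contains `S` -/
theorem le_of_gens_mem (H : Subgroup G) (hx : ((D.r 1 : (S : Subgroup G)) : G) ∈ H)
    (hy : ((D.y : (S : Subgroup G)) : G) ∈ H) : (S : Subgroup G) ≤ H := by
  have hr : ∀ i, ((D.r i : (S : Subgroup G)) : G) ∈ H := by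
    intro i
    have h1 : D.r i = D.r 1 ^ i.val := by
      rw [← D.r_natCast_mul, mul_one, ZMod.natCast_zmod_val]
    rw [h1, Subgroup.coe_pow]
    exact H.pow_mem hx _
  intro s hs
  rcases D.exists_rep ⟨s, hs⟩ with ⟨i, h⟩ | ⟨i, h⟩
  · have h3 : s = ((D.r i : (S : Subgroup G)) : G) := congrArg Subtype.val h
    rw [h3]; exact hr i
  · have h3 : s = ((D.sr i : (S : Subgroup G)) : G) := congrArg Subtype.val h
    rw [h3, D.sr_eq, Subgroup.coe_mul]
    exact H.mul_mem (hr i) hy

theorem sylow_index_odd : Odd (S : Subgroup G).index := by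
  have hp : Fact (Nat.Prime 2) := ⟨Nat.prime_two⟩
  have := S.not_dvd_index
  exact Nat.odd_iff.mpr (Nat.two_dvd_ne_zero.mp this)

/-- no subgroup of index 2 when both fusions take place -/
theorem no_index_two
    (hzy : IsConj ((D.z : (S : Subgroup G)) : G) ((D.y : (S : Subgroup G)) : G))
    (hqs : IsConj ((D.r (qq D.n) : (S : Subgroup G)) : G) ((D.sr 1 : (S : Subgroup G)) : G)) :
    ∀ H : Subgroup G, H.index ≠ 2 := by
  intro H hH
  have hN : H.Normal := Subgroup.normal_of_index_eq_two hH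
  have hzH : ((D.z : (S : Subgroup G)) : G) ∈ H := by
    have h1 := Subgroup.sq_mem_of_index_two hH ((D.sr 1 : (S : Subgroup G)) : G)
    have h2 := D.sr_odd_sq 0
    rw [mul_zero, zero_add] at h2
    rw [← h2, Subgroup.coe_pow]; exact h1
  have hyH : ((D.y : (S : Subgroup G)) : G) ∈ H := by
    obtain ⟨c, hc⟩ := isConj_iff.mp hzy
    rw [← hc]; exact hN.conj_mem _ hzH c
  have hqH : ((D.r (qq D.n) : (S : Subgroup G)) : G) ∈ H := by
    have h1 := Subgroup.sq_mem_of_index_two hH ((D.r (2 ^ (D.n - 3)) : (S : Subgroup G)) : G)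
    have h2 : D.r (2 ^ (D.n - 3)) ^ 2 = D.r (qq D.n) := by
      rw [D.r_sq, D.r_inj]
      unfold qq
      have : D.n - 2 = (D.n - 3) + 1 := by have := D.hn; omega
      rw [this, pow_succ]; ring
    rw [← h2, Subgroup.coe_pow]; exact h1
  have hsH : ((D.sr 1 : (S : Subgroup G)) : G) ∈ H := by
    obtain ⟨c, hc⟩ := isConj_iff.mp hqs
    rw [← hc]; exact hN.conj_mem _ hqH c
  have hxH : ((D.r 1 : (S : Subgroup G)) : G) ∈ H := by
    have h1 : D.r 1 = D.sr 1 * D.y⁻¹ := by rw [D.sr_eq, mul_inv_cancel_right]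
    rw [h1, Subgroup.coe_mul, Subgroup.coe_inv]
    exact H.mul_mem hsH (H.inv_mem hyH)
  have hle := le_of_gens_mem S D H hxH hyH
  have hdvd : H.index ∣ (S : Subgroup G).index := Subgroup.index_dvd_of_le hle
  rw [hH] at hdvd
  have hodd := sylow_index_odd S
  rw [Nat.odd_iff] at hodd
  omega

end qd

end Cfsg.Agent.Helper16.QDFusion
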