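import Mathlib
import Cfsg.Agent.Helper16.QDFusion
import Cfsg.Agent.Helper10.SylowSub

/-!
Non-fusion in groups with quasi-dihedral Sylow 2-subgroups: consequences of
`|N(T):C(T)| = 2` (Klein four-subgroups) and `|N(Q):QC(Q)| = 2` (quaternion subgroups).
-/

set_option autoImplicit false

namespace Cfsg.Agent.Helper16.QDFusion

open Cfsg.Agent.Helper18.QD

section generic

variable {G : Type*} [Group G]

theorem mul_mem_iff_of_relIndex_two {H N : Subgroup G} (h : H.relIndex N = 2) {a b : G}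
    (ha : a ∈ N) (hb : b ∈ N) : a * b ∈ H ↔ (a ∈ H ↔ b ∈ H) := by
  have := Subgroup.mul_mem_iff_of_index_two (H := H.subgroupOf N) h (a := ⟨a, ha⟩) (b := ⟨b, hb⟩)
  simpa [Subgroup.mem_subgroupOf] using this

theorem mem_normalizer_of_conj_mem [Finite G] (H : Subgroup G) (g : G)
    (h : ∀ x ∈ H, g * x * g⁻¹ ∈ H) : g ∈ Subgroup.normalizer (H : Set G) := by
  apply Cfsg.Agent.Helper10.mem_normalizer_of_map_conj_eq
  apply Subgroup.eq_of_le_of_card_ge
  · rintro _ ⟨x, hx, rfl⟩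
    exact h x hx
  · rw [Subgroup.card_map_of_injective (MulAut.conj g).injective]

theorem map_conj_mul (H : Subgroup G) (a b : G) :
    H.map (MulAut.conj (a * b)).toMonoidHom =
      (H.map (MulAut.conj b).toMonoidHom).map (MulAut.conj a).toMonoidHom := by
  rw [Subgroup.map_map]
  congr 1
  ext x
  simp [MulAut.conj_apply, mul_assoc]

theorem map_conj_zpowers (g x : G) :
    (Subgroup.zpowers x).map (MulAut.conj g).toMonoidHom = Subgroup.zpowers (g * x * g⁻¹) := by
  rw [MonoidHom.map_zpowers]; rfl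

variable [Finite G]

/-- "fully centralized" lemma: if `a` is conjugate to an element `z` centralized by the Sylow
subgroup `S`, the conjugating element can be chosen to carry a given subgroup of `C_S(a)`
into `S` -/
theorem exists_conj_centralizer {p : ℕ} [Fact p.Prime] (S : Sylow p G) (z a g : G)
    (hzc : ∀ s ∈ (S : Subgroup G), s * z = z * s)
    (hg : g * a * g⁻¹ = z) (U : Subgroup G) (hUS : U ≤ S) (hUa : ∀ u ∈ U, u * a = a * u) :
    ∃ n : G, n * a * n⁻¹ = z ∧ ∀ u ∈ U, n * u * n⁻¹ ∈ (S : Subgroup G) := by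
  have hSC : (S : Subgroup G) ≤ Subgroup.centralizer {z} := by
    intro s hs
    rw [Subgroup.mem_centralizer_singleton_iff]
    exact hzc s hs
  have hR : IsPGroup p (U.map (MulAut.conj g).toMonoidHom) :=
    (S.isPGroup'.to_le hUS).map _
  have hRC : U.map (MulAut.conj g).toMonoidHom ≤ Subgroup.centralizer {z} := by
    rintro _ ⟨u, hu, rfl⟩
    rw [Subgroup.mem_centralizer_singleton_iff]
    show g * u * g⁻¹ * z = z * (g * u * g⁻¹)
    rw [← hg]
    have := hUa u hu
    calc g * u * g⁻¹ * (g * a * g⁻¹) = g * (u * a) * g⁻¹ := by group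
      _ = g * (a * u) * g⁻¹ := by rw [this]
      _ = g * a * g⁻¹ * (g * u * g⁻¹) := by group
  obtain ⟨c, hcC, hc⟩ := Cfsg.Agent.Helper10.exists_conj_le_sylow_of_le S _ _ hSC hR hRC
  refine ⟨c * g, ?_, ?_⟩
  · rw [Subgroup.mem_centralizer_singleton_iff] at hcC
    calc c * g * a * (c * g)⁻¹ = c * (g * a * g⁻¹) * c⁻¹ := by group
      _ = c * z * c⁻¹ := by rw [hg]
      _ = z := by rw [hcC]; group
  · intro u hu
    have := hc _ ⟨u, hu, rfl⟩
    have e : c * g * u * (c * g)⁻¹ = c * (g * u * g⁻¹) * c⁻¹ := by group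
    rw [e]; exact this

/-- "fully normalized" lemma -/
theorem exists_conj_normalizer {p : ℕ} [Fact p.Prime] (S : Sylow p G) (A X : Subgroup G)
    (hA : (S : Subgroup G) ≤ Subgroup.normalizer (A : Set G)) (g : G)
    (hg : X.map (MulAut.conj g).toMonoidHom = A) (U : Subgroup G) (hUS : U ≤ S)
    (hUX : U ≤ Subgroup.normalizer (X : Set G)) :
    ∃ n : G, X.map (MulAut.conj n).toMonoidHom = A ∧
      ∀ u ∈ U, n * u * n⁻¹ ∈ (S : Subgroup G) := by
  have hR : IsPGroup p (U.map (MulAut.conj g).toMonoidHom) :=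
    (S.isPGroup'.to_le hUS).map _
  have hRC : U.map (MulAut.conj g).toMonoidHom ≤ Subgroup.normalizer (A : Set G) := by
    rintro _ ⟨u, hu, rfl⟩
    apply Cfsg.Agent.Helper10.mem_normalizer_of_map_conj_eq
    show A.map (MulAut.conj (g * u * g⁻¹)).toMonoidHom = A
    have h1 := Cfsg.Agent.Helper10.map_conj_eq_of_mem_normalizer (hUX hu)
    have e : g * u * g⁻¹ * g = g * u := by group
    calc A.map (MulAut.conj (g * u * g⁻¹)).toMonoidHom
        = (X.map (MulAut.conj g).toMonoidHom).map (MulAut.conj (g * u * g⁻¹)).toMonoidHom := by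
          rw [hg]
      _ = X.map (MulAut.conj (g * u * g⁻¹ * g)).toMonoidHom := (map_conj_mul X _ _).symm
      _ = X.map (MulAut.conj (g * u)).toMonoidHom := by rw [e]
      _ = (X.map (MulAut.conj u).toMonoidHom).map (MulAut.conj g).toMonoidHom :=
          map_conj_mul X g u
      _ = A := by rw [h1, hg]
  obtain ⟨c, hcC, hc⟩ := Cfsg.Agent.Helper10.exists_conj_le_sylow_of_le S _ _ hA hR hRC
  refine ⟨c * g, ?_, ?_⟩
  · rw [map_conj_mul, hg]
    exact Cfsg.Agent.Helper10.map_conj_eq_of_mem_normalizer hcC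
  · intro u hu
    have := hc _ ⟨u, hu, rfl⟩
    have e : c * g * u * (c * g)⁻¹ = c * (g * u * g⁻¹) * c⁻¹ := by group
    rw [e]; exact this

end generic

section qd

variable {G : Type*} [Group G] [Finite G] (S : Sylow 2 G) (D : QDData (S : Subgroup G))

/-- coordinates of a Klein four-subgroup of `S` -/
theorem klein_struct (T : Subgroup G) (hT : IsKleinFour T) (hTS : T ≤ S) :
    ∃ j : ZMod (2 ^ D.n), T.subgroupOf S = D.sub 1 le_rfl (2 * j) ∧
      ((D.z : (S : Subgroup G)) : G) ∈ T ∧ ((D.sr (2 * j) : (S : Subgroup G)) : G) ∈ T ∧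
      ∀ t ∈ T, t = 1 ∨ t = ((D.z : (S : Subgroup G)) : G) ∨
        t = ((D.sr (2 * j) : (S : Subgroup G)) : G) ∨
        t = ((D.z : (S : Subgroup G)) : G) * ((D.sr (2 * j) : (S : Subgroup G)) : G) := by
  have hT'K := isKleinFour_subgroupOf S T hT hTS
  obtain ⟨j, hj⟩ := D.klein_form (T.subgroupOf S)
  refine ⟨j, hj, ?_, ?_, ?_⟩
  · have : D.z ∈ T.subgroupOf S := by
      rw [hj]; unfold QDData.z; rw [D.r_mem_sub, pow_one]; exact two_mul_hh D.hn1
    exact Subgroup.mem_subgroupOf.mp this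
  · have : D.sr (2 * j) ∈ T.subgroupOf S := by rw [hj]; exact D.sr_self_mem_sub
    exact Subgroup.mem_subgroupOf.mp this
  · intro t ht
    have h1 : (⟨t, hTS ht⟩ : (S : Subgroup G)) ∈ T.subgroupOf S := Subgroup.mem_subgroupOf.mpr ht
    rw [hj] at h1
    rcases h1 with ⟨c, hc, h⟩ | ⟨c, hc, h⟩
    · rw [pow_one, two_mul_eq_zero_iff D.hn1] at hc
      rcases hc with rfl | rfl
      · left
        have := congrArg Subtype.val h
        rw [D.r_zero] at this
        simpa using this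
      · right; left
        exact congrArg Subtype.val h
    · rw [pow_one, two_mul_eq_zero_iff D.hn1] at hc
      rcases hc with rfl | rfl
      · right; right; left
        have := congrArg Subtype.val h
        rw [add_zero] at this
        exact this
      · right; right; right
        have := congrArg Subtype.val h
        rw [← D.z_mul_sr] at this
        simpa using this

theorem z_comm (s : G) (hs : s ∈ (S : Subgroup G)) :
    s * ((D.z : (S : Subgroup G)) : G) = ((D.z : (S : Subgroup G)) : G) * s := by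
  have := D.z_central ⟨s, hs⟩
  have h2 := congrArg Subtype.val this
  simpa using h2.symm

/-- `|N(T):C(T)| = 2` prevents the fusion of `z` and `y` -/
theorem klein_not_fused (T : Subgroup G) (hT : IsKleinFour T) (hTS : T ≤ S)
    (h₁ : (Subgroup.centralizer (T : Set G)).relIndex (Subgroup.normalizer (T : Set G)) = 2) :
    ¬ IsConj ((D.z : (S : Subgroup G)) : G) ((D.y : (S : Subgroup G)) : G) := by
  intro hzy
  have hp : Fact (Nat.Prime 2) := ⟨Nat.prime_two⟩
  have hT'K := isKleinFour_subgroupOf S T hT hTS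
  obtain ⟨j, hj, hzT, haT, hmem⟩ := klein_struct S D T hT hTS
  obtain ⟨zG, hzG⟩ : ∃ zG : G, zG = ((D.z : (S : Subgroup G)) : G) := ⟨_, rfl⟩
  obtain ⟨aG, haG⟩ : ∃ aG : G, aG = ((D.sr (2 * j) : (S : Subgroup G)) : G) := ⟨_, rfl⟩
  rw [← hzG] at hzT hmem
  rw [← haG] at haT hmem
  have hz1 : zG ≠ 1 := by
    rw [hzG]; intro h
    exact D.z_ne_one (Subtype.ext (by simpa using h))
  have ha1 : aG ≠ 1 := by
    rw [haG]; intro h
    exact D.sr_ne_one _ (Subtype.ext (by simpa using h))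
  have haz : aG ≠ zG := by
    rw [haG, hzG]; intro h
    exact D.r_ne_sr _ _ (Subtype.ext h).symm
  have hzc : ∀ s ∈ (S : Subgroup G), s * zG = zG * s := by
    intro s hs; rw [hzG]; exact z_comm S D s hs
  have hcomm : ∀ a ∈ T, ∀ b ∈ T, a * b = b * a := by
    intro a ha b hb
    have h1 := IsKleinFour.isMulCommutative (G := T)
    have := h1.is_comm.comm (⟨a, ha⟩ : T) ⟨b, hb⟩
    exact congrArg Subtype.val this
  -- `a` is conjugate to `z`
  have haz' : IsConj aG zG := by
    obtain ⟨c, hc⟩ := sr_even_conj S D j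
    rw [haG, hzG]
    exact (isConj_coe S c hc).trans hzy.symm
  obtain ⟨g, hg⟩ := isConj_iff.mp haz'
  obtain ⟨n, hn1, hn2⟩ := exists_conj_centralizer S zG aG g hzc hg T hTS
    (fun u hu => hcomm u hu aG haT)
  -- the image of `T` under `n`
  have hT1S : T.map (MulAut.conj n).toMonoidHom ≤ (S : Subgroup G) := by
    rintro _ ⟨t, ht, rfl⟩
    exact hn2 t ht
  have hT1K : IsKleinFour (T.map (MulAut.conj n).toMonoidHom) := by
    apply Cfsg.Agent.Helper18.Wr.isKleinFour_of_card_of_sq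
    · rw [Subgroup.card_map_of_injective (MulAut.conj n).injective]; exact hT.card_four
    · rintro _ ⟨t, ht, rfl⟩
      have h1 := IsKleinFour.mul_self (⟨t, ht⟩ : T)
      have h2 : t * t = 1 := congrArg Subtype.val h1
      show n * t * n⁻¹ * (n * t * n⁻¹) = 1
      have : n * t * n⁻¹ * (n * t * n⁻¹) = n * (t * t) * n⁻¹ := by group
      rw [this, h2]; group
  have hT1K' := isKleinFour_subgroupOf S _ hT1K hT1S
  obtain ⟨s, hs⟩ := D.klein_main.1 _ _ hT1K' hT'K
  obtain ⟨m, hm⟩ : ∃ m : G, m = (s : G) * n := ⟨_, rfl⟩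
  have hmT : ∀ t ∈ T, m * t * m⁻¹ ∈ T := by
    intro t ht
    have h1 : (⟨n * t * n⁻¹, hn2 t ht⟩ : (S : Subgroup G)) ∈
        (T.map (MulAut.conj n).toMonoidHom).subgroupOf S := by
      rw [Subgroup.mem_subgroupOf]; exact ⟨t, ht, rfl⟩
    have h2 : (MulAut.conj s).toMonoidHom ⟨n * t * n⁻¹, hn2 t ht⟩ ∈ T.subgroupOf S := by
      rw [← hs]; exact Subgroup.mem_map_of_mem _ h1
    have h3 := Subgroup.mem_subgroupOf.mp h2
    have e : m * t * m⁻¹ = (s : G) * (n * t * n⁻¹) * (s : G)⁻¹ := by rw [hm]; group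
    rw [e]
    simpa using h3
  have hmN : m ∈ Subgroup.normalizer (T : Set G) := mem_normalizer_of_conj_mem T m hmT
  have hma : m * aG * m⁻¹ = zG := by
    have e : m * aG * m⁻¹ = (s : G) * (n * aG * n⁻¹) * (s : G)⁻¹ := by rw [hm]; group
    rw [e, hn1, hzc _ s.2]; group
  -- the element `s₀ = r qq`
  obtain ⟨s₀, hs₀⟩ : ∃ s₀ : G, s₀ = ((D.r (qq D.n) : (S : Subgroup G)) : G) := ⟨_, rfl⟩
  have hs₀S : s₀ ∈ (S : Subgroup G) := by rw [hs₀]; exact (D.r (qq D.n)).2
  have hs₀z : s₀ * zG * s₀⁻¹ = zG := by rw [hzc _ hs₀S]; group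
  have hs₀a : s₀ * aG * s₀⁻¹ = zG * aG := by
    have h1 : D.r (qq D.n) * D.sr (2 * j) * (D.r (qq D.n))⁻¹ = D.z * D.sr (2 * j) := by
      rw [D.r_conj_sr, D.z_mul_sr]
      congr 1
      have h2 := two_mul_qq D.hn2
      have h3 := qq_mul_hh D.hn
      linear_combination h2 - h3
    have := congrArg Subtype.val h1
    rw [hs₀, haG, hzG]
    simpa using this
  have hz2 : zG * zG = 1 := by
    rw [hzG, ← Subgroup.coe_mul, D.z_mul_z]; rfl
  have hs₀N : s₀ ∈ Subgroup.normalizer (T : Set G) := by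
    apply mem_normalizer_of_conj_mem
    intro t ht
    rcases hmem t ht with rfl | rfl | rfl | rfl
    · have : s₀ * 1 * s₀⁻¹ = 1 := by group
      rw [this]; exact T.one_mem
    · rw [hs₀z]; exact hzT
    · rw [hs₀a]; exact T.mul_mem hzT haT
    · have : s₀ * (zG * aG) * s₀⁻¹ = (s₀ * zG * s₀⁻¹) * (s₀ * aG * s₀⁻¹) := by group
      rw [this, hs₀z, hs₀a, ← mul_assoc, hz2, one_mul]; exact haT
  have hs₀C : s₀ ∉ Subgroup.centralizer (T : Set G) := by
    intro h
    rw [Subgroup.mem_centralizer_iff] at h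
    have h1 := h aG haT
    have h2 : s₀ * aG * s₀⁻¹ = aG := by rw [← h1]; group
    rw [hs₀a] at h2
    exact hz1 (mul_right_cancel (h2.trans (one_mul aG).symm))
  by_cases hmC : m ∈ Subgroup.centralizer (T : Set G)
  · rw [Subgroup.mem_centralizer_iff] at hmC
    have h1 := hmC aG haT
    have h2 : m * aG * m⁻¹ = aG := by rw [← h1]; group
    rw [hma] at h2
    exact haz h2.symm
  · have h1 := (mul_mem_iff_of_relIndex_two h₁ (Subgroup.inv_mem _ hs₀N) hmN).mpr
      ⟨fun h => absurd ((Subgroup.inv_mem_iff _).mp h) hs₀C, fun h => absurd h hmC⟩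
    rw [Subgroup.mem_centralizer_iff] at h1
    have h2 := h1 aG haT
    have h3 : m * aG * m⁻¹ = s₀ * aG * s₀⁻¹ := by
      have e : m * aG * m⁻¹ = s₀ * ((s₀⁻¹ * m) * aG) * m⁻¹ := by group
      rw [e, ← h2]; group
    rw [hma, hs₀a] at h3
    exact ha1 (mul_left_cancel ((mul_one zG).trans h3)).symm

set_option maxRecDepth 100000 in
theorem q8_conj : ∀ q u : QuaternionGroup 2, q * u * q⁻¹ = u ∨ q * u * q⁻¹ = u⁻¹ := by decide

omit [Finite G] in
/-- `r (2^(n-3))` normalizes the quaternion subgroups -/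
theorem r_e_mem_normalizer (i0 : ZMod (2 ^ D.n)) :
    D.r (2 ^ (D.n - 3)) ∈
      Subgroup.normalizer ((D.sub 2 (by norm_num) i0 : Subgroup (S : Subgroup G)) : Set _) := by
  have he : (2 : ZMod (2 ^ D.n)) ^ 2 * 2 ^ (D.n - 2 - 1) = hh D.n :=
    two_pow_mul_two_pow_sub (n := D.n) (by have := D.hn; omega)
  have he' : D.n - 2 - 1 = D.n - 3 := by omega
  rw [he'] at he
  have hhh := hh_mul_hh D.hn2
  have h2h := two_mul_hh D.hn1
  rw [Subgroup.mem_normalizer_iff]
  intro u
  constructor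
  · rintro (⟨c, hc, rfl⟩ | ⟨c, hc, rfl⟩)
    · rw [D.r_conj_r]; exact Or.inl ⟨c, hc, rfl⟩
    · rw [D.r_conj_sr, D.sr_mem_sub]
      linear_combination hc + (2 - hh D.n) * he + h2h - hhh
  · intro h
    have h1 : u = (D.r (2 ^ (D.n - 3)))⁻¹ * (D.r (2 ^ (D.n - 3)) * u * (D.r (2 ^ (D.n - 3)))⁻¹) *
        D.r (2 ^ (D.n - 3)) := by group
    rw [h1]
    rcases h with ⟨c, hc, h⟩ | ⟨c, hc, h⟩
    · rw [h, D.r_inv, ← D.r_add, ← D.r_add, D.r_mem_sub]
      linear_combination hc
    · rw [h, D.r_inv, D.r_mul_sr, D.sr_mul_r, D.sr_mem_sub]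
      unfold QDData.k
      linear_combination hc + (hh D.n - 2) * he - h2h + hhh

/-- `|N(Q):QC(Q)| = 2` prevents the fusion of `r qq` and `sr 1` -/
theorem quat_not_fused (Q : Subgroup G) (hQS : Q ≤ S) (eQ : Q ≃* QuaternionGroup 2)
    (h₂ : (Q ⊔ Subgroup.centralizer (Q : Set G)).relIndex (Subgroup.normalizer (Q : Set G)) = 2) :
    ¬ IsConj ((D.r (qq D.n) : (S : Subgroup G)) : G) ((D.sr 1 : (S : Subgroup G)) : G) := by
  intro hqs
  have hp : Fact (Nat.Prime 2) := ⟨Nat.prime_two⟩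
  have hQ'e : Nonempty (Q.subgroupOf S ≃* QuaternionGroup 2) :=
    ⟨(Subgroup.subgroupOfEquivOfLe hQS).trans eQ⟩
  obtain ⟨j, hj⟩ := D.quat_form (Q.subgroupOf S) hQ'e
  obtain ⟨aG, haG⟩ : ∃ aG : G, aG = ((D.r (qq D.n) : (S : Subgroup G)) : G) := ⟨_, rfl⟩
  obtain ⟨xG, hxG⟩ : ∃ xG : G, xG = ((D.sr (2 * j + 1) : (S : Subgroup G)) : G) := ⟨_, rfl⟩
  have hxQ : xG ∈ Q := by
    have : D.sr (2 * j + 1) ∈ Q.subgroupOf S := by rw [hj]; exact D.sr_self_mem_sub
    rw [hxG]; exact Subgroup.mem_subgroupOf.mp this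
  -- `S` normalizes `A = ⟨a⟩`
  have hSA : (S : Subgroup G) ≤ Subgroup.normalizer ((Subgroup.zpowers aG : Subgroup G) : Set G) := by
    intro s hs
    apply Cfsg.Agent.Helper10.mem_normalizer_of_map_conj_eq
    rw [map_conj_zpowers]
    rcases D.conj_r ⟨s, hs⟩ (qq D.n) with h | h
    · have h3 : s * aG * s⁻¹ = aG := by
        have := congrArg Subtype.val h
        rw [haG]; simpa using this
      rw [h3]
    · have h3 : s * aG * s⁻¹ = aG⁻¹ := by
        have e : D.k * qq D.n = - qq D.n := by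
          unfold QDData.k
          have := qq_mul_hh D.hn
          linear_combination this
        rw [e, D.r_neg] at h
        have := congrArg Subtype.val h
        rw [haG]; simpa using this
      rw [h3, Subgroup.zpowers_inv]
  -- `Q` normalizes `X = ⟨x⟩`
  have hQX : Q ≤ Subgroup.normalizer ((Subgroup.zpowers xG : Subgroup G) : Set G) := by
    intro q hq
    apply Cfsg.Agent.Helper10.mem_normalizer_of_map_conj_eq
    rw [map_conj_zpowers]
    rcases q8_conj (eQ ⟨q, hq⟩) (eQ ⟨xG, hxQ⟩) with h | h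
    · rw [← map_inv, ← map_mul, ← map_mul] at h
      have h3 : q * xG * q⁻¹ = xG := by
        have := congrArg Subtype.val (eQ.injective h)
        simpa using this
      rw [h3]
    · rw [← map_inv, ← map_inv, ← map_mul, ← map_mul] at h
      have h3 : q * xG * q⁻¹ = xG⁻¹ := by
        have := congrArg Subtype.val (eQ.injective h)
        simpa using this
      rw [h3, Subgroup.zpowers_inv]
  have hCX : Subgroup.centralizer (Q : Set G) ≤
      Subgroup.normalizer ((Subgroup.zpowers xG : Subgroup G) : Set G) := by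
    intro c hc
    apply Cfsg.Agent.Helper10.mem_normalizer_of_map_conj_eq
    rw [map_conj_zpowers]
    rw [Subgroup.mem_centralizer_iff] at hc
    have h1 := hc xG hxQ
    have h3 : c * xG * c⁻¹ = xG := by rw [← h1]; group
    rw [h3]
  have hMX : Q ⊔ Subgroup.centralizer (Q : Set G) ≤
      Subgroup.normalizer ((Subgroup.zpowers xG : Subgroup G) : Set G) := sup_le hQX hCX
  -- membership in `X`
  have hXmem : ∀ t : (S : Subgroup G),
      (t : G) ∈ Subgroup.zpowers ((D.sr (2 * j + 1) : (S : Subgroup G)) : G) →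
      t ∈ D.sub 1 le_rfl (2 * j + 1) := by
    intro t ht
    obtain ⟨k, hk⟩ := Subgroup.mem_zpowers_iff.mp ht
    have h1 : D.sr (2 * j + 1) ^ k = t := by
      apply Subtype.ext
      rw [Subgroup.coe_zpow]; exact hk
    rw [← h1]
    exact Subgroup.zpow_mem _ D.sr_self_mem_sub k
  have haX : aG ∉ Subgroup.zpowers xG := by
    intro h
    rw [haG, hxG] at h
    have h1 := hXmem _ h
    rw [D.r_mem_sub, pow_one, two_mul_qq D.hn2] at h1
    exact hh_ne_zero D.hn1 h1
  have hAX : Subgroup.zpowers aG ≠ Subgroup.zpowers xG := by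
    intro h
    apply haX
    rw [← h]; exact Subgroup.mem_zpowers aG
  -- `x` is conjugate to `a`
  have hxa : IsConj xG aG := by
    obtain ⟨c, hc⟩ := sr_odd_conj S D j
    rw [haG, hxG]
    exact (isConj_coe S c hc).trans hqs.symm
  obtain ⟨g, hg⟩ := isConj_iff.mp hxa
  have hg' : (Subgroup.zpowers xG).map (MulAut.conj g).toMonoidHom = Subgroup.zpowers aG := by
    rw [map_conj_zpowers, hg]
  obtain ⟨n, hn1, hn2⟩ := exists_conj_normalizer S _ _ hSA g hg' Q hQS hQX
  have hQ1S : Q.map (MulAut.conj n).toMonoidHom ≤ (S : Subgroup G) := by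
    rintro _ ⟨t, ht, rfl⟩
    exact hn2 t ht
  have e₁ : (Q.map (MulAut.conj n).toMonoidHom).subgroupOf S ≃* QuaternionGroup 2 :=
    (Subgroup.subgroupOfEquivOfLe hQ1S).trans
      ((Q.equivMapOfInjective _ (MulAut.conj n).injective).symm.trans eQ)
  obtain ⟨s, hs⟩ := D.quat_main.1 _ _ ⟨e₁⟩ hQ'e
  obtain ⟨m, hm⟩ : ∃ m : G, m = (s : G) * n := ⟨_, rfl⟩
  have hmQ : ∀ t ∈ Q, m * t * m⁻¹ ∈ Q := by
    intro t ht
    have h1 : (⟨n * t * n⁻¹, hn2 t ht⟩ : (S : Subgroup G)) ∈
        (Q.map (MulAut.conj n).toMonoidHom).subgroupOf S := by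
      rw [Subgroup.mem_subgroupOf]; exact ⟨t, ht, rfl⟩
    have h2 : (MulAut.conj s).toMonoidHom ⟨n * t * n⁻¹, hn2 t ht⟩ ∈ Q.subgroupOf S := by
      rw [← hs]; exact Subgroup.mem_map_of_mem _ h1
    have h3 := Subgroup.mem_subgroupOf.mp h2
    have e : m * t * m⁻¹ = (s : G) * (n * t * n⁻¹) * (s : G)⁻¹ := by rw [hm]; group
    rw [e]
    simpa using h3
  have hmN : m ∈ Subgroup.normalizer (Q : Set G) := mem_normalizer_of_conj_mem Q m hmQ
  have hmX : (Subgroup.zpowers xG).map (MulAut.conj m).toMonoidHom = Subgroup.zpowers aG := by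
    rw [hm, map_conj_mul, hn1]
    exact Cfsg.Agent.Helper10.map_conj_eq_of_mem_normalizer (hSA s.2)
  -- the element `s₀ = r (2^(n-3))`
  obtain ⟨s₀, hs₀⟩ : ∃ s₀ : G, s₀ = ((D.r (2 ^ (D.n - 3)) : (S : Subgroup G)) : G) := ⟨_, rfl⟩
  have hs₀S : s₀ ∈ (S : Subgroup G) := by rw [hs₀]; exact (D.r _).2
  have hs₀N : s₀ ∈ Subgroup.normalizer (Q : Set G) := by
    apply mem_normalizer_of_conj_mem
    intro t ht
    have h1 : (⟨t, hQS ht⟩ : (S : Subgroup G)) ∈ Q.subgroupOf S := Subgroup.mem_subgroupOf.mpr ht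
    have h2 := (Subgroup.mem_normalizer_iff.mp (r_e_mem_normalizer S D (2 * j + 1)) _).mp
      (hj ▸ h1)
    rw [← hj] at h2
    have h3 := Subgroup.mem_subgroupOf.mp h2
    rw [hs₀]
    simpa using h3
  have hs₀X : s₀ ∉ Subgroup.normalizer ((Subgroup.zpowers xG : Subgroup G) : Set G) := by
    intro h
    have h1 := conj_mem_of_mem_normalizer h (Subgroup.mem_zpowers xG)
    have h2 : ((D.r (2 ^ (D.n - 3)) * D.sr (2 * j + 1) * (D.r (2 ^ (D.n - 3)))⁻¹ :
        (S : Subgroup G)) : G) ∈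
        Subgroup.zpowers ((D.sr (2 * j + 1) : (S : Subgroup G)) : G) := by
      rw [hs₀, hxG] at h1
      simpa using h1
    have h3 := hXmem _ h2
    rw [D.r_conj_sr, D.sr_mem_sub, pow_one] at h3
    have he : (2 : ZMod (2 ^ D.n)) ^ 2 * 2 ^ (D.n - 2 - 1) = hh D.n :=
      two_pow_mul_two_pow_sub (n := D.n) (by have := D.hn; omega)
    have he' : D.n - 2 - 1 = D.n - 3 := by omega
    rw [he'] at he
    have h2h := two_mul_hh D.hn1
    have : hh D.n = 0 := by
      linear_combination h3 - he + (2 : ZMod (2 ^ D.n)) ^ (D.n - 3) * h2h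
    exact hh_ne_zero D.hn1 this
  have hs₀M : s₀ ∉ Q ⊔ Subgroup.centralizer (Q : Set G) := fun h => hs₀X (hMX h)
  by_cases hmM : m ∈ Q ⊔ Subgroup.centralizer (Q : Set G)
  · have h1 := Cfsg.Agent.Helper10.map_conj_eq_of_mem_normalizer (hMX hmM)
    rw [hmX] at h1
    exact hAX h1
  · have h1 := (mul_mem_iff_of_relIndex_two h₂ (Subgroup.inv_mem _ hs₀N) hmN).mpr
      ⟨fun h => absurd ((Subgroup.inv_mem_iff _).mp h) hs₀M, fun h => absurd h hmM⟩
    have h2 := Cfsg.Agent.Helper10.map_conj_eq_of_mem_normalizer (hMX h1)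
    have h3 : (Subgroup.zpowers xG).map (MulAut.conj s₀).toMonoidHom = Subgroup.zpowers aG := by
      rw [← hmX]
      have e : m = s₀ * (s₀⁻¹ * m) := by group
      conv_rhs => rw [e, map_conj_mul, h2]
    have h4 := Cfsg.Agent.Helper10.map_conj_eq_of_mem_normalizer
      (hSA ((S : Subgroup G).inv_mem hs₀S))
    rw [← h3, ← map_conj_mul, inv_mul_cancel] at h4
    have h5 : (Subgroup.zpowers xG).map (MulAut.conj (1 : G)).toMonoidHom = Subgroup.zpowers xG := by
      rw [map_conj_zpowers]; simp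
    rw [h5] at h4
    exact hAX (h4.trans h3).symm

end qd

end Cfsg.Agent.Helper16.QDFusion
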