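import Mathlib
import Cfsg.Agent.Helper16.QDFusion2
import Cfsg.Agent.Helper16.ThompsonTransfer3

/-!
Groups with quasi-dihedral Sylow 2-subgroups: the normal subgroups of index 2 obtained by transfer.
-/

set_option autoImplicit false

namespace Cfsg.Agent.Helper16.QDFusion

open Cfsg.Agent.Helper18.QD

section generic

variable {G : Type*} [Group G]

theorem ker_index_two (f : G →* ℤˣ) (x : G) (hx : f x = -1) : f.ker.index = 2 := by
  rw [Subgroup.index_eq_two_iff]
  refine ⟨x, fun b => ?_⟩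
  rw [MonoidHom.mem_ker, MonoidHom.mem_ker, map_mul, hx]
  rcases Int.units_eq_one_or (f b) with h | h
  · rw [h]; simp
  · rw [h]; simp

theorem hom_conj (f : G →* ℤˣ) {a b : G} (h : IsConj a b) : f a = f b := by
  obtain ⟨c, hc⟩ := isConj_iff.mp h
  rw [← hc, map_mul, map_mul, map_inv, mul_comm (f c), mul_assoc, mul_inv_cancel, mul_one]

theorem hom_sq (f : G →* ℤˣ) (a : G) : f (a ^ 2) = 1 := by
  rw [map_pow]
  rcases Int.units_eq_one_or (f a) with h | h <;> rw [h] <;> simp

variable [Finite G]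

/-- for `K` of index 2 not containing the Sylow 2-subgroup `S`, `S ∩ K` has odd index in `K` -/
theorem not_dvd_index_inf (S : Sylow 2 G) (K : Subgroup G) (hK : K.index = 2)
    (hSK : ¬ (S : Subgroup G) ≤ K) :
    ¬ 2 ∣ (((S : Subgroup G) ⊓ K).subgroupOf K).index := by
  have hN : K.Normal := Subgroup.normal_of_index_eq_two hK
  have hrel : K.relIndex (S : Subgroup G) = 2 := by
    have h1 : K.relIndex (S : Subgroup G) ∣ 2 := by
      have := Subgroup.relIndex_dvd_index_of_normal K (S : Subgroup G)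
      rwa [hK] at this
    have h2 : K.relIndex (S : Subgroup G) ≠ 1 := by
      rw [Ne, Subgroup.relIndex_eq_one]; exact hSK
    rcases (Nat.dvd_prime Nat.prime_two).mp h1 with h | h
    · exact absurd h h2
    · exact h
  have h1 := Subgroup.relIndex_mul_index (inf_le_left : (S : Subgroup G) ⊓ K ≤ S)
  have h2 := Subgroup.relIndex_mul_index (inf_le_right : (S : Subgroup G) ⊓ K ≤ K)
  rw [Subgroup.inf_relIndex_left, hrel] at h1
  rw [hK] at h2
  have h3 : (((S : Subgroup G) ⊓ K).subgroupOf K).index = (S : Subgroup G).index := by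
    show ((S : Subgroup G) ⊓ K).relIndex K = _
    omega
  rw [h3]
  have hp : Fact (Nat.Prime 2) := ⟨Nat.prime_two⟩
  exact S.not_dvd_index

/-- the Sylow 2-subgroups of such a `K` are isomorphic to `S ∩ K` -/
theorem sylow_iso (S : Sylow 2 G) (K : Subgroup G) (hK : K.index = 2)
    (hSK : ¬ (S : Subgroup G) ≤ K) (P : Sylow 2 K) :
    Nonempty ((P : Subgroup K) ≃* K.subgroupOf (S : Subgroup G)) := by
  have hp : Fact (Nat.Prime 2) := ⟨Nat.prime_two⟩
  have hP₀ : IsPGroup 2 (((S : Subgroup G) ⊓ K).subgroupOf K) := by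
    have h1 : IsPGroup 2 ((S : Subgroup G) ⊓ K : Subgroup G) := S.isPGroup'.to_le inf_le_left
    exact h1.comap_subtype
  obtain ⟨P₀, hP₀'⟩ : ∃ P₀ : Sylow 2 K, (P₀ : Subgroup K) = ((S : Subgroup G) ⊓ K).subgroupOf K :=
    ⟨hP₀.toSylow (not_dvd_index_inf S K hK hSK), IsPGroup.toSylow_coe _ _⟩
  obtain ⟨k, hk⟩ := MulAction.exists_smul_eq K P₀ P
  have e1 : (P₀ : Subgroup K) ≃* (P : Subgroup K) := by
    rw [← hk]; exact Sylow.equivSMul P₀ k
  have e2 : (P₀ : Subgroup K) ≃* ((S : Subgroup G) ⊓ K : Subgroup G) := by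
    rw [hP₀']; exact Subgroup.subgroupOfEquivOfLe inf_le_right
  have e3 : K.subgroupOf (S : Subgroup G) ≃* ((S : Subgroup G) ⊓ K : Subgroup G) := by
    rw [← Subgroup.inf_subgroupOf_right, inf_comm]
    exact Subgroup.subgroupOfEquivOfLe inf_le_left
  exact ⟨e1.symm.trans (e2.trans e3.symm)⟩

end generic

section qd

variable {G : Type*} [Group G] [Finite G] (S : Sylow 2 G) (D : QDData (S : Subgroup G))

omit [Finite G] in
/-- the kernel of a homomorphism to `ℤˣ` taking the value `-1` on `x ∈ S`: its intersection with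
`S` is a maximal subgroup of `S` not containing `x` -/
theorem kernel_coatom (f : G →* ℤˣ) (x : (S : Subgroup G)) (hx : f (x : G) = -1) :
    f.ker.Normal ∧ f.ker.index = 2 ∧ IsCoatom (f.ker.subgroupOf (S : Subgroup G)) ∧
      x ∉ f.ker.subgroupOf (S : Subgroup G) := by
  refine ⟨MonoidHom.normal_ker f, ker_index_two f _ hx, ?_, ?_⟩
  · have h1 : f.ker.subgroupOf (S : Subgroup G) = (f.comp (S : Subgroup G).subtype).ker := by
      ext t
      rw [Subgroup.mem_subgroupOf, MonoidHom.mem_ker, MonoidHom.mem_ker]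
      rfl
    rw [h1]
    exact isCoatom_of_index_two (ker_index_two _ x hx)
  · rw [Subgroup.mem_subgroupOf, MonoidHom.mem_ker, hx]
    decide

/-- case `|N(T):C(T)| = 2`, `|N(Q):QC(Q)| = 6`: a normal subgroup of index 2 meeting `S` in the
generalized quaternion maximal subgroup -/
theorem exists_kernel_Mq
    (hzy : ¬ IsConj ((D.z : (S : Subgroup G)) : G) ((D.y : (S : Subgroup G)) : G))
    (hqs : IsConj ((D.r (qq D.n) : (S : Subgroup G)) : G) ((D.sr 1 : (S : Subgroup G)) : G)) :
    ∃ K : Subgroup G, K.Normal ∧ K.index = 2 ∧ K.subgroupOf (S : Subgroup G) = D.Mq := by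
  obtain ⟨f, hf⟩ : ∃ f : G →* ℤˣ, f = MonoidHom.transfer
      (Cfsg.Agent.Helper16.indexTwoHom D.Mq D.Mq_index) := ⟨_, rfl⟩
  have hfy : f ((D.y : (S : Subgroup G)) : G) = -1 := by
    rw [hf]
    apply Cfsg.Agent.Helper16.transfer_indexTwoHom_eq_neg_one_of_pow (S : Subgroup G)
      (sylow_index_odd S) D.Mq D.Mq_index _ 1 le_rfl (by rw [orderOf_y S D]; norm_num)
    · rintro y' ⟨g, hg⟩ hy'
      have hord : orderOf y' = 2 := by
        rw [← Subgroup.orderOf_coe, hg, orderOf_conj', orderOf_y S D]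
      rcases (D.invol_iff _).mp hord with h | ⟨j, h⟩
      · apply hzy
        rw [isConj_comm, isConj_iff]
        refine ⟨g, ?_⟩
        rw [← hg, h]
      · rw [h, D.sr_mem_Mq] at hy'
        obtain ⟨j', hj'⟩ := hy'
        exact D.not_odd_even j ⟨j', hj'⟩
    · rintro k hk y' ⟨g, hg⟩
      have h1 : ((D.y : (S : Subgroup G)) : G) ^ 2 ^ k = 1 := by
        obtain ⟨k', rfl⟩ : ∃ k', k = k' + 1 := ⟨k - 1, by omega⟩
        rw [pow_succ', pow_mul, ← Subgroup.coe_pow, pow_two, D.y_mul_y]
        simp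
      rw [h1] at hg
      have h2 : y' = 1 := Subtype.ext (by rw [hg]; simp)
      rw [h2]; exact Subgroup.one_mem _
  obtain ⟨hN, hidx, hco, hyK⟩ := kernel_coatom S f D.y hfy
  refine ⟨f.ker, hN, hidx, ?_⟩
  rcases D.coatom_cases hco with h | h | h
  · exfalso
    have h1 : D.sr 1 ∈ f.ker.subgroupOf (S : Subgroup G) := by
      rw [Subgroup.mem_subgroupOf, MonoidHom.mem_ker, ← hom_conj f hqs]
      have h2 : D.r (2 ^ (D.n - 3)) ^ 2 = D.r (qq D.n) := by
        rw [D.r_sq, D.r_inj]
        unfold qq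
        have : D.n - 2 = (D.n - 3) + 1 := by have := D.hn; omega
        rw [this, pow_succ]; ring
      rw [← h2, Subgroup.coe_pow]
      exact hom_sq f _
    rw [h] at h1
    exact D.sr_not_mem_R 1 h1
  · exact h
  · exfalso
    apply hyK
    rw [h, ← D.sr_zero, D.sr_mem_Md]
    exact ⟨0, by ring⟩

/-- case `|N(T):C(T)| = 6`, `|N(Q):QC(Q)| = 2`: a normal subgroup of index 2 meeting `S` in the
dihedral maximal subgroup -/
theorem exists_kernel_Md
    (hzy : IsConj ((D.z : (S : Subgroup G)) : G) ((D.y : (S : Subgroup G)) : G))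
    (hqs : ¬ IsConj ((D.r (qq D.n) : (S : Subgroup G)) : G) ((D.sr 1 : (S : Subgroup G)) : G)) :
    ∃ K : Subgroup G, K.Normal ∧ K.index = 2 ∧ K.subgroupOf (S : Subgroup G) = D.Md := by
  obtain ⟨f, hf⟩ : ∃ f : G →* ℤˣ, f = MonoidHom.transfer
      (Cfsg.Agent.Helper16.indexTwoHom D.Md D.Md_index) := ⟨_, rfl⟩
  have hx2 : ((D.sr 1 : (S : Subgroup G)) : G) ^ 2 = ((D.z : (S : Subgroup G)) : G) := by
    have h2 := D.sr_odd_sq 0
    rw [mul_zero, zero_add] at h2
    rw [← h2, Subgroup.coe_pow]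
  have hfx : f ((D.sr 1 : (S : Subgroup G)) : G) = -1 := by
    rw [hf]
    apply Cfsg.Agent.Helper16.transfer_indexTwoHom_eq_neg_one_of_pow (S : Subgroup G)
      (sylow_index_odd S) D.Md D.Md_index _ 2 (by norm_num) (by rw [orderOf_sr_one S D]; norm_num)
    · rintro y' ⟨g, hg⟩ hy'
      have hord : orderOf y' = 4 := by
        rw [← Subgroup.orderOf_coe, hg, orderOf_conj', orderOf_sr_one S D]
      rcases (D.order_four_iff _).mp hord with h | h | ⟨j, h⟩
      · apply hqs
        rw [isConj_comm, isConj_iff]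
        refine ⟨g, ?_⟩
        rw [← hg, h]
      · apply hqs
        have h1 : IsConj ((D.sr 1 : (S : Subgroup G)) : G) ((D.r (-qq D.n) : (S : Subgroup G)) : G) := by
          rw [isConj_iff]
          refine ⟨g, ?_⟩
          rw [← hg, h]
        refine (h1.trans (isConj_coe S D.y ?_)).symm
        rw [D.y_conj_r, D.r_inj]
        unfold QDData.k
        have h1 := qq_mul_hh D.hn
        linear_combination -h1
      · rw [h, D.sr_mem_Md] at hy'
        obtain ⟨j', hj'⟩ := hy'
        exact D.not_even_odd j ⟨j', hj'⟩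
    · rintro k hk y' ⟨g, hg⟩
      rcases Nat.lt_or_ge k 2 with hlt | hge
      · have hk1 : k = 1 := by omega
        subst hk1
        rw [pow_one, hx2] at hg
        have hord : orderOf y' = 2 := by
          rw [← Subgroup.orderOf_coe, hg, orderOf_conj', orderOf_z S D]
        rcases (D.invol_iff _).mp hord with h | ⟨j, h⟩
        · rw [h]
          unfold QDData.z
          rw [D.r_mem_Md]
          exact ⟨qq D.n, (two_mul_qq D.hn2).symm⟩
        · rw [h, D.sr_mem_Md]; exact ⟨j, rfl⟩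
      · obtain ⟨t, rfl⟩ : ∃ t, k = 2 + t := ⟨k - 2, by omega⟩
        have h4 : ((D.sr 1 : (S : Subgroup G)) : G) ^ 2 ^ (2 + t) = 1 := by
          rw [pow_add, pow_mul]
          have : ((D.sr 1 : (S : Subgroup G)) : G) ^ 2 ^ 2 = 1 := by
            have h5 := D.sr_pow_four 1
            have h6 : ((D.sr 1 : (S : Subgroup G)) : G) ^ 4 = 1 := by
              rw [← Subgroup.coe_pow, h5]; rfl
            norm_num
            exact h6
          rw [this, one_pow]
        rw [h4] at hg
        have h2 : y' = 1 := Subtype.ext (by rw [hg]; simp)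
        rw [h2]; exact Subgroup.one_mem _
  obtain ⟨hN, hidx, hco, hxK⟩ := kernel_coatom S f (D.sr 1) hfx
  refine ⟨f.ker, hN, hidx, ?_⟩
  rcases D.coatom_cases hco with h | h | h
  · exfalso
    have h1 : D.y ∈ f.ker.subgroupOf (S : Subgroup G) := by
      rw [Subgroup.mem_subgroupOf, MonoidHom.mem_ker, ← hom_conj f hzy, ← hx2]
      exact hom_sq f _
    rw [h, ← D.sr_zero] at h1
    exact D.sr_not_mem_R 0 h1
  · exfalso
    apply hxK
    rw [h, D.sr_mem_Mq]
    exact ⟨0, by ring⟩
  · exact h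

end qd

end Cfsg.Agent.Helper16.QDFusion
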