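import Mathlib
import Cfsg.Agent.Helper16.QDFusion3

/-!
Groups with quasi-dihedral Sylow 2-subgroups: the index 2 subgroups have no subgroup of index 2.
-/

set_option autoImplicit false

namespace Cfsg.Agent.Helper16.QDFusion

open Cfsg.Agent.Helper18.QD

section generic

variable {G : Type*} [Group G] (K : Subgroup G) (H : Subgroup K)

theorem mem_map_subtype_iff {g : G} : g ∈ H.map K.subtype ↔ ∃ hg : g ∈ K, (⟨g, hg⟩ : K) ∈ H := by
  constructor
  · rintro ⟨k, hk, rfl⟩
    exact ⟨k.2, hk⟩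
  · rintro ⟨hg, h⟩
    exact ⟨⟨g, hg⟩, h, rfl⟩

theorem map_subtype_le : H.map K.subtype ≤ K := by
  rintro _ ⟨k, _, rfl⟩
  exact k.2

theorem sq_mem_map (hH : H.index = 2) {g : G} (hg : g ∈ K) : g ^ 2 ∈ H.map K.subtype := by
  rw [mem_map_subtype_iff]
  exact ⟨K.pow_mem hg 2, Subgroup.sq_mem_of_index_two hH (⟨g, hg⟩ : K)⟩

theorem conj_mem_map [H.Normal] {k h : G} (hk : k ∈ K) (hh : h ∈ H.map K.subtype) :
    k * h * k⁻¹ ∈ H.map K.subtype := by
  rw [mem_map_subtype_iff] at hh ⊢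
  obtain ⟨hhK, hhH⟩ := hh
  refine ⟨K.mul_mem (K.mul_mem hk hhK) (K.inv_mem hk), ?_⟩
  have := Subgroup.Normal.conj_mem (inferInstance : H.Normal) _ hhH ⟨k, hk⟩
  exact this

theorem mul_mem_map_iff (hH : H.index = 2) {a b : G} (ha : a ∈ K) (hb : b ∈ K) :
    a * b ∈ H.map K.subtype ↔ (a ∈ H.map K.subtype ↔ b ∈ H.map K.subtype) := by
  have := Subgroup.mul_mem_iff_of_index_two hH (a := (⟨a, ha⟩ : K)) (b := ⟨b, hb⟩)
  rw [mem_map_subtype_iff, mem_map_subtype_iff, mem_map_subtype_iff]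
  constructor
  · rintro ⟨_, h⟩
    have h2 := this.mp h
    constructor
    · rintro ⟨_, h3⟩; exact ⟨hb, h2.mp h3⟩
    · rintro ⟨_, h3⟩; exact ⟨ha, h2.mpr h3⟩
  · intro h
    refine ⟨K.mul_mem ha hb, this.mpr ?_⟩
    constructor
    · intro h3; exact (h.mp ⟨ha, h3⟩).2
    · intro h3; exact (h.mpr ⟨hb, h3⟩).2

variable [Finite G]

/-- a subgroup of `K` containing `S ∩ K` has odd index -/
theorem false_of_inf_le (S : Sylow 2 G) (hK : K.index = 2) (hSK : ¬ (S : Subgroup G) ≤ K)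
    (hH : H.index = 2) (hle : (S : Subgroup G) ⊓ K ≤ H.map K.subtype) : False := by
  have h1 : ((S : Subgroup G) ⊓ K).subgroupOf K ≤ H := by
    intro k hk
    rw [Subgroup.mem_subgroupOf] at hk
    obtain ⟨_, h2⟩ := (mem_map_subtype_iff K H).mp (hle hk)
    exact h2
  have h2 := Subgroup.index_dvd_of_le h1
  rw [hH] at h2
  exact not_dvd_index_inf S K hK hSK h2

end generic

section q8

set_option maxRecDepth 100000 in
theorem q8_pow_cases : ∀ u v : QuaternionGroup 2, u ^ 2 ≠ 1 → v ^ 2 ≠ 1 →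
    (∃ i : Fin 4, v = u ^ (i : ℕ)) → v = u ∨ v = u⁻¹ := by decide

theorem q8_a_sq : (QuaternionGroup.a 1 : QuaternionGroup 2) ^ 2 ≠ 1 := by decide
theorem q8_xa_sq : (QuaternionGroup.xa 0 : QuaternionGroup 2) ^ 2 ≠ 1 := by decide
theorem q8_axa_sq : (QuaternionGroup.a 1 * QuaternionGroup.xa 0 : QuaternionGroup 2) ^ 2 ≠ 1 := by
  decide

variable {G : Type*} [Group G] (K : Subgroup G) (H : Subgroup K)

/-- a quaternion subgroup of `K` normalized, but not centralized, by an element of odd order of `K`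
lies in every subgroup of index 2 of `K` -/
theorem quat_le_map (hH : H.index = 2) (Q : Subgroup G) (eQ : Q ≃* QuaternionGroup 2)
    (hQK : Q ≤ K) (g : G) (hgK : g ∈ K) (hgN : g ∈ Subgroup.normalizer (Q : Set G))
    (hgC : g ∉ Subgroup.centralizer (Q : Set G)) (hodd : Odd (orderOf g)) :
    Q ≤ H.map K.subtype := by
  have hHN : H.Normal := Subgroup.normal_of_index_eq_two hH
  -- transport of facts along `eQ`
  have hsq : ∀ q : Q, (eQ q) ^ 2 ≠ 1 → (q : G) ^ 2 ≠ 1 := by
    intro q h h2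
    apply h
    rw [← map_pow, ← map_one eQ]
    congr 1
    apply Subtype.ext
    simpa using h2
  -- an element of order 4 in `H`
  have hex : ∃ u ∈ Q, u ^ 2 ≠ 1 ∧ u ∈ H.map K.subtype := by
    obtain ⟨a₀, ha₀⟩ : ∃ a₀ : Q, a₀ = eQ.symm (QuaternionGroup.a 1) := ⟨_, rfl⟩
    obtain ⟨x₀, hx₀⟩ : ∃ x₀ : Q, x₀ = eQ.symm (QuaternionGroup.xa 0) := ⟨_, rfl⟩
    have ha2 : (a₀ : G) ^ 2 ≠ 1 := hsq a₀ (by rw [ha₀, MulEquiv.apply_symm_apply]; exact q8_a_sq)
    have hx2 : (x₀ : G) ^ 2 ≠ 1 := hsq x₀ (by rw [hx₀, MulEquiv.apply_symm_apply]; exact q8_xa_sq)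
    have hax2 : ((a₀ * x₀ : Q) : G) ^ 2 ≠ 1 := hsq (a₀ * x₀) (by
      rw [map_mul, ha₀, hx₀, MulEquiv.apply_symm_apply, MulEquiv.apply_symm_apply]
      exact q8_axa_sq)
    by_cases h1 : (a₀ : G) ∈ H.map K.subtype
    · exact ⟨a₀, a₀.2, ha2, h1⟩
    by_cases h2 : (x₀ : G) ∈ H.map K.subtype
    · exact ⟨x₀, x₀.2, hx2, h2⟩
    refine ⟨((a₀ * x₀ : Q) : G), (a₀ * x₀).2, hax2, ?_⟩
    rw [Subgroup.coe_mul, mul_mem_map_iff K H hH (hQK a₀.2) (hQK x₀.2)]
    exact ⟨fun h => absurd h h1, fun h => absurd h h2⟩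
  obtain ⟨u, huQ, hu2, huH⟩ := hex
  obtain ⟨v, hv⟩ : ∃ v : G, v = g * u * g⁻¹ := ⟨_, rfl⟩
  have hvQ : v ∈ Q := by rw [hv]; exact conj_mem_of_mem_normalizer hgN huQ
  have hvH : v ∈ H.map K.subtype := by rw [hv]; exact conj_mem_map K H hgK huH
  have hv2 : v ^ 2 ≠ 1 := by
    intro h
    apply hu2
    have e : v ^ 2 = g * u ^ 2 * g⁻¹ := by rw [hv, pow_two, pow_two]; group
    rw [e] at h
    have : u ^ 2 = g⁻¹ * (g * u ^ 2 * g⁻¹) * g := by group
    rw [this, h]; group
  have hvu : ∀ i : Fin 4, v ≠ u ^ (i : ℕ) := by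
    intro i hi
    apply hgC
    apply mem_centralizer_of_conj_mem_zpowers Q eQ g hgN hodd u huQ hu2
    have h1 := q8_pow_cases (eQ ⟨u, huQ⟩) (eQ ⟨v, hvQ⟩) (by
        intro h
        apply hu2
        rw [← map_pow, ← map_one eQ] at h
        have := congrArg Subtype.val (eQ.injective h)
        simpa using this) (by
        intro h
        apply hv2
        rw [← map_pow, ← map_one eQ] at h
        have := congrArg Subtype.val (eQ.injective h)
        simpa using this) ⟨i, by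
        rw [← map_pow]
        congr 1
        apply Subtype.ext
        simpa using hi⟩
    rcases h1 with h | h
    · left
      have := congrArg Subtype.val (eQ.injective h)
      rw [← hv]; exact this
    · right
      rw [← map_inv] at h
      have := congrArg Subtype.val (eQ.injective h)
      rw [← hv]; simpa using this
  intro w hw
  by_cases hwu : ∃ i : Fin 4, w = u ^ (i : ℕ)
  · obtain ⟨i, rfl⟩ := hwu
    exact Subgroup.pow_mem _ huH _
  · push Not at hwu
    have key := q8_coset (eQ ⟨u, huQ⟩) (eQ ⟨v, hvQ⟩) (eQ ⟨w, hw⟩) (by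
        intro h
        rw [← map_pow, ← map_one eQ] at h
        have := congrArg Subtype.val (eQ.injective h)
        apply hu2
        simpa using this) (by
        intro i h
        rw [← map_pow] at h
        have := congrArg Subtype.val (eQ.injective h)
        apply hvu i
        simpa using this) (by
        intro i h
        rw [← map_pow] at h
        have := congrArg Subtype.val (eQ.injective h)
        apply hwu i
        simpa using this)
    obtain ⟨i, hi⟩ := key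
    rw [← map_pow, ← map_mul] at hi
    have hi' : w = u ^ (i : ℕ) * v := by
      have := congrArg Subtype.val (eQ.injective hi)
      simpa using this
    rw [hi']
    exact Subgroup.mul_mem _ (Subgroup.pow_mem _ huH _) hvH

end q8

end Cfsg.Agent.Helper16.QDFusion
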