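import Mathlib
import Cfsg.Agent.Helper16.QDFusion4
import Cfsg.Agent.Helper18.DihSylow

/-!
Fusion of involutions in groups with dihedral Sylow 2-subgroups of order at least 8.
-/

set_option autoImplicit false

namespace Cfsg.Agent.Helper16.DihFusion

open Cfsg.Agent.Helper18.QD (hh two_mul_hh hh_ne_zero two_mul_eq_zero_iff even_or_odd
  two_mul_ne_odd)
open Cfsg.Agent.Helper16.QDFusion
open DihedralGroup
open scoped commutatorElement

section model

variable {k : ℕ}

theorem rot_sq_eq_one (hk : 1 ≤ k) (i : ZMod (2 ^ k)) :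
    (r i : DihedralGroup (2 ^ k)) * r i = 1 ↔ i = 0 ∨ i = hh k := by
  rw [r_mul_r, one_def, r.injEq, ← two_mul, two_mul_eq_zero_iff hk]

theorem dih_invol_iff (hk : 1 ≤ k) (d : DihedralGroup (2 ^ k)) :
    orderOf d = 2 ↔ d = r (hh k) ∨ ∃ i, d = sr i := by
  constructor
  · intro h
    cases d with
    | r i =>
      left
      rw [Cfsg.Agent.Helper18.QD.orderOf_eq_two_iff, pow_two] at h
      obtain ⟨h2, h1⟩ := h
      rcases (rot_sq_eq_one hk i).mp h2 with rfl | rfl
      · exact absurd r_zero h1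
      · rfl
    | sr i => right; exact ⟨i, rfl⟩
  · rintro (rfl | ⟨i, rfl⟩)
    · rw [Cfsg.Agent.Helper18.QD.orderOf_eq_two_iff, pow_two]
      refine ⟨(rot_sq_eq_one hk _).mpr (Or.inr rfl), ?_⟩
      rw [one_def, Ne, r.injEq]
      exact hh_ne_zero hk
    · exact orderOf_sr i

theorem r_conj_sr (i j : ZMod (2 ^ k)) :
    (r j : DihedralGroup (2 ^ k)) * sr i * (r j)⁻¹ = sr (i - 2 * j) := by
  rw [inv_r, r_mul_sr, sr_mul_r]; congr 1; ring

theorem sr_even_conj (j : ZMod (2 ^ k)) :
    ∃ c : DihedralGroup (2 ^ k), c * sr (2 * j) * c⁻¹ = sr 0 :=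
  ⟨r j, by rw [r_conj_sr]; congr 1; ring⟩

theorem sr_odd_conj (j : ZMod (2 ^ k)) :
    ∃ c : DihedralGroup (2 ^ k), c * sr (2 * j + 1) * c⁻¹ = sr 1 :=
  ⟨r j, by rw [r_conj_sr]; congr 1; ring⟩

/-- the dihedral maximal subgroup `{r (2j), sr (2j)}` -/
def Md (k : ℕ) : Subgroup (DihedralGroup (2 ^ k)) where
  carrier := {d | (∃ j, d = r (2 * j)) ∨ (∃ j, d = sr (2 * j))}
  mul_mem' := by
    rintro _ _ (⟨i, rfl⟩ | ⟨i, rfl⟩) (⟨j, rfl⟩ | ⟨j, rfl⟩)
    · exact Or.inl ⟨i + j, by rw [r_mul_r]; congr 1; ring⟩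
    · exact Or.inr ⟨j - i, by rw [r_mul_sr]; congr 1; ring⟩
    · exact Or.inr ⟨i + j, by rw [sr_mul_r]; congr 1; ring⟩
    · exact Or.inl ⟨j - i, by rw [sr_mul_sr]; congr 1; ring⟩
  one_mem' := Or.inl ⟨0, by rw [mul_zero, r_zero]⟩
  inv_mem' := by
    rintro _ (⟨i, rfl⟩ | ⟨i, rfl⟩)
    · exact Or.inl ⟨-i, by rw [inv_r]; congr 1; ring⟩
    · exact Or.inr ⟨i, by rw [inv_sr]⟩

theorem r_mem_Md {i : ZMod (2 ^ k)} : r i ∈ Md k ↔ ∃ j, i = 2 * j := by
  constructor
  · rintro (⟨j, h⟩ | ⟨j, h⟩)
    · exact ⟨j, by injection h⟩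
    · exact absurd h (by simp)
  · rintro ⟨j, rfl⟩; exact Or.inl ⟨j, rfl⟩

theorem sr_mem_Md {i : ZMod (2 ^ k)} : sr i ∈ Md k ↔ ∃ j, i = 2 * j := by
  constructor
  · rintro (⟨j, h⟩ | ⟨j, h⟩)
    · exact absurd h (by simp)
    · exact ⟨j, by injection h⟩
  · rintro ⟨j, rfl⟩; exact Or.inr ⟨j, rfl⟩

theorem not_even_odd (hk : 1 ≤ k) (j : ZMod (2 ^ k)) : ¬ ∃ j', 2 * j + 1 = 2 * j' := by
  rintro ⟨j', h⟩; exact two_mul_ne_odd hk j' j h.symm

theorem not_odd_even (hk : 1 ≤ k) (j : ZMod (2 ^ k)) : ¬ ∃ j', 2 * j = 2 * j' + 1 := by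
  rintro ⟨j', h⟩; exact two_mul_ne_odd hk j j' h

theorem Md_index (hk : 1 ≤ k) : (Md k).index = 2 := by
  rw [Subgroup.index_eq_two_iff]
  refine ⟨r 1, fun b => ?_⟩
  cases b with
  | r i =>
    rw [r_mul_r, r_mem_Md, r_mem_Md]
    rcases even_or_odd i with ⟨j, rfl⟩ | ⟨j, rfl⟩
    · exact Or.inr ⟨⟨j, rfl⟩, not_even_odd hk j⟩
    · exact Or.inl ⟨⟨j + 1, by ring⟩, not_even_odd hk j⟩
  | sr i =>
    rw [sr_mul_r, sr_mem_Md, sr_mem_Md]
    rcases even_or_odd i with ⟨j, rfl⟩ | ⟨j, rfl⟩
    · exact Or.inr ⟨⟨j, rfl⟩, not_even_odd hk j⟩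
    · exact Or.inl ⟨⟨j + 1, by ring⟩, not_even_odd hk j⟩

/-- Klein four-subgroups of a dihedral 2-group of order at least 8 -/
theorem klein_model (hk : 1 ≤ k) (T : Subgroup (DihedralGroup (2 ^ k))) (hcard : Nat.card T = 4)
    (hsq : ∀ d ∈ T, d * d = 1) :
    ∃ i, r (hh k) ∈ T ∧ sr i ∈ T ∧
      ∀ d ∈ T, d = 1 ∨ d = r (hh k) ∨ d = sr i ∨ d = r (hh k) * sr i := by
  have hrot : ∀ i, r i ∈ T → i = 0 ∨ i = hh k := fun i hi => (rot_sq_eq_one hk i).mp (hsq _ hi)
  have hfin : Finite T := Nat.finite_of_card_ne_zero (by rw [hcard]; norm_num)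
  have hbound : ∀ a b : DihedralGroup (2 ^ k), (T : Set (DihedralGroup (2 ^ k))) ⊆ {a, b} → False := by
    intro a b hsub
    have h1 : Nat.card T ≤ 2 := by
      rw [← SetLike.coe_sort_coe, Nat.card_coe_set_eq]
      calc (T : Set (DihedralGroup (2 ^ k))).ncard ≤ ({a, b} : Set (DihedralGroup (2 ^ k))).ncard :=
            Set.ncard_le_ncard hsub (Set.toFinite _)
        _ ≤ 2 := by
            have h1 := Set.ncard_insert_le a ({b} : Set (DihedralGroup (2 ^ k)))
            rw [Set.ncard_singleton] at h1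
            exact h1
    omega
  -- a reflection in `T`
  have hex : ∃ i, sr i ∈ T := by
    by_contra hcon
    push Not at hcon
    apply hbound (r 0) (r (hh k))
    intro d hd
    cases d with
    | r i =>
      rcases hrot i hd with rfl | rfl
      · exact Or.inl rfl
      · exact Or.inr rfl
    | sr i => exact absurd hd (hcon i)
  obtain ⟨i, hi⟩ := hex
  have hrefl : ∀ j, sr j ∈ T → j = i ∨ j = i + hh k := by
    intro j hj
    have h1 := T.mul_mem hi hj
    rw [sr_mul_sr] at h1
    rcases hrot _ h1 with h | h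
    · left; linear_combination h
    · right; linear_combination h
  have hz : r (hh k) ∈ T := by
    by_contra hcon
    apply hbound (r 0) (sr i)
    intro d hd
    cases d with
    | r j =>
      rcases hrot j hd with rfl | rfl
      · exact Or.inl rfl
      · exact absurd hd hcon
    | sr j =>
      rcases hrefl j hd with rfl | rfl
      · exact Or.inr rfl
      · exfalso
        have h1 := T.mul_mem hi hd
        rw [sr_mul_sr] at h1
        apply hcon
        have : i + hh k - i = hh k := by ring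
        rwa [this] at h1
  refine ⟨i, hz, hi, ?_⟩
  intro d hd
  cases d with
  | r j =>
    rcases hrot j hd with rfl | rfl
    · left; exact r_zero
    · right; left; rfl
  | sr j =>
    rcases hrefl j hd with rfl | rfl
    · right; right; left; rfl
    · right; right; right
      rw [r_mul_sr]; congr 1
      have := two_mul_hh hk
      linear_combination this

end model

section abstract

variable {G : Type*} [Group G]

/-- abstract form of the Klein four fusion argument -/
theorem klein_fusion_abstract (T : Subgroup G) (zG aG : G) (hzT : zG ∈ T) (haT : aG ∈ T)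
    (hmem : ∀ t ∈ T, t = 1 ∨ t = zG ∨ t = aG ∨ t = zG * aG) (hz1 : zG ≠ 1) (ha1 : aG ≠ 1)
    (haz : aG ≠ zG) (hz2 : zG * zG = 1) (g : G)
    (hgN : g ∈ Subgroup.normalizer (T : Set G)) (hgC : g ∉ Subgroup.centralizer (T : Set G))
    (hodd : Odd (orderOf g)) : g * zG * g⁻¹ = aG ∨ g * zG * g⁻¹ = zG * aG := by
  have hz2' : zG ^ 2 ^ 1 = 1 := by rw [pow_one, pow_two]; exact hz2
  have hcent : Commute g zG → Commute g aG → g ∈ Subgroup.centralizer (T : Set G) := by
    intro h1 h2
    rw [Subgroup.mem_centralizer_iff]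
    intro t ht
    symm
    rcases hmem t ht with rfl | rfl | rfl | rfl
    · exact (Commute.one_right g).eq
    · exact h1.eq
    · exact h2.eq
    · exact (h1.mul_right h2).eq
  have conj_one : ∀ x : G, g * x * g⁻¹ = 1 → x = 1 := by
    intro x h
    have : x = g⁻¹ * (g * x * g⁻¹) * g := by group
    rw [this, h]; group
  have comm_of : ∀ x : G, g * x * g⁻¹ = x → Commute g x := by
    intro x h
    show g * x = x * g
    calc g * x = g * x * g⁻¹ * g := by group
      _ = x * g := by rw [h]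
  rcases hmem _ (conj_mem_of_mem_normalizer hgN hzT) with h | h | h | h
  · exact absurd (conj_one _ h) hz1
  · exfalso
    have hgz := comm_of _ h
    rcases hmem _ (conj_mem_of_mem_normalizer hgN haT) with h' | h' | h' | h'
    · exact absurd (conj_one _ h') ha1
    · exact haz (conj_inj (h'.trans h.symm))
    · exact hgC (hcent hgz (comm_of _ h'))
    · exact hgC (hcent hgz (commute_of_conj_eq_mul hodd hgz 1 hz2' h'))
  · exact Or.inl h
  · exact Or.inr h

end abstract

section group

variable {G : Type*} [Group G] (P : Sylow 2 G) {k : ℕ}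
  (e : ↥(P : Subgroup G) ≃* DihedralGroup (2 ^ k))

/-- the embedding of the model dihedral group into `G` -/
def iota : DihedralGroup (2 ^ k) →* G := (P : Subgroup G).subtype.comp e.symm.toMonoidHom

theorem iota_mem (d : DihedralGroup (2 ^ k)) : iota P e d ∈ (P : Subgroup G) := (e.symm d).2

theorem iota_surj (s : G) (hs : s ∈ (P : Subgroup G)) : ∃ d, iota P e d = s :=
  ⟨e ⟨s, hs⟩, by simp [iota]⟩

theorem iota_inj : Function.Injective (iota P e) := by
  intro a b h
  have : e.symm a = e.symm b := Subtype.ext h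
  exact e.symm.injective this

theorem e_iota (d : DihedralGroup (2 ^ k)) : e ⟨iota P e d, iota_mem P e d⟩ = d := by
  have : (⟨iota P e d, iota_mem P e d⟩ : (P : Subgroup G)) = e.symm d := Subtype.ext rfl
  rw [this, e.apply_symm_apply]

theorem orderOf_iota (d : DihedralGroup (2 ^ k)) : orderOf (iota P e d) = orderOf d :=
  orderOf_injective _ (iota_inj P e) d

theorem iota_conj {c d d' : DihedralGroup (2 ^ k)} (h : c * d * c⁻¹ = d') :
    IsConj (iota P e d) (iota P e d') := by
  rw [isConj_iff]; exact ⟨iota P e c, by rw [← h, map_mul, map_mul, map_inv]⟩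

theorem iota_range : (iota P e).range = (P : Subgroup G) := by
  ext x
  constructor
  · rintro ⟨d, rfl⟩; exact iota_mem P e d
  · intro hx; exact iota_surj P e x hx

theorem iota_ne_one {d : DihedralGroup (2 ^ k)} (h : d ≠ 1) : iota P e d ≠ 1 := by
  intro h1
  rw [← map_one (iota P e)] at h1
  exact h (iota_inj P e h1)

/-- reflections are conjugate to `sr 0` or `sr 1` -/
theorem refl_conj (i : ZMod (2 ^ k)) :
    IsConj (iota P e (sr i)) (iota P e (sr 0)) ∨ IsConj (iota P e (sr i)) (iota P e (sr 1)) := by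
  rcases even_or_odd i with ⟨j, rfl⟩ | ⟨j, rfl⟩
  · left
    obtain ⟨c, hc⟩ := sr_even_conj j
    exact iota_conj P e hc
  · right
    obtain ⟨c, hc⟩ := sr_odd_conj j
    exact iota_conj P e hc

variable [Finite G]

/-- involutions are conjugate to `z`, `sr 0` or `sr 1` -/
theorem invol_conj (hk : 1 ≤ k) (t : G) (ht : orderOf t = 2) :
    IsConj t (iota P e (r (hh k))) ∨ IsConj t (iota P e (sr 0)) ∨ IsConj t (iota P e (sr 1)) := by
  obtain ⟨g, hg⟩ := Cfsg.Agent.Helper18.QD.exists_conj_mem_sylow P t 1 (by rw [ht]; norm_num)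
  have hconj : IsConj t (g * t * g⁻¹) := by rw [isConj_iff]; exact ⟨g, rfl⟩
  obtain ⟨d, hd⟩ := iota_surj P e _ hg
  have hord : orderOf d = 2 := by
    rw [← orderOf_iota P e, hd, Cfsg.Agent.Helper18.QD.orderOf_conj', ht]
  rw [← hd] at hconj
  rcases (dih_invol_iff hk d).mp hord with rfl | ⟨i, rfl⟩
  · left; exact hconj
  · right
    rcases refl_conj P e i with h | h
    · left; exact hconj.trans h
    · right; exact hconj.trans h

omit [Finite G] in
/-- coordinates of a Klein four-subgroup of `P` -/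
theorem klein_struct (hk : 1 ≤ k) (T : Subgroup G) (hT : IsKleinFour T)
    (hTP : T ≤ (P : Subgroup G)) :
    ∃ i, iota P e (r (hh k)) ∈ T ∧ iota P e (sr i) ∈ T ∧
      ∀ t ∈ T, t = 1 ∨ t = iota P e (r (hh k)) ∨ t = iota P e (sr i) ∨
        t = iota P e (r (hh k)) * iota P e (sr i) := by
  have hcard : Nat.card (T.comap (iota P e)) = 4 := by
    rw [← Subgroup.card_map_of_injective (iota_inj P e), Subgroup.map_comap_eq, iota_range,
      inf_eq_right.mpr hTP]
    exact hT.card_four
  have hsq : ∀ d ∈ T.comap (iota P e), d * d = 1 := by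
    intro d hd
    have h1 := IsKleinFour.mul_self (⟨iota P e d, hd⟩ : T)
    have h2 : iota P e d * iota P e d = 1 := congrArg Subtype.val h1
    rw [← map_mul, ← map_one (iota P e)] at h2
    exact iota_inj P e h2
  obtain ⟨i, hz, hi, hall⟩ := klein_model hk _ hcard hsq
  refine ⟨i, hz, hi, ?_⟩
  intro t ht
  obtain ⟨d, rfl⟩ := iota_surj P e t (hTP ht)
  rcases hall d ht with rfl | rfl | rfl | rfl
  · left; exact map_one _
  · right; left; rfl
  · right; right; left; rfl
  · right; right; right; exact map_mul _ _ _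

omit [Finite G] in
/-- an odd-order element normalizing but not centralizing a Klein four-subgroup of `P` fuses
`z` with a reflection -/
theorem klein_fusion (hk : 2 ≤ k) (T : Subgroup G) (hT : IsKleinFour T)
    (hTP : T ≤ (P : Subgroup G)) (g : G)
    (hgN : g ∈ Subgroup.normalizer (T : Set G)) (hgC : g ∉ Subgroup.centralizer (T : Set G))
    (hodd : Odd (orderOf g)) :
    IsConj (iota P e (r (hh k))) (iota P e (sr 0)) ∨
      IsConj (iota P e (r (hh k))) (iota P e (sr 1)) := by
  have hk1 : 1 ≤ k := by omega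
  obtain ⟨i, hzT, haT, hmem⟩ := klein_struct P e hk1 T hT hTP
  have hz1 : iota P e (r (hh k)) ≠ 1 := by
    apply iota_ne_one
    rw [one_def, Ne, r.injEq]; exact hh_ne_zero hk1
  have ha1 : iota P e (sr i) ≠ 1 := by
    apply iota_ne_one
    rw [one_def]; exact fun h => by cases h
  have haz : iota P e (sr i) ≠ iota P e (r (hh k)) := by
    intro h
    have := iota_inj P e h
    cases this
  have hz2 : iota P e (r (hh k)) * iota P e (r (hh k)) = 1 := by
    rw [← map_mul, (rot_sq_eq_one hk1 _).mpr (Or.inr rfl), map_one]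
  rcases klein_fusion_abstract T _ _ hzT haT hmem hz1 ha1 haz hz2 g hgN hgC hodd with h | h
  · have h1 : IsConj (iota P e (r (hh k))) (iota P e (sr i)) := isConj_iff.mpr ⟨g, h⟩
    rcases refl_conj P e i with h2 | h2
    · left; exact h1.trans h2
    · right; exact h1.trans h2
  · rw [← map_mul, r_mul_sr] at h
    have h1 : IsConj (iota P e (r (hh k))) (iota P e (sr (i - hh k))) := isConj_iff.mpr ⟨g, h⟩
    rcases refl_conj P e (i - hh k) with h2 | h2
    · left; exact h1.trans h2
    · right; exact h1.trans h2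

omit [Finite G] in
theorem orderOf_z (hk : 1 ≤ k) : orderOf (iota P e (r (hh k))) = 2 := by
  rw [orderOf_iota]; exact (dih_invol_iff hk _).mpr (Or.inl rfl)

omit [Finite G] in
theorem orderOf_refl (i : ZMod (2 ^ k)) : orderOf (iota P e (sr i)) = 2 := by
  rw [orderOf_iota]; exact orderOf_sr i

omit [Finite G] in
/-- a subgroup containing `r 1` and `sr 0` contains `P` -/
theorem le_of_gens_mem (H : Subgroup G) (hx : iota P e (r 1) ∈ H) (hy : iota P e (sr 0) ∈ H) :
    (P : Subgroup G) ≤ H := by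
  have hr : ∀ i : ZMod (2 ^ k), iota P e (r i) ∈ H := by
    intro i
    have h1 : (r i : DihedralGroup (2 ^ k)) = r 1 ^ i.val := by
      rw [r_one_pow, ZMod.natCast_zmod_val]
    rw [h1, map_pow]
    exact H.pow_mem hx _
  intro s hs
  obtain ⟨d, rfl⟩ := iota_surj P e s hs
  cases d with
  | r i => exact hr i
  | sr i =>
    have h1 : (sr i : DihedralGroup (2 ^ k)) = sr 0 * r i := by rw [sr_mul_r, zero_add]
    rw [h1, map_mul]
    exact H.mul_mem hy (hr i)

theorem hh_even (hk : 2 ≤ k) : hh k = 2 * (2 : ZMod (2 ^ k)) ^ (k - 2) := by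
  unfold hh
  have : k - 1 = (k - 2) + 1 := by omega
  rw [this, pow_succ]; ring

/-- case of total fusion -/
theorem case_one (hk : 2 ≤ k)
    (hza : IsConj (iota P e (r (hh k))) (iota P e (sr 0)))
    (hzb : IsConj (iota P e (r (hh k))) (iota P e (sr 1))) :
    Nat.card {C : ConjClasses G // ∃ g : G, ConjClasses.mk g = C ∧ orderOf g = 2} = 1 ∧
      ∀ N : Subgroup G, N.Normal → N.index ≠ 2 := by
  have hk1 : 1 ≤ k := by omega
  constructor
  · have hset : {C : ConjClasses G | ∃ g : G, ConjClasses.mk g = C ∧ orderOf g = 2} =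
        {ConjClasses.mk (iota P e (r (hh k)))} := by
      ext C
      simp only [Set.mem_ofPred_eq, Set.mem_singleton_iff]
      constructor
      · rintro ⟨t, rfl, ht⟩
        rw [ConjClasses.mk_eq_mk_iff_isConj]
        rcases invol_conj P e hk1 t ht with h | h | h
        · exact h
        · exact h.trans hza.symm
        · exact h.trans hzb.symm
      · rintro rfl
        exact ⟨_, rfl, orderOf_z P e hk1⟩
    show Nat.card ↥{C : ConjClasses G | ∃ g : G, ConjClasses.mk g = C ∧ orderOf g = 2} = 1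
    rw [Nat.card_coe_set_eq, hset, Set.ncard_singleton]
  · intro N hN hidx
    have hzN : iota P e (r (hh k)) ∈ N := by
      have h1 := Subgroup.sq_mem_of_index_two hidx (iota P e (r ((2 : ZMod (2 ^ k)) ^ (k - 2))))
      rw [← map_pow, pow_two, r_mul_r, ← two_mul, ← hh_even hk] at h1
      exact h1
    have haN : iota P e (sr 0) ∈ N := by
      obtain ⟨c, hc⟩ := isConj_iff.mp hza
      rw [← hc]; exact hN.conj_mem _ hzN c
    have hbN : iota P e (sr 1) ∈ N := by
      obtain ⟨c, hc⟩ := isConj_iff.mp hzb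
      rw [← hc]; exact hN.conj_mem _ hzN c
    have hxN : iota P e (r 1) ∈ N := by
      have h1 : (r 1 : DihedralGroup (2 ^ k)) = sr 0 * sr 1 := by rw [sr_mul_sr, sub_zero]
      rw [h1, map_mul]
      exact N.mul_mem haN hbN
    have hle := le_of_gens_mem P e N hxN haN
    have hdvd : N.index ∣ (P : Subgroup G).index := Subgroup.index_dvd_of_le hle
    rw [hidx] at hdvd
    have hodd := sylow_index_odd P
    rw [Nat.odd_iff] at hodd
    omega

theorem sr_zero_not_conj_sr_one (hk : 1 ≤ k) (d : DihedralGroup (2 ^ k)) :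
    d * sr 0 * d⁻¹ ≠ sr 1 := by
  cases d with
  | r j =>
    rw [r_conj_sr, Ne, sr.injEq]
    intro h
    apply two_mul_ne_odd hk (-j) 0
    rw [mul_zero, zero_add, ← h]; ring
  | sr j =>
    rw [inv_sr, sr_mul_sr, r_mul_sr, Ne, sr.injEq]
    intro h
    apply two_mul_ne_odd hk j 0
    rw [mul_zero, zero_add, ← h]; ring

/-- case of no fusion -/
theorem case_three (hk : 2 ≤ k)
    (hza : ¬ IsConj (iota P e (r (hh k))) (iota P e (sr 0)))
    (hzb : ¬ IsConj (iota P e (r (hh k))) (iota P e (sr 1))) :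
    Nat.card {C : ConjClasses G // ∃ g : G, ConjClasses.mk g = C ∧ orderOf g = 2} = 3 ∧
      Cfsg.HasNormalPComplement 2 G := by
  have hk1 : 1 ≤ k := by omega
  have hp : Fact (Nat.Prime 2) := ⟨Nat.prime_two⟩
  have hcardP : Nat.card (P : Subgroup G) = 2 ^ (k + 1) := by
    rw [Nat.card_congr e.toEquiv, DihedralGroup.nat_card, pow_succ]; ring
  have hfrob : ∀ Q : Subgroup G, Q ≤ (P : Subgroup G) → ∀ g ∈ Subgroup.normalizer (Q : Set G),
      Nat.Coprime (orderOf g) 2 → g ∈ Subgroup.centralizer (Q : Set G) := by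
    intro Q hQP g hg hodd
    rcases Cfsg.Agent.Helper18.DihSylow.subgroup_dichotomy (P : Subgroup G) (2 ^ k) e (k + 1)
      hcardP Q hQP with hA | hKl
    · exact Cfsg.Agent.Helper18.DihSylow.mem_centralizer_of_aut_pgroup Q hA g hg hodd
    · by_contra hgC
      rcases klein_fusion P e hk Q hKl hQP g hg hgC (Nat.coprime_two_right.mp hodd) with h | h
      · exact hza h
      · exact hzb h
  obtain ⟨K, hK, hc⟩ := (Cfsg.Agent.S0071.result P).mpr hfrob
  refine ⟨?_, ⟨P, K, hK, hc⟩⟩
  have hab : ¬ IsConj (iota P e (sr 0)) (iota P e (sr 1)) := by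
    intro h
    obtain ⟨c, hc'⟩ := isConj_iff.mp h
    obtain ⟨t, ht, htc⟩ := Cfsg.Agent.Helper18.QD.fusion_of_complement (P : Subgroup G) K hc _ _
      (iota_mem P e _) (iota_mem P e _) c hc'
    obtain ⟨d, rfl⟩ := iota_surj P e t ht
    rw [← map_inv, ← map_mul, ← map_mul] at htc
    exact sr_zero_not_conj_sr_one hk1 d (iota_inj P e htc)
  have hset : {C : ConjClasses G | ∃ g : G, ConjClasses.mk g = C ∧ orderOf g = 2} =
      {ConjClasses.mk (iota P e (r (hh k))), ConjClasses.mk (iota P e (sr 0)),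
        ConjClasses.mk (iota P e (sr 1))} := by
    ext C
    simp only [Set.mem_ofPred_eq, Set.mem_insert_iff, Set.mem_singleton_iff]
    constructor
    · rintro ⟨t, rfl, ht⟩
      rw [ConjClasses.mk_eq_mk_iff_isConj, ConjClasses.mk_eq_mk_iff_isConj,
        ConjClasses.mk_eq_mk_iff_isConj]
      exact invol_conj P e hk1 t ht
    · rintro (rfl | rfl | rfl)
      · exact ⟨_, rfl, orderOf_z P e hk1⟩
      · exact ⟨_, rfl, orderOf_refl P e 0⟩
      · exact ⟨_, rfl, orderOf_refl P e 1⟩
  show Nat.card ↥{C : ConjClasses G | ∃ g : G, ConjClasses.mk g = C ∧ orderOf g = 2} = 3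
  rw [Nat.card_coe_set_eq, hset, Set.ncard_eq_three]
  refine ⟨_, _, _, ?_, ?_, ?_, rfl⟩
  · rw [Ne, ConjClasses.mk_eq_mk_iff_isConj]; exact hza
  · rw [Ne, ConjClasses.mk_eq_mk_iff_isConj]; exact hzb
  · rw [Ne, ConjClasses.mk_eq_mk_iff_isConj]; exact hab

omit [Finite G] in
theorem iota_e (y : (P : Subgroup G)) : iota P e (e y) = (y : G) := by
  simp [iota]

/-- case of partial fusion: `z ~ sr 0`, `z ≁ sr 1` -/
theorem case_two (hk : 2 ≤ k)
    (hza : IsConj (iota P e (r (hh k))) (iota P e (sr 0)))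
    (hzb : ¬ IsConj (iota P e (r (hh k))) (iota P e (sr 1))) :
    Nat.card {C : ConjClasses G // ∃ g : G, ConjClasses.mk g = C ∧ orderOf g = 2} = 2 ∧
      (∃ N : Subgroup G, N.Normal ∧ N.index = 2) ∧ ∀ N : Subgroup G, N.Normal → N.index ≠ 4 := by
  have hk1 : 1 ≤ k := by omega
  have hp : Fact (Nat.Prime 2) := ⟨Nat.prime_two⟩
  -- the maximal subgroup of `P`
  obtain ⟨M', hM'⟩ : ∃ M' : Subgroup (P : Subgroup G), M' = (Md k).comap e.toMonoidHom := ⟨_, rfl⟩
  have hM'idx : M'.index = 2 := by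
    rw [hM', Subgroup.index_comap_of_surjective (Md k) (f := e.toMonoidHom) e.surjective,
      Md_index hk1]
  have hM'mem : ∀ y : (P : Subgroup G), y ∈ M' ↔ e y ∈ Md k := by
    intro y; rw [hM']; rfl
  refine ⟨?_, ?_, ?_⟩
  · have hset : {C : ConjClasses G | ∃ g : G, ConjClasses.mk g = C ∧ orderOf g = 2} =
        {ConjClasses.mk (iota P e (r (hh k))), ConjClasses.mk (iota P e (sr 1))} := by
      ext C
      simp only [Set.mem_ofPred_eq, Set.mem_insert_iff, Set.mem_singleton_iff]
      constructor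
      · rintro ⟨t, rfl, ht⟩
        rw [ConjClasses.mk_eq_mk_iff_isConj, ConjClasses.mk_eq_mk_iff_isConj]
        rcases invol_conj P e hk1 t ht with h | h | h
        · exact Or.inl h
        · exact Or.inl (h.trans hza.symm)
        · exact Or.inr h
      · rintro (rfl | rfl)
        · exact ⟨_, rfl, orderOf_z P e hk1⟩
        · exact ⟨_, rfl, orderOf_refl P e 1⟩
    have hne : ConjClasses.mk (iota P e (r (hh k))) ≠ ConjClasses.mk (iota P e (sr 1)) := by
      rw [Ne, ConjClasses.mk_eq_mk_iff_isConj]; exact hzb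
    show Nat.card ↥{C : ConjClasses G | ∃ g : G, ConjClasses.mk g = C ∧ orderOf g = 2} = 2
    rw [Nat.card_coe_set_eq, hset, Set.ncard_pair hne]
  · -- transfer
    obtain ⟨f, hf⟩ : ∃ f : G →* ℤˣ, f = MonoidHom.transfer
        (Cfsg.Agent.Helper16.indexTwoHom M' hM'idx) := ⟨_, rfl⟩
    have hfb : f (iota P e (sr 1)) = -1 := by
      rw [hf]
      apply Cfsg.Agent.Helper16.transfer_indexTwoHom_eq_neg_one_of_pow (P : Subgroup G)
        (sylow_index_odd P) M' hM'idx _ 1 le_rfl (by rw [orderOf_refl]; norm_num)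
      · rintro y' ⟨g, hg⟩ hy'
        rw [hM'mem] at hy'
        have hord : orderOf (e y') = 2 := by
          rw [← orderOf_iota P e, iota_e, hg, Cfsg.Agent.Helper18.QD.orderOf_conj', orderOf_refl]
        have hyb : IsConj (iota P e (e y')) (iota P e (sr 1)) := by
          rw [iota_e, isConj_comm, isConj_iff]; exact ⟨g, hg.symm⟩
        rcases (dih_invol_iff hk1 _).mp hord with h | ⟨i, h⟩
        · rw [h] at hyb; exact hzb hyb
        · rw [h] at hy' hyb
          obtain ⟨j, rfl⟩ := sr_mem_Md.mp hy'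
          obtain ⟨c, hc⟩ := sr_even_conj (k := k) j
          exact hzb ((hza.trans (iota_conj P e hc).symm).trans hyb)
      · rintro k' hk' y' ⟨g, hg⟩
        have h1 : iota P e (sr 1) ^ 2 ^ k' = 1 := by
          obtain ⟨k'', rfl⟩ : ∃ k'', k' = k'' + 1 := ⟨k' - 1, by omega⟩
          rw [pow_succ', pow_mul, ← map_pow, pow_two, sr_mul_self, map_one, one_pow]
        rw [h1] at hg
        have h2 : y' = 1 := Subtype.ext (by rw [hg]; simp)
        rw [h2]; exact Subgroup.one_mem _
    exact ⟨f.ker, MonoidHom.normal_ker f, ker_index_two f _ hfb⟩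
  · intro N hN hidx
    have hcomm : commutator G ≤ N := by
      rw [← Subgroup.Normal.quotient_commutative_iff_commutator_le]
      apply IsPGroup.isMulCommutative_of_card_eq_prime_sq (p := 2)
      show N.index = 2 ^ 2
      rw [hidx]; norm_num
    have hr2 : ∀ j : ZMod (2 ^ k), iota P e (r (2 * j)) ∈ N := by
      intro j
      apply hcomm
      have h1 : (r (2 * j) : DihedralGroup (2 ^ k)) = ⁅r j, sr 0⁆ := by
        rw [commutatorElement_def, r_conj_sr, inv_sr, sr_mul_sr]; congr 1; ring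
      rw [h1, map_commutatorElement, commutator_def]
      exact Subgroup.commutator_mem_commutator (Subgroup.mem_top _) (Subgroup.mem_top _)
    have hzN : iota P e (r (hh k)) ∈ N := by rw [hh_even hk]; exact hr2 _
    have haN : iota P e (sr 0) ∈ N := by
      obtain ⟨c, hc⟩ := isConj_iff.mp hza
      rw [← hc]; exact hN.conj_mem _ hzN c
    have hle : M' ≤ N.subgroupOf (P : Subgroup G) := by
      intro y hy
      rw [hM'mem] at hy
      rw [Subgroup.mem_subgroupOf, ← iota_e P e y]
      rcases hy with ⟨j, h⟩ | ⟨j, h⟩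
      · rw [h]; exact hr2 j
      · rw [h]
        have h1 : (sr (2 * j) : DihedralGroup (2 ^ k)) = r (-j) * sr 0 * (r (-j))⁻¹ := by
          rw [r_conj_sr]; congr 1; ring
        rw [h1, map_mul, map_mul, map_inv]
        exact hN.conj_mem _ haN _
    have h1 : (N.subgroupOf (P : Subgroup G)).index ∣ M'.index := Subgroup.index_dvd_of_le hle
    have htop : (P : Subgroup G) ⊔ N = ⊤ := by
      rw [← Subgroup.index_eq_one]
      have h2 : ((P : Subgroup G) ⊔ N).index ∣ (P : Subgroup G).index :=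
        Subgroup.index_dvd_of_le le_sup_left
      have h3 : ((P : Subgroup G) ⊔ N).index ∣ N.index := Subgroup.index_dvd_of_le le_sup_right
      rw [hidx] at h3
      have hodd := sylow_index_odd P
      have h4 : Nat.Coprime (P : Subgroup G).index 4 := by
        have : (4 : ℕ) = 2 ^ 2 := by norm_num
        rw [this]
        exact Nat.Coprime.pow_right 2 (Nat.coprime_two_right.mpr hodd)
      exact Nat.eq_one_of_dvd_coprimes h4 h2 h3
    have h5 : (N.subgroupOf (P : Subgroup G)).index = 4 := by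
      show N.relIndex (P : Subgroup G) = 4
      rw [← Subgroup.relIndex_sup_right, htop, Subgroup.relIndex_top_right, hidx]
    rw [h5, hM'idx] at h1
    omega

end group

section shift

/-- the automorphism `r i ↦ r i`, `sr i ↦ sr (i + 1)` -/
def shift (n : ℕ) : DihedralGroup n ≃* DihedralGroup n where
  toFun d := match d with
    | r i => r i
    | sr i => sr (i + 1)
  invFun d := match d with
    | r i => r i
    | sr i => sr (i - 1)
  left_inv := by rintro (i | i) <;> simp
  right_inv := by rintro (i | i) <;> simp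
  map_mul' := by
    rintro (i | i) (j | j) <;> simp only [r_mul_r, r_mul_sr, sr_mul_r, sr_mul_sr] <;>
      congr 1 <;> ring

theorem shift_symm_r (n : ℕ) (i : ZMod n) : (shift n).symm (r i) = r i := rfl
theorem shift_symm_sr (n : ℕ) (i : ZMod n) : (shift n).symm (sr i) = sr (i - 1) := rfl

variable {G : Type*} [Group G] (P : Sylow 2 G) {k : ℕ}
  (e : ↥(P : Subgroup G) ≃* DihedralGroup (2 ^ k))

theorem iota_shift (d : DihedralGroup (2 ^ k)) :
    iota P (e.trans (shift (2 ^ k))) d = iota P e ((shift (2 ^ k)).symm d) := rfl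

end shift

end Cfsg.Agent.Helper16.DihFusion
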