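import Mathlib
import Cfsg.Agent.Helper16.F3Basic
import Cfsg.Agent.Helper14.PCore
import Cfsg.Agent.S5560

set_option autoImplicit false
set_option linter.unusedVariables false
set_option linter.style.haveILetI false

/-! # Fischer rank 3, piece WIDTH: simple non-abelian derived group forces a commuting pair. -/

namespace Cfsg.Agent.Helper16.F3

open scoped commutatorElement

variable {G : Type*} [Group G]

/-- A normal subgroup of a group with simple derived group contains the derived group or is
central. -/
theorem commutator_le_or_le_center (hS : IsSimpleGroup (commutator G)) (N : Subgroup G)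
    [hN : N.Normal] : commutator G ≤ N ∨ N ≤ Subgroup.center G := by
  haveI := hS
  have hnorm : (N.subgroupOf (commutator G)).Normal := inferInstance
  rcases hnorm.eq_bot_or_eq_top with h | h
  · right
    rw [Subgroup.subgroupOf_eq_bot, disjoint_iff] at h
    intro x hx
    rw [Subgroup.mem_center_iff]
    intro g
    have h1 : ⁅x, g⁆ ∈ N ⊓ commutator G := by
      refine ⟨?_, ?_⟩
      · rw [commutatorElement_def, mul_assoc, mul_assoc]
        rw [← mul_assoc g]
        exact Subgroup.mul_mem _ hx (hN.conj_mem _ (Subgroup.inv_mem _ hx) g)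
      · rw [commutator_def]
        exact Subgroup.commutator_mem_commutator (Subgroup.mem_top _) (Subgroup.mem_top _)
    rw [h, Subgroup.mem_bot, commutatorElement_eq_one_iff_mul_comm] at h1
    exact h1.symm
  · left
    rwa [Subgroup.subgroupOf_eq_top] at h

/-- A simple non-abelian group is not a `p`-group. -/
theorem not_isPGroup_of_simple_nonab {H : Type*} [Group H] [Finite H] (hS : IsSimpleGroup H)
    (hn : ∃ x y : H, x * y ≠ y * x) (p : ℕ) [Fact p.Prime] : ¬ IsPGroup p H := by
  intro hp
  haveI := hS
  haveI : Nontrivial H := IsSimpleGroup.toNontrivial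
  have hcn : Nontrivial (Subgroup.center H) := hp.center_nontrivial
  have hcnorm : (Subgroup.center H).Normal := inferInstance
  rcases hcnorm.eq_bot_or_eq_top with h' | h'
  · exact (Subgroup.nontrivial_iff_ne_bot _).mp hcn h'
  · obtain ⟨x, y, hxy⟩ := hn
    apply hxy
    have hx : x ∈ Subgroup.center H := by rw [h']; trivial
    rw [Subgroup.mem_center_iff] at hx
    exact (hx y).symm

variable [Finite G] {D : Set G}

/-- WIDTH: simple non-abelian derived group ⇒ two different members of `D` commute. -/
theorem width_of_simple (hD : Cfsg.IsThreeTranspositionClass D)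
    (hsimple : IsSimpleGroup (commutator G)) (hnonab : ∃ x y : commutator G, x * y ≠ y * x) :
    ∃ a ∈ D, ∃ b ∈ D, a ≠ b ∧ Commute a b := by
  classical
  by_contra hcon
  push Not at hcon
  obtain ⟨hset, ⟨d, hdD, hDeq⟩, hgen⟩ := hD
  haveI : Fact (Nat.Prime 3) := ⟨Nat.prime_three⟩
  have hsq : ∀ x ∈ D, x * x = 1 := by
    intro x hx
    have := pow_orderOf_eq_one x
    rw [hset.1 x hx, pow_two] at this
    exact this
  -- all products have order a power of 3
  have hprod : ∀ a ∈ conjugatesOf d, ∀ b ∈ conjugatesOf d, ∃ k : ℕ, orderOf (a * b) = 3 ^ k := by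
    intro a ha b hb
    rw [← hDeq] at ha hb
    by_cases hab : a = b
    · refine ⟨0, ?_⟩
      rw [hab, hsq b hb, orderOf_one, pow_zero]
    · have hnc : ¬ Commute a b := hcon a ha b hb hab
      have h3 : (a * b) ^ 3 = 1 := by
        rcases hset.2 a ha b hb with h | h
        · exfalso
          apply hnc
          have h1 : a * b * (a * b) = 1 := by rw [← pow_two]; exact h
          have h2 : a * b = (a * b)⁻¹ := eq_inv_of_mul_eq_one_left h1
          rw [mul_inv_rev, inv_eq_of_mul_eq_one_left (hsq a ha),
            inv_eq_of_mul_eq_one_left (hsq b hb)] at h2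
          exact h2
        · exact h
      have hne1 : a * b ≠ 1 := by
        intro h1
        apply hab
        have : a = b⁻¹ := eq_inv_of_mul_eq_one_left h1
        rw [this, inv_eq_of_mul_eq_one_left (hsq b hb)]
      refine ⟨1, ?_⟩
      rw [pow_one]
      exact orderOf_eq_prime h3 hne1
  have hcore := Cfsg.Agent.S5560.result Nat.prime_three (by norm_num) d (hset.1 d hdD) hprod
  -- O_3(G) is central
  have hcen : Cfsg.pCore 3 G ≤ Subgroup.center G := by
    rcases commutator_le_or_le_center hsimple (Cfsg.pCore 3 G) with h | h
    · exfalso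
      have hp : IsPGroup 3 (commutator G) := (Cfsg.Agent.Helper14.pCore_isPGroup 3).to_le h
      exact not_isPGroup_of_simple_nonab hsimple hnonab 3 hp
    · exact h
  -- so all members of D commute, hence D = {d}
  have hall : ∀ a ∈ D, a = d := by
    intro a ha
    by_contra hne
    apply hcon a ha d hdD hne
    have h1 : a * d ∈ Subgroup.center G := hcen (hcore a (hDeq ▸ ha) d (hDeq ▸ hdD))
    rw [Subgroup.mem_center_iff] at h1
    have h2 := h1 a
    -- a * (a * d) = (a * d) * a, so d = a d a, so a d = d a
    have h3 : d = a * d * a := by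
      calc d = (a * a) * d := by rw [hsq a ha, one_mul]
        _ = a * (a * d) := by group
        _ = a * d * a := h2
    have h4 : a * d = d * a := by
      calc a * d = a * (a * d * a) := by rw [← h3]
        _ = (a * a) * d * a := by group
        _ = d * a := by rw [hsq a ha, one_mul]
    exact h4
  -- G is then abelian
  obtain ⟨⟨x, hx⟩, ⟨y, hy⟩, hxy⟩ := hnonab
  apply hxy
  have hcomm : ∀ u v : G, u * v = v * u := by
    have hle : Subgroup.closure D ≤ Subgroup.zpowers d := by
      rw [Subgroup.closure_le]
      intro a ha
      rw [hall a ha]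
      exact Subgroup.mem_zpowers d
    rw [hgen] at hle
    intro u v
    obtain ⟨m, rfl⟩ := Subgroup.mem_zpowers_iff.mp (hle (Subgroup.mem_top u))
    obtain ⟨n, rfl⟩ := Subgroup.mem_zpowers_iff.mp (hle (Subgroup.mem_top v))
    exact (Commute.zpow_zpow_self d m n).eq
  exact Subtype.ext (hcomm x y)

end Cfsg.Agent.Helper16.F3
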