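import Mathlib
import Cfsg.Agent.Helper16.F3Basic
import Cfsg.Agent.Helper16.F3WIDTH
import Cfsg.Agent.Helper4.ThreeTransPrimA
import Cfsg.Agent.Helper4.ThreeTransPrimD

set_option autoImplicit false
set_option linter.unusedVariables false
set_option linter.style.haveILetI false

/-! # Fischer rank 3, piece PRIMS: simple non-abelian derived group ⇒ primitive on `D`. -/

namespace Cfsg.Agent.Helper16.F3

open scoped commutatorElement
open Cfsg.Agent.Helper4.ThreeTransPrim

variable {G : Type*} [Group G] [Finite G] {D : Set G}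

/-- PRIMS: simple non-abelian derived group ⇒ primitive. -/
theorem primitive_of_simple (hD : Cfsg.IsThreeTranspositionClass D)
    (hsimple : IsSimpleGroup (commutator G)) (hnonab : ∃ x y : commutator G, x * y ≠ y * x) :
    Cfsg.IsPrimitiveUnderConj D := by
  classical
  have hDg : Cfsg.IsThreeTranspositionGroup D := by
    obtain ⟨hset, ⟨d₀, hd₀, hDeq⟩, hgen⟩ := hD
    refine ⟨hset, ?_, hgen⟩
    intro g x hx
    rw [hDeq] at hx ⊢
    have hx' : IsConj d₀ x := hx
    exact hx'.trans (isConj_iff.mpr ⟨g, rfl⟩)
  obtain ⟨hset, ⟨d, hdD, hDeq⟩, hgen⟩ := hD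
  have hconj : ∀ g : G, ∀ x ∈ D, g * x * g⁻¹ ∈ D := hDg.2.1
  have hconjd : ∀ a ∈ D, ∀ b ∈ D, ∃ g : G, g * a * g⁻¹ = b := by
    intro a ha b hb
    rw [hDeq] at ha hb
    have ha' : IsConj d a := ha
    have hb' : IsConj d b := hb
    exact isConj_iff.mp (ha'.symm.trans hb')
  have hsq : ∀ x ∈ D, x * x = 1 := fun x hx => sq hDg hx
  -- two different members
  have htwo : ∃ a ∈ D, ∃ b ∈ D, a ≠ b := by
    by_contra hcon
    push Not at hcon
    obtain ⟨⟨x, hx⟩, ⟨y, hy⟩, hxy⟩ := hnonab
    apply hxy
    have hle : Subgroup.closure D ≤ Subgroup.zpowers d := by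
      rw [Subgroup.closure_le]
      intro a ha
      rw [hcon a ha d hdD]
      exact Subgroup.mem_zpowers d
    rw [hgen] at hle
    obtain ⟨m, hm⟩ := Subgroup.mem_zpowers_iff.mp (hle (Subgroup.mem_top x))
    obtain ⟨n, hn⟩ := Subgroup.mem_zpowers_iff.mp (hle (Subgroup.mem_top y))
    apply Subtype.ext
    show x * y = y * x
    rw [← hm, ← hn]
    exact (Commute.zpow_zpow_self d m n).eq
  refine ⟨hconjd, htwo, ?_⟩
  intro B hBD hB
  by_contra hcon
  push Not at hcon
  obtain ⟨hns, hne⟩ := hcon
  obtain ⟨a, ha, b, hb, hab⟩ := hns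
  have haD := hBD ha
  have hbD := hBD hb
  have hB' : ∀ g : G, cj g '' B = B ∨ Disjoint (cj g '' B) B := hB
  have hN := normalClosure_le_stab hset hconj hBD hB' ha hb
  have hmemN : a * b ∈ Subgroup.normalClosure ({a * b} : Set G) :=
    Subgroup.subset_normalClosure (Set.mem_singleton _)
  rcases commutator_le_or_le_center hsimple (Subgroup.normalClosure ({a * b} : Set G)) with h | h
  · -- the derived group stabilizes B, so does every member of D, so B = D
    apply hne
    have haS : a ∈ stab B := by
      rw [mem_stab]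
      rcases hB' a with h1 | h1
      · exact h1
      · exfalso
        have h2 : a ∈ cj a '' B := ⟨a, ha, by simp [cj_apply]⟩
        exact Set.disjoint_left.mp h1 h2 ha
    have hDS : D ⊆ stab B := by
      intro x hx
      have h1 : x * a ∈ stab B := hN (h (mul_mem_commutator hset hconjd hx haD))
      have h2 : x = (x * a) * a := by rw [mul_assoc, hsq a haD, mul_one]
      rw [h2]
      exact (stab B).mul_mem h1 haS
    have htop : stab B = ⊤ := by
      rw [eq_top_iff, ← hgen, Subgroup.closure_le]
      exact hDS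
    apply Set.Subset.antisymm hBD
    intro y hy
    obtain ⟨g, hg⟩ := hconjd a haD y hy
    have hgS : g ∈ stab B := by rw [htop]; exact Subgroup.mem_top g
    rw [mem_stab] at hgS
    rw [← hgS, ← hg]
    exact ⟨a, ha, rfl⟩
  · -- a * b is central
    have hz : a * b ∈ Subgroup.center G := h hmemN
    obtain ⟨g, hg⟩ := hconjd a haD b hbD
    have hai : a⁻¹ = a := inv_eq hDg haD
    have hzc : a * b ∈ commutator G := mul_mem_commutator hset hconjd haD hbD
    -- the centre of the derived group is trivial
    haveI := hsimple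
    have hcnorm : (Subgroup.center (commutator G)).Normal := inferInstance
    rcases hcnorm.eq_bot_or_eq_top with h' | h'
    · have hzmem : (⟨a * b, hzc⟩ : commutator G) ∈ Subgroup.center (commutator G) := by
        rw [Subgroup.mem_center_iff]
        intro y
        rw [Subgroup.mem_center_iff] at hz
        exact Subtype.ext (hz y.1)
      rw [h', Subgroup.mem_bot] at hzmem
      have h1 : a * b = 1 := congrArg Subtype.val hzmem
      apply hab
      have : a = b⁻¹ := eq_inv_of_mul_eq_one_left h1
      rw [this, inv_eq hDg hbD]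
    · obtain ⟨x, y, hxy⟩ := hnonab
      apply hxy
      have hx : x ∈ Subgroup.center (commutator G) := by rw [h']; trivial
      rw [Subgroup.mem_center_iff] at hx
      exact (hx y).symm

end Cfsg.Agent.Helper16.F3
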