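import Mathlib
import Cfsg.Agent.Helper16.F3Basic
import Cfsg.Agent.Helper14.F3DIAMC
import Cfsg.Agent.Helper15.F3LEMA

set_option autoImplicit false
set_option linter.unusedVariables false

/-! # Fischer rank 3, piece TRANSA: `C(d)` is transitive on the non-commuting members. -/

namespace Cfsg.Agent.Helper16.F3

variable {G : Type*} [Group G] [Finite G] {D : Set G}

omit [Finite G] in
/-- Conjugation by an element commuting with `d` transports commutation with `d`. -/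
theorem commute_conj_of_commute {g d k : G} (hg : Commute g d) (hk : Commute k d) :
    Commute (g * k * g⁻¹) d := by
  have e : g * d * g⁻¹ = d := by rw [hg.eq, mul_inv_cancel_right]
  have := (Commute.conj_iff g).mpr hk
  rwa [e] at this

omit [Finite G] in
theorem not_commute_conj_of_commute {g d x : G} (hg : Commute g d) (hx : ¬ Commute d x) :
    ¬ Commute d (g * x * g⁻¹) := by
  intro hc
  apply hx
  have e : g * d * g⁻¹ = d := by rw [hg.eq, mul_inv_cancel_right]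
  have h1 : Commute (g * d * g⁻¹) (g * x * g⁻¹) := by rw [e]; exact hc
  exact (Commute.conj_iff g).mp h1

/-- TRANSA: `C(d)` is transitive on the members of `D` not commuting with `d`. -/
theorem trans_noncomm (h : Prim D) {d a b : G} (hd : d ∈ D) (ha : a ∈ D) (hb : b ∈ D)
    (hna : ¬ Commute d a) (hnb : ¬ Commute d b) : ∃ g : G, Commute g d ∧ g * a * g⁻¹ = b := by
  classical
  by_contra hcon
  push Not at hcon
  have hD := h.tt
  -- the relation "conjugate under C(d)"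
  let Cj : G → G → Prop := fun x y => ∃ g : G, Commute g d ∧ g * x * g⁻¹ = y
  have Cj_refl : ∀ x, Cj x x := fun x => ⟨1, Commute.one_left d, by group⟩
  have Cj_symm : ∀ x y, Cj x y → Cj y x := by
    rintro x y ⟨g, hg, rfl⟩
    exact ⟨g⁻¹, hg.inv_left, by group⟩
  have Cj_trans : ∀ x y z, Cj x y → Cj y z → Cj x z := by
    rintro x y z ⟨g, hg, rfl⟩ ⟨k, hk, rfl⟩
    exact ⟨k * g, hk.mul_left hg, by group⟩
  let θ : G → Set G := fun x => {k | k ∈ D ∧ Commute k d ∧ Commute k x}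
  let A : Set G := {x | x ∈ D ∧ ¬ Commute d x}
  have hθconj : ∀ g : G, Commute g d → ∀ x k, k ∈ θ x → g * k * g⁻¹ ∈ θ (g * x * g⁻¹) := by
    intro g hg x k ⟨hkD, hkd, hkx⟩
    exact ⟨conj_mem hD g hkD, commute_conj_of_commute hg hkd, (Commute.conj_iff g).mpr hkx⟩
  have hAconj : ∀ g : G, Commute g d → ∀ x ∈ A, g * x * g⁻¹ ∈ A := by
    intro g hg x ⟨hxD, hxd⟩
    exact ⟨conj_mem hD g hxD, not_commute_conj_of_commute hg hxd⟩
  -- choose a₁ ∈ A with θ a₁ inclusion-maximal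
  obtain ⟨a₁, ha₁A, hmax⟩ : ∃ a₁ ∈ A, ∀ x ∈ A, θ a₁ ⊆ θ x → θ x ⊆ θ a₁ := by
    obtain ⟨i, hi⟩ := Set.Finite.exists_maximalFor θ A (Set.toFinite A) ⟨a, ha, hna⟩
    exact ⟨i, hi.1, fun j hj hij => hi.2 hj hij⟩
  -- maximality is inherited by C(d)-conjugates
  have hmax' : ∀ g : G, Commute g d → ∀ x ∈ A, θ (g * a₁ * g⁻¹) ⊆ θ x → θ x ⊆ θ (g * a₁ * g⁻¹) := by
    intro g hg x hx hsub k hk
    have hx' : g⁻¹ * x * g⁻¹⁻¹ ∈ A := hAconj g⁻¹ hg.inv_left x hx
    have h1 : θ a₁ ⊆ θ (g⁻¹ * x * g⁻¹⁻¹) := by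
      intro m hm
      have h2 := hsub (hθconj g hg a₁ m hm)
      have h3 := hθconj g⁻¹ hg.inv_left x _ h2
      have e : g⁻¹ * (g * m * g⁻¹) * g⁻¹⁻¹ = m := by group
      rwa [e] at h3
    have h4 := hmax _ hx' h1 (hθconj g⁻¹ hg.inv_left x k hk)
    have h5 := hθconj g hg a₁ _ h4
    have e : g * (g⁻¹ * k * g⁻¹⁻¹) * g⁻¹ = k := by group
    rwa [e] at h5
  -- some b₁ ∈ A is not conjugate to a₁
  obtain ⟨b₁, hb₁A, hnc⟩ : ∃ b₁ ∈ A, ¬ Cj a₁ b₁ := by
    by_cases h1 : Cj a₁ a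
    · refine ⟨b, ⟨hb, hnb⟩, ?_⟩
      intro h2
      obtain ⟨g, hg, hgab⟩ := Cj_trans _ _ _ (Cj_symm _ _ h1) h2
      exact hcon g hg hgab
    · exact ⟨a, ⟨ha, hna⟩, h1⟩
  -- θ b₁ ⊆ θ (g a₁ g⁻¹) for all g ∈ C(d)
  have hsub : ∀ g : G, Commute g d → θ b₁ ⊆ θ (g * a₁ * g⁻¹) := by
    intro g hg
    have ha' : g * a₁ * g⁻¹ ∈ A := hAconj g hg a₁ ha₁A
    have hnc' : ∀ k : G, Commute k d → k * (g * a₁ * g⁻¹) * k⁻¹ ≠ b₁ := by
      intro k hk hkb
      apply hnc
      exact ⟨k * g, hk.mul_left hg, by rw [← hkb]; group⟩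
    by_cases hcase : θ (g * a₁ * g⁻¹) ⊆ θ b₁
    · exact hmax' g hg b₁ hb₁A hcase
    · rw [Set.not_subset] at hcase
      obtain ⟨e, ⟨heD, hed, hea⟩, heb⟩ := hcase
      have heb' : ¬ Commute e b₁ := fun hc => heb ⟨heD, hed, hc⟩
      intro k ⟨hkD, hkd, hkb⟩
      exact ⟨hkD, hkd, lemA hD hd ha'.1 hb₁A.1 heD ha'.2 hb₁A.2 hnc' hed hea heb' k hkD hkd hkb⟩
  -- θ b₁ is nonempty
  obtain ⟨z, hzD, hzd, hzb⟩ := diam_comm h hd hb₁A.1 hb₁A.2
  -- Z: the members of D commuting with d and with all conjugates of a₁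
  let Z : Set G := {k | k ∈ D ∧ Commute k d ∧ ∀ g : G, Commute g d → Commute k (g * a₁ * g⁻¹)}
  have hzZ : z ∈ Z := ⟨hzD, hzd, fun g hg => (hsub g hg ⟨hzD, hzd, hzb⟩).2.2⟩
  have hZconj : ∀ g : G, Commute g d → ∀ k ∈ Z, g * k * g⁻¹ ∈ Z := by
    intro g hg k ⟨hkD, hkd, hk⟩
    refine ⟨conj_mem hD g hkD, commute_conj_of_commute hg hkd, ?_⟩
    intro m hm
    have h1 := hk (g⁻¹ * m) (hg.inv_left.mul_left hm)
    have h2 := (Commute.conj_iff g).mpr h1
    have e : g * (g⁻¹ * m * a₁ * (g⁻¹ * m)⁻¹) * g⁻¹ = m * a₁ * m⁻¹ := by group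
    rwa [e] at h2
  let N : Subgroup G := Subgroup.closure Z
  let C : Subgroup G := Subgroup.centralizer (N : Set G)
  -- C(d) normalizes N
  have hNconj : ∀ g : G, Commute g d → ∀ n ∈ N, g * n * g⁻¹ ∈ N := by
    intro g hg n hn
    induction hn using Subgroup.closure_induction with
    | mem x hx => exact Subgroup.subset_closure (hZconj g hg x hx)
    | one => simp
    | mul x y _ _ hx hy =>
      have e : g * (x * y) * g⁻¹ = (g * x * g⁻¹) * (g * y * g⁻¹) := by group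
      rw [e]; exact N.mul_mem hx hy
    | inv x _ hx =>
      have e : g * x⁻¹ * g⁻¹ = (g * x * g⁻¹)⁻¹ := by group
      rw [e]; exact N.inv_mem hx
  -- hence C(d) normalizes C
  have hCconj : ∀ g : G, Commute g d → ∀ c ∈ C, g * c * g⁻¹ ∈ C := by
    intro g hg c hc
    rw [Subgroup.mem_centralizer_iff] at hc ⊢
    intro n hn
    have hn' : g⁻¹ * n * g⁻¹⁻¹ ∈ N := hNconj g⁻¹ hg.inv_left n hn
    have h1 := hc _ hn'
    calc n * (g * c * g⁻¹) = g * ((g⁻¹ * n * g⁻¹⁻¹) * c) * g⁻¹ := by group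
      _ = g * (c * (g⁻¹ * n * g⁻¹⁻¹)) * g⁻¹ := by rw [h1]
      _ = g * c * g⁻¹ * n := by group
  have hdC : d ∈ C := by
    rw [Subgroup.mem_centralizer_iff]
    intro n hn
    induction hn using Subgroup.closure_induction with
    | mem x hx => exact hx.2.1.eq
    | one => simp
    | mul x y _ _ hx hy => rw [mul_assoc, hy, ← mul_assoc, hx, mul_assoc]
    | inv x _ hx =>
      have : x⁻¹ * d = x⁻¹ * (d * x) * x⁻¹ := by group
      rw [this, ← hx]; group
  have ha₁C : a₁ ∈ C := by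
    rw [Subgroup.mem_centralizer_iff]
    intro n hn
    induction hn using Subgroup.closure_induction with
    | mem x hx =>
      have := hx.2.2 1 (Commute.one_left d)
      have e : (1 : G) * a₁ * 1⁻¹ = a₁ := by group
      rw [e] at this
      exact this.eq
    | one => simp
    | mul x y _ _ hx hy => rw [mul_assoc, hy, ← mul_assoc, hx, mul_assoc]
    | inv x _ hx =>
      have : x⁻¹ * a₁ = x⁻¹ * (a₁ * x) * x⁻¹ := by group
      rw [this, ← hx]; group
  -- the normalizer of C is everything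
  have hnorm : Subgroup.normalizer (C : Set G) = ⊤ := by
    apply centralizer_max h hd (Subgroup.normalizer (C : Set G))
      (x := a₁)
    · intro g hg
      rw [Subgroup.mem_normalizer_iff]
      intro c
      constructor
      · exact hCconj g hg c
      · intro hc
        have := hCconj g⁻¹ hg.inv_left _ hc
        have e : g⁻¹ * (g * c * g⁻¹) * g⁻¹⁻¹ = c := by group
        rwa [e] at this
    · exact Subgroup.le_normalizer ha₁C
    · intro hc
      exact ha₁A.2 hc.symm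
  -- so C contains D, hence C = ⊤, hence z is central
  have hCtop : C = ⊤ := by
    rw [eq_top_iff, ← hD.2.2, Subgroup.closure_le]
    intro x hx
    obtain ⟨g, hg⟩ := exists_conj h hd hx
    have hgn : g ∈ Subgroup.normalizer (C : Set G) := by rw [hnorm]; exact Subgroup.mem_top g
    rw [Subgroup.mem_normalizer_iff] at hgn
    rw [← hg]
    exact (hgn d).mp hdC
  have hzcen : ∀ x : G, Commute x z := by
    intro x
    have hx : x ∈ C := by rw [hCtop]; exact Subgroup.mem_top x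
    rw [Subgroup.mem_centralizer_iff] at hx
    exact (hx z (Subgroup.subset_closure hzZ)).symm
  -- but z ≠ d are conjugate
  obtain ⟨g, hg⟩ := exists_conj h hzD hd
  have hzd' : z = d := by
    rw [← hg, (hzcen g).eq, mul_inv_cancel_right]
  apply hb₁A.2
  rw [← hzd']
  exact hzb

end Cfsg.Agent.Helper16.F3
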