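import Mathlib
import Cfsg.Agent.Helper16.F3Basic
import Cfsg.Agent.Helper14.F3LEMC
import Cfsg.Agent.Helper14.F3DIAMN
import Cfsg.Agent.Helper14.F3VLEM
import Cfsg.Agent.Helper16.F3TRANSA

set_option autoImplicit false
set_option linter.unusedVariables false

/-! # Fischer rank 3, piece TRANSC: `C(d)` is transitive on the commuting members. -/

namespace Cfsg.Agent.Helper16.F3

variable {G : Type*} [Group G] [Finite G] {D : Set G}

/-- TRANSC: `C(d)` is transitive on the members of `D` other than `d` commuting with `d`. -/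
theorem trans_comm (h : Prim D) {d e f : G} (hd : d ∈ D) (he : e ∈ D) (hf : f ∈ D) (hed : e ≠ d)
    (hfd : f ≠ d) (hce : Commute d e) (hcf : Commute d f) :
    ∃ g : G, Commute g d ∧ g * e * g⁻¹ = f := by
  classical
  by_contra hcon
  push Not at hcon
  have hD := h.tt
  let Cj : G → G → Prop := fun x y => ∃ g : G, Commute g d ∧ g * x * g⁻¹ = y
  have Cj_symm : ∀ x y, Cj x y → Cj y x := by
    rintro x y ⟨g, hg, rfl⟩
    exact ⟨g⁻¹, hg.inv_left, by group⟩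
  have Cj_trans : ∀ x y z, Cj x y → Cj y z → Cj x z := by
    rintro x y z ⟨g, hg, rfl⟩ ⟨k, hk, rfl⟩
    exact ⟨k * g, hk.mul_left hg, by group⟩
  let ψ : G → Set G := fun x => {a | a ∈ D ∧ ¬ Commute a d ∧ Commute a x}
  let Dd : Set G := {x | x ∈ D ∧ x ≠ d ∧ Commute d x}
  have hconj_d : ∀ g : G, Commute g d → g * d * g⁻¹ = d := by
    intro g hg
    rw [hg.eq, mul_inv_cancel_right]
  have hψconj : ∀ g : G, Commute g d → ∀ x a, a ∈ ψ x → g * a * g⁻¹ ∈ ψ (g * x * g⁻¹) := by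
    intro g hg x a ⟨haD, had, hax⟩
    refine ⟨conj_mem hD g haD, ?_, (Commute.conj_iff g).mpr hax⟩
    intro hc
    apply had
    have h1 : Commute (g * a * g⁻¹) (g * d * g⁻¹) := by rw [hconj_d g hg]; exact hc
    exact (Commute.conj_iff g).mp h1
  have hDconj : ∀ g : G, Commute g d → ∀ x ∈ Dd, g * x * g⁻¹ ∈ Dd := by
    intro g hg x ⟨hxD, hxd, hcx⟩
    refine ⟨conj_mem hD g hxD, ?_, ?_⟩
    · intro hx
      apply hxd
      have : g * x * g⁻¹ = g * d * g⁻¹ := by rw [hx, hconj_d g hg]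
      exact mul_left_cancel (mul_right_cancel this)
    · have := (Commute.conj_iff g).mpr hcx
      rwa [hconj_d g hg] at this
  obtain ⟨e₁, he₁, hmax⟩ : ∃ e₁ ∈ Dd, ∀ x ∈ Dd, ψ e₁ ⊆ ψ x → ψ x ⊆ ψ e₁ := by
    obtain ⟨i, hi⟩ := Set.Finite.exists_maximalFor ψ Dd (Set.toFinite Dd) ⟨e, he, hed, hce⟩
    exact ⟨i, hi.1, fun j hj hij => hi.2 hj hij⟩
  have hmax' : ∀ g : G, Commute g d → ∀ x ∈ Dd, ψ (g * e₁ * g⁻¹) ⊆ ψ x → ψ x ⊆ ψ (g * e₁ * g⁻¹) := by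
    intro g hg x hx hsub k hk
    have hx' : g⁻¹ * x * g⁻¹⁻¹ ∈ Dd := hDconj g⁻¹ hg.inv_left x hx
    have h1 : ψ e₁ ⊆ ψ (g⁻¹ * x * g⁻¹⁻¹) := by
      intro m hm
      have h2 := hsub (hψconj g hg e₁ m hm)
      have h3 := hψconj g⁻¹ hg.inv_left x _ h2
      have e : g⁻¹ * (g * m * g⁻¹) * g⁻¹⁻¹ = m := by group
      rwa [e] at h3
    have h4 := hmax _ hx' h1 (hψconj g⁻¹ hg.inv_left x k hk)
    have h5 := hψconj g hg e₁ _ h4
    have e : g * (g⁻¹ * k * g⁻¹⁻¹) * g⁻¹ = k := by group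
    rwa [e] at h5
  obtain ⟨e₂, he₂, hnc⟩ : ∃ e₂ ∈ Dd, ¬ Cj e₁ e₂ := by
    by_cases h1 : Cj e₁ e
    · refine ⟨f, ⟨hf, hfd, hcf⟩, ?_⟩
      intro h2
      obtain ⟨g, hg, hgab⟩ := Cj_trans _ _ _ (Cj_symm _ _ h1) h2
      exact hcon g hg hgab
    · exact ⟨e, ⟨he, hed, hce⟩, h1⟩
  -- ψ e₂ ⊆ ψ (g e₁ g⁻¹) for all g ∈ C(d)
  have hsub : ∀ g : G, Commute g d → ψ e₂ ⊆ ψ (g * e₁ * g⁻¹) := by
    intro g hg
    have he' : g * e₁ * g⁻¹ ∈ Dd := hDconj g hg e₁ he₁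
    have hnc' : ∀ k : G, Commute k d → k * (g * e₁ * g⁻¹) * k⁻¹ ≠ e₂ := by
      intro k hk hkb
      apply hnc
      exact ⟨k * g, hk.mul_left hg, by rw [← hkb]; group⟩
    by_cases hcase : ψ (g * e₁ * g⁻¹) ⊆ ψ e₂
    · exact hmax' g hg e₂ he₂ hcase
    · rw [Set.not_subset] at hcase
      obtain ⟨a, ⟨haD, had, hae1⟩, hae2⟩ := hcase
      have hae2' : ¬ Commute a e₂ := fun hc => hae2 ⟨haD, had, hc⟩
      intro a' ⟨ha'D, ha'd, ha'e2⟩
      refine ⟨ha'D, ha'd, ?_⟩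
      by_contra ha'e1
      exact lemC hD hd he'.1 he₂.1 haD ha'D he'.2.1 he₂.2.1 he'.2.2 he₂.2.2 hnc' had hae1 hae2'
        ha'd ha'e2 ha'e1
  -- ψ e₂ is empty
  have hempty : ∀ a ∈ D, ¬ Commute a d → ¬ Commute a e₂ := by
    intro a haD had hae2
    obtain ⟨a₀, ha₀D, ha₀d, ha₀e⟩ := diam_noncomm h hd he₁.1 he₁.2.1.symm he₁.2.2
    obtain ⟨k, hk, hka⟩ := trans_noncomm h hd ha₀D haD (fun hc => ha₀d hc.symm)
      (fun hc => had hc.symm)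
    have h1 := (hsub k hk ⟨haD, had, hae2⟩).2.2
    rw [← hka] at h1
    exact ha₀e ((Commute.conj_iff k).mp h1)
  obtain ⟨x, hxD, hxe, hxd⟩ := vlem h hd he₂.1 he₂.2.1 he₂.2.2.symm
  exact hempty x hxD hxd hxe

end Cfsg.Agent.Helper16.F3
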