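import Mathlib
import Cfsg.Agent.Helper16.F3Basic
import Cfsg.Agent.Helper16.F3WIDTH
import Cfsg.Agent.Helper16.F3PRIMS
import Cfsg.Agent.Helper16.F3TRANSC
import Cfsg.Agent.Helper14.F3VLEM
import Cfsg.Agent.Helper21.F3FISCH
import Cfsg.Agent.Helper22.F3MAXCAux
import Cfsg.Agent.Helper22.F3CONNAux
import Cfsg.Agent.S5354

set_option autoImplicit false

/-! # Fischer rank-3 package: glue (`Prim D` from a simple derived group; wrappers). -/

namespace Cfsg.Agent.Helper16.F3

variable {G : Type*} [Group G] [Finite G] {D : Set G}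

omit [Finite G] in
/-- A class of 3-transpositions is in particular a conjugation-invariant generating set of
3-transpositions. -/
theorem ttgroup_of_class (hD : Cfsg.IsThreeTranspositionClass D) :
    Cfsg.IsThreeTranspositionGroup D := by
  obtain ⟨hset, ⟨d₀, hd₀, hDeq⟩, hgen⟩ := hD
  refine ⟨hset, ?_, hgen⟩
  intro g x hx
  rw [hDeq] at hx ⊢
  have hx' : IsConj d₀ x := hx
  exact hx'.trans (isConj_iff.mpr ⟨g, rfl⟩)

/-- Simple non-abelian derived group ⇒ the standing hypothesis `Prim D`. -/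
theorem prim_of_simple (hD : Cfsg.IsThreeTranspositionClass D)
    (hsimple : IsSimpleGroup (commutator G)) (hnonab : ∃ x y : commutator G, x * y ≠ y * x) :
    Prim D :=
  ⟨ttgroup_of_class hD, primitive_of_simple hD hsimple hnonab, width_of_simple hD hsimple hnonab⟩

/-- MAXC: maximal commuting subsets of `D`. -/
theorem maxcomm (h : Prim D) {E : Set G} (hE : E ⊆ D) (hc : ∀ a ∈ E, ∀ b ∈ E, Commute a b)
    (hmax : ∀ E' : Set G, E' ⊆ D → (∀ a ∈ E', ∀ b ∈ E', Commute a b) → E'.ncard ≤ E.ncard) :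
    (∃ P : Sylow 2 G, (P : Subgroup G) ≤ Subgroup.normalizer E) ∧
      ∀ a ∈ E, ∀ b ∈ E, ∀ c ∈ E, ∀ d ∈ E, a ≠ b → c ≠ d →
        ∃ g ∈ Subgroup.normalizer E, g * a * g⁻¹ = c ∧ g * b * g⁻¹ = d :=
  maxcomm_of_trans h.tt h.prim.1
    (fun hd he hf hed hfd hce hcf => trans_comm h hd he hf hed hfd hce hcf) hE hc hmax

/-- CONN: `D_d` is a single conjugacy class of the subgroup it generates. -/
theorem comm_class (h : Prim D) {d y y' : G} (hd : d ∈ D) (hy : y ∈ D) (hy' : y' ∈ D)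
    (hyd : y ≠ d) (hy'd : y' ≠ d) (hc : Commute d y) (hc' : Commute d y') :
    ∃ g ∈ Subgroup.closure {z : G | z ∈ D ∧ z ≠ d ∧ Commute d z}, g * y * g⁻¹ = y' :=
  comm_class_of h.tt h.prim.1 (fun d hd => exists_noncomm h hd)
    (fun hd he hf hed hfd hce hcf => trans_comm h hd he hf hed hfd hce hcf)
    (fun hd he hne hc => vlem h hd he hne hc)
    (fun d hd => ((Cfsg.Agent.S5354.result h.tt h.prim h.hw).2.2 d hd).2) hd hy hy' hyd hy'd hc hc'

end Cfsg.Agent.Helper16.F3
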