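import Mathlib

set_option autoImplicit false

namespace Cfsg.Agent.Helper16

open Subgroup

/-- lifting a `p`-subgroup of a quotient to a `p`-subgroup containing a prescribed `p`-subgroup -/
theorem exists_pgroup_lift {G G' : Type*} [Group G] [Finite G] [Group G'] (π : G →* G')
    (hπ : Function.Surjective π) (p : ℕ) [Fact p.Prime] (B' : Subgroup G') (hB' : IsPGroup p B')
    (D₀ : Subgroup G) (hD₀ : IsPGroup p D₀) (hle : D₀.map π ≤ B') :
    ∃ B : Subgroup G, IsPGroup p B ∧ D₀ ≤ B ∧ B.map π = B' := by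
  set K := B'.comap π with hK
  have hD₀K : D₀ ≤ K := Subgroup.map_le_iff_le_comap.mp hle
  have hD₀' : IsPGroup p (D₀.subgroupOf K) :=
    hD₀.comap_of_injective K.subtype K.subtype_injective
  obtain ⟨Q₀, hQ₀⟩ := hD₀'.exists_le_sylow
  have hf : Function.Surjective (π.subgroupComap B') :=
    π.subgroupComap_surjective_of_surjective B' hπ
  have hQ'top : ((Q₀.mapSurjective hf : Sylow p B') : Subgroup B') = ⊤ :=
    ((Q₀.mapSurjective hf).3 (hB'.to_subgroup ⊤) le_top).symm
  refine ⟨(Q₀ : Subgroup K).map K.subtype, Q₀.2.map _, ?_, ?_⟩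
  · intro d hd
    exact ⟨⟨d, hD₀K hd⟩, hQ₀ (Subgroup.mem_subgroupOf.mpr hd), rfl⟩
  · apply le_antisymm
    · rintro _ ⟨_, ⟨k, _, rfl⟩, rfl⟩
      exact k.2
    · intro b hb
      have hmem : (⟨b, hb⟩ : B') ∈ ((Q₀.mapSurjective hf : Sylow p B') : Subgroup B') := by
        rw [hQ'top]; exact Subgroup.mem_top _
      rw [Sylow.coe_mapSurjective] at hmem
      obtain ⟨k, hk, hkb⟩ := hmem
      refine ⟨(k : G), ⟨k, hk, rfl⟩, ?_⟩
      have := congrArg Subtype.val hkb
      exact this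

end Cfsg.Agent.Helper16
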