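import Mathlib
import Cfsg.Agent.Helper16.AutTwoGroup
import Cfsg.Agent.Helper1.UniqueOrderP
import Cfsg.Agent.Helper16.PImprim
import Cfsg.Agent.Helper18.AutQ8
import Cfsg.Agent.Helper16.LiftPGroup

/-!
Towards the structure of solvable Frobenius complements: a finite group `Q` with a normal
`2`-subgroup `T` containing its centralizer, in which abelian `2`-subgroups are cyclic, has an
abelian normal subgroup `A` with `Q / A` embedded in `S₄`.
-/

set_option autoImplicit false

namespace Cfsg.Agent.Helper16.FCS4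

section quaternion
open QuaternionGroup

variable (N : ℕ) [NeZero N]

theorem a_mem_zpowers (i : ZMod (2 * N)) :
    (a i : QuaternionGroup N) ∈ Subgroup.zpowers (a 1) := by
  rw [Subgroup.mem_zpowers_iff]
  refine ⟨(i.val : ℤ), ?_⟩
  rw [zpow_natCast, a_one_pow, ZMod.natCast_zmod_val]

theorem xa_not_mem_zpowers (i : ZMod (2 * N)) :
    (xa i : QuaternionGroup N) ∉ Subgroup.zpowers (a 1) := by
  intro h
  rw [← mem_powers_iff_mem_zpowers] at h
  obtain ⟨k, hk⟩ := (Submonoid.mem_powers_iff _ _).1 h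
  rw [a_one_pow] at hk
  exact absurd hk (by simp)

theorem index_zpowers_a_one :
    (Subgroup.zpowers (a 1 : QuaternionGroup N)).index = 2 := by
  have h1 := Subgroup.card_mul_index (Subgroup.zpowers (a 1 : QuaternionGroup N))
  rw [Nat.card_zpowers, orderOf_a_one, Nat.card_eq_fintype_card, QuaternionGroup.card] at h1
  have hN : 0 < N := Nat.pos_of_ne_zero (NeZero.ne N)
  have : 2 * N * (Subgroup.zpowers (a 1 : QuaternionGroup N)).index = 2 * N * 2 := by
    rw [h1]; ring
  exact Nat.eq_of_mul_eq_mul_left (by positivity) this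

theorem isPGroup_mulAut_quaternion (k : ℕ) (hk : 2 ≤ k) :
    IsPGroup 2 (MulAut (QuaternionGroup (2 ^ k))) := by
  have : NeZero (2 ^ k) := ⟨by positivity⟩
  apply Cfsg.Agent.Helper16.isPGroup_mulAut_of_index_two (a 1) (k + 1) (by omega)
  · rw [orderOf_a_one, pow_succ, mul_comm]
  · exact index_zpowers_a_one _
  · intro g hg
    rcases g with i | i
    · exact absurd (a_mem_zpowers _ i) hg
    · rw [orderOf_xa]
      intro h
      have : 2 ^ 3 ≤ 2 ^ (k + 1) := Nat.pow_le_pow_right (by norm_num) (by omega)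
      omega

end quaternion

section index_two

variable {G : Type*} [Group G]

/-- a subgroup of index two is the kernel of a homomorphism to `S₄` -/
theorem exists_hom_of_index_two (H : Subgroup G) (hH : H.index = 2) :
    ∃ f : G →* Equiv.Perm (Fin 4), f.ker = H := by
  classical
  have hsw : (Equiv.swap (0 : Fin 4) 1) * (Equiv.swap (0 : Fin 4) 1) = 1 := Equiv.swap_mul_self _ _
  have hne : (Equiv.swap (0 : Fin 4) 1) ≠ 1 := by decide
  let f : G →* Equiv.Perm (Fin 4) :=
    { toFun := fun g => if g ∈ H then 1 else Equiv.swap 0 1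
      map_one' := by simp [H.one_mem]
      map_mul' := by
        intro a b
        have := Subgroup.mul_mem_iff_of_index_two hH (a := a) (b := b)
        by_cases ha : a ∈ H <;> by_cases hb : b ∈ H <;> simp_all }
  refine ⟨f, ?_⟩
  ext g
  rw [MonoidHom.mem_ker]
  change (if g ∈ H then (1 : Equiv.Perm (Fin 4)) else Equiv.swap 0 1) = 1 ↔ g ∈ H
  by_cases hg : g ∈ H <;> simp [hg, hne]

end index_two


section main

universe u

variable {Q : Type u} [Group Q] [Finite Q]

/-- abelian `2`-subgroups are cyclic -/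
def AC2 (Q : Type*) [Group Q] : Prop :=
  ∀ B : Subgroup Q, IsPGroup 2 B → IsMulCommutative B → IsCyclic B

theorem pgroup_structure (p : ℕ) [Fact p.Prime]
    (hAC : ∀ B : Subgroup Q, IsPGroup p B → IsMulCommutative B → IsCyclic B)
    (B : Subgroup Q) (hB : IsPGroup p B) :
    IsCyclic B ∨ (p = 2 ∧ ∃ n : ℕ, Nonempty (B ≃* QuaternionGroup (2 ^ n))) := by
  have h : ∀ C : Subgroup B, IsMulCommutative C → IsCyclic C := by
    intro C hC
    have h1 : IsPGroup p (C.map B.subtype) :=
      hB.to_le (Subgroup.map_subtype_le C)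
    have h2 : IsMulCommutative (C.map B.subtype) := Subgroup.map_isMulCommutative C B.subtype
    have h3 := hAC _ h1 h2
    have e := Subgroup.equivMapOfInjective C B.subtype B.subtype_injective
    exact isCyclic_of_surjective e.symm e.symm.surjective
  exact Cfsg.Agent.Helper1.UniqP.cyclic_or_quaternion p hB
    (Cfsg.Agent.Helper16.PImprim.uniqP_of_abelian_cyclic p hB h)

theorem two_group_structure (hAC : AC2 Q) (B : Subgroup Q) (hB : IsPGroup 2 B) :
    IsCyclic B ∨ ∃ n : ℕ, Nonempty (B ≃* QuaternionGroup (2 ^ n)) := by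
  have : Fact (Nat.Prime 2) := ⟨Nat.prime_two⟩
  rcases pgroup_structure 2 hAC B hB with h1 | ⟨-, h1⟩
  · exact Or.inl h1
  · exact Or.inr h1

omit [Finite Q] in
theorem ker_conjNormal (T : Subgroup Q) [hTn : T.Normal] :
    (MulAut.conjNormal (H := T)).ker = Subgroup.centralizer (T : Set Q) := by
  ext g
  rw [MonoidHom.mem_ker, Subgroup.mem_centralizer_iff]
  constructor
  · intro h t ht
    have := congrArg (fun φ : MulAut T => ((φ ⟨t, ht⟩ : T) : Q)) h
    simp only [MulAut.conjNormal_apply, MulAut.one_apply] at this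
    exact (mul_inv_eq_iff_eq_mul.mp this).symm
  · intro h
    ext t
    rw [MulAut.conjNormal_apply, MulAut.one_apply, ← h t t.2]; group

omit [Finite Q] in
theorem isMulCommutative_centralizer (T : Subgroup Q)
    (hCT : Subgroup.centralizer (T : Set Q) ≤ T) :
    IsMulCommutative (Subgroup.centralizer (T : Set Q)) := by
  refine ⟨⟨fun a b => ?_⟩⟩
  apply Subtype.ext
  have hb : (b : Q) ∈ T := hCT b.2
  have := (Subgroup.mem_centralizer_iff.mp a.2) b hb
  exact this.symm

theorem isPGroup_of_aut (T : Subgroup Q) [hTn : T.Normal] (hT : IsPGroup 2 T)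
    (hCT : Subgroup.centralizer (T : Set Q) ≤ T) (hA : IsPGroup 2 (MulAut T)) : IsPGroup 2 Q := by
  have h1 : IsPGroup 2 (⊤ : Subgroup (MulAut T)) := hA.to_subgroup _
  have h2 : IsPGroup 2 (MulAut.conjNormal (H := T)).ker := by
    rw [ker_conjNormal]; exact hT.to_le hCT
  have h3 := h1.comap_of_ker_isPGroup (MulAut.conjNormal (H := T)) h2
  rw [Subgroup.comap_top] at h3
  exact h3.of_equiv Subgroup.topEquiv

theorem exists_abelian_kernel (hAC : AC2 Q) (T : Subgroup Q) [hTn : T.Normal] (hT : IsPGroup 2 T)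
    (hCT : Subgroup.centralizer (T : Set Q) ≤ T) :
    ∃ (A : Subgroup Q) (f : Q →* Equiv.Perm (Fin 4)), IsMulCommutative A ∧ f.ker = A := by
  have : Fact (Nat.Prime 2) := ⟨Nat.prime_two⟩
  -- either `T ≅ Q₈` or `Aut T` is a `2`-group
  have hcase : Nonempty (T ≃* QuaternionGroup 2) ∨ IsPGroup 2 (MulAut T) := by
    have hcyc_case : IsCyclic T → IsPGroup 2 (MulAut T) := by
      intro hc
      obtain ⟨k, hk⟩ := IsPGroup.iff_card.mp hT
      exact Cfsg.Agent.Helper16.isPGroup_mulAut_of_isCyclic k hk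
    rcases two_group_structure hAC T hT with hc | ⟨n, ⟨e⟩⟩
    · exact Or.inr (hcyc_case hc)
    · rcases Nat.lt_or_ge n 2 with hn | hn
      · interval_cases n
        · right
          apply hcyc_case
          have : IsCyclic (QuaternionGroup (2 ^ 0)) := QuaternionGroup.quaternionGroup_one_isCyclic
          exact isCyclic_of_surjective e.symm e.symm.surjective
        · left
          exact ⟨e⟩
      · right
        exact (isPGroup_mulAut_quaternion n hn).of_equiv (MulAut.congr e).symm
  rcases hcase with ⟨⟨e⟩⟩ | hA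
  · obtain ⟨ε⟩ := Cfsg.Agent.Helper18.AutQ8.main
    let c : Q →* MulAut T := MulAut.conjNormal
    let g : MulAut T ≃* Equiv.Perm (Fin 4) := (MulAut.congr e).trans ε
    refine ⟨Subgroup.centralizer (T : Set Q), g.toMonoidHom.comp c,
      isMulCommutative_centralizer T hCT, ?_⟩
    rw [← ker_conjNormal T]
    ext x
    simp only [MonoidHom.mem_ker, MonoidHom.comp_apply]
    change g (c x) = 1 ↔ c x = 1
    exact g.map_eq_one_iff
  · have hQ : IsPGroup 2 Q := isPGroup_of_aut T hT hCT hA
    have hQtop : IsPGroup 2 (⊤ : Subgroup Q) := hQ.to_subgroup _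
    rcases two_group_structure hAC ⊤ hQtop with hc | ⟨n, ⟨e⟩⟩
    · refine ⟨⊤, 1, ?_, MonoidHom.ker_one⟩
      have := IsCyclic.isMulCommutative (α := (⊤ : Subgroup Q))
      exact this
    · have hne : NeZero (2 ^ n) := ⟨by positivity⟩
      let e' : Q ≃* QuaternionGroup (2 ^ n) := Subgroup.topEquiv.symm.trans e
      set A : Subgroup Q := (Subgroup.zpowers (QuaternionGroup.a 1 : QuaternionGroup (2 ^ n))).comap
        e'.toMonoidHom with hAdef
      have hidx : A.index = 2 := by
        rw [hAdef, Subgroup.index_comap_of_surjective _ e'.surjective]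
        exact index_zpowers_a_one _
      obtain ⟨f, hf⟩ := exists_hom_of_index_two A hidx
      refine ⟨A, f, ⟨⟨fun a b => ?_⟩⟩, hf⟩
      apply Subtype.ext
      apply e'.injective
      have ha : e' a ∈ Subgroup.zpowers (QuaternionGroup.a 1 : QuaternionGroup (2 ^ n)) := a.2
      have hb : e' b ∈ Subgroup.zpowers (QuaternionGroup.a 1 : QuaternionGroup (2 ^ n)) := b.2
      obtain ⟨i, hi⟩ := Subgroup.mem_zpowers_iff.mp ha
      obtain ⟨j, hj⟩ := Subgroup.mem_zpowers_iff.mp hb
      change e' ((a : Q) * (b : Q)) = e' ((b : Q) * (a : Q))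
      rw [map_mul, map_mul, ← hi, ← hj, ← zpow_add, ← zpow_add, add_comm]

end main

section lift

universe u

variable {G : Type u} [Group G] [Finite G]

/-- a `2`-subgroup with abelian image modulo a normal subgroup of odd order is abelian -/
theorem isMulCommutative_of_map (R : Subgroup G) [R.Normal] (hR : (Nat.card R).Coprime 2)
    (P : Subgroup G) (hP : IsPGroup 2 P)
    (hPc : ∀ a ∈ P, ∀ b ∈ P, (QuotientGroup.mk' R) (a * b) = (QuotientGroup.mk' R) (b * a)) :
    IsMulCommutative P := by
  have : Fact (Nat.Prime 2) := ⟨Nat.prime_two⟩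
  obtain ⟨k, hk⟩ := IsPGroup.iff_card.mp hP
  have hcop : (Nat.card P).Coprime (Nat.card R) := by
    rw [hk]; exact (Nat.Coprime.pow_left k hR.symm)
  have hdisj : P ⊓ R = ⊥ := (Subgroup.disjoint_of_coprime_natCard hcop).eq_bot
  refine ⟨⟨fun a b => ?_⟩⟩
  apply Subtype.ext
  have h1 : (a : G) * b * ((b : G) * a)⁻¹ ∈ P := P.mul_mem (P.mul_mem a.2 b.2) (P.inv_mem (P.mul_mem b.2 a.2))
  have h2 : (a : G) * b * ((b : G) * a)⁻¹ ∈ R := by
    have := hPc a a.2 b b.2
    rw [← QuotientGroup.eq_one_iff, ← QuotientGroup.mk'_apply, map_mul, map_inv, this,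
      mul_inv_cancel]
  have h3 : (a : G) * b * ((b : G) * a)⁻¹ ∈ P ⊓ R := Subgroup.mem_inf.mpr ⟨h1, h2⟩
  rw [hdisj, Subgroup.mem_bot, mul_inv_eq_one] at h3
  exact h3

theorem ac2_quotient (R : Subgroup G) [R.Normal] (hR : (Nat.card R).Coprime 2) (hAC : AC2 G) :
    AC2 (G ⧸ R) := by
  have : Fact (Nat.Prime 2) := ⟨Nat.prime_two⟩
  intro B' hB' hB'c
  obtain ⟨B, hB, -, hmap⟩ := Cfsg.Agent.Helper16.exists_pgroup_lift (QuotientGroup.mk' R)
    (QuotientGroup.mk'_surjective R) 2 B' hB' ⊥ IsPGroup.of_bot (by simp)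
  have hBc : IsMulCommutative B := by
    apply isMulCommutative_of_map R hR B hB
    intro a ha b hb
    have ha' : (QuotientGroup.mk' R) a ∈ B' := hmap ▸ Subgroup.mem_map_of_mem _ ha
    have hb' : (QuotientGroup.mk' R) b ∈ B' := hmap ▸ Subgroup.mem_map_of_mem _ hb
    have := hB'c.is_comm.comm ⟨_, ha'⟩ ⟨_, hb'⟩
    rw [map_mul, map_mul]
    exact congrArg Subtype.val this
  have hBcyc : IsCyclic B := hAC B hB hBc
  rw [← hmap]
  exact isCyclic_of_surjective _ ((QuotientGroup.mk' R).subgroupMap_surjective B)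

end lift

end Cfsg.Agent.Helper16.FCS4
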