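import Mathlib
import Cfsg.Agent.Helper16.FCS4
import Cfsg.Agent.Helper23.PLengthOne

/-!
A finite solvable group all of whose abelian subgroups are cyclic has a normal subgroup `G₀` with
cyclic Sylow subgroups which is the kernel of a homomorphism to `S₄`.
-/

set_option autoImplicit false

namespace Cfsg.Agent.Helper16.FCS4

universe u

variable {G : Type u} [Group G] [Finite G]

theorem exists_G0 [Group.IsSolvable G]
    (hAC : ∀ A : Subgroup G, IsMulCommutative A → IsCyclic A) :
    ∃ G₀ : Subgroup G, G₀.Normal ∧ (∃ f : G →* Equiv.Perm (Fin 4), f.ker = G₀) ∧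
      (∀ (p : ℕ) [Fact p.Prime] (P : Sylow p G₀), IsCyclic P) := by
  have h2 : Fact (Nat.Prime 2) := ⟨Nat.prime_two⟩
  set R : Subgroup G := Cfsg.pPrimeCore 2 G with hRdef
  have hR : (Nat.card R).Coprime 2 := Cfsg.Agent.Helper23.pPrimeCore_card_coprime 2 G
  set T : Subgroup (G ⧸ R) := Cfsg.pCore 2 (G ⧸ R) with hTdef
  have hT : IsPGroup 2 T := Cfsg.Agent.Helper23.pCore_isPGroup 2 (G ⧸ R)
  have hCT : Subgroup.centralizer (T : Set (G ⧸ R)) ≤ T :=
    Cfsg.Agent.Helper23.centralizer_pCore_quotient_le 2 G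
  have hAC2 : AC2 (G ⧸ R) := ac2_quotient R hR (fun B _ hc => hAC B hc)
  obtain ⟨A, f', hAc, hf'⟩ := exists_abelian_kernel hAC2 T hT hCT
  set f : G →* Equiv.Perm (Fin 4) := f'.comp (QuotientGroup.mk' R) with hf
  refine ⟨f.ker, inferInstance, ⟨f, rfl⟩, ?_⟩
  intro p hp P
  set P' : Subgroup G := (P : Subgroup f.ker).map f.ker.subtype with hP'
  have hP'p : IsPGroup p P' := P.isPGroup'.map _
  have hP'le : P' ≤ f.ker := Subgroup.map_subtype_le _
  have e := Subgroup.equivMapOfInjective (P : Subgroup f.ker) f.ker.subtype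
    f.ker.subtype_injective
  suffices h : IsCyclic P' from isCyclic_of_surjective e.symm e.symm.surjective
  by_cases hp2 : p = 2
  · subst hp2
    apply hAC
    apply isMulCommutative_of_map R hR P' hP'p
    intro a ha b hb
    have ha' : (QuotientGroup.mk' R) a ∈ A := by
      rw [← hf', MonoidHom.mem_ker]
      exact hP'le ha
    have hb' : (QuotientGroup.mk' R) b ∈ A := by
      rw [← hf', MonoidHom.mem_ker]
      exact hP'le hb
    have := hAc.is_comm.comm ⟨_, ha'⟩ ⟨_, hb'⟩
    rw [map_mul, map_mul]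
    exact congrArg Subtype.val this
  · rcases pgroup_structure p (fun B _ hc => hAC B hc) P' hP'p with h | ⟨h, -⟩
    · exact h
    · exact absurd h hp2

end Cfsg.Agent.Helper16.FCS4
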