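import Cfsg.Agent.Helper16.FHDefs

set_option autoImplicit false

/-!
# Feit–Higman piece AB: the explicit idempotent of the dihedral Hecke algebra
-/

namespace Cfsg.Agent.Helper16.FH

open Matrix

section words

theorem fin2_one_sub_one_sub (i : Fin 2) : 1 - (1 - i) = i := by fin_cases i <;> rfl

/-- apply `i ↦ 1 - i` `k` times -/
def shift : ℕ → Fin 2 → Fin 2
  | 0, i => i
  | k + 1, i => shift k (1 - i)

@[simp] theorem shift_zero (i : Fin 2) : shift 0 i = i := rfl

theorem shift_succ (k : ℕ) (i : Fin 2) : shift (k + 1) i = shift k (1 - i) := rfl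

theorem shift_succ_succ (k : ℕ) (i : Fin 2) : shift (k + 2) i = shift k i := by
  rw [shift_succ, shift_succ, fin2_one_sub_one_sub]

theorem shift_succ' (k : ℕ) (i : Fin 2) : shift (k + 1) i = 1 - shift k i := by
  induction k generalizing i with
  | zero => rfl
  | succ k ih => rw [shift_succ, ih, shift_succ]

theorem shift_shift (k : ℕ) (i : Fin 2) : shift k (shift k i) = i := by
  induction k generalizing i with
  | zero => rfl
  | succ k ih => rw [shift_succ, shift_succ', fin2_one_sub_one_sub, ih]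

variable {𝓐 : Type*} [Monoid 𝓐] (a : Fin 2 → 𝓐)

/-- right peeling: the last letter of the word of length `k+1` starting with `i` is `shift k i` -/
theorem alt_succ_right (k : ℕ) (i : Fin 2) : alt a (k + 1) i = alt a k i * a (shift k i) := by
  induction k generalizing i with
  | zero => simp [alt_succ]
  | succ k ih =>
    rw [alt_succ, ih, alt_succ, mul_assoc, shift_succ]

/-- the alternating word of length `k` ENDING with `e` -/
def altE (k : ℕ) (e : Fin 2) : 𝓐 := alt a k (shift (k + 1) e)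

@[simp] theorem altE_zero (e : Fin 2) : altE a 0 e = 1 := rfl

theorem altE_succ (k : ℕ) (e : Fin 2) : altE a (k + 1) e = altE a k (1 - e) * a e := by
  unfold altE
  rw [shift_succ_succ, alt_succ_right, shift_shift, shift_succ k (1 - e), fin2_one_sub_one_sub]

/-- the word starting with `i` is the word ending with `shift (k+1) i` -/
theorem alt_eq_altE (k : ℕ) (i : Fin 2) : alt a k i = altE a k (shift (k + 1) i) := by
  unfold altE
  rw [shift_shift]

theorem altE_eq_alt (k : ℕ) (e : Fin 2) : altE a k e = alt a k (shift (k + 1) e) := rfl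

theorem alt_succ_succ (k : ℕ) (i : Fin 2) : alt a (k + 2) i = a i * a (1 - i) * alt a k i := by
  rw [alt_succ, alt_succ, fin2_one_sub_one_sub, mul_assoc]

theorem alt_even (m : ℕ) (i : Fin 2) : alt a (2 * m) i = (a i * a (1 - i)) ^ m := by
  induction m with
  | zero => simp
  | succ m ih =>
    have e : 2 * (m + 1) = 2 * m + 2 := by ring
    rw [e, alt_succ_succ, ih, pow_succ']

theorem shift_even (m : ℕ) (i : Fin 2) : shift (2 * m) i = i := by
  induction m with
  | zero => rfl
  | succ m ih =>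
    have e : 2 * (m + 1) = 2 * m + 2 := by ring
    rw [e, shift_succ_succ, ih]

theorem shift_odd (m : ℕ) (i : Fin 2) : shift (2 * m + 1) i = 1 - i := by
  rw [shift_succ, shift_even]

end words

section merge

variable {V : Type*} [AddCommGroup V] [Module ℝ V]

theorem wt_zero (n : ℕ) : wt n 0 = 1 / 2 := by simp [wt]

theorem wt_self (n : ℕ) : wt n n = 1 / 2 := by simp [wt]

theorem wt_mid (n k : ℕ) (h0 : k ≠ 0) (hn : k ≠ n) : wt n k = 1 := by simp [wt, h0, hn]

omit [Module ℝ V] in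
theorem fin2_sum_eq (F : Fin 2 → V) (s : Fin 2) : ∑ i, F i = F (1 - s) + F s := by
  rw [Fin.sum_univ_two]
  fin_cases s
  · exact add_comm _ _
  · rfl

/-- merging the doubly counted end terms -/
theorem merge (n : ℕ) (hn : 1 ≤ n) (F : ℕ → Fin 2 → V) (h0 : F 0 0 = F 0 1)
    (hn' : F n 0 = F n 1) (s : Fin 2) :
    ∑ k ∈ Finset.range (n + 1), wt n k • ∑ i, F k i =
      ∑ k ∈ Finset.range n, (F k (1 - s) + F (k + 1) s) := by
  obtain ⟨m, rfl⟩ : ∃ m, n = m + 1 := ⟨n - 1, by omega⟩
  have h0' : ∀ i j : Fin 2, F 0 i = F 0 j := by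
    intro i j; fin_cases i <;> fin_cases j <;> first | rfl | exact h0 | exact h0.symm
  have hn'' : ∀ i j : Fin 2, F (m + 1) i = F (m + 1) j := by
    intro i j; fin_cases i <;> fin_cases j <;> first | rfl | exact hn' | exact hn'.symm
  rw [Finset.sum_range_succ, Finset.sum_range_succ', Finset.sum_add_distrib,
    Finset.sum_range_succ (fun k => F (k + 1) s), Finset.sum_range_succ' (fun k => F k (1 - s))]
  rw [wt_zero, wt_self, fin2_sum_eq (F 0) s, fin2_sum_eq (F (m + 1)) s, h0' (1 - s) s,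
    hn'' (1 - s) s]
  have hmid : ∑ k ∈ Finset.range m, wt (m + 1) (k + 1) • ∑ i, F (k + 1) i =
      ∑ k ∈ Finset.range m, F (k + 1) (1 - s) + ∑ k ∈ Finset.range m, F (k + 1) s := by
    rw [← Finset.sum_add_distrib]
    apply Finset.sum_congr rfl
    intro k hk
    rw [wt_mid _ _ (by omega) (by have := Finset.mem_range.mp hk; omega), one_smul,
      fin2_sum_eq]
  rw [hmid]
  have e1 : (1 / 2 : ℝ) • (F 0 s + F 0 s) = F 0 s := by
    rw [← two_smul ℝ (F 0 s), smul_smul]; norm_num
  have e2 : (1 / 2 : ℝ) • (F (m + 1) s + F (m + 1) s) = F (m + 1) s := by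
    rw [← two_smul ℝ (F (m + 1) s), smul_smul]; norm_num
  rw [e1, e2]
  abel

end merge

end Cfsg.Agent.Helper16.FH

namespace Cfsg.Agent.Helper16.FH

open Matrix

section main

variable {X : Type*} [Fintype X] [DecidableEq X]
variable (n : ℕ) (q : Fin 2 → ℝ) (A : Fin 2 → Matrix X X ℝ)
  (R : Fin 2 → Matrix (Fin 2) (Fin 2) ℝ)

/-- the term of the word of length `k` starting with `i` -/
noncomputable def T (k : ℕ) (i : Fin 2) (M : Matrix (Fin 2) (Fin 2) ℝ) : Matrix X X ℝ :=
  ((alt q k i)⁻¹ * Matrix.trace (altE R k i * M)) • alt A k i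

/-- the Casimir-type element -/
noncomputable def eps (M : Matrix (Fin 2) (Fin 2) ℝ) : Matrix X X ℝ :=
  ∑ k ∈ Finset.range (n + 1), wt n k • ∑ i, T q A R k i M

theorem T_add (k : ℕ) (i : Fin 2) (M M' : Matrix (Fin 2) (Fin 2) ℝ) :
    T q A R k i (M + M') = T q A R k i M + T q A R k i M' := by
  unfold T
  rw [mul_add, Matrix.trace_add, mul_add, add_smul]

theorem T_smul (k : ℕ) (i : Fin 2) (c : ℝ) (M : Matrix (Fin 2) (Fin 2) ℝ) :
    T q A R k i (c • M) = c • T q A R k i M := by
  unfold T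
  rw [Matrix.mul_smul, Matrix.trace_smul, smul_smul]
  congr 1
  simp only [smul_eq_mul]
  ring

theorem eps_add (M M' : Matrix (Fin 2) (Fin 2) ℝ) :
    eps n q A R (M + M') = eps n q A R M + eps n q A R M' := by
  unfold eps
  rw [← Finset.sum_add_distrib]
  apply Finset.sum_congr rfl
  intro k _
  rw [← smul_add, ← Finset.sum_add_distrib]
  congr 1
  apply Finset.sum_congr rfl
  intro i _
  exact T_add q A R k i M M'

theorem eps_smul (c : ℝ) (M : Matrix (Fin 2) (Fin 2) ℝ) :
    eps n q A R (c • M) = c • eps n q A R M := by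
  unfold eps
  rw [Finset.smul_sum]
  apply Finset.sum_congr rfl
  intro k _
  rw [smul_comm c (wt n k)]
  congr 1
  rw [Finset.smul_sum]
  apply Finset.sum_congr rfl
  intro i _
  exact T_smul q A R k i c M

theorem eps_zero : eps n q A R 0 = 0 := by
  have := eps_smul n q A R 0 0
  simpa using this

theorem eps_sum {ι : Type*} (s : Finset ι) (f : ι → Matrix (Fin 2) (Fin 2) ℝ) :
    eps n q A R (∑ j ∈ s, f j) = ∑ j ∈ s, eps n q A R (f j) := by
  classical
  induction s using Finset.induction_on with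
  | empty => simp [eps_zero]
  | insert a s ha ih => rw [Finset.sum_insert ha, Finset.sum_insert ha, eps_add, ih]

variable {q A R}

/-- the basic pair computation for left multiplication -/
theorem T_pair_left (hA : ∀ i, A i * A i = q i • (1 : Matrix X X ℝ) + (q i - 1) • A i)
    (hR : ∀ i, R i * R i = q i • (1 : Matrix (Fin 2) (Fin 2) ℝ) + (q i - 1) • R i)
    (s : Fin 2) (hq : q s ≠ 0) (k : ℕ) (M : Matrix (Fin 2) (Fin 2) ℝ) :
    A s * (T q A R k (1 - s) M + T q A R (k + 1) s M) =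
      T q A R k (1 - s) (R s * M) + T q A R (k + 1) s (R s * M) := by
  unfold T
  rw [alt_succ A, altE_succ R, alt_succ q]
  set a := alt A k (1 - s)
  set r := altE R k (1 - s)
  set Q := alt q k (1 - s)
  have h1 : A s * (A s * a) = q s • a + (q s - 1) • (A s * a) := by
    rw [← mul_assoc, hA, add_mul, smul_mul_assoc, one_mul, smul_mul_assoc]
  have h2 : Matrix.trace (r * R s * (R s * M)) =
      q s * Matrix.trace (r * M) + (q s - 1) * Matrix.trace (r * R s * M) := by
    have : r * R s * (R s * M) = q s • (r * M) + (q s - 1) • (r * R s * M) := by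
      rw [mul_assoc r, ← mul_assoc (R s), hR, add_mul, mul_add, smul_mul_assoc, one_mul,
        smul_mul_assoc, mul_smul_comm, mul_smul_comm, ← mul_assoc]
    rw [this, Matrix.trace_add, Matrix.trace_smul, Matrix.trace_smul, smul_eq_mul, smul_eq_mul]
  rw [mul_add, Matrix.mul_smul, Matrix.mul_smul, h1, h2, ← mul_assoc r (R s) M, mul_inv]
  set t1 := Matrix.trace (r * M)
  set t2 := Matrix.trace (r * R s * M)
  have hu : (q s)⁻¹ * q s = 1 := inv_mul_cancel₀ hq
  generalize (q s)⁻¹ = u at hu ⊢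
  match_scalars
  · linear_combination (-(Q⁻¹ * t1)) * hu
  · linear_combination (Q⁻¹ * t2) * hu

theorem alt_const_of_eq {𝓐 : Type*} [Monoid 𝓐] (a : Fin 2 → 𝓐) (h : a 0 = a 1) (k : ℕ)
    (i j : Fin 2) : alt a k i = alt a k j := by
  have hij : ∀ i j : Fin 2, a i = a j := by
    intro i j; fin_cases i <;> fin_cases j <;> first | rfl | exact h | exact h.symm
  induction k generalizing i j with
  | zero => rfl
  | succ k ih => rw [alt_succ, alt_succ, hij i j, ih (1 - i) (1 - j)]

theorem alt_q_top (q : Fin 2 → ℝ) (n : ℕ) (hodd : Odd n → q 0 = q 1) (i j : Fin 2) :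
    alt q n i = alt q n j := by
  rcases Nat.even_or_odd' n with ⟨m, hm | hm⟩
  · rw [hm, alt_even, alt_even]
    fin_cases i <;> fin_cases j <;> first | rfl | (simp; ring)
  · exact alt_const_of_eq q (hodd ⟨m, hm⟩) n i j

theorem alt_top_all {𝓐 : Type*} [Monoid 𝓐] (a : Fin 2 → 𝓐) (n : ℕ) (h : alt a n 0 = alt a n 1)
    (i j : Fin 2) : alt a n i = alt a n j := by
  fin_cases i <;> fin_cases j <;> first | rfl | exact h | exact h.symm

theorem T_zero_eq (i j : Fin 2) (M : Matrix (Fin 2) (Fin 2) ℝ) :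
    T q A R 0 i M = T q A R 0 j M := by
  simp [T]

theorem T_top_eq (hA : alt A n 0 = alt A n 1) (hR : alt R n 0 = alt R n 1)
    (hodd : Odd n → q 0 = q 1) (i j : Fin 2) (M : Matrix (Fin 2) (Fin 2) ℝ) :
    T q A R n i M = T q A R n j M := by
  unfold T
  rw [alt_top_all A n hA i j, alt_q_top q n hodd i j, altE_eq_alt, altE_eq_alt,
    alt_top_all R n hR (shift (n + 1) i) (shift (n + 1) j)]

theorem eps_mul_left (hn : 1 ≤ n) (hA : Hecke n q A) (hR : Hecke n q R) (hq : ∀ i, q i ≠ 0)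
    (hodd : Odd n → q 0 = q 1) (s : Fin 2) (M : Matrix (Fin 2) (Fin 2) ℝ) :
    A s * eps n q A R M = eps n q A R (R s * M) := by
  unfold eps
  rw [merge n hn (fun k i => T q A R k i M) (T_zero_eq 0 1 M)
      (T_top_eq n hA.braid hR.braid hodd 0 1 M) s,
    merge n hn (fun k i => T q A R k i (R s * M)) (T_zero_eq 0 1 _)
      (T_top_eq n hA.braid hR.braid hodd 0 1 _) s, Finset.mul_sum]
  apply Finset.sum_congr rfl
  intro k _
  exact T_pair_left hA.quad hR.quad s (hq s) k M

/-- the term of the word of length `k` ending with `e` -/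
noncomputable def T' (q : Fin 2 → ℝ) (A : Fin 2 → Matrix X X ℝ)
    (R : Fin 2 → Matrix (Fin 2) (Fin 2) ℝ) (k : ℕ) (e : Fin 2)
    (M : Matrix (Fin 2) (Fin 2) ℝ) : Matrix X X ℝ :=
  ((altE q k e)⁻¹ * Matrix.trace (alt R k e * M)) • altE A k e

theorem T'_eq (k : ℕ) (e : Fin 2) (M : Matrix (Fin 2) (Fin 2) ℝ) :
    T' q A R k e M = T q A R k (shift (k + 1) e) M := by
  unfold T T'
  rw [altE_eq_alt q, altE_eq_alt A, altE_eq_alt R, shift_shift]

theorem sum_T_eq_sum_T' (k : ℕ) (M : Matrix (Fin 2) (Fin 2) ℝ) :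
    ∑ i, T q A R k i M = ∑ e, T' q A R k e M := by
  simp only [T'_eq]
  exact (Equiv.sum_comp (Function.Involutive.toPerm (shift (k + 1)) (shift_shift (k + 1)))
    (fun i => T q A R k i M)).symm

theorem eps_eq' (M : Matrix (Fin 2) (Fin 2) ℝ) :
    eps n q A R M = ∑ k ∈ Finset.range (n + 1), wt n k • ∑ e, T' q A R k e M := by
  unfold eps
  apply Finset.sum_congr rfl
  intro k _
  rw [sum_T_eq_sum_T']

theorem T'_pair_right (hA : ∀ i, A i * A i = q i • (1 : Matrix X X ℝ) + (q i - 1) • A i)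
    (hR : ∀ i, R i * R i = q i • (1 : Matrix (Fin 2) (Fin 2) ℝ) + (q i - 1) • R i)
    (s : Fin 2) (hq : q s ≠ 0) (k : ℕ) (M : Matrix (Fin 2) (Fin 2) ℝ) :
    (T' q A R k (1 - s) M + T' q A R (k + 1) s M) * A s =
      T' q A R k (1 - s) (M * R s) + T' q A R (k + 1) s (M * R s) := by
  unfold T'
  rw [altE_succ A, alt_succ R, altE_succ q]
  set a := altE A k (1 - s)
  set r := alt R k (1 - s)
  set Q := altE q k (1 - s)
  have h1 : a * A s * A s = q s • a + (q s - 1) • (a * A s) := by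
    rw [mul_assoc, hA, mul_add, mul_smul_comm, mul_one, mul_smul_comm]
  have h3 : Matrix.trace (r * (M * R s)) = Matrix.trace (R s * r * M) := by
    rw [← mul_assoc, Matrix.trace_mul_comm, ← mul_assoc]
  have h2 : Matrix.trace (R s * r * (M * R s)) =
      q s * Matrix.trace (r * M) + (q s - 1) * Matrix.trace (R s * r * M) := by
    have e1 : Matrix.trace (R s * r * (M * R s)) = Matrix.trace (R s * R s * (r * M)) := by
      rw [← mul_assoc, Matrix.trace_mul_comm]
      simp only [mul_assoc]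
    have e2 : R s * R s * (r * M) = q s • (r * M) + (q s - 1) • (R s * r * M) := by
      rw [hR, add_mul, smul_mul_assoc, one_mul, smul_mul_assoc, mul_assoc]
    rw [e1, e2, Matrix.trace_add, Matrix.trace_smul, Matrix.trace_smul, smul_eq_mul, smul_eq_mul]
  rw [add_mul, Matrix.smul_mul, Matrix.smul_mul, h1, h2, h3, mul_inv]
  set t1 := Matrix.trace (r * M)
  set t2 := Matrix.trace (R s * r * M)
  have hu : (q s)⁻¹ * q s = 1 := inv_mul_cancel₀ hq
  generalize (q s)⁻¹ = u at hu ⊢
  match_scalars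
  · linear_combination (-(Q⁻¹ * t1)) * hu
  · linear_combination (Q⁻¹ * t2) * hu

theorem eps_mul_right (hn : 1 ≤ n) (hA : Hecke n q A) (hR : Hecke n q R) (hq : ∀ i, q i ≠ 0)
    (hodd : Odd n → q 0 = q 1) (s : Fin 2) (M : Matrix (Fin 2) (Fin 2) ℝ) :
    eps n q A R M * A s = eps n q A R (M * R s) := by
  rw [eps_eq', eps_eq']
  have h0 : ∀ M, T' q A R 0 0 M = T' q A R 0 1 M := by
    intro M; rw [T'_eq, T'_eq]; exact T_zero_eq _ _ M
  have ht : ∀ M, T' q A R n 0 M = T' q A R n 1 M := by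
    intro M; rw [T'_eq, T'_eq]; exact T_top_eq n hA.braid hR.braid hodd _ _ M
  rw [merge n hn (fun k i => T' q A R k i M) (h0 M) (ht M) s,
    merge n hn (fun k i => T' q A R k i (M * R s)) (h0 _) (ht _) s, Finset.sum_mul]
  apply Finset.sum_congr rfl
  intro k _
  exact T'_pair_right hA.quad hR.quad s (hq s) k M

theorem alt_mul_eps (hn : 1 ≤ n) (hA : Hecke n q A) (hR : Hecke n q R) (hq : ∀ i, q i ≠ 0)
    (hodd : Odd n → q 0 = q 1) (k : ℕ) (i : Fin 2) (M : Matrix (Fin 2) (Fin 2) ℝ) :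
    alt A k i * eps n q A R M = eps n q A R (alt R k i * M) := by
  induction k generalizing i M with
  | zero => simp
  | succ k ih =>
    rw [alt_succ, alt_succ, mul_assoc, ih, eps_mul_left n hn hA hR hq hodd, mul_assoc]

/-- the 2×2 matrix `C = ∑_w q_w⁻¹ tr(R_{w⁻¹}) R_w` -/
noncomputable def Cmat (n : ℕ) (q : Fin 2 → ℝ) (R : Fin 2 → Matrix (Fin 2) (Fin 2) ℝ) :
    Matrix (Fin 2) (Fin 2) ℝ := eps n q R R 1

theorem eps_mul (M : Matrix (Fin 2) (Fin 2) ℝ) (Y : Matrix X X ℝ) :
    eps n q A R M * Y = ∑ k ∈ Finset.range (n + 1), wt n k • ∑ i,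
        ((alt q k i)⁻¹ * Matrix.trace (altE R k i * M)) • (alt A k i * Y) := by
  rw [eps, Finset.sum_mul]
  apply Finset.sum_congr rfl
  intro k _
  rw [Matrix.smul_mul, Finset.sum_mul]
  congr 1
  apply Finset.sum_congr rfl
  intro i _
  rw [T, Matrix.smul_mul]

theorem Cmat_eq : Cmat n q R = ∑ k ∈ Finset.range (n + 1), wt n k • ∑ i,
    ((alt q k i)⁻¹ * Matrix.trace (altE R k i * 1)) • alt R k i := rfl

theorem eps_one_mul_eps_one (hn : 1 ≤ n) (hA : Hecke n q A) (hR : Hecke n q R)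
    (hq : ∀ i, q i ≠ 0) (hodd : Odd n → q 0 = q 1) :
    eps n q A R 1 * eps n q A R 1 = eps n q A R (Cmat n q R) := by
  rw [eps_mul, Cmat_eq, eps_sum]
  apply Finset.sum_congr rfl
  intro k _
  rw [eps_smul, eps_sum]
  congr 1
  apply Finset.sum_congr rfl
  intro i _
  rw [eps_smul, alt_mul_eps n hn hA hR hq hodd, mul_one, mul_one]

theorem Cmat_comm (hn : 1 ≤ n) (hR : Hecke n q R) (hq : ∀ i, q i ≠ 0)
    (hodd : Odd n → q 0 = q 1) (s : Fin 2) : Cmat n q R * R s = R s * Cmat n q R := by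
  unfold Cmat
  rw [eps_mul_right n hn hR hR hq hodd, eps_mul_left n hn hR hR hq hodd, one_mul, mul_one]

theorem mul_pow_succ_eq {𝓐 : Type*} [Monoid 𝓐] (x y : 𝓐) (m : ℕ) :
    (x * y) ^ (m + 1) = x * (y * x) ^ m * y := by
  induction m with
  | zero => simp
  | succ m ih => rw [pow_succ, ih, pow_succ]; simp only [mul_assoc]

theorem trace_mul_pow_comm {Y : Type*} [Fintype Y] [DecidableEq Y] (x y : Matrix Y Y ℝ) (m : ℕ) :
    Matrix.trace ((x * y) ^ m) = Matrix.trace ((y * x) ^ m) := by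
  cases m with
  | zero => simp
  | succ m =>
    rw [mul_pow_succ_eq, mul_assoc, Matrix.trace_mul_comm, mul_assoc, ← pow_succ]

theorem trace_altE {Y : Type*} [Fintype Y] [DecidableEq Y] (B : Fin 2 → Matrix Y Y ℝ) (k : ℕ)
    (i : Fin 2) : Matrix.trace (altE B k i) = Matrix.trace (alt B k i) := by
  rw [altE_eq_alt]
  rcases Nat.even_or_odd' k with ⟨m, hm | hm⟩
  · have e : shift (k + 1) i = 1 - i := by rw [hm, shift_odd]
    rw [e, hm, alt_even, alt_even, fin2_one_sub_one_sub, trace_mul_pow_comm]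
  · have e : shift (k + 1) i = i := by
      rw [hm, show 2 * m + 1 + 1 = 2 * (m + 1) by ring, shift_even]
    rw [e]

theorem trace_Cmat : Matrix.trace (Cmat n q R) = schurSum n q R := by
  rw [Cmat_eq, schurSum, Matrix.trace_sum]
  apply Finset.sum_congr rfl
  intro k _
  rw [Matrix.trace_smul, Matrix.trace_sum, smul_eq_mul]
  congr 1
  apply Finset.sum_congr rfl
  intro i _
  rw [Matrix.trace_smul, mul_one, trace_altE, smul_eq_mul]
  ring

theorem alt_q_pos (hq : ∀ i, 0 < q i) (k : ℕ) (i : Fin 2) : 0 < alt q k i := by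
  induction k generalizing i with
  | zero => simp
  | succ k ih => rw [alt_succ]; exact mul_pos (hq i) (ih _)

theorem schurSum_ge (hq : ∀ i, 0 < q i) : 4 ≤ schurSum n q R := by
  unfold schurSum
  rw [Finset.sum_range_succ']
  have h0 : wt n 0 * ∑ i : Fin 2, (alt q 0 i)⁻¹ * (Matrix.trace (alt R 0 i)) ^ 2 = 4 := by
    simp [wt]; norm_num
  rw [h0]
  have : 0 ≤ ∑ k ∈ Finset.range n,
      wt n (k + 1) * ∑ i : Fin 2, (alt q (k + 1) i)⁻¹ * (Matrix.trace (alt R (k + 1) i)) ^ 2 := by
    apply Finset.sum_nonneg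
    intro k _
    apply mul_nonneg
    · unfold wt; split_ifs <;> norm_num
    · apply Finset.sum_nonneg
      intro i _
      exact mul_nonneg (inv_nonneg.mpr (alt_q_pos hq _ _).le) (sq_nonneg _)
  linarith

theorem trace_eps_one (htr : ∀ k i, 1 ≤ k → k ≤ n → Matrix.trace (alt A k i) = 0) :
    Matrix.trace (eps n q A R 1) = 2 * Fintype.card X := by
  rw [eps, Matrix.trace_sum, Finset.sum_range_succ']
  have hT : ∀ i, T q A R 0 i 1 = (2 : ℝ) • (1 : Matrix X X ℝ) := by
    intro i
    simp [T, Matrix.trace_one]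
  have h0 : Matrix.trace (wt n 0 • ∑ i, T q A R 0 i 1) = 2 * Fintype.card X := by
    rw [Fin.sum_univ_two, hT, hT, wt_zero, Matrix.trace_smul, Matrix.trace_add, Matrix.trace_smul,
      Matrix.trace_one]
    simp only [smul_eq_mul]
    ring
  rw [h0]
  have : ∑ k ∈ Finset.range n, Matrix.trace (wt n (k + 1) • ∑ i, T q A R (k + 1) i 1) = 0 := by
    apply Finset.sum_eq_zero
    intro k hk
    rw [Matrix.trace_smul, Matrix.trace_sum]
    have : ∀ i ∈ Finset.univ, Matrix.trace (T q A R (k + 1) i 1) = 0 := by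
      intro i _
      rw [T, Matrix.trace_smul, htr (k + 1) i (by omega) (by have := Finset.mem_range.mp hk; omega),
        smul_zero]
    rw [Finset.sum_eq_zero this, smul_zero]
  rw [this, zero_add]

/-- the trace of an idempotent real matrix is a natural number -/
theorem trace_idem_nat (E : Matrix X X ℝ) (hE : E * E = E) : ∃ d : ℕ, Matrix.trace E = d := by
  have h1 : IsIdempotentElem (Matrix.toLin' E) := by
    unfold IsIdempotentElem
    rw [Module.End.mul_eq_comp, ← Matrix.toLin'_mul, hE]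
  have h2 := LinearMap.IsProj.trace (LinearMap.IsIdempotentElem.isProj_range _ h1)
  rw [Matrix.trace_toLin'_eq] at h2
  exact ⟨_, h2⟩

end main

/-- PIECE AB: the trace of the explicit idempotent is a natural number -/
theorem idem_trace {X : Type*} [Fintype X] [DecidableEq X] (n : ℕ) (hn : 2 ≤ n)
    (q : Fin 2 → ℝ) (hq : ∀ i, 0 < q i) (hodd : Odd n → q 0 = q 1)
    (A : Fin 2 → Matrix X X ℝ) (R : Fin 2 → Matrix (Fin 2) (Fin 2) ℝ)
    (hA : Hecke n q A) (hR : Hecke n q R)
    (htr : ∀ k i, 1 ≤ k → k ≤ n → Matrix.trace (alt A k i) = 0)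
    (hschur : ∀ M : Matrix (Fin 2) (Fin 2) ℝ, (∀ i, M * R i = R i * M) → ∃ c : ℝ, M = c • 1) :
    ∃ d : ℕ, (d : ℝ) * schurSum n q R = 4 * Fintype.card X := by
  have hn1 : 1 ≤ n := by omega
  have hq0 : ∀ i, q i ≠ 0 := fun i => (hq i).ne'
  obtain ⟨c, hc⟩ := hschur (Cmat n q R) (fun i => Cmat_comm n hn1 hR hq0 hodd i)
  have hS : schurSum n q R = 2 * c := by
    rw [← trace_Cmat, hc, Matrix.trace_smul, Matrix.trace_one]
    simp
    ring
  have hS4 := schurSum_ge (n := n) (R := R) hq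
  have hcpos : 0 < c := by linarith
  have hsq : eps n q A R 1 * eps n q A R 1 = c • eps n q A R 1 := by
    rw [eps_one_mul_eps_one n hn1 hA hR hq0 hodd, hc, eps_smul]
  have hE : (c⁻¹ • eps n q A R 1) * (c⁻¹ • eps n q A R 1) = c⁻¹ • eps n q A R 1 := by
    rw [Matrix.smul_mul, Matrix.mul_smul, hsq, smul_smul, smul_smul]
    congr 1
    field_simp
  obtain ⟨d, hd⟩ := trace_idem_nat _ hE
  rw [Matrix.trace_smul, trace_eps_one n htr, smul_eq_mul] at hd
  refine ⟨d, ?_⟩
  rw [← hd, hS]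
  field_simp
  ring

end Cfsg.Agent.Helper16.FH
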