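import Cfsg.Agent.Helper16.FHDefs
import Cfsg.Agent.Helper12.BNStC
import Cfsg.Agent.Helper12.BNCntA

set_option autoImplicit false

/-!
# Feit–Higman (S1142): the chamber adjacency matrices of a (B,N)-pair of rank 2
-/

namespace Cfsg.Agent.Helper16.FH

open Cfsg Cfsg.Agent.Helper12.BNSt Cfsg.Agent.Helper14.ExchCox

variable {G : Type*} [Group G] (P : Cfsg.BNPair G)

/-- adjacency matrix of `i`-adjacency on the chambers `G ⧸ B`:
`x ~ y` iff `x⁻¹ y ∈ B s_i B` (Bruhat type `s_i`) -/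
noncomputable def adj (σ : Fin 2 → P.S) (i : Fin 2) : Matrix (G ⧸ P.B) (G ⧸ P.B) ℝ :=
  fun x y => haveI := Classical.propDecidable (typ P (x.out⁻¹ * y.out) = sgen P (σ i))
    if typ P (x.out⁻¹ * y.out) = sgen P (σ i) then 1 else 0

theorem adj_apply (σ : Fin 2 → P.S) (i : Fin 2) (x y : G ⧸ P.B)
    [Decidable (typ P (x.out⁻¹ * y.out) = sgen P (σ i))] :
    adj P σ i x y = if typ P (x.out⁻¹ * y.out) = sgen P (σ i) then 1 else 0 := by
  unfold adj
  congr

/-- the two generators of the Weyl group -/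
noncomputable def wgen (σ : Fin 2 → P.S) (i : Fin 2) : Wq P := sgen P (σ i)

end Cfsg.Agent.Helper16.FH
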