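import Cfsg.Agent.Helper16.FHAB
import Cfsg.Agent.Helper23.FHC1
import Cfsg.Agent.Helper29.FHC2
import Cfsg.Agent.Helper13.FHD
import Cfsg.Agent.Helper2.FHE1
import Cfsg.Agent.Helper4.FHE3
import Cfsg.Agent.Helper27.FHE2

set_option autoImplicit false

/-!
# Feit–Higman for (B,N)-pairs of rank 2 : final assembly
-/

namespace Cfsg.Agent.Helper16.FH

open Cfsg Cfsg.Agent.Helper12.BNSt Cfsg.Agent.Helper14.ExchCox Matrix


/-- row sums of alternating products -/
theorem alt_row_sum {X : Type*} [Fintype X] [DecidableEq X] (A : Fin 2 → Matrix X X ℝ)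
    (q : Fin 2 → ℝ) (hrow : ∀ i x, ∑ y, A i x y = q i) (k : ℕ) (i : Fin 2) (x : X) :
    ∑ y, alt A k i x y = alt q k i := by
  induction k generalizing i x with
  | zero => simp [Matrix.one_apply]
  | succ k ih =>
    rw [alt_succ, alt_succ]
    simp only [Matrix.mul_apply]
    rw [Finset.sum_comm]
    simp only [← Finset.mul_sum, ih, ← Finset.sum_mul, hrow]

theorem alt_comm_odd (q : Fin 2 → ℝ) (m : ℕ) (i : Fin 2) :
    alt q (2 * m + 1) i = q i * (q 0 * q 1) ^ m := by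
  induction m with
  | zero => simp [alt_succ]
  | succ m ih =>
    have e : 2 * (m + 1) + 1 = (2 * m + 1) + 2 := by ring
    rw [e, alt_succ_succ, ih]
    fin_cases i
    · show q 0 * q (1 - 0) * (q 0 * (q 0 * q 1) ^ m) = q 0 * (q 0 * q 1) ^ (m + 1)
      have : (1 : Fin 2) - 0 = 1 := rfl
      rw [this]; ring
    · show q 1 * q (1 - 1) * (q 1 * (q 0 * q 1) ^ m) = q 1 * (q 0 * q 1) ^ (m + 1)
      have : (1 : Fin 2) - 1 = 0 := rfl
      rw [this]; ring

theorem bn_data {G : Type*} [Group G] [Finite G] (P : Cfsg.BNPair G) (h2 : P.rank = 2)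
    [Fintype (G ⧸ P.B)] [DecidableEq (G ⧸ P.B)] :
    ∃ (n : ℕ) (q : Fin 2 → ℕ) (A : Fin 2 → Matrix (G ⧸ P.B) (G ⧸ P.B) ℝ),
      2 ≤ n ∧ ((P.B ⊓ P.N).subgroupOf P.N).index = 2 * n ∧ (∀ i, 2 ≤ q i) ∧
      (Odd n → q 0 = q 1) ∧ Hecke n (fun i => (q i : ℝ)) A ∧
      ∀ k i, 1 ≤ k → k ≤ n → Matrix.trace (alt A k i) = 0 := by
  classical
  have hN : ((P.B ⊓ P.N).subgroupOf P.N).Normal := Cfsg.Agent.Helper12.BNCnt.normalH_bn P
  have h2' : Nat.card P.S = 2 := h2
  have : Finite P.S := Nat.finite_of_card_ne_zero (by rw [h2']; norm_num)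
  let e : P.S ≃ Fin 2 := Finite.equivFinOfCardEq h2'
  let σ : Fin 2 → P.S := e.symm
  have hσ : Function.Bijective σ := e.symm.bijective
  obtain ⟨hn2, hcard, hbraid, hlen⟩ := weyl_dihedral P σ hσ
  set n := orderOf (wgen P σ 0 * wgen P σ 1) with hn
  choose q hq2 hquad hrow using adj_quad P σ
  refine ⟨n, q, adj P σ, hn2, ?_, hq2, ?_, ⟨hquad, ?_⟩, ?_⟩
  · rw [Subgroup.index, ← hcard]
  · -- odd case
    intro hodd
    obtain ⟨m, hm⟩ := hodd
    have hne : Nonempty (G ⧸ P.B) := ⟨QuotientGroup.mk 1⟩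
    obtain ⟨x⟩ := hne
    have hA : alt (adj P σ) n 0 = alt (adj P σ) n 1 := by
      ext x y
      rw [alt_adj P σ n hlen n le_rfl 0 x y, alt_adj P σ n hlen n le_rfl 1 x y, hbraid]
    have h0 := alt_row_sum (adj P σ) (fun i => (q i : ℝ)) hrow n 0 x
    have h1 := alt_row_sum (adj P σ) (fun i => (q i : ℝ)) hrow n 1 x
    rw [hA, h1, hm, alt_comm_odd, alt_comm_odd] at h0
    have hpos : (0 : ℝ) < ((q 0 : ℝ) * q 1) ^ m := by
      have a0 : (0:ℝ) < q 0 := by exact_mod_cast (by have := hq2 0; omega : 0 < q 0)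
      have a1 : (0:ℝ) < q 1 := by exact_mod_cast (by have := hq2 1; omega : 0 < q 1)
      positivity
    have := mul_right_cancel₀ hpos.ne' h0
    exact_mod_cast this.symm
  · ext x y
    rw [alt_adj P σ n hlen n le_rfl 0 x y, alt_adj P σ n hlen n le_rfl 1 x y, hbraid]
  · intro k i hk1 hkn
    rw [Matrix.trace]
    apply Finset.sum_eq_zero
    intro x _
    rw [Matrix.diag_apply, alt_adj P σ n hlen k hkn i x x, if_neg]
    intro h
    have h1 : typ P ((Quotient.out x)⁻¹ * Quotient.out x) = 1 := by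
      rw [inv_mul_cancel, typ_one]
    rw [h1] at h
    have := hlen k i hkn
    rw [← h, len_one] at this
    omega

/-- **Feit–Higman** for (B,N)-pairs of rank 2 -/
theorem feit_higman {G : Type*} [Group G] [Finite G] (P : Cfsg.BNPair G) (h2 : P.rank = 2) :
    ((P.B ⊓ P.N).subgroupOf P.N).index ∈ ({4, 6, 8, 12, 16} : Set ℕ) := by
  classical
  let _ : Fintype (G ⧸ P.B) := Fintype.ofFinite _
  obtain ⟨n, q, A, hn, hidx, hq, hodd, hA, htr⟩ := bn_data P h2
  have hmem : n ∈ ({2, 3, 4, 6, 8} : Set ℕ) := by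
    refine fh_arith n hn (q 0) (q 1) (Fintype.card (G ⧸ P.B)) (hq 0) (hq 1)
      Fintype.card_pos hodd ?_
    intro j hj hj2
    have hs : (0 : ℝ) < q 0 := by exact_mod_cast (by have := hq 0; omega : 0 < q 0)
    have ht : (0 : ℝ) < q 1 := by exact_mod_cast (by have := hq 1; omega : 0 < q 1)
    have hodd' : Odd n → ((q 0 : ℕ) : ℝ) = q 1 := fun h => by exact_mod_cast hodd h
    have hqq : (fun i => ((q i : ℕ) : ℝ)) = ![(q 0 : ℝ), (q 1 : ℝ)] := by
      ext i; fin_cases i <;> simp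
    have hlt := Cfsg.Agent.Helper13.FHD.xj_sq_lt n (q 0) (q 1) (mul_pos hs ht) j hj hj2
    have hR := Rm_hecke n hn (q 0) (q 1) hs ht hodd' j hj hj2
    have hmu : (q 0 : ℝ) + q 1 + 2 * xj n (q 0) (q 1) j ≠ 0 := by
      have h1 : (2 * xj n (q 0) (q 1) j) ^ 2 < ((q 0 : ℝ) + q 1) ^ 2 := by
        nlinarith [sq_nonneg ((q 0 : ℝ) - q 1)]
      have h2 : |2 * xj n (q 0) (q 1) j| < |(q 0 : ℝ) + q 1| := sq_lt_sq.mp h1
      rw [abs_of_pos (by positivity : (0:ℝ) < (q 0 : ℝ) + q 1)] at h2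
      have := (abs_lt.mp h2).1
      linarith
    obtain ⟨d, hd⟩ := idem_trace n hn ![(q 0 : ℝ), (q 1 : ℝ)]
      (by intro i; fin_cases i <;> simp [hs, ht]) (by intro h; simpa using hodd' h) A
      (Rm (q 0) (q 1) (xj n (q 0) (q 1) j)) (hqq ▸ hA) hR htr
      (Rm_schur _ _ _ hmu)
    refine ⟨d, ?_⟩
    have hC := schurSum_Rm n hn (q 0) (q 1) hs ht hodd' j hj hj2
    rw [← hC, ← mul_assoc, hd]
    ring
  rw [hidx]
  simp only [Set.mem_insert_iff, Set.mem_singleton_iff] at hmem ⊢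
  omega

end Cfsg.Agent.Helper16.FH
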