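import Mathlib
import Cfsg.Agent.Helper11.DihedralLift
import Cfsg.Agent.Helper18.AutQ8
import Cfsg.Agent.Helper9.SL23Recog

set_option autoImplicit false

/-! Groups of order 48 with a self-centralizing normal quaternion subgroup `Q₈` and a complement
`S₃ = ⟨d, t⟩`: all of them are isomorphic to a fixed semidirect product `Q₈ ⋊ D₃`. -/

namespace Cfsg.Agent.Helper16.Q8S3

open Cfsg.Agent.Helper11 Cfsg.Agent.Helper9 Cfsg.Agent.Helper18.AutQ8

abbrev Q8 := QuaternionGroup 2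

theorem fC_sigma_fC : ∀ q : Q8, fC (q8SigmaFun (fC q)) = q8SigmaFun (q8SigmaFun q) := by decide

theorem sigma_inv : q8Sigma⁻¹ = q8Sigma * q8Sigma := by
  rw [inv_eq_iff_mul_eq_one]
  have := q8Sigma_pow_three
  rw [pow_succ, pow_two] at this
  rw [← mul_assoc]; exact this

theorem eC_sigma_eC : eC * q8Sigma * eC = q8Sigma⁻¹ := by
  rw [sigma_inv]
  apply MulEquiv.ext; intro q
  exact fC_sigma_fC q

theorem sigma_ne_one : q8Sigma ≠ 1 := by
  intro h
  have := congrArg (fun e : MulAut Q8 => e (QuaternionGroup.a 1)) h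
  revert this
  show q8SigmaFun (QuaternionGroup.a 1) = QuaternionGroup.a 1 → False
  decide

theorem eC_ne_one : eC ≠ 1 := by
  intro h
  have := congrArg (fun e : MulAut Q8 => e (QuaternionGroup.a 1)) h
  revert this
  show fC (QuaternionGroup.a 1) = QuaternionGroup.a 1 → False
  decide

/-- the action of `D₃` on `Q₈` -/
noncomputable def φ₀ : DihedralGroup 3 →* MulAut Q8 :=
  dihedralLift 3 q8Sigma eC q8Sigma_pow_three eC_sq eC_sigma_eC

/-- the model group `Q₈ ⋊ D₃` -/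
abbrev M := Q8 ⋊[φ₀] DihedralGroup 3

theorem card_M : Nat.card M = 48 := by
  rw [SemidirectProduct.card, Nat.card_eq_fintype_card, QuaternionGroup.card,
    DihedralGroup.nat_card]

set_option maxRecDepth 100000 in
set_option synthInstance.maxSize 1000 in
set_option synthInstance.maxHeartbeats 400000 in
theorem s4pair : ∀ c : Equiv.Perm (Fin 4), c ^ 3 = 1 → c ≠ 1 → ∀ τ : Equiv.Perm (Fin 4),
    τ * τ = 1 → τ ≠ 1 → τ * c * τ = c⁻¹ →
    ∃ g : Equiv.Perm (Fin 4), g * c * g⁻¹ = (Equiv.swap 0 1 * Equiv.swap 1 2) ∧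
      g * τ * g⁻¹ = Equiv.swap 0 1 := by
  decide +kernel

theorem exists_conj (c τ : MulAut Q8) (hc : c ^ 3 = 1) (hc1 : c ≠ 1) (hτ : τ * τ = 1)
    (hτ1 : τ ≠ 1) (h : τ * c * τ = c⁻¹) :
    ∃ γ : MulAut Q8, γ * c * γ⁻¹ = q8Sigma ∧ γ * τ * γ⁻¹ = eC := by
  obtain ⟨Θ⟩ := main
  obtain ⟨g, hg1, hg2⟩ := s4pair (Θ c) (by rw [← map_pow, hc, map_one])
    (fun h0 => hc1 (by rwa [EmbeddingLike.map_eq_one_iff] at h0)) (Θ τ)
    (by rw [← map_mul, hτ, map_one])
    (fun h0 => hτ1 (by rwa [EmbeddingLike.map_eq_one_iff] at h0))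
    (by rw [← map_mul, ← map_mul, h, map_inv])
  obtain ⟨g₀, hg01, hg02⟩ := s4pair (Θ q8Sigma) (by rw [← map_pow, q8Sigma_pow_three, map_one])
    (fun h0 => sigma_ne_one (by rwa [EmbeddingLike.map_eq_one_iff] at h0)) (Θ eC)
    (by rw [← map_mul, eC_sq, map_one])
    (fun h0 => eC_ne_one (by rwa [EmbeddingLike.map_eq_one_iff] at h0))
    (by rw [← map_mul, ← map_mul, eC_sigma_eC, map_inv])
  refine ⟨Θ.symm (g₀⁻¹ * g), ?_, ?_⟩
  · apply Θ.injective
    rw [map_mul, map_mul, map_inv, MulEquiv.apply_symm_apply]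
    have : g₀⁻¹ * g * Θ c * (g₀⁻¹ * g)⁻¹ = g₀⁻¹ * (g * Θ c * g⁻¹) * g₀ := by group
    rw [this, hg1, ← hg01]; group
  · apply Θ.injective
    rw [map_mul, map_mul, map_inv, MulEquiv.apply_symm_apply]
    have : g₀⁻¹ * g * Θ τ * (g₀⁻¹ * g)⁻¹ = g₀⁻¹ * (g * Θ τ * g⁻¹) * g₀ := by group
    rw [this, hg2, ← hg02]; group


/-- the data recognising `M` -/
structure Data (X : Type*) [Group X] where
  P : Subgroup X
  normal : P.Normal
  e : P ≃* Q8
  cent : Subgroup.centralizer (P : Set X) ≤ P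
  d : X
  t : X
  hd : d ^ 3 = 1
  hd1 : d ≠ 1
  ht : t * t = 1
  htP : t ∉ P
  hdt : t * d * t = d⁻¹
  card : Nat.card X = 48

theorem zmodPow_three_one {H : Type*} [Group H] (a : H) (ha : a ^ 3 = 1) :
    (zmodPow 3 a ha 1).toMul = a := by
  have := zmodPow_intCast 3 a ha 1
  rw [Int.cast_one, zpow_one] at this
  exact this

theorem nonempty_mulEquiv_model {X : Type*} [Group X] [Finite X] (D : Data X) :
    Nonempty (M ≃* X) := by
  have := D.normal
  obtain ⟨ρ, hρ⟩ : ∃ ρ : X →* MulAut D.P, ρ = MulAut.conjNormal := ⟨_, rfl⟩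
  have hρa : ∀ x (p : D.P), ((ρ x p : D.P) : X) = x * p * x⁻¹ := by
    intro x p; rw [hρ]; exact MulAut.conjNormal_apply x p
  have hker : ∀ x, ρ x = 1 → x ∈ D.P := by
    intro x hx
    apply D.cent
    rw [Subgroup.mem_centralizer_iff]
    intro p hp
    have h1 := congrArg (fun f : MulAut D.P => ((f ⟨p, hp⟩ : D.P) : X)) hx
    simp only [hρa, MulAut.one_apply] at h1
    calc p * x = (x * p * x⁻¹) * x := by rw [h1]
      _ = x * p := by group
  have hPcard : Nat.card D.P = 8 := by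
    rw [Nat.card_congr D.e.toEquiv, Nat.card_eq_fintype_card, QuaternionGroup.card]
  have hdP : ∀ y : X, y ^ 3 = 1 → y ∈ D.P → y = 1 := by
    intro y hy hyP
    have h1 : orderOf (⟨y, hyP⟩ : D.P) ∣ 8 := by rw [← hPcard]; exact orderOf_dvd_natCard _
    have h2 : orderOf (⟨y, hyP⟩ : D.P) ∣ 3 :=
      orderOf_dvd_of_pow_eq_one (Subtype.ext (by rw [Subgroup.coe_pow]; exact hy))
    have h3 : orderOf (⟨y, hyP⟩ : D.P) = 1 := by
      have h4 := Nat.dvd_gcd h1 h2
      have h5 : Nat.gcd 8 3 = 1 := by norm_num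
      rw [h5] at h4
      exact Nat.dvd_one.mp h4
    have h6 := orderOf_eq_one_iff.mp h3
    exact congrArg Subtype.val h6
  obtain ⟨c, hcdef⟩ : ∃ c : MulAut Q8, c = MulAut.congr D.e (ρ D.d) := ⟨_, rfl⟩
  obtain ⟨τ, hτdef⟩ : ∃ τ : MulAut Q8, τ = MulAut.congr D.e (ρ D.t) := ⟨_, rfl⟩
  have hc3 : c ^ 3 = 1 := by rw [hcdef, ← map_pow, ← map_pow, D.hd, map_one, map_one]
  have hc1 : c ≠ 1 := by
    intro h
    rw [hcdef, EmbeddingLike.map_eq_one_iff] at h
    exact D.hd1 (hdP _ D.hd (hker _ h))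
  have hτ2 : τ * τ = 1 := by rw [hτdef, ← map_mul, ← map_mul, D.ht, map_one, map_one]
  have hτ1 : τ ≠ 1 := by
    intro h
    rw [hτdef, EmbeddingLike.map_eq_one_iff] at h
    exact D.htP (hker _ h)
  have hτc : τ * c * τ = c⁻¹ := by
    rw [hτdef, hcdef, ← map_mul, ← map_mul, ← map_mul, ← map_mul, D.hdt, map_inv, map_inv]
  obtain ⟨γ, hγ1, hγ2⟩ := exists_conj c τ hc3 hc1 hτ2 hτ1 hτc
  -- the adjusted identification
  obtain ⟨e', he'⟩ : ∃ e' : D.P ≃* Q8, e' = D.e.trans γ := ⟨_, rfl⟩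
  have key : ∀ (x : X) (σ : MulAut Q8), γ * MulAut.congr D.e (ρ x) * γ⁻¹ = σ →
      ∀ q : Q8, ((e'.symm (σ q) : D.P) : X) = x * ((e'.symm q : D.P) : X) * x⁻¹ := by
    intro x σ hσ q
    rw [← hρa]
    congr 1
    rw [← hσ, he']
    apply (D.e.trans γ).injective
    rw [MulEquiv.apply_symm_apply]
    simp only [MulAut.mul_apply, MulAut.congr_apply, MulEquiv.trans_apply,
      MulEquiv.symm_trans_apply]
    rfl
  have keyd := key D.d q8Sigma (by rw [← hcdef]; exact hγ1)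
  have keyt := key D.t eC (by rw [← hτdef]; exact hγ2)
  obtain ⟨fn, hfn⟩ : ∃ fn : Q8 →* X, fn = D.P.subtype.comp e'.symm.toMonoidHom := ⟨_, rfl⟩
  have hfna : ∀ q, fn q = ((e'.symm q : D.P) : X) := by intro q; rw [hfn]; rfl
  have hfnP : ∀ q, fn q ∈ D.P := by intro q; rw [hfna]; exact (e'.symm q).2
  have hfninj : ∀ q, fn q = 1 → q = 1 := by
    intro q hq
    rw [hfna] at hq
    have h1 : e'.symm q = 1 := Subtype.ext hq
    rwa [EmbeddingLike.map_eq_one_iff] at h1
  obtain ⟨fg, hfg⟩ : ∃ fg : DihedralGroup 3 →* X, fg = dihedralLift 3 D.d D.t D.hd D.ht D.hdt :=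
    ⟨_, rfl⟩
  have hfg_r1 : fg (DihedralGroup.r 1) = D.d := by
    rw [hfg, dihedralLift_r]; exact zmodPow_three_one _ _
  have hfg_sr0 : fg (DihedralGroup.sr 0) = D.t := by
    rw [hfg, dihedralLift_sr, zmodPow_zero, mul_one]
  have hφ_r1 : φ₀ (DihedralGroup.r 1) = q8Sigma := by
    unfold φ₀; rw [dihedralLift_r]; exact zmodPow_three_one _ _
  have hφ_sr0 : φ₀ (DihedralGroup.sr 0) = eC := by
    unfold φ₀; rw [dihedralLift_sr, zmodPow_zero, mul_one]
  -- compatibility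
  have good_mul : ∀ g h : DihedralGroup 3,
      (∀ q, fn (φ₀ g q) = fg g * fn q * (fg g)⁻¹) → (∀ q, fn (φ₀ h q) = fg h * fn q * (fg h)⁻¹) →
      ∀ q, fn (φ₀ (g * h) q) = fg (g * h) * fn q * (fg (g * h))⁻¹ := by
    intro g h hg hh q
    rw [map_mul, MulAut.mul_apply, hg, hh, map_mul]; group
  have good_r1 : ∀ q, fn (φ₀ (DihedralGroup.r 1) q) =
      fg (DihedralGroup.r 1) * fn q * (fg (DihedralGroup.r 1))⁻¹ := by
    intro q; rw [hφ_r1, hfg_r1, hfna, hfna]; exact keyd q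
  have good_sr0 : ∀ q, fn (φ₀ (DihedralGroup.sr 0) q) =
      fg (DihedralGroup.sr 0) * fn q * (fg (DihedralGroup.sr 0))⁻¹ := by
    intro q; rw [hφ_sr0, hfg_sr0, hfna, hfna]; exact keyt q
  have good_pow : ∀ k : ℕ, ∀ q, fn (φ₀ (DihedralGroup.r 1 ^ k) q) =
      fg (DihedralGroup.r 1 ^ k) * fn q * (fg (DihedralGroup.r 1 ^ k))⁻¹ := by
    intro k
    induction k with
    | zero => intro q; simp
    | succ k ih =>
      rw [pow_succ]
      exact good_mul _ _ ih good_r1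
  have good_r : ∀ i : ZMod 3, ∀ q, fn (φ₀ (DihedralGroup.r i) q) =
      fg (DihedralGroup.r i) * fn q * (fg (DihedralGroup.r i))⁻¹ := by
    intro i
    have h1 : DihedralGroup.r i = DihedralGroup.r 1 ^ i.val := by
      rw [DihedralGroup.r_one_pow, ZMod.natCast_zmod_val]
    rw [h1]; exact good_pow _
  have good : ∀ g : DihedralGroup 3, ∀ q, fn (φ₀ g q) = fg g * fn q * (fg g)⁻¹ := by
    rintro (i | i)
    · exact good_r i
    · have h1 : DihedralGroup.sr i = DihedralGroup.sr 0 * DihedralGroup.r i := by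
        rw [DihedralGroup.sr_mul_r, zero_add]
      rw [h1]; exact good_mul _ _ good_sr0 (good_r i)
  obtain ⟨F, hF⟩ : ∃ F : M →* X, F = SemidirectProduct.lift fn fg (by
      intro g
      ext q
      simp only [MonoidHom.comp_apply, MulEquiv.coe_toMonoidHom, MulAut.conj_apply]
      exact good g q) := ⟨_, rfl⟩
  have hFa : ∀ x : M, F x = fn x.left * fg x.right := by
    intro x
    conv_lhs => rw [← SemidirectProduct.inl_left_mul_inr_right x]
    rw [hF, map_mul, SemidirectProduct.lift_inl, SemidirectProduct.lift_inr]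
  -- `fg g ∈ P` forces `g = 1`
  have hfgP : ∀ g : DihedralGroup 3, fg g ∈ D.P → g = 1 := by
    rintro (i | i) hg
    · rw [hfg, dihedralLift_r] at hg
      have h3 : ((zmodPow 3 D.d D.hd i).toMul) ^ 3 = 1 := by
        rw [zmodPow_eq_zpow, ← zpow_natCast, ← zpow_mul, mul_comm, zpow_mul, zpow_natCast, D.hd,
          one_zpow]
      have h4 := hdP _ h3 hg
      rw [zmodPow_eq_zpow] at h4
      have h5 : (orderOf D.d : ℤ) ∣ (ZMod.cast i : ℤ) := orderOf_dvd_iff_zpow_eq_one.2 h4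
      have h6 : orderOf D.d = 3 := orderOf_eq_prime D.hd D.hd1
      rw [h6] at h5
      have h7 : ((ZMod.cast i : ℤ) : ZMod 3) = 0 := (ZMod.intCast_zmod_eq_zero_iff_dvd _ 3).2 h5
      rw [ZMod.intCast_zmod_cast] at h7
      rw [h7, DihedralGroup.r_zero]
    · exfalso
      rw [hfg, dihedralLift_sr] at hg
      obtain ⟨y, hy⟩ : ∃ y : X, y = (zmodPow 3 D.d D.hd i).toMul := ⟨_, rfl⟩
      rw [← hy] at hg
      have h3 : y ^ 3 = 1 := by
        rw [hy, zmodPow_eq_zpow, ← zpow_natCast, ← zpow_mul, mul_comm, zpow_mul, zpow_natCast,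
          D.hd, one_zpow]
      have h1 : D.t * y * D.t = y⁻¹ := by rw [hy]; exact conj_zmodPow 3 D.d D.t D.hd D.ht D.hdt i
      have h33 : y * y * y = 1 := by rw [pow_succ, pow_two] at h3; exact h3
      have h2 : D.t * y = y * D.t * y⁻¹ := by
        have h5 : D.t * y = y⁻¹ * D.t := by
          calc D.t * y = D.t * y * (D.t * D.t) := by rw [D.ht, mul_one]
            _ = (D.t * y * D.t) * D.t := by group
            _ = y⁻¹ * D.t := by rw [h1]
        have h5' : y * D.t = D.t * y⁻¹ := by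
          calc y * D.t = y * (D.t * y) * y⁻¹ := by group
            _ = y * (y⁻¹ * D.t) * y⁻¹ := by rw [h5]
            _ = D.t * y⁻¹ := by group
        have hy2 : y⁻¹ * y⁻¹ = y := by
          calc y⁻¹ * y⁻¹ = y⁻¹ * y⁻¹ * (y * y * y) := by rw [h33, mul_one]
            _ = y := by group
        calc D.t * y = D.t * (y⁻¹ * y⁻¹) := by rw [hy2]
          _ = (D.t * y⁻¹) * y⁻¹ := by group
          _ = y * D.t * y⁻¹ := by rw [← h5']
      rw [h2] at hg
      apply D.htP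
      have h7 := D.normal.conj_mem _ hg y⁻¹
      have h8 : y⁻¹ * (y * D.t * y⁻¹) * y⁻¹⁻¹ = D.t := by group
      rw [h8] at h7; exact h7
  have hFinj : Function.Injective F := by
    rw [injective_iff_map_eq_one]
    intro x hx
    rw [hFa] at hx
    have h1 : fg x.right = (fn x.left)⁻¹ := eq_inv_of_mul_eq_one_right hx
    have h2 : x.right = 1 := hfgP _ (by rw [h1]; exact D.P.inv_mem (hfnP _))
    rw [h2, map_one, mul_one] at hx
    have h3 := hfninj _ hx
    ext
    · exact h3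
    · exact h2
  have hbij : Function.Bijective F :=
    hFinj.bijective_of_nat_card_le (by rw [D.card, card_M])
  exact ⟨MulEquiv.ofBijective F hbij⟩

/-- two groups with the data are isomorphic -/
theorem nonempty_mulEquiv {X Y : Type*} [Group X] [Finite X] [Group Y] [Finite Y] (D : Data X)
    (D' : Data Y) : Nonempty (X ≃* Y) := by
  obtain ⟨e1⟩ := nonempty_mulEquiv_model D
  obtain ⟨e2⟩ := nonempty_mulEquiv_model D'
  exact ⟨e1.symm.trans e2⟩

end Cfsg.Agent.Helper16.Q8S3
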