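import Mathlib
import Cfsg.Agent.Helper2.SL23
import Cfsg.Agent.Helper16.Q8S3

set_option autoImplicit false

/-! `GL₂(3)` carries the recognition data of `Q₈ ⋊ D₃`. -/

namespace Cfsg.Agent.Helper16.GL23

open Matrix Cfsg.Agent.Helper2.SL23 Cfsg.Agent.Helper2.QLift Cfsg.Agent.Helper16.Q8S3

abbrev GL3 := GL (Fin 2) (ZMod 3)

/-- the quaternion subgroup of `GL₂(3)` -/
noncomputable def PG : Subgroup GL3 := Q3.map SpecialLinearGroup.toGL

theorem q8_pow_four : ∀ q : QuaternionGroup 2, q ^ 4 = 1 := by decide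

theorem pow_four_of_mem_Q3 (s : G3) (hs : s ∈ Q3) : s ^ 4 = 1 := by
  obtain ⟨q, rfl⟩ := hs
  rw [← map_pow, q8_pow_four, map_one]

theorem mem_Q3_of_pow_four (s : G3) (hs : s ^ 4 = 1) : s ∈ Q3 := by
  have := Q3_normal
  have hcard : Nat.card (G3 ⧸ Q3) = 3 := by rw [← Subgroup.index_eq_card]; exact Q3_index
  have h3 : ((s : G3 ⧸ Q3)) ^ 3 = 1 := by
    have h0 := pow_card_eq_one' (G := G3 ⧸ Q3) (x := (s : G3 ⧸ Q3))
    rw [hcard] at h0; exact h0
  have h4 : ((s : G3 ⧸ Q3)) ^ 4 = 1 := by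
    rw [← QuotientGroup.mk_pow, hs]; rfl
  have h1 : ((s : G3 ⧸ Q3)) = 1 := by
    have : ((s : G3 ⧸ Q3)) ^ 4 = ((s : G3 ⧸ Q3)) ^ 3 * (s : G3 ⧸ Q3) := pow_succ _ 3
    rw [h4, h3, one_mul] at this
    exact this.symm
  exact (QuotientGroup.eq_one_iff s).mp h1

theorem mem_PG_iff (g : GL3) : g ∈ PG ↔ Matrix.GeneralLinearGroup.det g = 1 ∧ g ^ 4 = 1 := by
  constructor
  · rintro ⟨s, hs, rfl⟩
    refine ⟨SpecialLinearGroup.coeToGL_det s, ?_⟩
    rw [← map_pow, pow_four_of_mem_Q3 s hs, map_one]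
  · rintro ⟨h1, h2⟩
    have hdet : (g : Matrix (Fin 2) (Fin 2) (ZMod 3)).det = 1 := by
      have := congrArg Units.val h1
      exact this
    obtain ⟨s, hs⟩ : ∃ s : G3, s = ⟨(g : Matrix (Fin 2) (Fin 2) (ZMod 3)), hdet⟩ := ⟨_, rfl⟩
    have hsg : SpecialLinearGroup.toGL s = g := by rw [hs]; exact Units.ext rfl
    refine ⟨s, ?_, hsg⟩
    apply mem_Q3_of_pow_four
    apply SpecialLinearGroup.toGL_injective
    rw [map_pow, map_one, hsg, h2]

instance PG_normal : PG.Normal := by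
  constructor
  intro n hn g
  rw [mem_PG_iff] at hn ⊢
  refine ⟨?_, ?_⟩
  · rw [map_mul, map_mul, map_inv, hn.1, mul_one, mul_inv_cancel]
  · rw [conj_pow, hn.2, mul_one, mul_inv_cancel]

noncomputable def ePG : PG ≃* QuaternionGroup 2 :=
  ((MonoidHom.ofInjective lift_injective).trans
    (Subgroup.equivMapOfInjective Q3 SpecialLinearGroup.toGL
      SpecialLinearGroup.toGL_injective)).symm

theorem comm_aux : ∀ a b c d : ZMod 3, a * d - b * c ≠ 0 →
    !![a, b; c, d] * !![0, 1; -1, 0] = !![0, 1; -1, 0] * !![a, b; c, d] →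
    !![a, b; c, d] * !![1, 1; 1, -1] = !![1, 1; 1, -1] * !![a, b; c, d] →
    (!![a, b; c, d] : Matrix (Fin 2) (Fin 2) (ZMod 3)).det = 1 ∧
      (!![a, b; c, d] : Matrix (Fin 2) (Fin 2) (ZMod 3)) ^ 4 = 1 := by
  decide

theorem cent_PG : Subgroup.centralizer (PG : Set GL3) ≤ PG := by
  intro g hg
  rw [Subgroup.mem_centralizer_iff] at hg
  have hA := hg (SpecialLinearGroup.toGL A3) ⟨A3, A3_mem, rfl⟩
  have hB := hg (SpecialLinearGroup.toGL B3) ⟨B3, B3_mem, rfl⟩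
  have hAm := congrArg Units.val hA
  have hBm := congrArg Units.val hB
  rw [Units.val_mul, Units.val_mul] at hAm hBm
  have hgm : (g : Matrix (Fin 2) (Fin 2) (ZMod 3)) =
      !![g.val 0 0, g.val 0 1; g.val 1 0, g.val 1 1] := Matrix.eta_fin_two _
  have hdet : g.val 0 0 * g.val 1 1 - g.val 0 1 * g.val 1 0 ≠ 0 := by
    have := Matrix.GeneralLinearGroup.det_ne_zero g
    rwa [Matrix.det_fin_two] at this
  have hA3 : ((SpecialLinearGroup.toGL A3 : GL3) : Matrix (Fin 2) (Fin 2) (ZMod 3)) =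
      !![0, 1; -1, 0] := rfl
  have hB3 : ((SpecialLinearGroup.toGL B3 : GL3) : Matrix (Fin 2) (Fin 2) (ZMod 3)) =
      !![1, 1; 1, -1] := rfl
  rw [hA3, hgm] at hAm
  rw [hB3, hgm] at hBm
  obtain ⟨h1, h2⟩ := comm_aux _ _ _ _ hdet hAm.symm hBm.symm
  rw [← hgm] at h1 h2
  rw [mem_PG_iff]
  refine ⟨Units.ext h1, Units.ext ?_⟩
  rw [Units.val_pow_eq_pow_val, h2]; rfl

/-- the element of order 3 -/
def dG : GL3 := SpecialLinearGroup.toGL u3

/-- the reflection -/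
def tG : GL3 := ⟨!![1, 0; 0, -1], !![1, 0; 0, -1], by decide, by decide⟩

theorem dG_pow : dG ^ 3 = 1 := by
  unfold dG
  rw [← map_pow]
  have : u3 ^ 3 = 1 := by decide
  rw [this, map_one]

theorem dG_ne : dG ≠ 1 := by
  unfold dG
  intro h
  rw [← map_one SpecialLinearGroup.toGL] at h
  have := SpecialLinearGroup.toGL_injective h
  revert this
  decide

theorem tG_sq : tG * tG = 1 := by
  apply Units.ext
  rw [Units.val_mul]
  show (!![1, 0; 0, -1] : Matrix (Fin 2) (Fin 2) (ZMod 3)) * !![1, 0; 0, -1] = 1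
  decide

theorem tG_not_mem : tG ∉ PG := by
  intro h
  rw [mem_PG_iff] at h
  have := congrArg Units.val h.1
  revert this
  show (!![1, 0; 0, -1] : Matrix (Fin 2) (Fin 2) (ZMod 3)).det = 1 → False
  decide

theorem tG_dG : tG * dG * tG = dG⁻¹ := by
  apply eq_inv_of_mul_eq_one_left
  apply Units.ext
  rw [Units.val_mul, Units.val_mul, Units.val_mul]
  show (!![1, 0; 0, -1] : Matrix (Fin 2) (Fin 2) (ZMod 3)) * !![1, 1; 0, 1] * !![1, 0; 0, -1] *
    !![1, 1; 0, 1] = 1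
  decide

theorem card_GL3 : Nat.card GL3 = 48 := by
  rw [Matrix.card_GL_field]
  simp [Fin.prod_univ_two, ZMod.card]

/-- the recognition data of `GL₂(3)` -/
noncomputable def dataGL : Data GL3 where
  P := PG
  normal := PG_normal
  e := ePG
  cent := cent_PG
  d := dG
  t := tG
  hd := dG_pow
  hd1 := dG_ne
  ht := tG_sq
  htP := tG_not_mem
  hdt := tG_dG
  card := card_GL3

end Cfsg.Agent.Helper16.GL23
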