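import Mathlib
import Cfsg.Agent.Helper16.H4Defs

/-! S4221 piece CONST: the counts do not depend on the 4-tuple. -/

namespace Cfsg.Agent.Helper16.H4

open MulAction

variable {G : Type*} [Group G] {Ω : Type*} [MulAction G Ω]

/-- conjugation by `g` as a bijection on elements. -/
def conjEquiv (g : G) : G ≃ G where
  toFun t := g * t * g⁻¹
  invFun t := g⁻¹ * t * g
  left_inv t := by group
  right_inv t := by group

lemma conj_mul_self (g t : G) : (g * t * g⁻¹) * (g * t * g⁻¹) = 1 ↔ t * t = 1 := by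
  constructor
  · intro h
    have : g * (t * t) * g⁻¹ = 1 := by rw [← h]; group
    have h2 : t * t = g⁻¹ * (g * (t * t) * g⁻¹) * g := by group
    rw [h2, this]; group
  · intro h
    calc (g * t * g⁻¹) * (g * t * g⁻¹) = g * (t * t) * g⁻¹ := by group
      _ = 1 := by rw [h]; group

lemma conj_comm (g s t : G) :
    (g * s * g⁻¹) * (g * t * g⁻¹) = (g * t * g⁻¹) * (g * s * g⁻¹) ↔ s * t = t * s := by
  constructor
  · intro h
    have e1 : (g * s * g⁻¹) * (g * t * g⁻¹) = g * (s * t) * g⁻¹ := by group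
    have e2 : (g * t * g⁻¹) * (g * s * g⁻¹) = g * (t * s) * g⁻¹ := by group
    rw [e1, e2] at h
    exact mul_left_cancel (mul_right_cancel h)
  · intro h
    calc (g * s * g⁻¹) * (g * t * g⁻¹) = g * (s * t) * g⁻¹ := by group
      _ = g * (t * s) * g⁻¹ := by rw [h]
      _ = (g * t * g⁻¹) * (g * s * g⁻¹) := by group

lemma cnt_smul (g : G) (π : Equiv.Perm (Fin 4)) (y : Fin 4 ↪ Ω) :
    cnt G π (g • y) = cnt G π y := by
  unfold cnt
  refine (Nat.card_congr ((conjEquiv g).subtypeEquiv fun t => ?_)).symm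
  show _ ↔ (g * t * g⁻¹) * (g * t * g⁻¹) = 1 ∧ Pat π (g * t * g⁻¹) (g • y)
  rw [conj_mul_self, pat_conj]

theorem cnt_const (htr : IsMultiplyPretransitive G Ω 4) (π : Equiv.Perm (Fin 4))
    (y y' : Fin 4 ↪ Ω) : cnt G π y = cnt G π y' := by
  have : IsPretransitive G (Fin 4 ↪ Ω) := htr
  obtain ⟨g, rfl⟩ := MulAction.exists_smul_eq G y y'
  exact (cnt_smul g π y).symm

theorem cnt_conj (htr : IsMultiplyPretransitive G Ω 4) (σ π : Equiv.Perm (Fin 4))
    (y : Fin 4 ↪ Ω) : cnt G (σ * π * σ⁻¹) y = cnt G π y := by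
  rw [cnt_const htr π y (reidx σ y)]
  unfold cnt
  exact Nat.card_congr (Equiv.subtypeEquivRight fun t => by rw [pat_reidx])

lemma pairPat_conj (g : G) (π ρ : Equiv.Perm (Fin 4)) (p : G × G) (y : Fin 4 ↪ Ω) :
    PairPat π ρ (g * p.1 * g⁻¹, g * p.2 * g⁻¹) (g • y) ↔ PairPat π ρ p y := by
  unfold PairPat
  simp only
  rw [conj_mul_self, conj_mul_self, conj_comm, pat_conj, pat_conj]

lemma mixed_conj' (g : G) (p : G × G) :
    Mixed Ω (g * p.1 * g⁻¹, g * p.2 * g⁻¹) ↔ Mixed Ω p := by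
  constructor
  · rintro ⟨ω, h1, h2⟩
    refine ⟨g⁻¹ • ω, ?_, ?_⟩
    · have h1' : (g * p.1 * g⁻¹) • ω = ω := h1
      rw [mul_smul, mul_smul] at h1'
      rw [eq_inv_smul_iff]; exact h1'
    · intro h3
      apply h2
      show (g * p.2 * g⁻¹) • ω = ω
      rw [mul_smul, mul_smul, h3, smul_inv_smul]
  · rintro ⟨ω, h1, h2⟩
    refine ⟨g • ω, ?_, ?_⟩
    · show (g * p.1 * g⁻¹) • g • ω = g • ω
      rw [mul_smul, mul_smul, inv_smul_smul, h1]
    · intro h3
      apply h2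
      have h3' : (g * p.2 * g⁻¹) • g • ω = g • ω := h3
      rw [mul_smul, mul_smul, inv_smul_smul] at h3'
      exact smul_left_cancel g h3'

/-- simultaneous conjugation on pairs. -/
def conjEquiv2 (g : G) : G × G ≃ G × G := (conjEquiv g).prodCongr (conjEquiv g)

theorem cnt2_const (htr : IsMultiplyPretransitive G Ω 4) (π ρ : Equiv.Perm (Fin 4))
    (y y' : Fin 4 ↪ Ω) : cnt2 G π ρ y = cnt2 G π ρ y' := by
  have : IsPretransitive G (Fin 4 ↪ Ω) := htr
  obtain ⟨g, rfl⟩ := MulAction.exists_smul_eq G y y'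
  unfold cnt2
  refine Nat.card_congr ((conjEquiv2 g).subtypeEquiv fun p => ?_)
  show _ ↔ PairPat π ρ (g * p.1 * g⁻¹, g * p.2 * g⁻¹) (g • y)
  rw [pairPat_conj]

theorem cnt2m_const (htr : IsMultiplyPretransitive G Ω 4) (π ρ : Equiv.Perm (Fin 4))
    (y y' : Fin 4 ↪ Ω) : cnt2m G π ρ y = cnt2m G π ρ y' := by
  have : IsPretransitive G (Fin 4 ↪ Ω) := htr
  obtain ⟨g, rfl⟩ := MulAction.exists_smul_eq G y y'
  unfold cnt2m
  refine Nat.card_congr ((conjEquiv2 g).subtypeEquiv fun p => ?_)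
  show _ ↔ PairPat π ρ (g * p.1 * g⁻¹, g * p.2 * g⁻¹) (g • y) ∧
    Mixed Ω (g * p.1 * g⁻¹, g * p.2 * g⁻¹)
  rw [pairPat_conj, mixed_conj']

end Cfsg.Agent.Helper16.H4
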