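import Mathlib
import Cfsg.Agent.Helper16.H4Defs

/-! S4221 pieces FIX and INV. -/

namespace Cfsg.Agent.Helper16.H4

open MulAction

variable {G : Type*} [Group G] [Finite G] {Ω : Type*} [Finite Ω] [MulAction G Ω]

omit [Finite Ω] [Finite G] in
/-- an element of the (odd order) stabilizer whose square is one is trivial. -/
lemma eq_one_of_mem_stabilizer (hyp : Hyp G Ω) (y : Fin 4 ↪ Ω) {t : G}
    (hmem : t ∈ stabilizer G y) (ht : t * t = 1) : t = 1 := by
  obtain ⟨m, hm⟩ := hyp.odd y
  have h1 : (⟨t, hmem⟩ : stabilizer G y) ^ Nat.card (stabilizer G y) = 1 := pow_card_eq_one'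
  have h2 : t ^ Nat.card (stabilizer G y) = 1 := by
    have := congrArg (fun z : stabilizer G y => (z : G)) h1
    simpa using this
  rw [hm, pow_succ, pow_mul, pow_two, ht, one_pow, one_mul] at h2
  exact h2

/-- FIX -/
theorem fixN_le_three (hyp : Hyp G Ω) (t : G) (ht1 : t ≠ 1) (ht : t * t = 1) :
    fixN Ω t ≤ 3 := by
  by_contra hlt
  rw [not_le] at hlt
  have : Fintype {ω : Ω // t • ω = ω} := Fintype.ofFinite _
  have h4 : Fintype.card (Fin 4) ≤ Fintype.card {ω : Ω // t • ω = ω} := by
    unfold fixN at hlt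
    rw [Nat.card_eq_fintype_card] at hlt
    simp only [Fintype.card_fin]; omega
  obtain ⟨e⟩ := Function.Embedding.nonempty_of_card_le h4
  set y : Fin 4 ↪ Ω := e.trans (Function.Embedding.subtype _)
  have hmem : t ∈ stabilizer G y := by
    rw [← pat_one_iff]
    intro i
    exact (e i).2
  exact ht1 (eq_one_of_mem_stabilizer hyp y hmem ht)

end Cfsg.Agent.Helper16.H4
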