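import Mathlib
import Cfsg.Agent.Helper16.H4Defs

/-! S4221 piece INV. -/

namespace Cfsg.Agent.Helper16.H4

open MulAction

variable {G : Type*} [Group G] {Ω : Type*} [MulAction G Ω]

/-- odd power trick. -/
lemma pow_card_pat (hyp : Hyp G Ω) (y : Fin 4 ↪ Ω) (π : Equiv.Perm (Fin 4))
    (hπ : π * π = 1) (g : G) (hg : Pat π g y) :
    (g ^ Nat.card (stabilizer G y)) * (g ^ Nat.card (stabilizer G y)) = 1 ∧
      Pat π (g ^ Nat.card (stabilizer G y)) y := by
  obtain ⟨m, hm⟩ := hyp.odd y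
  have hgg : g * g ∈ stabilizer G y := by
    rw [← pat_one_iff, ← hπ]
    exact pat_mul hg hg
  have h1 : (⟨g * g, hgg⟩ : stabilizer G y) ^ Nat.card (stabilizer G y) = 1 := pow_card_eq_one'
  have h2 : (g * g) ^ Nat.card (stabilizer G y) = 1 := by
    have := congrArg (fun z : stabilizer G y => (z : G)) h1
    simpa using this
  constructor
  · rw [← (Commute.refl g).mul_pow]
    exact h2
  · rw [hm, pow_succ, pow_mul, pow_two]
    have h3 : (g * g) ^ m ∈ stabilizer G y := Subgroup.pow_mem _ hgg m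
    rw [← pat_one_iff] at h3
    have := pat_mul h3 hg
    simpa using this

/-- INV -/
theorem exists_invol_pat (hyp : Hyp G Ω) (y : Fin 4 ↪ Ω) (π : Equiv.Perm (Fin 4))
    (hπ : π * π = 1) : ∃ s : G, s * s = 1 ∧ Pat π s y := by
  have : IsPretransitive G (Fin 4 ↪ Ω) := hyp.trans
  obtain ⟨g, hg⟩ := MulAction.exists_smul_eq G y (reidx π y)
  have hpg : Pat π g y := by
    intro i
    have := congrArg (fun z : Fin 4 ↪ Ω => z i) hg
    simpa [Function.Embedding.smul_apply] using this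
  exact ⟨_, pow_card_pat hyp y π hπ g hpg⟩

/-- INV -/
theorem exists_commuting (hyp : Hyp G Ω) (y : Fin 4 ↪ Ω) {π ρ : Equiv.Perm (Fin 4)}
    (hπ : π * π = 1) (hρ : ρ * ρ = 1) (hc : π * ρ = ρ * π) (t : G) (ht : t * t = 1)
    (hpt : Pat ρ t y) : ∃ s : G, s * s = 1 ∧ s * t = t * s ∧ Pat π s y := by
  obtain ⟨s₀, hs₀, hps₀⟩ := exists_invol_pat hyp y π hπ
  have hπρ : (π * ρ) * (π * ρ) = 1 := by
    calc (π * ρ) * (π * ρ) = π * (ρ * π) * ρ := by group
      _ = π * (π * ρ) * ρ := by rw [hc]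
      _ = (π * π) * (ρ * ρ) := by group
      _ = 1 := by rw [hπ, hρ, one_mul]
  have hr : Pat (π * ρ) (s₀ * t) y := pat_mul hps₀ hpt
  obtain ⟨hu, hpu⟩ := pow_card_pat hyp y (π * ρ) hπρ (s₀ * t) hr
  set k := Nat.card (stabilizer G y)
  set u := (s₀ * t) ^ k with hudef
  have htinv : t⁻¹ = t := inv_eq_of_mul_eq_one_left ht
  have hsinv : s₀⁻¹ = s₀ := inv_eq_of_mul_eq_one_left hs₀
  have huinv : u⁻¹ = u := inv_eq_of_mul_eq_one_left hu
  have hconj : t * u * t⁻¹ = u⁻¹ := by
    rw [hudef, ← conj_pow, ← inv_pow]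
    congr 1
    rw [mul_inv_rev, htinv, hsinv]
    calc t * (s₀ * t) * t = t * s₀ * (t * t) := by group
      _ = t * s₀ := by rw [ht, mul_one]
  have htu : t * u = u * t := by
    rw [huinv] at hconj
    calc t * u = (t * u * t⁻¹) * t := by group
      _ = u * t := by rw [hconj]
  refine ⟨u * t, ?_, ?_, ?_⟩
  · calc u * t * (u * t) = u * (t * u) * t := by group
      _ = u * (u * t) * t := by rw [htu]
      _ = (u * u) * (t * t) := by group
      _ = 1 := by rw [hu, ht, one_mul]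
  · calc u * t * t = u * (t * t) := by group
      _ = u := by rw [ht, mul_one]
      _ = (t * t) * u := by rw [ht, one_mul]
      _ = t * (t * u) := by group
      _ = t * (u * t) := by rw [htu]
  · have := pat_mul hpu hpt
    have e : π * ρ * ρ = π := by rw [mul_assoc, hρ, mul_one]
    rwa [e] at this

end Cfsg.Agent.Helper16.H4
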