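import Mathlib
import Cfsg.Agent.Helper16.H4Defs

/-! S4221 piece PARb: counting modulo 4 on the moved set of an involution. -/

namespace Cfsg.Agent.Helper16.H4

open MulAction

section Comb
variable {Ω : Type*} [DecidableEq Ω]

/-- a fixed-point-free involution on a finset: even cardinality. -/
lemma even_card_of_fpf (T : Ω → Ω) (hTT : ∀ x, T (T x) = x) :
    ∀ S : Finset Ω, (∀ x ∈ S, T x ∈ S) → (∀ x ∈ S, T x ≠ x) → 2 ∣ S.card := by
  intro S
  induction S using Finset.strongInduction with
  | H S ih =>
    intro hinv hfpf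
    rcases S.eq_empty_or_nonempty with rfl | ⟨x, hx⟩
    · simp
    · set O : Finset Ω := {x, T x} with hO
      have hO2 : O.card = 2 := Finset.card_pair (hfpf x hx).symm
      have hOS : O ⊆ S := by
        intro w hw
        rw [hO, Finset.mem_insert, Finset.mem_singleton] at hw
        rcases hw with rfl | rfl
        · exact hx
        · exact hinv _ hx
      have hOT : ∀ w ∈ O, T w ∈ O := by
        intro w hw
        rw [hO, Finset.mem_insert, Finset.mem_singleton] at hw ⊢
        rcases hw with rfl | rfl
        · right; rfl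
        · left; exact hTT _
      have hss : S \ O ⊂ S := by
        refine Finset.sdiff_ssubset hOS ⟨x, ?_⟩
        rw [hO]; exact Finset.mem_insert_self _ _
      have h1 := ih (S \ O) hss
        (fun z hz => by
          rw [Finset.mem_sdiff] at hz ⊢
          refine ⟨hinv z hz.1, fun h => hz.2 ?_⟩
          have := hOT _ h
          rwa [hTT] at this)
        (fun z hz => hfpf z (Finset.mem_sdiff.1 hz).1)
      have hc : S.card = (S \ O).card + O.card := by
        rw [Finset.card_sdiff_add_card_eq_card hOS]
      rw [hc, hO2]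
      exact (Nat.dvd_add_right h1).2 (dvd_refl 2)

/-- a free action of a four-group on a finset: cardinality divisible by 4. -/
lemma four_dvd_card_of_free (T B : Ω → Ω) (hTT : ∀ x, T (T x) = x) (hBB : ∀ x, B (B x) = x)
    (hTB : ∀ x, T (B x) = B (T x)) :
    ∀ S : Finset Ω, (∀ x ∈ S, T x ∈ S) → (∀ x ∈ S, B x ∈ S) → (∀ x ∈ S, T x ≠ x) →
      (∀ x ∈ S, B x ≠ x) → (∀ x ∈ S, T (B x) ≠ x) → 4 ∣ S.card := by
  intro S
  induction S using Finset.strongInduction with
  | H S ih =>
    intro hinvT hinvB hT hB hTBx
    rcases S.eq_empty_or_nonempty with rfl | ⟨x, hx⟩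
    · simp
    · set O : Finset Ω := {x, T x, B x, T (B x)} with hO
      have d1 : x ≠ T x := (hT x hx).symm
      have d2 : x ≠ B x := (hB x hx).symm
      have d3 : x ≠ T (B x) := (hTBx x hx).symm
      have d4 : T x ≠ B x := by
        intro h
        apply d3
        rw [← h, hTT]
      have d5 : T x ≠ T (B x) := by
        intro h
        apply d2
        have := congrArg T h
        rwa [hTT, hTT] at this
      have d6 : B x ≠ T (B x) := (hT _ (hinvB x hx)).symm
      have hO4 : O.card = 4 := by
        rw [hO, Finset.card_insert_of_notMem, Finset.card_insert_of_notMem, Finset.card_pair d6]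
        · simp only [Finset.mem_insert, Finset.mem_singleton, not_or]; exact ⟨d4, d5⟩
        · simp only [Finset.mem_insert, Finset.mem_singleton, not_or]; exact ⟨d1, d2, d3⟩
      have hmemO : ∀ w, w ∈ O ↔ w = x ∨ w = T x ∨ w = B x ∨ w = T (B x) := by
        intro w; rw [hO]; simp only [Finset.mem_insert, Finset.mem_singleton]
      have hOS : O ⊆ S := by
        intro w hw
        rw [hmemO] at hw
        rcases hw with rfl | rfl | rfl | rfl
        · exact hx
        · exact hinvT _ hx
        · exact hinvB _ hx
        · exact hinvT _ (hinvB _ hx)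
      have hOT : ∀ w ∈ O, T w ∈ O := by
        intro w hw
        rw [hmemO] at hw ⊢
        rcases hw with rfl | rfl | rfl | rfl
        · right; left; rfl
        · left; exact hTT _
        · right; right; right; rfl
        · right; right; left; exact hTT _
      have hOB : ∀ w ∈ O, B w ∈ O := by
        intro w hw
        rw [hmemO] at hw ⊢
        rcases hw with rfl | rfl | rfl | rfl
        · right; right; left; rfl
        · right; right; right; exact (hTB _).symm
        · left; exact hBB _
        · right; left; rw [← hTB, hBB]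
      have hss : S \ O ⊂ S := by
        refine Finset.sdiff_ssubset hOS ⟨x, ?_⟩
        rw [hmemO]; left; rfl
      have h1 := ih (S \ O) hss
        (fun z hz => by
          rw [Finset.mem_sdiff] at hz ⊢
          refine ⟨hinvT z hz.1, fun h => hz.2 ?_⟩
          have := hOT _ h
          rwa [hTT] at this)
        (fun z hz => by
          rw [Finset.mem_sdiff] at hz ⊢
          refine ⟨hinvB z hz.1, fun h => hz.2 ?_⟩
          have := hOB _ h
          rwa [hBB] at this)
        (fun z hz => hT z (Finset.mem_sdiff.1 hz).1)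
        (fun z hz => hB z (Finset.mem_sdiff.1 hz).1)
        (fun z hz => hTBx z (Finset.mem_sdiff.1 hz).1)
      have hc : S.card = (S \ O).card + O.card := by
        rw [Finset.card_sdiff_add_card_eq_card hOS]
      rw [hc, hO4]
      exact (Nat.dvd_add_right h1).2 (dvd_refl 4)

end Comb


variable {G : Type*} [Group G] {Ω : Type*} [Finite Ω] [MulAction G Ω]

lemma πB_zero : πB 0 = 1 := by unfold πB; decide
lemma πB_one : πB 1 = 0 := by unfold πB; decide
lemma πB_two : πB 2 = 3 := by unfold πB; decide
lemma πB_three : πB 3 = 2 := by unfold πB; decide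
lemma πA_zero : πA 0 = 0 := by unfold πA; decide
lemma πA_one : πA 1 = 1 := by unfold πA; decide
lemma πA_two : πA 2 = 3 := by unfold πA; decide
lemma πA_three : πA 3 = 2 := by unfold πA; decide

omit [Finite Ω] in
lemma smul_smul_self {t : G} (ht : t * t = 1) (ω : Ω) : t • t • ω = ω := by
  rw [← mul_smul, ht, one_smul]

omit [Finite Ω] in
lemma fixN_eq_card_filter [Fintype Ω] [DecidableEq Ω] (t : G) :
    fixN Ω t = (Finset.univ.filter (fun ω : Ω => t • ω = ω)).card := by
  unfold fixN
  rw [Nat.card_eq_fintype_card, Fintype.card_subtype]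

/-- PARb -/
theorem fixN_eq_mod_four_of
    (hfix : ∀ t : G, t ≠ 1 → t * t = 1 → fixN Ω t ≤ 3)
    (hex : ∀ (y : Fin 4 ↪ Ω) (t : G), t * t = 1 → Pat πB t y →
      ∃ b : G, b * b = 1 ∧ b * t = t * b ∧ Pat πA b y)
    (h6 : 6 ≤ Nat.card Ω) (t : G) (ht1 : t ≠ 1) (ht : t * t = 1) :
    fixN Ω t = Nat.card Ω % 4 := by
  classical
  have : Fintype Ω := Fintype.ofFinite Ω
  have hf3 := hfix t ht1 ht
  set M : Finset Ω := Finset.univ.filter (fun ω : Ω => t • ω ≠ ω) with hM
  have hmemM : ∀ ω, ω ∈ M ↔ t • ω ≠ ω := fun ω => by rw [hM, Finset.mem_filter]; simp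
  have hcard : fixN Ω t + M.card = Nat.card Ω := by
    rw [fixN_eq_card_filter, hM, Nat.card_eq_fintype_card, ← Finset.card_univ]
    exact Finset.card_filter_add_card_filter_not (s := Finset.univ) (fun ω : Ω => t • ω = ω)
  have hM3 : 3 ≤ M.card := by omega
  have hTM : ∀ ω ∈ M, t • ω ∈ M := by
    intro ω hω
    rw [hmemM] at hω ⊢
    rw [smul_smul_self ht]
    exact fun h => hω h.symm
  -- choose k, l, k', l'
  obtain ⟨k, hk⟩ : M.Nonempty := Finset.card_pos.1 (by omega)
  set l := t • k with hl
  have hlM : l ∈ M := hTM k hk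
  have hkl : k ≠ l := fun h => (hmemM k).1 hk h.symm
  have htl : t • l = k := smul_smul_self ht k
  have hne : (M \ {k, l}).Nonempty := by
    rw [← Finset.card_pos]
    have h1 : ({k, l} : Finset Ω).card = 2 := Finset.card_pair hkl
    have h2 := Finset.le_card_sdiff ({k, l} : Finset Ω) M
    omega
  obtain ⟨k', hk'⟩ := hne
  rw [Finset.mem_sdiff, Finset.mem_insert, Finset.mem_singleton, not_or] at hk'
  obtain ⟨hk'M, hk'k, hk'l⟩ := hk'
  set l' := t • k' with hl'
  have hl'M : l' ∈ M := hTM k' hk'M
  have hk'l' : k' ≠ l' := fun h => (hmemM k').1 hk'M h.symm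
  have htl' : t • l' = k' := smul_smul_self ht k'
  have hl'k : l' ≠ k := by
    intro h
    apply hk'l
    have h2 : t • l' = t • k := by rw [h]
    rw [htl'] at h2
    exact h2
  have hl'l : l' ≠ l := by
    intro h
    apply hk'k
    have h2 : t • l' = t • l := by rw [h]
    rw [htl', htl] at h2
    exact h2
  -- the 4-tuple
  have hinj : Function.Injective ![k, l, k', l'] := by
    intro i j hij
    fin_cases i <;> fin_cases j <;> simp at hij ⊢
    · exact hkl hij
    · exact hk'k hij.symm
    · exact hl'k hij.symm
    · exact hkl hij.symm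
    · exact hk'l hij.symm
    · exact hl'l hij.symm
    · exact hk'k hij
    · exact hk'l hij
    · exact hk'l' hij
    · exact hl'k hij
    · exact hl'l hij
    · exact hk'l' hij.symm
  set y : Fin 4 ↪ Ω := ⟨![k, l, k', l'], hinj⟩ with hy
  have y0 : y 0 = k := rfl
  have y1 : y 1 = l := rfl
  have y2 : y 2 = k' := rfl
  have y3 : y 3 = l' := rfl
  have hpat : Pat πB t y := by
    intro i
    fin_cases i
    · show t • y 0 = y (πB 0); rw [πB_zero, y0, y1]
    · show t • y 1 = y (πB 1); rw [πB_one, y0, y1]; exact htl
    · show t • y 2 = y (πB 2); rw [πB_two, y2, y3]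
    · show t • y 3 = y (πB 3); rw [πB_three, y2, y3]; exact htl'
  obtain ⟨b, hb, hbt, hpb⟩ := hex y t ht hpat
  have hbk : b • k = k := by have := hpb 0; rwa [πA_zero, y0] at this
  have hbl : b • l = l := by have := hpb 1; rwa [πA_one, y1] at this
  have hbk' : b • k' = l' := by have := hpb 2; rwa [πA_two, y2, y3] at this
  have hbl' : b • l' = k' := by have := hpb 3; rwa [πA_three, y2, y3] at this
  have hb1 : b ≠ 1 := by
    rintro rfl
    rw [one_smul] at hbk'
    exact hk'l' hbk'
  have hcomm : ∀ ω : Ω, b • t • ω = t • b • ω := fun ω => by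
    rw [← mul_smul, ← mul_smul, hbt]
  set c := t * b with hc
  have hcc : c * c = 1 := by
    calc c * c = t * (b * t) * b := by rw [hc]; group
      _ = t * (t * b) * b := by rw [hbt]
      _ = (t * t) * (b * b) := by group
      _ = 1 := by rw [ht, hb, one_mul]
  have hcω : ∀ ω : Ω, c • ω = t • b • ω := fun ω => by rw [hc, mul_smul]
  have hc1 : c ≠ 1 := by
    intro h
    have := hcω k
    rw [h, one_smul, hbk] at this
    exact hkl this
  have hfb := hfix b hb1 hb
  have hfc := hfix c hc1 hcc
  -- the three parts of M
  set FB := M.filter (fun ω => b • ω = ω) with hFB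
  set FC := M.filter (fun ω => c • ω = ω) with hFC
  set R := M.filter (fun ω => ¬ b • ω = ω ∧ ¬ c • ω = ω) with hR
  have hsplit : M.card = FB.card + FC.card + R.card := by
    have e1 : FB.card + (M.filter (fun ω => ¬ b • ω = ω)).card = M.card :=
      Finset.card_filter_add_card_filter_not (s := M) (fun ω => b • ω = ω)
    have e2 : ((M.filter (fun ω => ¬ b • ω = ω)).filter (fun ω => c • ω = ω)).card +
        ((M.filter (fun ω => ¬ b • ω = ω)).filter (fun ω => ¬ c • ω = ω)).card =
        (M.filter (fun ω => ¬ b • ω = ω)).card :=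
      Finset.card_filter_add_card_filter_not (s := M.filter (fun ω => ¬ b • ω = ω))
        (fun ω => c • ω = ω)
    have e3 : (M.filter (fun ω => ¬ b • ω = ω)).filter (fun ω => c • ω = ω) = FC := by
      rw [hFC]
      ext ω
      simp only [Finset.mem_filter]
      constructor
      · rintro ⟨⟨h1, -⟩, h3⟩; exact ⟨h1, h3⟩
      · rintro ⟨h1, h3⟩
        refine ⟨⟨h1, fun h2 => ?_⟩, h3⟩
        rw [hcω, h2] at h3
        exact (hmemM ω).1 h1 h3
    have e4 : (M.filter (fun ω => ¬ b • ω = ω)).filter (fun ω => ¬ c • ω = ω) = R := by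
      rw [hR, Finset.filter_filter]
    rw [e3, e4] at e2
    omega
  -- FB has exactly two elements
  have hFB2 : FB.card = 2 := by
    have hev : 2 ∣ FB.card := by
      apply even_card_of_fpf (fun ω => t • ω) (fun ω => smul_smul_self ht ω) FB
      · intro ω hω
        rw [hFB, Finset.mem_filter] at hω ⊢
        exact ⟨hTM ω hω.1, by rw [hcomm, hω.2]⟩
      · intro ω hω
        rw [hFB, Finset.mem_filter] at hω
        exact (hmemM ω).1 hω.1
    have hle : FB.card ≤ fixN Ω b := by
      rw [fixN_eq_card_filter]
      apply Finset.card_le_card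
      intro ω hω
      rw [hFB, Finset.mem_filter] at hω
      simp only [Finset.mem_filter, Finset.mem_univ, true_and]
      exact hω.2
    have hge : 2 ≤ FB.card := by
      have : ({k, l} : Finset Ω) ⊆ FB := by
        intro w hw
        rw [Finset.mem_insert, Finset.mem_singleton] at hw
        rw [hFB, Finset.mem_filter]
        rcases hw with rfl | rfl
        · exact ⟨hk, hbk⟩
        · exact ⟨hlM, hbl⟩
      have h2 := Finset.card_le_card this
      rwa [Finset.card_pair hkl] at h2
    omega
  have hFC2 : FC.card = 2 := by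
    have hev : 2 ∣ FC.card := by
      apply even_card_of_fpf (fun ω => t • ω) (fun ω => smul_smul_self ht ω) FC
      · intro ω hω
        rw [hFC, Finset.mem_filter] at hω ⊢
        refine ⟨hTM ω hω.1, ?_⟩
        rw [hcω, hcomm, smul_smul_self ht]
        have := hω.2
        rw [hcω] at this
        have h2 : t • t • b • ω = t • ω := by rw [this]
        rw [smul_smul_self ht] at h2
        exact h2
      · intro ω hω
        rw [hFC, Finset.mem_filter] at hω
        exact (hmemM ω).1 hω.1
    have hle : FC.card ≤ fixN Ω c := by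
      rw [fixN_eq_card_filter]
      apply Finset.card_le_card
      intro ω hω
      rw [hFC, Finset.mem_filter] at hω
      simp only [Finset.mem_filter, Finset.mem_univ, true_and]
      exact hω.2
    have hge : 2 ≤ FC.card := by
      have : ({k', l'} : Finset Ω) ⊆ FC := by
        intro w hw
        rw [Finset.mem_insert, Finset.mem_singleton] at hw
        rw [hFC, Finset.mem_filter]
        rcases hw with rfl | rfl
        · exact ⟨hk'M, by rw [hcω, hbk', htl']⟩
        · exact ⟨hl'M, by rw [hcω, hbl']⟩
      have h2 := Finset.card_le_card this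
      rwa [Finset.card_pair hk'l'] at h2
    omega
  -- R carries a free action
  have hbM : ∀ ω ∈ M, b • ω ∈ M := by
    intro ω hω
    rw [hmemM] at hω ⊢
    intro h
    apply hω
    rw [← hcomm] at h
    exact smul_left_cancel b h
  have hR4 : 4 ∣ R.card := by
    apply four_dvd_card_of_free (fun ω => t • ω) (fun ω => b • ω)
      (fun ω => smul_smul_self ht ω) (fun ω => smul_smul_self hb ω) (fun ω => (hcomm ω).symm) R
    · intro ω hω
      rw [hR, Finset.mem_filter] at hω ⊢
      obtain ⟨h1, h2, h3⟩ := hω
      refine ⟨hTM ω h1, ?_, ?_⟩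
      · rw [hcomm]; exact fun h => h2 (smul_left_cancel t h)
      · rw [hcω, hcomm, smul_smul_self ht]
        intro h
        apply h3
        rw [hcω, h, smul_smul_self ht]
    · intro ω hω
      rw [hR, Finset.mem_filter] at hω ⊢
      obtain ⟨h1, h2, h3⟩ := hω
      refine ⟨hbM ω h1, ?_, ?_⟩
      · rw [smul_smul_self hb]; exact fun h => h2 h.symm
      · rw [hcω, smul_smul_self hb]
        intro h
        apply h3
        rw [hcω, ← hcomm, h, smul_smul_self hb]
    · intro ω hω
      rw [hR, Finset.mem_filter] at hω
      exact (hmemM ω).1 hω.1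
    · intro ω hω
      rw [hR, Finset.mem_filter] at hω
      exact hω.2.1
    · intro ω hω
      rw [hR, Finset.mem_filter] at hω
      have := hω.2.2
      rwa [hcω] at this
  obtain ⟨r, hr⟩ := hR4
  omega

end Cfsg.Agent.Helper16.H4
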