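import Mathlib
import Cfsg.Agent.Helper16.H4Defs
import Cfsg.Agent.Helper16.H4CONST
import Cfsg.Agent.Helper16.H4FIX
import Cfsg.Agent.Helper16.H4INV
import Cfsg.Agent.Helper16.H4PARb
import Cfsg.Agent.Helper1.H4GT12
import Cfsg.Agent.Helper1.H4DC1
import Cfsg.Agent.Helper23.H4GT3
import Cfsg.Agent.Helper7.H4TUP1
import Cfsg.Agent.Helper26.H4TUP2
import Cfsg.Agent.Helper7.H4DC2
import Cfsg.Agent.Helper1.H4END11

namespace Cfsg.Agent.Helper16.H4

open MulAction

variable {G : Type*} [Group G] [Finite G] {Ω : Type*} [Finite Ω] [MulAction G Ω]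

/-- PAIR (from INV). -/
theorem exists_pairPat (hyp : Hyp G Ω) (y : Fin 4 ↪ Ω) : ∃ p : G × G, PairPat πA πA' p y := by
  have hA : πA * πA = 1 := by unfold πA; decide
  have hA' : πA' * πA' = 1 := by unfold πA'; decide
  have hc : πA * πA' = πA' * πA := by unfold πA πA'; decide
  obtain ⟨t, ht, hpt⟩ := exists_invol_pat hyp y πA' hA'
  obtain ⟨s, hs, hst, hps⟩ := exists_commuting hyp y hA hA' hc t ht hpt
  exact ⟨(s, t), hs, ht, hst, hps, hpt⟩

/-- PAR (from FIX, INV, PARb). -/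
theorem fixN_eq_mod_four (hyp : Hyp G Ω) (h6 : 6 ≤ Nat.card Ω) (t : G) (ht1 : t ≠ 1)
    (ht : t * t = 1) : fixN Ω t = Nat.card Ω % 4 := by
  have hA : πA * πA = 1 := by unfold πA; decide
  have hB : πB * πB = 1 := by unfold πB; decide
  have hc : πA * πB = πB * πA := by unfold πA πB; decide
  exact fixN_eq_mod_four_of (fun t ht1 ht => fixN_le_three hyp t ht1 ht)
    (fun y t ht hpt => exists_commuting hyp y hA hB hc t ht hpt) h6 t ht1 ht

lemma cnt_eq_coset {π : Equiv.Perm (Fin 4)} {a : G} {y : Fin 4 ↪ Ω} (ha : Pat π a y) :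
    cnt G π y = Nat.card {t : G // t * t = 1 ∧ a⁻¹ * t ∈ stabilizer G y} := by
  unfold cnt
  exact Nat.card_congr (Equiv.subtypeEquivRight fun t => by rw [pat_iff_mem_stabilizer ha])

lemma cnt2_eq_coset {π ρ : Equiv.Perm (Fin 4)} {a b : G} {y : Fin 4 ↪ Ω} (ha : Pat π a y)
    (hb : Pat ρ b y) :
    cnt2 G π ρ y = Nat.card {p : G × G // p.1 * p.1 = 1 ∧ p.2 * p.2 = 1 ∧ p.1 * p.2 = p.2 * p.1 ∧
        a⁻¹ * p.1 ∈ stabilizer G y ∧ b⁻¹ * p.2 ∈ stabilizer G y} := by
  unfold cnt2 PairPat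
  exact Nat.card_congr (Equiv.subtypeEquivRight fun p => by
    rw [pat_iff_mem_stabilizer ha, pat_iff_mem_stabilizer hb])

/-- the counting identity coming from Brauer–Wielandt. -/
theorem count_identity (hyp : Hyp G Ω) {π ρ : Equiv.Perm (Fin 4)} {a b : G} {y : Fin 4 ↪ Ω}
    (ha : a * a = 1) (hb : b * b = 1) (hab : a * b = b * a) (hpa : Pat π a y) (hpb : Pat ρ b y) :
    cnt G π y * cnt G ρ y * cnt G (π * ρ) y = (cnt2 G π ρ y) ^ 2 := by
  set H := stabilizer G y with hHdef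
  have hH : Odd (Nat.card H) := hyp.odd y
  have hNa : ∀ h ∈ H, a * h * a⁻¹ ∈ H := fun h hh => conj_mem_stabilizer hpa hh
  have hNb : ∀ h ∈ H, b * h * b⁻¹ ∈ H := fun h hh => conj_mem_stabilizer hpb hh
  have hpc : Pat (π * ρ) (a * b) y := pat_mul hpa hpb
  have hNc : ∀ h ∈ H, (a * b) * h * (a * b)⁻¹ ∈ H := fun h hh => conj_mem_stabilizer hpc hh
  have hc : (a * b) * (a * b) = 1 := by
    calc (a * b) * (a * b) = a * (b * a) * b := by group
      _ = a * (a * b) * b := by rw [hab]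
      _ = (a * a) * (b * b) := by group
      _ = 1 := by rw [ha, hb, one_mul]
  have e1 := Cfsg.Agent.Helper1.H4.card_invCoset H hH a ha hNa
  have e2 := Cfsg.Agent.Helper1.H4.card_invCoset H hH b hb hNb
  have e3 := Cfsg.Agent.Helper1.H4.card_invCoset H hH (a * b) hc hNc
  have e4 := Cfsg.Agent.Helper1.H4.card_pairCoset H hH a b ha hb hab hNa hNb
  have e5 := Cfsg.Agent.Helper23.H4.brauer_wielandt H hH a b ha hb hab hNa hNb
  rw [← cnt_eq_coset hpa] at e1
  rw [← cnt_eq_coset hpb] at e2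
  rw [← cnt_eq_coset hpc] at e3
  rw [← cnt2_eq_coset hpa hpb] at e4
  set h := Nat.card H
  set αa := Nat.card {h : G // h ∈ H ∧ h * a = a * h}
  set αb := Nat.card {h : G // h ∈ H ∧ h * b = b * h}
  set αc := Nat.card {h : G // h ∈ H ∧ h * (a * b) = (a * b) * h}
  set γ := Nat.card {h : G // h ∈ H ∧ h * a = a * h ∧ h * b = b * h}
  set Na := cnt G π y
  set Nb := cnt G ρ y
  set Nc := cnt G (π * ρ) y
  set N2 := cnt2 G π ρ y
  have hpos : 0 < h := Nat.card_pos
  have hγ : 0 < γ := by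
    rcases Nat.eq_zero_or_pos γ with h0 | h0
    · rw [h0, mul_zero] at e4; omega
    · exact h0
  have key : Na * Nb * Nc * (h * γ ^ 2) = N2 ^ 2 * (h * γ ^ 2) := by
    calc Na * Nb * Nc * (h * γ ^ 2) = (Na * αa) * (Nb * αb) * (Nc * αc) := by rw [e5]; ring
      _ = h * h * h := by rw [e1, e2, e3]
      _ = (N2 * γ) ^ 2 * h := by rw [e4]; ring
      _ = N2 ^ 2 * (h * γ ^ 2) := by ring
  exact Nat.eq_of_mul_eq_mul_right (by positivity) key


/-- `Mixed` is invariant under simultaneous conjugation. -/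
lemma mixed_conj (h : G) (p : G × G) :
    Mixed Ω (h * p.1 * h⁻¹, h * p.2 * h⁻¹) ↔ Mixed Ω p := by
  constructor
  · rintro ⟨ω, h1, h2⟩
    refine ⟨h⁻¹ • ω, ?_, ?_⟩
    · have h1' : (h * p.1 * h⁻¹) • ω = ω := h1
      rw [mul_smul, mul_smul] at h1'
      rw [eq_inv_smul_iff]; exact h1'
    · intro h3
      apply h2
      show (h * p.2 * h⁻¹) • ω = ω
      rw [mul_smul, mul_smul, h3, smul_inv_smul]
  · rintro ⟨ω, h1, h2⟩
    refine ⟨h • ω, ?_, ?_⟩
    · show (h * p.1 * h⁻¹) • h • ω = h • ω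
      rw [mul_smul, mul_smul, inv_smul_smul, h1]
    · intro h3
      apply h2
      have h3' : (h * p.2 * h⁻¹) • h • ω = h • ω := h3
      rw [mul_smul, mul_smul, inv_smul_smul] at h3'
      exact smul_left_cancel h h3'

/-- if some pair of pattern `(π,ρ)` is mixed, then all are. -/
lemma cnt2m_eq_cnt2 (hyp : Hyp G Ω) {π ρ : Equiv.Perm (Fin 4)} {y : Fin 4 ↪ Ω}
    (p₀ : G × G) (hp₀ : PairPat π ρ p₀ y) (hm : Mixed Ω p₀) :
    cnt2m G π ρ y = cnt2 G π ρ y := by
  unfold cnt2m cnt2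
  refine Nat.card_congr (Equiv.subtypeEquivRight fun p => ?_)
  constructor
  · exact fun h => h.1
  · intro hp
    refine ⟨hp, ?_⟩
    obtain ⟨ha, hb, hab, hpa, hpb⟩ := hp₀
    set H := stabilizer G y
    have hH : Odd (Nat.card H) := hyp.odd y
    have hNa : ∀ h ∈ H, p₀.1 * h * p₀.1⁻¹ ∈ H := fun h hh => conj_mem_stabilizer hpa hh
    have hNb : ∀ h ∈ H, p₀.2 * h * p₀.2⁻¹ ∈ H := fun h hh => conj_mem_stabilizer hpb hh
    obtain ⟨h1, h2, h3, h4, h5⟩ := hp
    obtain ⟨h, -, e1, e2⟩ := Cfsg.Agent.Helper1.H4.exists_conj_pairCoset H hH p₀.1 p₀.2 ha hb hab hNa hNb p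
      ⟨h1, h2, h3, (pat_iff_mem_stabilizer hpa).1 h4, (pat_iff_mem_stabilizer hpb).1 h5⟩
    have : p = (h * p₀.1 * h⁻¹, h * p₀.2 * h⁻¹) := Prod.ext e1 e2
    rw [this, mixed_conj]
    exact hm


lemma mul_self_of_pair {a b : G} (ha : a * a = 1) (hb : b * b = 1) (hab : a * b = b * a) :
    (a * b) * (a * b) = 1 := by
  calc (a * b) * (a * b) = a * (b * a) * b := by group
    _ = a * (a * b) * b := by rw [hab]
    _ = (a * a) * (b * b) := by group
    _ = 1 := by rw [ha, hb, one_mul]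

/-- all the counting relations. -/
theorem relations (hyp : Hyp G Ω) (h6 : 6 ≤ Nat.card Ω) (y : Fin 4 ↪ Ω) :
    ∃ cA cB cN cR : ℕ, 0 < cA ∧ 0 < cB ∧ 0 < cN ∧
      cA * (Nat.card Ω - Nat.card Ω % 4 - 2) = (Nat.card Ω % 4) * (Nat.card Ω % 4 - 1) * cB ∧
      cN * (Nat.card Ω - Nat.card Ω % 4 - 4) = 4 * cR ∧
      cA * cA * cB = cN ^ 2 ∧
      (0 < cR → cB * cB * cB = cR ^ 2) ∧
      (∃ α, cA * α = Nat.card (stabilizer G y)) ∧
      (∃ p : G × G, PairPat πA πA' p y ∧
        cN * Nat.card {h : G // h ∈ stabilizer G y ∧ h * p.1 = p.1 * h ∧ h * p.2 = p.2 * h}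
          = Nat.card (stabilizer G y)) := by
  classical
  have htr := hyp.trans
  set n := Nat.card Ω
  set f := n % 4
  have hf3 : f ≤ 3 := by omega
  have huni : ∀ t : G, t ≠ 1 → t * t = 1 → fixN Ω t = f := fun t ht1 ht =>
    fixN_eq_mod_four hyp h6 t ht1 ht
  have hA : ∀ y' : Fin 4 ↪ Ω, cnt G πA y' = cnt G πA y := fun y' => cnt_const htr _ _ _
  have hB : ∀ y' : Fin 4 ↪ Ω, cnt G πB y' = cnt G πB y := fun y' => cnt_const htr _ _ _
  have hN : ∀ y' : Fin 4 ↪ Ω, cnt2 G πA πA' y' = cnt2 G πA πA' y :=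
    fun y' => cnt2_const htr _ _ _ _
  have hR : ∀ y' : Fin 4 ↪ Ω, cnt2m G πB πC y' = cnt2m G πB πC y :=
    fun y' => cnt2m_const htr _ _ _ _
  obtain ⟨p, hp⟩ := exists_pairPat hyp y
  obtain ⟨ha, hb, hab, hpa, hpb⟩ := hp
  have hpc : Pat πB (p.1 * p.2) y := by
    have := pat_mul hpa hpb
    rwa [πA_mul_πA'] at this
  have hc := mul_self_of_pair ha hb hab
  set H := stabilizer G y
  have hH : Odd (Nat.card H) := hyp.odd y
  have hNa : ∀ h ∈ H, p.1 * h * p.1⁻¹ ∈ H := fun h hh => conj_mem_stabilizer hpa hh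
  have hNb : ∀ h ∈ H, p.2 * h * p.2⁻¹ ∈ H := fun h hh => conj_mem_stabilizer hpb hh
  have hNc : ∀ h ∈ H, (p.1 * p.2) * h * (p.1 * p.2)⁻¹ ∈ H :=
    fun h hh => conj_mem_stabilizer hpc hh
  have e1 := Cfsg.Agent.Helper1.H4.card_invCoset H hH p.1 ha hNa
  have e3 := Cfsg.Agent.Helper1.H4.card_invCoset H hH (p.1 * p.2) hc hNc
  have e4 := Cfsg.Agent.Helper1.H4.card_pairCoset H hH p.1 p.2 ha hb hab hNa hNb
  rw [← cnt_eq_coset hpa] at e1
  rw [← cnt_eq_coset hpc] at e3
  rw [← cnt2_eq_coset hpa hpb] at e4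
  have hHpos : 0 < Nat.card H := Nat.card_pos
  have hcA : 0 < cnt G πA y := by
    rcases Nat.eq_zero_or_pos (cnt G πA y) with h0 | h0
    · rw [h0, zero_mul] at e1; omega
    · exact h0
  have hcB : 0 < cnt G πB y := by
    rcases Nat.eq_zero_or_pos (cnt G πB y) with h0 | h0
    · rw [h0, zero_mul] at e3; omega
    · exact h0
  have hcN : 0 < cnt2 G πA πA' y := by
    rcases Nat.eq_zero_or_pos (cnt2 G πA πA' y) with h0 | h0
    · rw [h0, zero_mul] at e4; omega
    · exact h0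
  have h4 : 4 ≤ Nat.card Ω := by omega
  have d1 := Cfsg.Agent.Helper1.H4.dc1 f huni (fun t ht => Cfsg.Agent.Helper7.H4.card_pat_of_inv t ht) (cnt G πA y) (cnt G πB y) hA hB h4
  have d2 := Cfsg.Agent.Helper7.H4.dc2 f hf3 huni
    (fun p h1 h2 hc hm e1 e2 e3 => Cfsg.Agent.Helper26.H4.card_pairPat_of_mixed p h1 h2 hc hm f hf3 e1 e2 e3)
    (cnt2 G πA πA' y) (cnt2m G πB πC y) hN hR h4
  have hAA' : cnt G πA' y = cnt G πA y := by
    have := cnt_conj htr (Equiv.swap 0 2 * Equiv.swap 1 3) πA y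
    rw [← this]; congr 1; unfold πA πA'; decide
  have ci1 := count_identity hyp ha hb hab hpa hpb
  rw [πA_mul_πA', hAA'] at ci1
  refine ⟨cnt G πA y, cnt G πB y, cnt2 G πA πA' y, cnt2m G πB πC y, hcA, hcB, hcN, d1, d2, ci1,
    ?_, ⟨_, e1⟩, ⟨p, ⟨ha, hb, hab, hpa, hpb⟩, e4⟩⟩
  intro hR0
  have : Nonempty {q : G × G // PairPat πB πC q y ∧ Mixed Ω q} := by
    by_contra hne
    rw [not_nonempty_iff] at hne
    have : cnt2m G πB πC y = 0 := by unfold cnt2m; exact Nat.card_of_isEmpty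
    omega
  obtain ⟨q, hq, hqm⟩ := this
  rw [cnt2m_eq_cnt2 hyp q hq hqm]
  obtain ⟨hqa, hqb, hqab, hqpa, hqpb⟩ := hq
  have ci2 := count_identity hyp hqa hqb hqab hqpa hqpb
  have hC : cnt G πC y = cnt G πB y := by
    have := cnt_conj htr (Equiv.swap 1 2) πB y
    rw [← this]; congr 1; unfold πB πC; decide
  have hD : cnt G (πB * πC) y = cnt G πB y := by
    have := cnt_conj htr (Equiv.swap 1 3) πB y
    rw [← this]; congr 1; unfold πB πC; decide
  rw [hC, hD] at ci2
  exact ci2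


/-- the possible degrees. -/
theorem card_cases (hyp : Hyp G Ω) (h6 : 6 ≤ Nat.card Ω) :
    Nat.card Ω = 6 ∨ Nat.card Ω = 7 ∨ Nat.card Ω = 11 := by
  obtain ⟨y⟩ : Nonempty (Fin 4 ↪ Ω) := by
    have : Fintype Ω := Fintype.ofFinite Ω
    rw [Function.Embedding.nonempty_iff_card_le]
    rw [Nat.card_eq_fintype_card] at h6
    simp only [Fintype.card_fin]; omega
  obtain ⟨cA, cB, cN, cR, hcA, hcB, hcN, d1, d2, ci1, ci2, -, -⟩ := relations hyp h6 y
  set n := Nat.card Ω
  have hfl : n % 4 < 4 := Nat.mod_lt _ (by norm_num)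
  have hdm : n = 4 * (n / 4) + n % 4 := (Nat.div_add_mod n 4).symm
  set f := n % 4
  -- f ≥ 2
  have hf2 : 2 ≤ f := by
    by_contra hlt
    have hz : f * (f - 1) = 0 := by
      have : f = 0 ∨ f = 1 := by omega
      rcases this with h | h <;> simp [h]
    rw [hz, zero_mul] at d1
    have : 0 < cA * (n - f - 2) := Nat.mul_pos hcA (by omega)
    omega
  rcases Nat.eq_zero_or_pos (n - f - 4) with hm | hm
  · omega
  · right; right
    set m := n - f - 4
    have hR0 : 0 < cR := by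
      have : 0 < cN * m := Nat.mul_pos hcN hm
      omega
    have ci2' := ci2 hR0
    have h1 : (cA * m) ^ 2 = (4 * cB) ^ 2 := by
      have : cB * (cA * m) ^ 2 = cB * (4 * cB) ^ 2 := by
        calc cB * (cA * m) ^ 2 = (cA * cA * cB) * m ^ 2 := by ring
          _ = cN ^ 2 * m ^ 2 := by rw [ci1]
          _ = (cN * m) ^ 2 := by ring
          _ = (4 * cR) ^ 2 := by rw [d2]
          _ = 16 * cR ^ 2 := by ring
          _ = 16 * (cB * cB * cB) := by rw [ci2']
          _ = cB * (4 * cB) ^ 2 := by ring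
      exact Nat.eq_of_mul_eq_mul_left hcB this
    have h2 : cA * m = 4 * cB := Nat.pow_left_injective (by norm_num : (2 : ℕ) ≠ 0) h1
    have hnm : n - f - 2 = m + 2 := by omega
    rw [hnm] at d1
    have h3 : cA * (4 * (m + 2)) = cA * (f * (f - 1) * m) := by
      calc cA * (4 * (m + 2)) = 4 * (cA * (m + 2)) := by ring
        _ = 4 * (f * (f - 1) * cB) := by rw [d1]
        _ = f * (f - 1) * (4 * cB) := by ring
        _ = f * (f - 1) * (cA * m) := by rw [h2]
        _ = cA * (f * (f - 1) * m) := by ring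
    have h4 : 4 * (m + 2) = f * (f - 1) * m := Nat.eq_of_mul_eq_mul_left hcA h3
    have hf : f = 2 ∨ f = 3 := by omega
    rcases hf with hf | hf
    · rw [hf] at h4; omega
    · rw [hf] at h4
      have : m = 4 := by omega
      omega

/-- degree 7: the stabilizer has order divisible by 3. -/
theorem three_dvd_of_seven (hyp : Hyp G Ω) (h7 : Nat.card Ω = 7) (y : Fin 4 ↪ Ω) :
    3 ∣ Nat.card (stabilizer G y) := by
  obtain ⟨cA, cB, cN, cR, hcA, hcB, hcN, d1, d2, ci1, ci2, ⟨α, hα⟩, -⟩ :=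
    relations hyp (by omega) y
  rw [h7] at d1
  norm_num at d1
  have : cA = 3 * cB := by omega
  rw [← hα, this]
  exact ⟨cB * α, by ring⟩

/-- degree 11: the stabilizer has cube order. -/
theorem cube_of_eleven [FaithfulSMul G Ω] (hyp : Hyp G Ω) (h11 : Nat.card Ω = 11)
    (y : Fin 4 ↪ Ω) : ∃ k, Nat.card (stabilizer G y) = k ^ 3 := by
  obtain ⟨cA, cB, cN, cR, hcA, hcB, hcN, d1, d2, ci1, ci2, ⟨α, hα⟩, p, hp, hγ⟩ :=
    relations hyp (by omega) y
  have huni : ∀ t : G, t ≠ 1 → t * t = 1 → fixN Ω t = 3 := fun t ht1 ht => by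
    rw [fixN_eq_mod_four hyp (by omega) t ht1 ht, h11]
  rw [Cfsg.Agent.Helper1.H4.card_stab_centralizer_eq_one h11 huni y p hp, mul_one] at hγ
  rw [h11] at d1
  norm_num at d1
  have hAB : cA = cB := by omega
  rw [← hAB, hγ, ← hα] at ci1
  -- cA * cA * cA = (cA * α)^2
  have h1 : cA = α ^ 2 := by
    have : cA * cA * cA = cA * cA * α ^ 2 := by rw [ci1]; ring
    exact Nat.eq_of_mul_eq_mul_left (Nat.mul_pos hcA hcA) this
  exact ⟨α, by rw [← hα, h1]; ring⟩

omit [Finite G] in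
/-- the order of a 4-transitive group. -/
theorem card_eq_descFactorial (htr : IsMultiplyPretransitive G Ω 4) (y : Fin 4 ↪ Ω) :
    Nat.card G = (Nat.card Ω).descFactorial 4 * Nat.card (stabilizer G y) := by
  have : Fintype Ω := Fintype.ofFinite Ω
  have h1 := MulAction.index_stabilizer_of_transitive G y
  have h2 : Nat.card (Fin 4 ↪ Ω) = (Nat.card Ω).descFactorial 4 := by
    rw [Nat.card_eq_fintype_card, Fintype.card_embedding_eq, Fintype.card_fin,
      Nat.card_eq_fintype_card]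
  rw [← Subgroup.index_mul_card (stabilizer G y), h1, h2]


/-- M. Hall's theorem, abstract form. -/
theorem hall_generic [FaithfulSMul G Ω] (htr : IsMultiplyPretransitive G Ω 4) (x : Fin 4 ↪ Ω)
    (hodd : Odd (Nat.card (stabilizer G x))) :
    Nat.card Ω = 4 ∨ Nat.card Ω = 5 ∨ (Nat.card Ω = 6 ∧ Nat.card G = 360) ∨
      (Nat.card Ω = 7 ∧ Nat.card G = 2520) ∨ (Nat.card Ω = 11 ∧ Nat.card G = 7920) := by
  classical
  have : Fintype Ω := Fintype.ofFinite Ω
  have hyp : Hyp G Ω := by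
    refine ⟨htr, fun y => ?_⟩
    have : IsPretransitive G (Fin 4 ↪ Ω) := htr
    obtain ⟨g, hg⟩ := MulAction.exists_smul_eq G x y
    have hrel : orbitRel G (Fin 4 ↪ Ω) x y := by
      rw [orbitRel_apply]; exact ⟨g⁻¹, by simp [← hg]⟩
    have e := Nat.card_congr (stabilizerEquivStabilizerOfOrbitRel hrel).toEquiv
    rw [← e]
    exact hodd
  have hn4 : 4 ≤ Nat.card Ω := by
    have := Fintype.card_le_of_embedding x
    rw [Nat.card_eq_fintype_card]
    simpa using this
  have hord := card_eq_descFactorial htr x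
  have hdvd : Nat.card G ∣ (Nat.card Ω).factorial := by
    have := Subgroup.card_dvd_of_injective (MulAction.toPermHom G Ω) MulAction.toPerm_injective
    rwa [Nat.card_eq_fintype_card (α := Equiv.Perm Ω), Fintype.card_perm,
      ← Nat.card_eq_fintype_card] at this
  rcases Nat.lt_or_ge (Nat.card Ω) 6 with h6 | h6
  · omega
  · right; right
    have hcases := card_cases hyp h6
    obtain ⟨h, hh⟩ := hodd
    rcases hcases with h | h | h
    · left
      refine ⟨h, ?_⟩
      rw [h] at hord hdvd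
      have e1 : Nat.descFactorial 6 4 = 360 := by decide
      have e2 : Nat.factorial 6 = 360 * 2 := by decide
      rw [e1] at hord
      rw [e2, hord] at hdvd
      have hle : Nat.card (stabilizer G x) ∣ 2 := Nat.dvd_of_mul_dvd_mul_left (by norm_num) hdvd
      have hs1 : Nat.card (stabilizer G x) = 1 := by
        have := Nat.le_of_dvd (by norm_num) hle
        interval_cases (Nat.card (stabilizer G x)) <;> omega
      rw [hord, hs1]
    · right; left
      refine ⟨h, ?_⟩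
      have h3 := three_dvd_of_seven hyp h x
      rw [h] at hord hdvd
      have e1 : Nat.descFactorial 7 4 = 840 := by decide
      have e2 : Nat.factorial 7 = 840 * 6 := by decide
      rw [e1] at hord
      rw [e2, hord] at hdvd
      have hle : Nat.card (stabilizer G x) ∣ 6 := Nat.dvd_of_mul_dvd_mul_left (by norm_num) hdvd
      have hs1 : Nat.card (stabilizer G x) = 3 := by
        have := Nat.le_of_dvd (by norm_num) hle
        interval_cases (Nat.card (stabilizer G x)) <;> omega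
      rw [hord, hs1]
    · right; right
      refine ⟨h, ?_⟩
      obtain ⟨k, hk⟩ := cube_of_eleven hyp h x
      rw [h] at hord hdvd
      have e1 : Nat.descFactorial 11 4 = 7920 := by decide
      have e2 : Nat.factorial 11 = 7920 * 5040 := by decide
      rw [e1] at hord
      rw [e2, hord] at hdvd
      have hdvd' : Nat.card (stabilizer G x) ∣ 5040 :=
        Nat.dvd_of_mul_dvd_mul_left (by norm_num) hdvd
      rw [hk] at hdvd' hh
      have hk17 : k ≤ 17 := by
        by_contra hlt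
        have : 18 ^ 3 ≤ k ^ 3 := Nat.pow_le_pow_left (by omega) 3
        have := Nat.le_of_dvd (by norm_num) hdvd'
        omega
      have hk1 : k = 1 := by
        interval_cases k <;> omega
      rw [hord, hk, hk1]; norm_num

/-- M. Hall's theorem (S4221). -/
theorem hall {α : Type*} [Fintype α] [DecidableEq α] (G : Subgroup (Equiv.Perm α))
    (hG : MulAction.IsMultiplyPretransitive G α 4) (x : Fin 4 ↪ α)
    (hodd : Odd (Nat.card (MulAction.stabilizer G x))) :
    ((Fintype.card α = 4 ∨ Fintype.card α = 5) ∧ G = ⊤) ∨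
    ((Fintype.card α = 6 ∨ Fintype.card α = 7) ∧ G = alternatingGroup α) ∨
    (Fintype.card α = 11 ∧ Nat.card G = 7920) := by
  have hcard : Nat.card α = Fintype.card α := Nat.card_eq_fintype_card
  have hidx : G.index * Nat.card G = (Fintype.card α).factorial := by
    have := Subgroup.index_mul_card G
    rwa [Nat.card_eq_fintype_card (α := Equiv.Perm α), Fintype.card_perm] at this
  have key := hall_generic (G := G) (Ω := α) hG x hodd
  rw [hcard] at key
  rcases key with h | h | ⟨h, hc⟩ | ⟨h, hc⟩ | ⟨h, hc⟩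
  · left
    refine ⟨Or.inl h, ?_⟩
    apply Equiv.Perm.eq_top_of_isMultiplyPretransitive
    rw [hcard, h]
    exact isMultiplyPretransitive_of_le (n := 4) (by norm_num) (by rw [hcard]; omega)
  · left
    refine ⟨Or.inr h, ?_⟩
    apply Equiv.Perm.eq_top_of_isMultiplyPretransitive
    rw [hcard, h]; exact hG
  · right; left
    refine ⟨Or.inl h, ?_⟩
    apply Equiv.Perm.eq_alternatingGroup_of_index_eq_two
    rw [h, hc] at hidx
    have e2 : Nat.factorial 6 = 720 := by decide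
    rw [e2] at hidx
    omega
  · right; left
    refine ⟨Or.inr h, ?_⟩
    apply Equiv.Perm.eq_alternatingGroup_of_index_eq_two
    rw [h, hc] at hidx
    have e2 : Nat.factorial 7 = 5040 := by decide
    rw [e2] at hidx
    omega
  · right; right
    exact ⟨h, hc⟩

end Cfsg.Agent.Helper16.H4
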