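import Mathlib

set_option autoImplicit false

namespace Cfsg.Agent.Helper16.Homocyclic

section LemmaC
variable {G : Type*} [Group G]

/-- An element normalizing an abelian subgroup `P`, some odd power of which centralizes `P`, and
which centralizes all `x ∈ P` with `x ^ 2 = 1`, centralizes every 2-element of `P`. -/
theorem conj_trivial_of_trivial_on_invol (P : Subgroup G)
    (hab : ∀ a ∈ P, ∀ b ∈ P, a * b = b * a)
    (n : G) (hn : ∀ x ∈ P, n * x * n⁻¹ ∈ P) (k : ℕ) (hk : Odd k)
    (hnk : ∀ x ∈ P, n ^ k * x * (n ^ k)⁻¹ = x)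
    (hinv : ∀ x ∈ P, x ^ 2 = 1 → n * x * n⁻¹ = x) :
    ∀ j : ℕ, ∀ x ∈ P, x ^ (2 ^ j) = 1 → n * x * n⁻¹ = x := by
  intro j
  induction j with
  | zero =>
    intro x _ hx
    rw [pow_zero, pow_one] at hx
    rw [hx]; group
  | succ j ih =>
    intro x hxP hx
    have hx2P : x ^ 2 ∈ P := P.pow_mem hxP 2
    have hx2 : (x ^ 2) ^ (2 ^ j) = 1 := by
      rw [← pow_mul, ← pow_succ']; exact hx
    have h1 : n * x ^ 2 * n⁻¹ = x ^ 2 := ih (x ^ 2) hx2P hx2
    obtain ⟨y, hy⟩ : ∃ y, y = n * x * n⁻¹ := ⟨_, rfl⟩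
    have hyP : y ∈ P := by rw [hy]; exact hn x hxP
    have hy2 : y ^ 2 = x ^ 2 := by
      rw [hy, conj_pow]; exact h1
    obtain ⟨w, hw⟩ : ∃ w, w = y * x⁻¹ := ⟨_, rfl⟩
    have hwP : w ∈ P := by rw [hw]; exact P.mul_mem hyP (P.inv_mem hxP)
    have hcomm : y * x⁻¹ = x⁻¹ * y := hab y hyP x⁻¹ (P.inv_mem hxP)
    have hw2 : w ^ 2 = 1 := by
      rw [hw, pow_two]
      calc y * x⁻¹ * (y * x⁻¹) = y * (x⁻¹ * y) * x⁻¹ := by group
        _ = y * (y * x⁻¹) * x⁻¹ := by rw [← hcomm]
        _ = y ^ 2 * (x ^ 2)⁻¹ := by rw [pow_two, pow_two, mul_inv_rev]; group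
        _ = 1 := by rw [hy2, mul_inv_cancel]
    have hnw : n * w * n⁻¹ = w := hinv w hwP hw2
    have hyw : y = w * x := by rw [hw]; group
    have hpow : ∀ i : ℕ, n ^ i * x * (n ^ i)⁻¹ = w ^ i * x := by
      intro i
      induction i with
      | zero => simp
      | succ i ihi =>
        calc n ^ (i + 1) * x * (n ^ (i + 1))⁻¹ = n * (n ^ i * x * (n ^ i)⁻¹) * n⁻¹ := by
              rw [pow_succ']; group
          _ = n * (w ^ i * x) * n⁻¹ := by rw [ihi]
          _ = (n * w * n⁻¹) ^ i * (n * x * n⁻¹) := by rw [conj_pow]; group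
          _ = w ^ i * (w * x) := by rw [hnw, ← hy, hyw]
          _ = w ^ (i + 1) * x := by rw [pow_succ]; group
    have hwk : w ^ k = 1 := by
      have := hpow k
      rw [hnk x hxP] at this
      exact (mul_eq_right.mp this.symm)
    obtain ⟨l, hl⟩ := hk
    have hw1 : w = 1 := by
      rw [hl, pow_succ, pow_mul, hw2, one_pow, one_mul] at hwk
      exact hwk
    rw [← hy, hyw, hw1, one_mul]

end LemmaC

section ZMod

theorem zmod_double (m : ℕ) (hm : 1 ≤ m) (a : ZMod (2 ^ m)) :
    a + a = 0 ↔ a = 0 ∨ a = ((2 ^ (m - 1) : ℕ) : ZMod (2 ^ m)) := by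
  have : NeZero (2 ^ m) := ⟨by positivity⟩
  have hpow : 2 ^ m = 2 * 2 ^ (m - 1) := by
    rw [← pow_succ']; congr 1; omega
  constructor
  · intro h
    have h1 : ((2 * a.val : ℕ) : ZMod (2 ^ m)) = 0 := by
      push_cast
      rw [ZMod.natCast_zmod_val, two_mul, h]
    rw [ZMod.natCast_eq_zero_iff] at h1
    have h2 : a.val < 2 ^ m := ZMod.val_lt a
    obtain ⟨c, hc⟩ := h1
    have hc' : a.val = 2 ^ (m - 1) * c := by
      have : 2 * a.val = 2 * (2 ^ (m - 1) * c) := by
        calc 2 * a.val = 2 ^ m * c := hc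
          _ = 2 * (2 ^ (m - 1) * c) := by rw [hpow]; ring
      exact Nat.eq_of_mul_eq_mul_left (by norm_num) this
    have hc2 : c < 2 := by
      have h2' : 2 ^ (m - 1) * c < 2 * 2 ^ (m - 1) := by
        calc 2 ^ (m - 1) * c = a.val := hc'.symm
          _ < 2 ^ m := h2
          _ = 2 * 2 ^ (m - 1) := hpow
      by_contra hcon
      push Not at hcon
      have : 2 ^ (m - 1) * 2 ≤ 2 ^ (m - 1) * c := Nat.mul_le_mul_left _ hcon
      omega
    interval_cases c
    · left
      rw [mul_zero] at hc'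
      exact (ZMod.val_eq_zero a).mp hc'
    · right
      rw [mul_one] at hc'
      rw [← hc', ZMod.natCast_zmod_val]
  · rintro (rfl | rfl)
    · simp
    · rw [← Nat.cast_add, ← two_mul, ← hpow]
      exact ZMod.natCast_self _

theorem zmod_half_ne_zero (m : ℕ) (hm : 1 ≤ m) :
    ((2 ^ (m - 1) : ℕ) : ZMod (2 ^ m)) ≠ 0 := by
  intro h
  rw [ZMod.natCast_eq_zero_iff] at h
  have h1 : 2 ^ m ≤ 2 ^ (m - 1) := Nat.le_of_dvd (by positivity) h
  have h2 : 2 ^ (m - 1) < 2 ^ m := Nat.pow_lt_pow_right (by norm_num) (by omega)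
  omega

end ZMod

section Three

theorem perm_three_fix : ∀ τ : Equiv.Perm (Fin 3), τ ^ 3 = 1 → ∀ i, τ i = i → τ = 1 := by
  decide

theorem perm_three_trans : ∀ τ : Equiv.Perm (Fin 3), τ ≠ 1 → τ ^ 3 = 1 →
    ∀ i j, ∃ k : Fin 3, (τ ^ (k : ℕ)) i = j := by
  decide

theorem perm_card_three_fix {α : Type*} [Finite α] (hα : Nat.card α = 3) (σ : Equiv.Perm α)
    (h3 : σ ^ 3 = 1) (a : α) (ha : σ a = a) : σ = 1 := by
  have f : α ≃ Fin 3 := Finite.equivFinOfCardEq hα
  have h := perm_three_fix (f.permCongrHom σ) (by rw [← map_pow, h3, map_one]) (f a) (by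
    rw [Equiv.permCongrHom_coe, Equiv.permCongr_apply]
    simp [ha])
  exact (MulEquiv.map_eq_one_iff f.permCongrHom).mp h

theorem perm_card_three_trans {α : Type*} [Finite α] (hα : Nat.card α = 3) (σ : Equiv.Perm α)
    (h1 : σ ≠ 1) (h3 : σ ^ 3 = 1) (a b : α) : ∃ k : ℕ, (σ ^ k) a = b := by
  have f : α ≃ Fin 3 := Finite.equivFinOfCardEq hα
  obtain ⟨k, hk⟩ := perm_three_trans (f.permCongrHom σ)
    (fun h => h1 ((MulEquiv.map_eq_one_iff f.permCongrHom).mp h))
    (by rw [← map_pow, h3, map_one]) (f a) (f b)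
  refine ⟨k, ?_⟩
  rw [← map_pow, Equiv.permCongrHom_coe, Equiv.permCongr_apply] at hk
  simpa using hk

end Three

section Main

variable {G : Type*} [Group G]

/-- the nonidentity elements of `P` of square one -/
def Inv (P : Subgroup G) : Type _ := {x : G // x ∈ P ∧ x ≠ 1 ∧ x ^ 2 = 1}

theorem conj_mem_inv (P : Subgroup G) (n : G) (hn : n ∈ Subgroup.normalizer (P : Set G)) (x : G)
    (hx : x ∈ P ∧ x ≠ 1 ∧ x ^ 2 = 1) :
    n * x * n⁻¹ ∈ P ∧ n * x * n⁻¹ ≠ 1 ∧ (n * x * n⁻¹) ^ 2 = 1 := by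
  refine ⟨(Subgroup.mem_normalizer_iff.mp hn x).mp hx.1, ?_, ?_⟩
  · intro h
    apply hx.2.1
    have : x = n⁻¹ * (n * x * n⁻¹) * n := by group
    rw [this, h]; group
  · rw [conj_pow, hx.2.2]; group

instance instMulActionInv (P : Subgroup G) : MulAction (Subgroup.normalizer (P : Set G)) (Inv P) where
  smul n x := ⟨(n : G) * x.1 * (n : G)⁻¹, conj_mem_inv P n n.2 x.1 x.2⟩
  one_smul x := by
    apply Subtype.ext
    show ((1 : Subgroup.normalizer (P : Set G)) : G) * x.1 * ((1 : Subgroup.normalizer (P : Set G)) : G)⁻¹ = x.1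
    simp
  mul_smul a b x := by
    apply Subtype.ext
    show ((a * b : Subgroup.normalizer (P : Set G)) : G) * x.1 * ((a * b : Subgroup.normalizer (P : Set G)) : G)⁻¹
      = (a : G) * ((b : G) * x.1 * (b : G)⁻¹) * (a : G)⁻¹
    simp only [Subgroup.coe_mul]
    group

theorem smul_inv_val (P : Subgroup G) (n : Subgroup.normalizer (P : Set G)) (x : Inv P) :
    (n • x).1 = (n : G) * x.1 * (n : G)⁻¹ := rfl

variable [Finite G] (P : Sylow 2 G) (m : ℕ) (hm : 1 ≤ m)
  (e : (P : Subgroup G) ≃* Multiplicative (ZMod (2 ^ m) × ZMod (2 ^ m)))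

include e in
theorem comm_of_iso : ∀ a ∈ (P : Subgroup G), ∀ b ∈ (P : Subgroup G), a * b = b * a := by
  intro a ha b hb
  have h : e (⟨a, ha⟩ * ⟨b, hb⟩) = e (⟨b, hb⟩ * ⟨a, ha⟩) := by
    rw [map_mul, map_mul, mul_comm]
  have := e.injective h
  exact congrArg Subtype.val this

include hm in
omit [Finite G] in
theorem card_target :
    Nat.card {p : ZMod (2 ^ m) × ZMod (2 ^ m) // p ≠ 0 ∧ p + p = 0} = 3 := by
  have hh := zmod_half_ne_zero m hm
  obtain ⟨h, hh'⟩ : ∃ h : ZMod (2 ^ m), h = ((2 ^ (m - 1) : ℕ) : ZMod (2 ^ m)) := ⟨_, rfl⟩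
  rw [← hh'] at hh
  have hd : h + h = 0 := (zmod_double m hm h).mpr (Or.inr hh')
  have : {p : ZMod (2 ^ m) × ZMod (2 ^ m) | p ≠ 0 ∧ p + p = 0} = {(h, 0), (0, h), (h, h)} := by
    ext ⟨a, b⟩
    simp only [Set.mem_ofPred_eq, Set.mem_insert_iff, Set.mem_singleton_iff, Prod.mk.injEq,
      ne_eq, Prod.mk_add_mk, Prod.mk_eq_zero]
    constructor
    · rintro ⟨hne, ha, hb⟩
      rcases (zmod_double m hm a).mp ha with rfl | ha' <;>
      rcases (zmod_double m hm b).mp hb with rfl | hb'
      · exact absurd ⟨rfl, rfl⟩ hne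
      · right; left; exact ⟨rfl, by rw [hb', hh']⟩
      · left; exact ⟨by rw [ha', hh'], rfl⟩
      · right; right; exact ⟨by rw [ha', hh'], by rw [hb', hh']⟩
    · rintro (⟨rfl, rfl⟩ | ⟨rfl, rfl⟩ | ⟨rfl, rfl⟩)
      · exact ⟨fun h0 => hh h0.1, hd, by simp⟩
      · exact ⟨fun h0 => hh h0.2, by simp, hd⟩
      · exact ⟨fun h0 => hh h0.1, hd, hd⟩
  show Nat.card ({p : ZMod (2 ^ m) × ZMod (2 ^ m) | p ≠ 0 ∧ p + p = 0} : Set _) = 3
  rw [Nat.card_coe_set_eq, this, Set.ncard_eq_three]
  refine ⟨(h, 0), (0, h), (h, h), ?_, ?_, ?_, rfl⟩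
  · intro h0
    exact hh (Prod.mk.inj h0).1
  · intro h0
    exact hh (Prod.mk.inj h0).2.symm
  · intro h0
    exact hh (Prod.mk.inj h0).1.symm

include hm e in
theorem card_inv : Nat.card (Inv (P : Subgroup G)) = 3 := by
  rw [← card_target m hm]
  apply Nat.card_congr
  refine
    { toFun := fun x => ⟨Multiplicative.toAdd (e ⟨x.1, x.2.1⟩), ?_, ?_⟩
      invFun := fun q => ⟨((e.symm (Multiplicative.ofAdd q.1) : (P : Subgroup G)) : G),
        (e.symm (Multiplicative.ofAdd q.1)).2, ?_, ?_⟩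
      left_inv := ?_
      right_inv := ?_ }
  · intro h0
    apply x.2.2.1
    have h1 : e ⟨x.1, x.2.1⟩ = 1 := by
      apply Multiplicative.toAdd.injective
      rw [h0]; rfl
    have h2 : (⟨x.1, x.2.1⟩ : (P : Subgroup G)) = 1 := (MulEquiv.map_eq_one_iff e).mp h1
    exact congrArg Subtype.val h2
  · have h1 : (⟨x.1, x.2.1⟩ : (P : Subgroup G)) * ⟨x.1, x.2.1⟩ = 1 := by
      apply Subtype.ext
      show x.1 * x.1 = 1
      rw [← pow_two]; exact x.2.2.2
    have h2 : e ⟨x.1, x.2.1⟩ * e ⟨x.1, x.2.1⟩ = 1 := by rw [← map_mul, h1, map_one]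
    have h3 := congrArg Multiplicative.toAdd h2
    simpa using h3
  · intro h0
    apply q.2.1
    have h1 : e.symm (Multiplicative.ofAdd q.1) = 1 := Subtype.ext h0
    have h2 : Multiplicative.ofAdd q.1 = 1 := (MulEquiv.map_eq_one_iff e.symm).mp h1
    exact Multiplicative.ofAdd.injective h2
  · have h1 : Multiplicative.ofAdd q.1 * Multiplicative.ofAdd q.1 = 1 := by
      rw [← ofAdd_add, q.2.2]; rfl
    have h2 : e.symm (Multiplicative.ofAdd q.1) * e.symm (Multiplicative.ofAdd q.1) = 1 := by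
      rw [← map_mul, h1, map_one]
    have h3 := congrArg Subtype.val h2
    rw [pow_two]
    exact h3
  · intro x
    apply Subtype.ext
    simp
  · intro q
    apply Subtype.ext
    simp

include e in
theorem odd_relIndex :
    Odd ((Subgroup.centralizer ((P : Subgroup G) : Set G)).relIndex
      (Subgroup.normalizer ((P : Subgroup G) : Set G))) := by
  have hab := comm_of_iso P m e
  have hPC : (P : Subgroup G) ≤ Subgroup.centralizer ((P : Subgroup G) : Set G) := by
    intro a ha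
    rw [Subgroup.mem_centralizer_iff]
    intro b hb
    exact hab b hb a ha
  have h1 : (Subgroup.centralizer ((P : Subgroup G) : Set G)).relIndex
      (Subgroup.normalizer ((P : Subgroup G) : Set G)) ∣
      (P : Subgroup G).relIndex (Subgroup.normalizer ((P : Subgroup G) : Set G)) :=
    Subgroup.relIndex_dvd_of_le_left _ hPC
  have h2 : (P : Subgroup G).relIndex (Subgroup.normalizer ((P : Subgroup G) : Set G)) ∣
      (P : Subgroup G).index :=
    ⟨_, (Subgroup.relIndex_mul_index Subgroup.le_normalizer).symm⟩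
  have h3 : ¬ 2 ∣ (P : Subgroup G).index := P.not_dvd_index
  rw [← Nat.not_even_iff_odd, even_iff_two_dvd]
  intro h
  exact h3 (dvd_trans h (dvd_trans h1 h2))

include e in
theorem ker_toPermHom :
    (MulAction.toPermHom (Subgroup.normalizer ((P : Subgroup G) : Set G))
      (Inv (P : Subgroup G))).ker =
      (Subgroup.centralizer ((P : Subgroup G) : Set G)).subgroupOf
        (Subgroup.normalizer ((P : Subgroup G) : Set G)) := by
  have hab := comm_of_iso P m e
  ext n
  rw [MonoidHom.mem_ker, Subgroup.mem_subgroupOf, Subgroup.mem_centralizer_iff]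
  constructor
  · intro hn
    have hfix : ∀ x : Inv (P : Subgroup G), n • x = x := by
      intro x
      have := congrArg (fun σ : Equiv.Perm (Inv (P : Subgroup G)) => σ x) hn
      simpa using this
    have hinv : ∀ x ∈ (P : Subgroup G), x ^ 2 = 1 → (n : G) * x * (n : G)⁻¹ = x := by
      intro x hx hx2
      by_cases hx1 : x = 1
      · rw [hx1]; group
      · exact congrArg Subtype.val (hfix ⟨x, hx, hx1, hx2⟩)
    obtain ⟨r, hr⟩ : ∃ r, r = ((Subgroup.centralizer ((P : Subgroup G) : Set G)).subgroupOf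
        (Subgroup.normalizer ((P : Subgroup G) : Set G))).index := ⟨_, rfl⟩
    have hrodd : Odd r := by rw [hr]; exact odd_relIndex P m e
    have hnr : n ^ r ∈ (Subgroup.centralizer ((P : Subgroup G) : Set G)).subgroupOf
        (Subgroup.normalizer ((P : Subgroup G) : Set G)) := by
      rw [hr]; exact Subgroup.pow_index_mem _ n
    rw [Subgroup.mem_subgroupOf, Subgroup.mem_centralizer_iff] at hnr
    have hnk : ∀ x ∈ (P : Subgroup G), (n : G) ^ r * x * ((n : G) ^ r)⁻¹ = x := by
      intro x hx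
      have := hnr x hx
      rw [Subgroup.coe_pow] at this
      rw [← this]; group
    have hnorm : ∀ x ∈ (P : Subgroup G), (n : G) * x * (n : G)⁻¹ ∈ (P : Subgroup G) :=
      fun x hx => (Subgroup.mem_normalizer_iff.mp n.2 x).mp hx
    have key := conj_trivial_of_trivial_on_invol (P : Subgroup G) hab (n : G) hnorm r hrodd hnk hinv
    intro x hx
    obtain ⟨j, hj⟩ := P.2 ⟨x, hx⟩
    have hj' : x ^ (2 ^ j) = 1 := by
      have := congrArg Subtype.val hj
      simpa using this
    have := key j x hx hj'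
    calc x * (n : G) = ((n : G) * x * (n : G)⁻¹) * (n : G) := by rw [this]
      _ = (n : G) * x := by group
  · intro hn
    apply Equiv.ext
    intro x
    apply Subtype.ext
    show (n : G) * x.1 * (n : G)⁻¹ = x.1
    rw [← hn x.1 x.2.1]; group

include hm e in
theorem relIndex_one_or_three :
    (Subgroup.centralizer ((P : Subgroup G) : Set G)).relIndex
        (Subgroup.normalizer ((P : Subgroup G) : Set G)) = 1 ∨
      (Subgroup.centralizer ((P : Subgroup G) : Set G)).relIndex
        (Subgroup.normalizer ((P : Subgroup G) : Set G)) = 3 := by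
  have hodd := odd_relIndex P m e
  have hfin : Finite (Inv (P : Subgroup G)) :=
    Nat.finite_of_card_ne_zero (by rw [card_inv P m hm e]; norm_num)
  have h1 : (Subgroup.centralizer ((P : Subgroup G) : Set G)).relIndex
      (Subgroup.normalizer ((P : Subgroup G) : Set G)) ∣ 6 := by
    show ((Subgroup.centralizer ((P : Subgroup G) : Set G)).subgroupOf
        (Subgroup.normalizer ((P : Subgroup G) : Set G))).index ∣ 6
    rw [← ker_toPermHom P m e, Subgroup.index_ker]
    have h2 := Subgroup.card_subgroup_dvd_card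
      (MulAction.toPermHom (Subgroup.normalizer ((P : Subgroup G) : Set G))
        (Inv (P : Subgroup G))).range
    rw [Nat.card_perm, card_inv P m hm e] at h2
    exact h2
  obtain ⟨r, hr⟩ : ∃ r, r = (Subgroup.centralizer ((P : Subgroup G) : Set G)).relIndex
      (Subgroup.normalizer ((P : Subgroup G) : Set G)) := ⟨_, rfl⟩
  rw [← hr] at hodd h1 ⊢
  have hle : r ≤ 6 := Nat.le_of_dvd (by norm_num) h1
  obtain ⟨l, hl⟩ := hodd
  interval_cases r <;> omega

include hm e in
theorem toPermHom_pow_three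
    (hr : (Subgroup.centralizer ((P : Subgroup G) : Set G)).relIndex
        (Subgroup.normalizer ((P : Subgroup G) : Set G)) ≠ 1)
    (n : Subgroup.normalizer ((P : Subgroup G) : Set G)) :
    (MulAction.toPermHom (Subgroup.normalizer ((P : Subgroup G) : Set G))
      (Inv (P : Subgroup G)) n) ^ 3 = 1 := by
  have h3 : ((Subgroup.centralizer ((P : Subgroup G) : Set G)).subgroupOf
      (Subgroup.normalizer ((P : Subgroup G) : Set G))).index = 3 := by
    rcases relIndex_one_or_three P m hm e with h | h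
    · exact absurd h hr
    · exact h
  have h4 : n ^ 3 ∈ (Subgroup.centralizer ((P : Subgroup G) : Set G)).subgroupOf
      (Subgroup.normalizer ((P : Subgroup G) : Set G)) := by
    rw [← h3]; exact Subgroup.pow_index_mem _ n
  rw [← ker_toPermHom P m e, MonoidHom.mem_ker, map_pow] at h4
  exact h4

include hm e in
/-- part (ii) -/
theorem mem_centralizer_of_commute
    (hr : (Subgroup.centralizer ((P : Subgroup G) : Set G)).relIndex
        (Subgroup.normalizer ((P : Subgroup G) : Set G)) ≠ 1)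
    (z : G) (hz : z ∈ (P : Subgroup G)) (hz1 : z ≠ 1)
    (n : G) (hn : n ∈ Subgroup.normalizer ((P : Subgroup G) : Set G)) (hnz : n * z = z * n) :
    n ∈ Subgroup.centralizer ((P : Subgroup G) : Set G) := by
  have hfin : Finite (Inv (P : Subgroup G)) :=
    Nat.finite_of_card_ne_zero (by rw [card_inv P m hm e]; norm_num)
  -- an involution power of z
  obtain ⟨j, hj⟩ := (IsPGroup.iff_orderOf.mp P.2) ⟨z, hz⟩
  rw [Subgroup.orderOf_mk] at hj
  have hj1 : 1 ≤ j := by
    by_contra hcon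
    have : j = 0 := by omega
    rw [this, pow_zero, orderOf_eq_one_iff] at hj
    exact hz1 hj
  obtain ⟨w, hw⟩ : ∃ w, w = z ^ (2 ^ (j - 1)) := ⟨_, rfl⟩
  have hwP : w ∈ (P : Subgroup G) := by rw [hw]; exact Subgroup.pow_mem _ hz _
  have hw2 : w ^ 2 = 1 := by
    rw [hw, ← pow_mul, ← pow_succ]
    have : j - 1 + 1 = j := by omega
    rw [this, ← hj, pow_orderOf_eq_one]
  have hw1 : w ≠ 1 := by
    rw [hw]
    apply pow_ne_one_of_lt_orderOf (by positivity)
    rw [hj]
    exact Nat.pow_lt_pow_right (by norm_num) (by omega)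
  have hnw : n * w * n⁻¹ = w := by
    have hc : Commute n z := hnz
    have : n * w = w * n := by rw [hw]; exact (hc.pow_right _).eq
    rw [this]; group
  have hfix : (MulAction.toPermHom (Subgroup.normalizer ((P : Subgroup G) : Set G))
      (Inv (P : Subgroup G)) ⟨n, hn⟩) ⟨w, hwP, hw1, hw2⟩ = ⟨w, hwP, hw1, hw2⟩ := by
    apply Subtype.ext
    exact hnw
  have h1 := perm_card_three_fix (card_inv P m hm e) _
    (toPermHom_pow_three P m hm e hr ⟨n, hn⟩) _ hfix
  have h2 : (⟨n, hn⟩ : Subgroup.normalizer ((P : Subgroup G) : Set G)) ∈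
      (MulAction.toPermHom (Subgroup.normalizer ((P : Subgroup G) : Set G))
        (Inv (P : Subgroup G))).ker := h1
  rw [ker_toPermHom P m e, Subgroup.mem_subgroupOf] at h2
  exact h2

include hm e in
/-- transitivity on the involutions of `P` when `N/C` is nontrivial -/
theorem exists_conj_invol
    (hr : (Subgroup.centralizer ((P : Subgroup G) : Set G)).relIndex
        (Subgroup.normalizer ((P : Subgroup G) : Set G)) ≠ 1)
    (x y : G) (hx : x ∈ (P : Subgroup G)) (hx1 : x ≠ 1) (hx2 : x ^ 2 = 1)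
    (hy : y ∈ (P : Subgroup G)) (hy1 : y ≠ 1) (hy2 : y ^ 2 = 1) :
    ∃ n : G, n * x * n⁻¹ = y := by
  have hfin : Finite (Inv (P : Subgroup G)) :=
    Nat.finite_of_card_ne_zero (by rw [card_inv P m hm e]; norm_num)
  have hne : ((Subgroup.centralizer ((P : Subgroup G) : Set G)).subgroupOf
      (Subgroup.normalizer ((P : Subgroup G) : Set G))) ≠ ⊤ := by
    intro h
    apply hr
    show ((Subgroup.centralizer ((P : Subgroup G) : Set G)).subgroupOf
      (Subgroup.normalizer ((P : Subgroup G) : Set G))).index = 1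
    rw [h, Subgroup.index_top]
  obtain ⟨n, hn⟩ : ∃ n : Subgroup.normalizer ((P : Subgroup G) : Set G),
      n ∉ ((Subgroup.centralizer ((P : Subgroup G) : Set G)).subgroupOf
        (Subgroup.normalizer ((P : Subgroup G) : Set G))) := by
    by_contra hcon
    push Not at hcon
    exact hne (eq_top_iff.mpr fun a _ => hcon a)
  rw [← ker_toPermHom P m e, MonoidHom.mem_ker] at hn
  obtain ⟨k, hk⟩ := perm_card_three_trans (card_inv P m hm e) _ hn
    (toPermHom_pow_three P m hm e hr n) ⟨x, hx, hx1, hx2⟩ ⟨y, hy, hy1, hy2⟩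
  rw [← map_pow] at hk
  refine ⟨((n ^ k : Subgroup.normalizer ((P : Subgroup G) : Set G)) : G), ?_⟩
  exact congrArg Subtype.val hk

end Main

end Cfsg.Agent.Helper16.Homocyclic
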