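import Mathlib

/-!
# Huppert piece (A1): a prime-order isometry of a finite symplectic abelian group

`prime_bound_abstract`: if `φ ≠ 1` is an automorphism of prime order `p` (coprime to `|W|`) of a finite
abelian group `W` preserving a nondegenerate alternating bimultiplicative form into a cyclic group,
then some prime power `u` has `u ^ 2 ∣ |W|` and (`p < u` or `p ∣ u + 1`).
-/

set_option autoImplicit false

namespace Cfsg.Agent.Helper16.HupA1

variable {W Z : Type*} [CommGroup W] [Finite W] [CommGroup Z] [Finite Z] [IsCyclic Z]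

/-- Homs from a finite abelian group into a finite cyclic group: at most `|B|` of them. -/
theorem card_hom_le (B : Type*) [CommGroup B] [Finite B] :
    Nat.card (B →* Z) ≤ Nat.card B := by
  classical
  set n := Nat.card Z with hn
  have : NeZero n := ⟨Nat.card_pos.ne'⟩
  have : NeZero (Monoid.exponent B) := ⟨Monoid.exponent_ne_zero_of_finite⟩
  have hc : Nat.card (rootsOfUnity n ℂ) = n := Complex.card_rootsOfUnity n
  let e : Z ≃* rootsOfUnity n ℂ := mulEquivOfCyclicCardEq (by rw [hc])
  let j : Z →* ℂˣ := (rootsOfUnity n ℂ).subtype.comp e.toMonoidHom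
  have hj : Function.Injective j := by
    intro a b hab
    have : e a = e b := Subtype.ext hab
    exact e.injective this
  have hinj : Function.Injective (fun f : B →* Z => j.comp f) := by
    intro f g hfg
    ext x
    have := DFunLike.congr_fun hfg x
    exact hj this
  calc Nat.card (B →* Z) ≤ Nat.card (B →* ℂˣ) := Nat.card_le_card_of_injective _ hinj
    _ = Nat.card B := CommGroup.card_monoidHom_of_hasEnoughRootsOfUnity B ℂ


theorem finite_hom (B C : Type*) [Group B] [Finite B] [Group C] [Finite C] : Finite (B →* C) :=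
  Finite.of_injective (fun f : B →* C => (f : B → C)) DFunLike.coe_injective

/-- The orthogonal complement of a subgroup with respect to `β`. -/
def perp (β : W →* W →* Z) (X : Subgroup W) : Subgroup W where
  carrier := {w | ∀ x ∈ X, β x w = 1}
  one_mem' := fun x _ => map_one _
  mul_mem' := fun {a b} ha hb x hx => by rw [map_mul, ha x hx, hb x hx, one_mul]
  inv_mem' := fun {a} ha x hx => by rw [map_inv, ha x hx, inv_one]

omit [Finite W] [Finite Z] [IsCyclic Z] in
theorem mem_perp {β : W →* W →* Z} {X : Subgroup W} {w : W} :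
    w ∈ perp β X ↔ ∀ x ∈ X, β x w = 1 := Iff.rfl

/-- Duality: `|X| * |X^⊥| = |W|` for a nondegenerate form into a cyclic group. -/
theorem card_mul_card_perp (β : W →* W →* Z) (hnd : ∀ w, (∀ w', β w w' = 1) → w = 1)
    (X : Subgroup W) : Nat.card X * Nat.card (perp β X) = Nat.card W := by
  classical
  -- `f : W →* (X →* Z)`, `w ↦ β(·, w)|_X`
  let f : W →* (↥X →* Z) := (β.comp X.subtype).flip
  have hker : f.ker = perp β X := by
    ext w
    rw [MonoidHom.mem_ker, mem_perp]
    constructor
    · intro h x hx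
      have := DFunLike.congr_fun h ⟨x, hx⟩
      simpa [f] using this
    · intro h
      ext x
      simpa [f] using h x x.2
  have : Finite (↥X →* Z) := finite_hom _ _
  have : Finite (↥f.range →* Z) := finite_hom _ _
  have hidx : (perp β X).index = Nat.card f.range := by
    rw [← hker]; exact Subgroup.index_ker f
  have h1 : (perp β X).index ≤ Nat.card X := by
    rw [hidx]
    exact (Subgroup.card_le_card_group f.range).trans (card_hom_le (Z := Z) ↥X)
  -- evaluation `X →* (range f →* Z)`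
  let g : ↥X →* (↥f.range →* Z) := (MonoidHom.eval (M := ↥X) (N := Z)).compl₂ f.range.subtype
  have hg : Function.Injective g := by
    rw [injective_iff_map_eq_one]
    intro x hx
    have hx1 : ((x : W)) = 1 := by
      apply hnd
      intro w
      have := DFunLike.congr_fun hx ⟨f w, ⟨w, rfl⟩⟩
      simpa [g, f] using this
    exact Subtype.ext hx1
  have h2 : Nat.card X ≤ (perp β X).index := by
    rw [hidx]
    exact (Nat.card_le_card_of_injective g hg).trans (card_hom_le (Z := Z) ↥f.range)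
  have h3 : (perp β X).index = Nat.card X := le_antisymm h1 h2
  rw [← h3, mul_comm]
  exact Subgroup.card_mul_index (perp β X)


omit [Finite W] [Finite Z] [IsCyclic Z] in
/-- An alternating form is skew-symmetric. -/
theorem skew (β : W →* W →* Z) (halt : ∀ w, β w w = 1) (a b : W) : β a b = (β b a)⁻¹ := by
  have h := halt (a * b)
  simp only [map_mul, MonoidHom.mul_apply, halt a, halt b, one_mul, mul_one] at h
  exact eq_inv_of_mul_eq_one_left (by rw [mul_comm]; exact h)

omit [Finite W] [Finite Z] [IsCyclic Z] in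
theorem skew_one (β : W →* W →* Z) (halt : ∀ w, β w w = 1) {a b : W} (h : β a b = 1) :
    β b a = 1 := by
  rw [skew β halt, h, inv_one]

/-- A totally isotropic subgroup has `|X|^2 ∣ |W|`. -/
theorem sq_dvd_of_isotropic (β : W →* W →* Z) (hnd : ∀ w, (∀ w', β w w' = 1) → w = 1)
    (X : Subgroup W) (hX : ∀ a ∈ X, ∀ b ∈ X, β a b = 1) : Nat.card X ^ 2 ∣ Nat.card W := by
  have hle : X ≤ perp β X := fun b hb a ha => hX a ha b hb
  rw [← card_mul_card_perp β hnd X, sq]
  exact Nat.mul_dvd_mul_left _ (Subgroup.card_dvd_of_le hle)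

/-- A finite abelian group with a nondegenerate alternating form has square order. -/
theorem exists_card_eq_sq (β : W →* W →* Z) (halt : ∀ w, β w w = 1)
    (hnd : ∀ w, (∀ w', β w w' = 1) → w = 1) :
    ∃ M : Subgroup W, Nat.card W = Nat.card M ^ 2 := by
  classical
  -- a maximal isotropic subgroup
  let S : Set (Subgroup W) := {M | ∀ a ∈ M, ∀ b ∈ M, β a b = 1}
  have hne : S.Nonempty := ⟨⊥, by
    intro a ha b _
    rw [Subgroup.mem_bot] at ha
    rw [ha, map_one, MonoidHom.one_apply]⟩
  obtain ⟨M, hMS, hmax⟩ :=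
    WellFounded.has_min (measure fun M : Subgroup W => Nat.card W - Nat.card M).wf S hne
  refine ⟨M, ?_⟩
  have hle : M ≤ perp β M := fun b hb a ha => hMS a ha b hb
  have hge : perp β M ≤ M := by
    intro x hx
    rw [mem_perp] at hx
    have hiso : M ⊔ Subgroup.zpowers x ∈ S := by
      intro a ha b hb
      obtain ⟨m, hm, y, hy, rfl⟩ := Subgroup.mem_sup.1 ha
      obtain ⟨m', hm', y', hy', rfl⟩ := Subgroup.mem_sup.1 hb
      obtain ⟨k, rfl⟩ := Subgroup.mem_zpowers_iff.1 hy
      obtain ⟨l, rfl⟩ := Subgroup.mem_zpowers_iff.1 hy'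
      have e1 : β m m' = 1 := hMS m hm m' hm'
      have e2 : β m (x ^ l) = 1 := by rw [map_zpow, hx m hm, one_zpow]
      have e3 : β (x ^ k) m' = 1 := by
        rw [map_zpow, MonoidHom.zpow_apply, skew_one β halt (hx m' hm'), one_zpow]
      have e4 : β (x ^ k) (x ^ l) = 1 := by
        simp only [map_zpow, MonoidHom.zpow_apply, halt x, one_zpow]
      have e5 : β (m * x ^ k) (m' * x ^ l)
          = β m m' * β m (x ^ l) * (β (x ^ k) m' * β (x ^ k) (x ^ l)) := by
        simp only [map_mul, MonoidHom.mul_apply]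
        ac_rfl
      rw [e5, e1, e2, e3, e4]
      simp
    have hnot := hmax _ hiso
    have hMle : M ≤ M ⊔ Subgroup.zpowers x := le_sup_left
    have hcard : Nat.card M ≤ Nat.card ↥(M ⊔ Subgroup.zpowers x) := Subgroup.card_le_of_le hMle
    have hcW : Nat.card ↥(M ⊔ Subgroup.zpowers x) ≤ Nat.card W := Subgroup.card_le_card_group _
    have hcard2 : Nat.card ↥(M ⊔ Subgroup.zpowers x) ≤ Nat.card M := by
      by_contra hlt
      rw [not_le] at hlt
      apply hnot
      show Nat.card W - Nat.card ↥(M ⊔ Subgroup.zpowers x) < Nat.card W - Nat.card M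
      omega
    have heq : M = M ⊔ Subgroup.zpowers x := Subgroup.eq_of_le_of_card_ge hMle hcard2
    rw [heq]
    exact (le_sup_right : Subgroup.zpowers x ≤ _) (Subgroup.mem_zpowers x)
  have hperp : perp β M = M := le_antisymm hge hle
  have := card_mul_card_perp β hnd M
  rw [hperp] at this
  rw [← this, sq]


/-- **Huppert piece (A1).** -/
theorem prime_bound_abstract {W Z : Type*} [CommGroup W] [Finite W] [CommGroup Z] [Finite Z]
    [IsCyclic Z] (β : W →* W →* Z) (halt : ∀ w, β w w = 1)
    (hnd : ∀ w, (∀ w', β w w' = 1) → w = 1) (φ : MulAut W)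
    (hφβ : ∀ w w', β (φ w) (φ w') = β w w') (p : ℕ) (hp : p.Prime) (hφp : φ ^ p = 1)
    (hφ1 : φ ≠ 1) (hcop : ¬ p ∣ Nat.card W) :
    ∃ u : ℕ, IsPrimePow u ∧ u ^ 2 ∣ Nat.card W ∧ (p < u ∨ p ∣ u + 1) := by
  classical
  have : Fact p.Prime := ⟨hp⟩
  -- the maps `δ` and `N`
  let δ : W →* W := φ.toMonoidHom / MonoidHom.id W
  have hδ : ∀ w, δ w = φ w / w := fun w => rfl
  let N : W →* W := ∏ i ∈ Finset.range p, (φ ^ i).toMonoidHom
  have hN : ∀ w, N w = ∏ i ∈ Finset.range p, (φ ^ i) w := by
    intro w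
    simp only [N, MonoidHom.finsetProd_apply]
    rfl
  have hNφ : ∀ w, N (φ w) = N w := by
    intro w
    rw [hN, hN]
    have h1 : ∏ i ∈ Finset.range p, (φ ^ i) (φ w) = ∏ i ∈ Finset.range p, (φ ^ (i + 1)) w := by
      refine Finset.prod_congr rfl fun i _ => ?_
      rw [pow_succ, MulAut.mul_apply]
    rw [h1]
    have h2 := Finset.prod_range_succ' (fun i => (φ ^ i) w) p
    have h3 := Finset.prod_range_succ (fun i => (φ ^ i) w) p
    rw [h2] at h3
    simp only [hφp, pow_zero, MulAut.one_apply] at h3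
    exact mul_right_cancel h3
  have hNδ : ∀ w, N (δ w) = 1 := by
    intro w
    rw [hδ, map_div, hNφ, div_self']
  have hpow : ∀ (i : ℕ) (w : W), φ w = w → (φ ^ i) w = w := by
    intro i w hw
    induction i with
    | zero => simp
    | succ i ih => rw [pow_succ, MulAut.mul_apply, hw, ih]
  have hNfix : ∀ w, φ w = w → N w = w ^ p := by
    intro w hw
    rw [hN, Finset.prod_congr rfl (fun i _ => hpow i w hw), Finset.prod_const, Finset.card_range]
  have key : ∀ w ∈ δ.range, φ w = w → w = 1 := by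
    rintro w ⟨v, rfl⟩ hw
    have h1 : (δ v) ^ p = 1 := by rw [← hNfix _ hw, hNδ]
    have h2 : orderOf (δ v) ∣ p := orderOf_dvd_of_pow_eq_one h1
    have h3 : orderOf (δ v) ∣ Nat.card W := orderOf_dvd_natCard _
    rcases (Nat.dvd_prime hp).1 h2 with h | h
    · exact orderOf_eq_one_iff.1 h
    · exact absurd (h ▸ h3) hcop
  have hδφ : ∀ w ∈ δ.range, φ w ∈ δ.range := by
    rintro w ⟨v, rfl⟩
    exact ⟨φ v, by rw [hδ, hδ, map_div]⟩
  have hδne : δ.range ≠ ⊥ := by
    intro h
    apply hφ1
    ext w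
    have : δ w ∈ δ.range := ⟨w, rfl⟩
    rw [h, Subgroup.mem_bot, hδ, div_eq_one] at this
    simpa using this
  -- a minimal invariant subgroup
  let S : Set (Subgroup W) := {Y | Y ≤ δ.range ∧ Y ≠ ⊥ ∧ ∀ y ∈ Y, φ y ∈ Y}
  have hSne : S.Nonempty := ⟨δ.range, le_refl _, hδne, hδφ⟩
  obtain ⟨U, ⟨hUδ, hUne, hUφ⟩, hUmin⟩ :=
    WellFounded.has_min (measure fun Y : Subgroup W => Nat.card Y).wf S hSne
  have hmin : ∀ Y ∈ S, Y ≤ U → Y = U := by
    intro Y hY hYU
    have h1 : ¬ Nat.card Y < Nat.card U := hUmin Y hY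
    exact Subgroup.eq_of_le_of_card_ge hYU (not_lt.1 h1)
  have hUfix : ∀ u ∈ U, φ u = u → u = 1 := fun u hu => key u (hUδ hu)
  have hUsurj : ∀ u ∈ U, ∃ u' ∈ U, φ u' = u := by
    have hle : U.map φ.toMonoidHom ≤ U := by
      rintro _ ⟨u, hu, rfl⟩
      exact hUφ u hu
    have hcard : Nat.card (U.map φ.toMonoidHom) = Nat.card U :=
      Subgroup.card_map_of_injective φ.injective
    have heq : U.map φ.toMonoidHom = U := Subgroup.eq_of_le_of_card_ge hle hcard.ge
    intro u hu
    rw [← heq] at hu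
    obtain ⟨u', hu', rfl⟩ := hu
    exact ⟨u', hu', rfl⟩
  have hUcard1 : Nat.card U ≠ 1 := fun h => hUne (Subgroup.card_eq_one.1 h)
  have hUpos : 0 < Nat.card U := Nat.card_pos
  -- exponent `r`
  obtain ⟨r, hr, hrU⟩ := Nat.exists_prime_and_dvd hUcard1
  have : Fact r.Prime := ⟨hr⟩
  have hexp : ∀ u ∈ U, u ^ r = 1 := by
    let Y : Subgroup W := U ⊓ (powMonoidHom r : W →* W).ker
    have hYS : Y ∈ S := by
      refine ⟨inf_le_left.trans hUδ, ?_, ?_⟩
      · obtain ⟨x, hx⟩ := exists_prime_orderOf_dvd_card' r hrU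
        intro hbot
        have hxY : (x : W) ∈ Y := by
          refine Subgroup.mem_inf.2 ⟨x.2, ?_⟩
          rw [MonoidHom.mem_ker, powMonoidHom_apply, ← Subgroup.coe_pow, ← hx, pow_orderOf_eq_one]
          rfl
        rw [hbot, Subgroup.mem_bot] at hxY
        have hx1 : x = 1 := Subtype.ext hxY
        rw [hx1, orderOf_one] at hx
        exact hr.one_lt.ne hx
      · intro y hy
        obtain ⟨hyU, hyk⟩ := Subgroup.mem_inf.1 hy
        refine Subgroup.mem_inf.2 ⟨hUφ y hyU, ?_⟩
        rw [MonoidHom.mem_ker, powMonoidHom_apply] at hyk ⊢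
        rw [← map_pow, hyk, map_one]
    have hYU : Y = U := hmin Y hYS inf_le_left
    intro u hu
    have : u ∈ Y := hYU ▸ hu
    have h2 := (Subgroup.mem_inf.1 this).2
    rwa [MonoidHom.mem_ker, powMonoidHom_apply] at h2
  have hPG : IsPGroup r U := by
    intro g
    refine ⟨1, ?_⟩
    rw [pow_one]
    exact Subtype.ext (by rw [Subgroup.coe_pow]; exact hexp g g.2)
  obtain ⟨j, hj⟩ := (IsPGroup.iff_card).1 hPG
  have hj0 : j ≠ 0 := by
    rintro rfl
    exact hUcard1 (by rw [hj, pow_zero])
  -- `p ∣ |U| - 1`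
  have hmod : Nat.card U ≡ 1 [MOD p] := by
    have hz : ∀ (k : ℤ) (u : W), u ∈ U → (φ ^ k) u ∈ U := by
      intro k
      induction k using Int.induction_on with
      | zero => intro u hu; simpa using hu
      | succ i ih =>
        intro u hu
        rw [zpow_add_one, MulAut.mul_apply]
        exact ih _ (hUφ u hu)
      | pred i ih =>
        intro u hu
        obtain ⟨u', hu', rfl⟩ := hUsurj u hu
        rw [zpow_sub_one, MulAut.mul_apply, MulAut.inv_apply, MulEquiv.symm_apply_apply]
        exact ih _ hu'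
    let T : SubMulAction (Subgroup.zpowers φ) W :=
      { carrier := U
        smul_mem' := by
          rintro ⟨g, hg⟩ u hu
          obtain ⟨k, rfl⟩ := Subgroup.mem_zpowers_iff.1 hg
          exact hz k u hu }
    have hPz : IsPGroup p (Subgroup.zpowers φ) := by
      rintro ⟨g, hg⟩
      obtain ⟨k, rfl⟩ := Subgroup.mem_zpowers_iff.1 hg
      refine ⟨1, Subtype.ext ?_⟩
      rw [pow_one, Subgroup.coe_pow, Subgroup.coe_one, ← zpow_natCast, ← zpow_mul, mul_comm,
        zpow_mul, zpow_natCast, hφp, one_zpow]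
    have hcong := hPz.card_modEq_card_fixedPoints (↥T)
    have hcT : Nat.card ↥T = Nat.card U :=
      Nat.card_congr (Equiv.subtypeEquivRight (fun x => Iff.rfl))
    have hfix : Nat.card (MulAction.fixedPoints (Subgroup.zpowers φ) ↥T) = 1 := by
      rw [Nat.card_eq_one_iff_unique]
      refine ⟨⟨?_⟩, ⟨⟨(⟨1, U.one_mem⟩ : ↥T), ?_⟩⟩⟩
      · rintro ⟨⟨a, ha⟩, hfa⟩ ⟨⟨b, hb⟩, hfb⟩
        have ha1 : a = 1 := by
          apply hUfix a ha
          have := hfa ⟨φ, Subgroup.mem_zpowers φ⟩
          exact congrArg (fun t : ↥T => (t : W)) this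
        have hb1 : b = 1 := by
          apply hUfix b hb
          have := hfb ⟨φ, Subgroup.mem_zpowers φ⟩
          exact congrArg (fun t : ↥T => (t : W)) this
        subst ha1; subst hb1; rfl
      · rintro ⟨g, hg⟩
        apply Subtype.ext
        show g • (1 : W) = 1
        exact smul_one g
    rw [hcT, hfix] at hcong
    exact hcong
  have hpdvd : p ∣ Nat.card U - 1 := (Nat.modEq_iff_dvd' hUpos).1 hmod.symm
  have hU2 : 2 ≤ Nat.card U := by omega
  -- the radical of `β` on `U`
  let Y1 : Subgroup W := U ⊓ perp β U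
  have hY1φ : ∀ y ∈ Y1, φ y ∈ Y1 := by
    intro y hy
    obtain ⟨hyU, hyP⟩ := Subgroup.mem_inf.1 hy
    refine Subgroup.mem_inf.2 ⟨hUφ y hyU, ?_⟩
    rw [mem_perp] at hyP ⊢
    intro u hu
    obtain ⟨u', hu', rfl⟩ := hUsurj u hu
    rw [hφβ]
    exact hyP u' hu'
  by_cases hY1 : Y1 = ⊥
  · -- nondegenerate on `U`
    let βU : ↥U →* ↥U →* Z := (β.comp U.subtype).compl₂ U.subtype
    have hβU : ∀ a b : ↥U, βU a b = β a b := fun a b => rfl
    have haltU : ∀ a : ↥U, βU a a = 1 := fun a => halt a
    have hndU : ∀ a : ↥U, (∀ b : ↥U, βU a b = 1) → a = 1 := by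
      intro a ha
      have hmem : (a : W) ∈ Y1 := by
        refine Subgroup.mem_inf.2 ⟨a.2, ?_⟩
        rw [mem_perp]
        intro x hx
        exact skew_one β halt (ha ⟨x, hx⟩)
      rw [hY1, Subgroup.mem_bot] at hmem
      exact Subtype.ext hmem
    obtain ⟨M, hM⟩ := exists_card_eq_sq βU haltU hndU
    set v := Nat.card M with hv
    have hvdvd : v ∣ r ^ j := by
      rw [← hj, hM, sq]; exact Dvd.intro _ rfl
    obtain ⟨i, _, hi⟩ := (Nat.dvd_prime_pow hr).1 hvdvd
    have hv2 : 2 ≤ v := by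
      by_contra hlt
      have : v = 0 ∨ v = 1 := by omega
      rcases this with h | h <;> rw [h] at hM <;> omega
    have hi0 : i ≠ 0 := by
      rintro rfl
      rw [pow_zero] at hi
      omega
    refine ⟨v, ?_, ?_, ?_⟩
    · rw [hi]
      exact ⟨r, i, hr.prime, Nat.pos_of_ne_zero hi0, rfl⟩
    · rw [← hM]
      exact Subgroup.card_subgroup_dvd_card U
    · have hfac : Nat.card U - 1 = (v - 1) * (v + 1) := by
        rw [hM]
        have : 1 ≤ v := by omega
        zify [this, Nat.one_le_pow 2 v (by omega)]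
        ring
      rw [hfac] at hpdvd
      rcases (Nat.Prime.dvd_mul hp).1 hpdvd with h | h
      · left
        have := Nat.le_of_dvd (by omega) h
        omega
      · right; exact h
  · -- isotropic
    have hY1S : Y1 ∈ S := ⟨inf_le_left.trans hUδ, hY1, hY1φ⟩
    have hY1U : Y1 = U := hmin Y1 hY1S inf_le_left
    have hiso : ∀ a ∈ U, ∀ b ∈ U, β a b = 1 := by
      intro a ha b hb
      have hb' : b ∈ Y1 := hY1U ▸ hb
      exact (Subgroup.mem_inf.1 hb').2 a ha
    refine ⟨Nat.card U, ?_, sq_dvd_of_isotropic β hnd U hiso, ?_⟩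
    · rw [hj]
      exact ⟨r, j, hr.prime, Nat.pos_of_ne_zero hj0, rfl⟩
    · left
      have := Nat.le_of_dvd (by omega) hpdvd
      omega

end Cfsg.Agent.Helper16.HupA1
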