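import Mathlib
import Cfsg.Agent.Helper18.K2P.Defs
import Cfsg.Agent.Helper18.K2P.Defs2
import Cfsg.Agent.Helper18.K2P.QB
import Cfsg.Agent.Helper18.K2P.BASIS

/-! # K2P (S5692), chapter B, piece B-QROT (driver helper2): coordinates of `rotV ν y - y` -/

set_option autoImplicit false
set_option linter.unusedSectionVars false
set_option linter.unusedVariables false

namespace Cfsg.Agent.K2P

open Matrix Cfsg.Agent.OC2P Cfsg.Agent.Helper28.Sg Cfsg.Agent.Helper28.Spin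
  Cfsg.Agent.Helper12.OrthGen Cfsg.Agent.K2M

variable {F : Type*} [Field F] [Fintype F] {t : ℕ} {Q : QuadraticForm F (Fin t × Fin 2 → F)}
  {q : QuadraticForm F (Fin 2 → F)} {e f : Fin 2 → F} {M : Subgroup (OG Q)}

/-- `rotV ν y - β • y` in coordinates -/
theorem B.QROT.aux_comb (bp : BP Q q e f) (ν β c d : F) :
    rotV q e f ν (c • e + d • f) - β • (c • e + d • f) = ((ν - β) * c) • e + ((ν⁻¹ - β) * d) • f := by
  rw [BASIS.rotV_comb bp]
  ext k
  simp only [Pi.add_apply, Pi.sub_apply, Pi.smul_apply, smul_eq_mul]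
  ring

/-- B-QROT: the norm of the displacement of a block rotation -/
theorem B.QROT.norm (bp : BP Q q e f) (ν : F) (y : Fin 2 → F) :
    q (rotV q e f ν y - y) = (ν - 1) * (ν⁻¹ - 1) * q y := by
  obtain ⟨c, d, rfl⟩ := BASIS.span bp y
  have h := B.QROT.aux_comb bp ν 1 c d
  rw [one_smul] at h
  rw [h, BASIS.q_comb bp, BASIS.q_comb bp]
  ring

/-- B-QROT: a rotation `ν ∉ {0, 1}` fixes no nonzero vector -/
theorem B.QROT.ne (bp : BP Q q e f) {ν : F} (hν0 : ν ≠ 0) (hν1 : ν ≠ 1) {y : Fin 2 → F} (hy : y ≠ 0) :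
    rotV q e f ν y - y ≠ 0 := by
  obtain ⟨c, d, rfl⟩ := BASIS.span bp y
  have h := B.QROT.aux_comb bp ν 1 c d
  rw [one_smul] at h
  rw [h]
  intro h0
  have h1 := BASIS.polar_comb_f bp ((ν - 1) * c) ((ν⁻¹ - 1) * d)
  have h2 := BASIS.polar_comb_e bp ((ν - 1) * c) ((ν⁻¹ - 1) * d)
  rw [h0, QuadraticMap.polar_zero_left] at h1 h2
  have hc : c = 0 := by
    rcases mul_eq_zero.mp h1.symm with h | h
    · exact absurd (sub_eq_zero.mp h) hν1
    · exact h
  have hν1' : ν⁻¹ - 1 ≠ 0 := by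
    intro h
    have : ν⁻¹ = 1 := sub_eq_zero.mp h
    exact hν1 (by rw [← inv_inv ν, this, inv_one])
  have hd : d = 0 := by
    rcases mul_eq_zero.mp h2.symm with h | h
    · exact absurd h hν1'
    · exact h
  apply hy
  rw [hc, hd, zero_smul, zero_smul, add_zero]

/-- B-QROT: `polar q y (rotV ν y) = (ν + ν⁻¹) q y` -/
theorem B.QROT.polar (bp : BP Q q e f) (ν : F) (y : Fin 2 → F) :
    QuadraticMap.polar ⇑q y (rotV q e f ν y) = (ν + ν⁻¹) * q y := by
  obtain ⟨c, d, rfl⟩ := BASIS.span bp y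
  rw [BASIS.rotV_comb bp, QuadraticMap.polar_add_right, QuadraticMap.polar_smul_right,
    QuadraticMap.polar_smul_right, BASIS.polar_comb_e bp, BASIS.polar_comb_f bp, BASIS.q_comb bp,
    smul_eq_mul, smul_eq_mul]
  ring

/-- B-QROT: `rotV ν y - β • y ≠ 0` for nonsingular `y` and `ν² ≠ 1` -/
theorem B.QROT.ne' (bp : BP Q q e f) {ν : F} (hν0 : ν ≠ 0) (hν2 : ν ^ 2 ≠ 1) (β : F) {y : Fin 2 → F}
    (hy : q y ≠ 0) : rotV q e f ν y - β • y ≠ 0 := by
  obtain ⟨c, d, rfl⟩ := BASIS.span bp y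
  rw [BASIS.q_comb bp] at hy
  have hc : c ≠ 0 := left_ne_zero_of_mul hy
  have hd : d ≠ 0 := right_ne_zero_of_mul hy
  rw [B.QROT.aux_comb bp ν β c d]
  intro h0
  have h1 := BASIS.polar_comb_f bp ((ν - β) * c) ((ν⁻¹ - β) * d)
  have h2 := BASIS.polar_comb_e bp ((ν - β) * c) ((ν⁻¹ - β) * d)
  rw [h0, QuadraticMap.polar_zero_left] at h1 h2
  have e1 : ν = β := by
    rcases mul_eq_zero.mp h1.symm with h | h
    · exact sub_eq_zero.mp h
    · exact absurd h hc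
  have e2 : ν⁻¹ = β := by
    rcases mul_eq_zero.mp h2.symm with h | h
    · exact sub_eq_zero.mp h
    · exact absurd h hd
  apply hν2
  have h3 : ν * ν⁻¹ = 1 := mul_inv_cancel₀ hν0
  rw [e2, ← e1] at h3
  rw [pow_two]
  exact h3

end Cfsg.Agent.K2P
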