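import Mathlib

/-!
# Wielandt: k-homogeneous implies (k-1)-homogeneous (elementary counting proof)
-/

namespace Cfsg.Agent.Helper16.KHomog

open scoped Pointwise
open Finset

/-- If `p ^ a ∣ k` and `0 < i < p ^ a` then `p ∣ C(k, i)`. -/
theorem dvd_choose_of_pow_dvd {p a k i : ℕ} (hp : p.Prime) (hk : p ^ a ∣ k)
    (hi0 : 0 < i) (hi : i < p ^ a) : p ∣ k.choose i := by
  by_contra hnd
  have hcop : Nat.Coprime (p ^ a) (k.choose i) :=
    Nat.Coprime.pow_left a ((Nat.Prime.coprime_iff_not_dvd hp).mpr hnd)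
  obtain ⟨j, rfl⟩ : ∃ j, i = j + 1 := ⟨i - 1, by omega⟩
  rcases Nat.eq_zero_or_pos k with hk0 | hkpos
  · subst hk0
    simp at hnd
  obtain ⟨n, rfl⟩ : ∃ n, k = n + 1 := ⟨k - 1, by omega⟩
  have h1 : (n + 1) * n.choose j = (n + 1).choose (j + 1) * (j + 1) := Nat.add_one_mul_choose_eq n j
  have h2 : p ^ a ∣ (n + 1).choose (j + 1) * (j + 1) := by
    rw [← h1]; exact Dvd.dvd.mul_right hk _
  have h3 : p ^ a ∣ j + 1 := hcop.dvd_of_dvd_mul_left h2
  have := Nat.le_of_dvd (by omega) h3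
  omega

/-- If `p ^ a ∣ k` then `C(k + p^a - 1, k) ≡ 1 mod p`, so it is coprime to `p ^ a`. -/
theorem coprime_choose {p a k : ℕ} (hp : p.Prime) (hk : p ^ a ∣ k) :
    Nat.Coprime (p ^ a) ((k + p ^ a - 1).choose k) := by
  have hq : 0 < p ^ a := pos_of_ne_zero (pow_ne_zero _ hp.ne_zero)
  obtain ⟨r, hr⟩ : ∃ r, p ^ a = r + 1 := ⟨p ^ a - 1, by omega⟩
  have e1 : k + p ^ a - 1 = k + r := by omega
  rw [e1]
  have e2 : (k + r).choose k = (k + r).choose r := by
    rw [Nat.choose_symm_add]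
  rw [e2, Nat.add_choose_eq]
  apply Nat.Coprime.pow_left
  rw [Nat.Prime.coprime_iff_not_dvd hp]
  intro hdvd
  -- all terms except (0, r) are divisible by p
  have hsplit : ∑ ij ∈ antidiagonal r, k.choose ij.1 * r.choose ij.2
      = k.choose 0 * r.choose r
        + ∑ ij ∈ (antidiagonal r).erase (0, r), k.choose ij.1 * r.choose ij.2 := by
    have hmem : ((0, r) : ℕ × ℕ) ∈ antidiagonal r := by simp
    exact (Finset.add_sum_erase _ (fun ij : ℕ × ℕ => k.choose ij.1 * r.choose ij.2) hmem).symm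
  have hrest : p ∣ ∑ ij ∈ (antidiagonal r).erase (0, r), k.choose ij.1 * r.choose ij.2 := by
    apply Finset.dvd_sum
    intro ij hij
    rw [Finset.mem_erase, HasAntidiagonal.mem_antidiagonal] at hij
    obtain ⟨hne, hsum⟩ := hij
    have hi0 : 0 < ij.1 := by
      rcases Nat.eq_zero_or_pos ij.1 with h | h
      · exfalso; apply hne
        ext
        · exact h
        · simp only; omega
      · exact h
    have hlt : ij.1 < p ^ a := by omega
    exact Dvd.dvd.mul_right (dvd_choose_of_pow_dvd hp hk hi0 hlt) _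
  rw [hsplit] at hdvd
  have : p ∣ k.choose 0 * r.choose r := (Nat.dvd_add_left hrest).mp hdvd
  simp at this
  exact hp.one_lt.ne' this


variable {α : Type*} [DecidableEq α]

/-- the `(m+1)`-subsets of `B` containing a given `m`-subset `Δ` are `|B| - m` in number -/
theorem card_supersets {B Δ : Finset α} {m : ℕ} (hΔ : Δ ⊆ B) (hm : Δ.card = m) :
    ((B.powersetCard (m + 1)).filter (fun Γ => Δ ⊆ Γ)).card = B.card - m := by
  have himg : (B.powersetCard (m + 1)).filter (fun Γ => Δ ⊆ Γ)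
      = (B \ Δ).image (fun x => insert x Δ) := by
    ext Γ
    simp only [mem_filter, mem_powersetCard, mem_image, mem_sdiff]
    constructor
    · rintro ⟨⟨hΓB, hcard⟩, hΔΓ⟩
      have h1 : (Γ \ Δ).card = 1 := by
        rw [card_sdiff_of_subset hΔΓ]; omega
      obtain ⟨x, hx⟩ := card_eq_one.mp h1
      have hxm : x ∈ Γ \ Δ := by rw [hx]; exact mem_singleton_self x
      rw [mem_sdiff] at hxm
      refine ⟨x, ⟨hΓB hxm.1, hxm.2⟩, ?_⟩
      rw [← Finset.sdiff_union_of_subset hΔΓ, hx]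
      ext y
      simp
    · rintro ⟨x, ⟨hxB, hxΔ⟩, rfl⟩
      refine ⟨⟨insert_subset hxB hΔ, ?_⟩, subset_insert _ _⟩
      rw [card_insert_of_notMem hxΔ, hm]
  rw [himg, card_image_of_injOn, card_sdiff_of_subset hΔ, hm]
  intro x hx y hy hxy
  simp only [coe_sdiff, Set.mem_sdiff, mem_coe] at hx hy
  have hxin : x ∈ insert y Δ := by
    have : x ∈ insert x Δ := mem_insert_self x Δ
    simpa [hxy] using this
  rcases mem_insert.mp hxin with h | h
  · exact h
  · exact absurd h hx.2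

/-- double counting of flags `Δ ⊂ Γ ⊆ B` -/
theorem double_count (P : Finset α → Prop) [DecidablePred P] {m κ : ℕ} {B : Finset α}
    (hκ : ∀ Γ ⊆ B, Γ.card = m + 1 → ((Γ.powersetCard m).filter P).card = κ) :
    ((B.powersetCard m).filter P).card * (B.card - m) = (B.card.choose (m + 1)) * κ := by
  have hdc := Finset.sum_card_bipartiteAbove_eq_sum_card_bipartiteBelow
    (s := (B.powersetCard m).filter P) (t := B.powersetCard (m + 1)) (fun Δ Γ => Δ ⊆ Γ)
  have hL : ∀ Δ ∈ (B.powersetCard m).filter P,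
      ((B.powersetCard (m + 1)).bipartiteAbove (fun Δ Γ => Δ ⊆ Γ) Δ).card = B.card - m := by
    intro Δ hΔ
    rw [mem_filter, mem_powersetCard] at hΔ
    exact card_supersets hΔ.1.1 hΔ.1.2
  have hR : ∀ Γ ∈ B.powersetCard (m + 1),
      (((B.powersetCard m).filter P).bipartiteBelow (fun Δ Γ => Δ ⊆ Γ) Γ).card = κ := by
    intro Γ hΓ
    rw [mem_powersetCard] at hΓ
    rw [← hκ Γ hΓ.1 hΓ.2]
    congr 1
    ext Δ
    simp only [bipartiteBelow, mem_filter, mem_powersetCard]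
    constructor
    · rintro ⟨⟨⟨_, hc⟩, hP⟩, hsub⟩
      exact ⟨⟨hsub, hc⟩, hP⟩
    · rintro ⟨⟨hsub, hc⟩, hP⟩
      exact ⟨⟨⟨hsub.trans hΓ.1, hc⟩, hP⟩, hsub⟩
  rw [Finset.sum_congr rfl hL, Finset.sum_congr rfl hR, Finset.sum_const, Finset.sum_const,
    card_powersetCard, smul_eq_mul, smul_eq_mul] at hdc
  exact hdc

/-- If every `(m+1)`-set contains exactly `κ` `m`-subsets with property `P`, then under
Wielandt's arithmetic condition `m + 1 ∣ κ`. -/
theorem dvd_kappa [Fintype α] (P : Finset α → Prop) [DecidablePred P] {m κ : ℕ}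
    (hκ : ∀ Γ : Finset α, Γ.card = m + 1 → ((Γ.powersetCard m).filter P).card = κ)
    (hq : ∀ q : ℕ, IsPrimePow q → q ∣ (m + 1) → (m + 1) + q - 1 ≤ Fintype.card α) :
    (m + 1) ∣ κ := by
  rw [Nat.dvd_iff_prime_pow_dvd_dvd]
  intro p a hp hpa
  rcases Nat.eq_zero_or_pos a with rfl | ha
  · simp
  have hpp : IsPrimePow (p ^ a) := hp.isPrimePow.pow ha.ne'
  have hle := hq _ hpp hpa
  obtain ⟨B, -, hB⟩ := Finset.exists_subset_card_eq (s := (univ : Finset α))
    (n := m + 1 + p ^ a - 1) (by simpa using hle)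
  have hdc := double_count P (B := B) (κ := κ) (m := m) (fun Γ _ h => hκ Γ h)
  rw [hB] at hdc
  have e : m + 1 + p ^ a - 1 - m = p ^ a := by omega
  rw [e] at hdc
  have hdvd : p ^ a ∣ (m + 1 + p ^ a - 1).choose (m + 1) * κ := ⟨_, by rw [← hdc, mul_comm]⟩
  exact (coprime_choose hp hpa).dvd_of_dvd_mul_left hdvd


/-- Wielandt: a `(m+1)`-homogeneous group satisfying the arithmetic condition is `m`-homogeneous. -/
theorem homog_pred [Fintype α] (G : Subgroup (Equiv.Perm α)) {m : ℕ} (hm : 1 ≤ m)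
    (hG : MulAction.IsPretransitive G (Set.powersetCard α (m + 1)))
    (hq : ∀ q : ℕ, IsPrimePow q → q ∣ (m + 1) → (m + 1) + q - 1 ≤ Fintype.card α) :
    MulAction.IsPretransitive G (Set.powersetCard α m) := by
  classical
  -- the degree is at least m + 2
  have hn : m + 2 ≤ Fintype.card α := by
    obtain ⟨p, hp, hpd⟩ := Nat.exists_prime_and_dvd (n := m + 1) (by omega)
    have := hq p hp.isPrimePow hpd
    have := hp.two_le
    omega
  -- base m-set
  obtain ⟨Δ₀, -, hΔ₀⟩ := Finset.exists_subset_card_eq (s := (univ : Finset α)) (n := m)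
    (by simp; omega)
  let P : Finset α → Prop := fun Δ => ∃ g : G, g • Δ₀ = Δ
  have hPsmul : ∀ (h : G) (Δ : Finset α), P Δ → P (h • Δ) := by
    rintro h Δ ⟨g, rfl⟩
    exact ⟨h * g, by rw [mul_smul]⟩
  -- transitivity on (m+1)-sets, in terms of finsets
  have htr : ∀ Γ Γ' : Finset α, Γ.card = m + 1 → Γ'.card = m + 1 → ∃ g : G, g • Γ = Γ' := by
    intro Γ Γ' h h'
    obtain ⟨g, hg⟩ := hG.exists_smul_eq (⟨Γ, h⟩ : Set.powersetCard α (m + 1)) ⟨Γ', h'⟩
    refine ⟨g, ?_⟩
    have h1 := congrArg (fun x : Set.powersetCard α (m + 1) => (x : Finset α)) hg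
    have h2 := Set.powersetCard.coe_smul (g := g) (s := (⟨Γ, h⟩ : Set.powersetCard α (m + 1)))
    exact h2.symm.trans h1
  -- N is invariant
  have hinv : ∀ (g : G) (Γ : Finset α),
      (((g • Γ).powersetCard m).filter P).card = ((Γ.powersetCard m).filter P).card := by
    intro g Γ
    have himg : ((g • Γ).powersetCard m).filter P
        = ((Γ.powersetCard m).filter P).image (fun Δ => g • Δ) := by
      ext Δ'
      simp only [mem_filter, mem_powersetCard, mem_image]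
      constructor
      · rintro ⟨⟨hsub, hc⟩, hP⟩
        refine ⟨g⁻¹ • Δ', ⟨⟨?_, ?_⟩, hPsmul _ _ hP⟩, smul_inv_smul g Δ'⟩
        · rw [← Finset.smul_finset_subset_smul_finset_iff (a := g), smul_inv_smul]
          exact hsub
        · rw [Finset.card_smul_finset]; exact hc
      · rintro ⟨Δ, ⟨⟨hsub, hc⟩, hP⟩, rfl⟩
        refine ⟨⟨Finset.smul_finset_subset_smul_finset_iff.mpr hsub, ?_⟩, hPsmul _ _ hP⟩
        rw [Finset.card_smul_finset]; exact hc
    rw [himg, card_image_of_injective]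
    exact MulAction.injective g
  -- a (m+1)-set containing Δ₀
  obtain ⟨Γ₁, hΔΓ, -, hΓ₁⟩ := Finset.exists_subsuperset_card_eq (s := Δ₀) (t := univ)
    (n := m + 1) (subset_univ _) (by omega) (by simp; omega)
  obtain ⟨κ, hκdef⟩ : ∃ κ, κ = ((Γ₁.powersetCard m).filter P).card := ⟨_, rfl⟩
  have hκ : ∀ Γ : Finset α, Γ.card = m + 1 → ((Γ.powersetCard m).filter P).card = κ := by
    intro Γ hΓ
    obtain ⟨g, rfl⟩ := htr Γ₁ Γ hΓ₁ hΓ
    rw [hinv, hκdef]
  have hdvd := dvd_kappa P hκ hq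
  have hκpos : 0 < κ := by
    rw [hκdef, Finset.card_pos]
    refine ⟨Δ₀, ?_⟩
    rw [mem_filter, mem_powersetCard]
    exact ⟨⟨hΔΓ, hΔ₀⟩, 1, one_smul _ _⟩
  have hκle : κ ≤ m + 1 := by
    rw [hκdef]
    refine (Finset.card_filter_le _ _).trans ?_
    rw [card_powersetCard, hΓ₁]
    simp
  have hκeq : κ = m + 1 := le_antisymm hκle (Nat.le_of_dvd hκpos hdvd)
  -- every m-set has property P
  have hall : ∀ Δ : Finset α, Δ.card = m → P Δ := by
    intro Δ hΔ
    obtain ⟨Γ, hΔΓ', -, hΓ⟩ := Finset.exists_subsuperset_card_eq (s := Δ) (t := univ)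
      (n := m + 1) (subset_univ _) (by omega) (by simp; omega)
    have h1 := hκ Γ hΓ
    have h2 : (Γ.powersetCard m).card = m + 1 := by
      rw [card_powersetCard, hΓ]; simp
    have h3 : ((Γ.powersetCard m).filter P).card = (Γ.powersetCard m).card := by
      rw [h1, h2, hκeq]
    rw [Finset.card_filter_eq_iff] at h3
    exact h3 Δ (mem_powersetCard.mpr ⟨hΔΓ', hΔ⟩)
  refine ⟨fun x y => ?_⟩
  obtain ⟨g₁, hg₁⟩ := hall x.1 x.2
  obtain ⟨g₂, hg₂⟩ := hall y.1 y.2
  refine ⟨g₂ * g₁⁻¹, ?_⟩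
  apply Subtype.ext
  refine (Set.powersetCard.coe_smul (g := g₂ * g₁⁻¹) (s := x)).trans ?_
  rw [← hg₁, ← hg₂, mul_smul, inv_smul_smul]

end Cfsg.Agent.Helper16.KHomog
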