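import Mathlib
import Cfsg.Agent.Helper27.LChDefs

/-! S0406 piece Q7 (counting assembly), hypothesis form `main_count_of`: the pieces Q1, Q3+Q4, Q5c,
Q6 enter as hypotheses. -/

set_option autoImplicit false

namespace Cfsg.Agent.Helper16.LCh

open Cfsg Matrix
open Cfsg.Agent.Helper27.LCh

variable {L : AddSubgroup (Fin 24 → ℤ)}

/-- counting assembly from the pieces (as hypotheses):
`hpar` = Q1, `hdim` = Q3 + Q4, `heven` = Q5c, `hodd` = Q6. -/
theorem main_count_of (hL : Lat L)
    (hpar : ∀ v ∈ L, ∀ i j : Fin 24, (2 : ℤ) ∣ v i - v j)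
    (hdim : Module.finrank (ZMod 2) (code L) ≤ 12)
    (heven : {v | v ∈ L ∧ v ⬝ᵥ v = 32 ∧ ∀ i, Even (v i)}.ncard ≤ 98256)
    (hodd : {v | v ∈ L ∧ v ⬝ᵥ v = 32 ∧ ∀ i, Odd (v i)}.ncard ≤ 24 * Nat.card (code L)) :
    Module.finrank (ZMod 2) (code L) = 12 ∧ ∃ v ∈ L, ∀ i, Odd (v i) := by
  classical
  set S : Set (Fin 24 → ℤ) := {v | v ∈ L ∧ v ⬝ᵥ v = 32} with hS
  set Se : Set (Fin 24 → ℤ) := {v | v ∈ L ∧ v ⬝ᵥ v = 32 ∧ ∀ i, Even (v i)} with hSe
  set So : Set (Fin 24 → ℤ) := {v | v ∈ L ∧ v ⬝ᵥ v = 32 ∧ ∀ i, Odd (v i)} with hSo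
  have hcount : S.ncard = 196560 := hL.count4
  have hsub : S ⊆ Se ∪ So := by
    rintro v ⟨hv, hn⟩
    rcases Int.even_or_odd (v 0) with h0 | h0
    · left
      refine ⟨hv, hn, fun i => ?_⟩
      have := hpar v hv i 0
      have h2 : Even (v i - v 0) := (even_iff_two_dvd).mpr this
      have : v i = (v i - v 0) + v 0 := by ring
      rw [this]; exact h2.add h0
    · right
      refine ⟨hv, hn, fun i => ?_⟩
      have := hpar v hv i 0
      have h2 : Even (v i - v 0) := (even_iff_two_dvd).mpr this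
      have : v i = (v i - v 0) + v 0 := by ring
      rw [this]; exact h2.add_odd h0
  have hSfin : S.Finite := by
    apply Set.finite_of_ncard_ne_zero
    rw [hcount]; norm_num
  have hSefin : Se.Finite := hSfin.subset (fun v hv => ⟨hv.1, hv.2.1⟩)
  have hSofin : So.Finite := hSfin.subset (fun v hv => ⟨hv.1, hv.2.1⟩)
  have h1 : 196560 ≤ Se.ncard + So.ncard := by
    rw [← hcount]
    exact (Set.ncard_le_ncard hsub (hSefin.union hSofin)).trans (Set.ncard_union_le _ _)
  have hcard : Nat.card (code L) = 2 ^ Module.finrank (ZMod 2) (code L) := by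
    rw [Module.natCard_eq_pow_finrank (K := ZMod 2)]
    simp
  have hle : Nat.card (code L) ≤ 4096 := by
    rw [hcard]
    calc 2 ^ Module.finrank (ZMod 2) (code L) ≤ 2 ^ 12 := Nat.pow_le_pow_right (by norm_num) hdim
      _ = 4096 := by norm_num
  constructor
  · by_contra hne
    have hlt : Module.finrank (ZMod 2) (code L) ≤ 11 := by omega
    have : Nat.card (code L) ≤ 2048 := by
      rw [hcard]
      calc 2 ^ Module.finrank (ZMod 2) (code L) ≤ 2 ^ 11 := Nat.pow_le_pow_right (by norm_num) hlt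
        _ = 2048 := by norm_num
    omega
  · by_contra hno
    push Not at hno
    have hempty : So = ∅ := by
      ext v
      simp only [Set.mem_empty_iff_false, iff_false]
      rintro ⟨hv, -, ho⟩
      obtain ⟨i, hi⟩ := hno v hv
      exact hi (ho i)
    have : So.ncard = 0 := by rw [hempty]; exact Set.ncard_empty _
    omega

end Cfsg.Agent.Helper16.LCh
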