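import Mathlib
import Cfsg.Agent.Helper27.LChDefs
import Cfsg.Agent.Helper16.LChQ7
import Cfsg.Agent.Helper18.LChQ3
import Cfsg.Agent.Helper13.LChQ4
import Cfsg.Agent.Helper5.LChQ6
import Cfsg.Agent.Helper1.LChQ5c

/-! S0406 piece Q7: `main_count`. -/

set_option autoImplicit false

namespace Cfsg.Agent.Helper16.LCh

open Cfsg Matrix
open Cfsg.Agent.Helper27.LCh

variable {L : AddSubgroup (Fin 24 → ℤ)}

/-- Q1 (own copy): all coordinates of a lattice vector have the same parity. -/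
theorem parity' (hL : Lat L) {v : Fin 24 → ℤ} (hv : v ∈ L) (i j : Fin 24) : (2 : ℤ) ∣ v i - v j := by
  by_cases hij : i = j
  · subst hij; simp
  · have h := hL.int8 v hv _ (hL.e4p i j hij)
    rw [dotProduct_add, dotProduct_single, dotProduct_single] at h
    omega

theorem main_count_of' (hL : Lat L)
    (heven : {v | v ∈ L ∧ v ⬝ᵥ v = 32 ∧ ∀ i, Even (v i)}.ncard ≤ 98256) :
    Module.finrank (ZMod 2) (code L) = 12 ∧ ∃ v ∈ L, ∀ i, Odd (v i) := by
  refine main_count_of hL (fun v hv i j => parity' hL hv i j) ?_ heven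
    (Cfsg.Agent.Helper5.LCh.odd_count hL)
  apply Cfsg.Agent.Helper13.LCh.finrank_le_of_self_orth
  apply Cfsg.Agent.Helper13.LCh.doubly_even_self_orth
  intro c hc
  by_cases h0 : c = 0
  · subst h0; simp
  · exact (Cfsg.Agent.Helper18.LCh.code_weight hL hc h0).1

/-- Q7 with only Q5b left as a hypothesis. -/
theorem main_count_of_Q5b (hL : Lat L)
    (hQ5b : ∀ O : Finset (Fin 24),
      {v | v ∈ L ∧ ∀ i, (i ∈ O → v i = 2 ∨ v i = -2) ∧ (i ∉ O → v i = 0)}.ncard ≤ 128) :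
    Module.finrank (ZMod 2) (code L) = 12 ∧ ∃ v ∈ L, ∀ i, Odd (v i) :=
  main_count_of' hL (Cfsg.Agent.Helper1.LCh.even_count_of_Q5b hL hQ5b)

end Cfsg.Agent.Helper16.LCh
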