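import Mathlib
import Cfsg.Prelude.Def_Solvable
import Cfsg.Agent.Helper4.McLDefs
import Cfsg.Agent.Helper20.McLDDPART

set_option autoImplicit false

/-! S5075 pieces CLAIMA1 (`claimA_left`) and CLAIMA2 (`claimA_right`). -/

namespace Cfsg.Agent.S5075P

variable {p : ℕ} [Fact p.Prime] {V : Type*} [AddCommGroup V] [Module (ZMod p) V]
variable {G : Subgroup (V ≃ₗ[ZMod p] V)}

/-- a vector of `range π ⊓ ker χ` outside a given line -/
theorem CLAIMA.exists_outside [Finite V] {π : V →ₗ[ZMod p] V} (hidem : π ∘ₗ π = π)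
    (h3 : 3 ≤ Module.finrank (ZMod p) ↥(LinearMap.range π)) (χ : Module.Dual (ZMod p) V)
    (w : V) : ∃ m₁ : V, π m₁ = m₁ ∧ χ m₁ = 0 ∧ m₁ ∉ Submodule.span (ZMod p) {w} := by
  classical
  set M := LinearMap.range π with hM
  set K : Submodule (ZMod p) V := M ⊓ LinearMap.ker χ with hK
  have hKdim : 2 ≤ Module.finrank (ZMod p) K := by
    -- rank-nullity for χ restricted to M
    have h1 := LinearMap.finrank_range_add_finrank_ker (χ.domRestrict M)
    have h2 : Module.finrank (ZMod p) (LinearMap.range (χ.domRestrict M)) ≤ 1 := by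
      calc Module.finrank (ZMod p) (LinearMap.range (χ.domRestrict M))
          ≤ Module.finrank (ZMod p) (ZMod p) := Submodule.finrank_le _
        _ = 1 := Module.finrank_self _
    have h4 : Module.finrank (ZMod p) (LinearMap.ker (χ.domRestrict M)) =
        Module.finrank (ZMod p) K := by
      have : (LinearMap.ker (χ.domRestrict M)).map M.subtype = K := by
        ext x
        constructor
        · rintro ⟨⟨y, hy⟩, hy2, rfl⟩
          exact ⟨hy, hy2⟩
        · rintro ⟨hx1, hx2⟩
          exact ⟨⟨x, hx1⟩, hx2, rfl⟩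
      rw [← this]
      exact (Submodule.finrank_map_subtype_eq _ _).symm
    omega
  have hle : ¬ K ≤ Submodule.span (ZMod p) {w} := by
    intro hle
    have := Submodule.finrank_mono hle
    have h1 : Module.finrank (ZMod p) (Submodule.span (ZMod p) {w}) ≤ 1 := by
      by_cases hw : w = 0
      · subst hw
        rw [Submodule.span_zero_singleton, finrank_bot]
        exact Nat.zero_le _
      · exact (finrank_span_singleton hw).le
    omega
  obtain ⟨m₁, hm₁K, hm₁⟩ := SetLike.not_le_iff_exists.mp hle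
  obtain ⟨⟨y, rfl⟩, hχ⟩ := hm₁K
  refine ⟨π y, ?_, hχ, hm₁⟩
  exact congrArg (fun f : V →ₗ[ZMod p] V => f y) hidem


/-- a functional factoring through `π`, killing `w₀` and not `m₁` -/
theorem CLAIMA.exists_dual [Finite V] {π : V →ₗ[ZMod p] V} (hidem : π ∘ₗ π = π)
    {w₀ m₁ : V} (hm₁ : π m₁ = m₁) (hout : m₁ ∉ Submodule.span (ZMod p) {π w₀}) :
    ∃ f : Module.Dual (ZMod p) V, f ∘ₗ π = f ∧ f (π w₀) = 0 ∧ f m₁ ≠ 0 := by
  classical
  have hπ : ∀ x, π (π x) = π x := fun x => congrArg (fun f : V →ₗ[ZMod p] V => f x) hidem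
  set W : Submodule (ZMod p) V := Submodule.span (ZMod p) {π w₀} ⊔ LinearMap.ker π with hW
  have hnot : m₁ ∉ W := by
    intro hmem
    obtain ⟨a, ha, k, hk, hak⟩ := Submodule.mem_sup.mp hmem
    obtain ⟨c, rfl⟩ := Submodule.mem_span_singleton.mp ha
    apply hout
    have : m₁ = c • π w₀ := by
      have h1 := congrArg π hak
      rw [map_add, map_smul, hπ, LinearMap.mem_ker.mp hk, add_zero, hm₁] at h1
      exact h1.symm
    rw [this]
    exact Submodule.smul_mem _ _ (Submodule.mem_span_singleton_self _)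
  obtain ⟨f, hf1, hf2⟩ := Submodule.exists_dual_map_eq_bot_of_notMem hnot inferInstance
  have hfW : ∀ x ∈ W, f x = 0 := by
    intro x hx
    have : f x ∈ W.map f := Submodule.mem_map_of_mem hx
    rw [hf2] at this
    exact (Submodule.mem_bot _).mp this
  refine ⟨f, ?_, ?_, hf1⟩
  · apply LinearMap.ext
    intro x
    have hx : x - π x ∈ W := by
      apply Submodule.mem_sup_right
      rw [LinearMap.mem_ker, map_sub, hπ, sub_self]
    have := hfW _ hx
    rw [map_sub, sub_eq_zero] at this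
    rw [LinearMap.comp_apply]
    exact this.symm
  · exact hfW _ (Submodule.mem_sup_left (Submodule.mem_span_singleton_self _))


theorem claimA_left [Finite V] {π : V →ₗ[ZMod p] V} (h : SLfull G π)
    (h3 : 3 ≤ Module.finrank (ZMod p) ↥(LinearMap.range π)) {u : V}
    {χ : Module.Dual (ZMod p) V} (hu : InI G u χ) (hχ : χ ∘ₗ π ≠ 0) : u - π u ∈ DD G π := by
  classical
  have hπ : ∀ x, π (π x) = π x := fun x => congrArg (fun f : V →ₗ[ZMod p] V => f x) h.idem
  apply dd_of_partial h h3 (m₀ := π u) (by rw [map_sub, hπ, sub_self]) (hπ u)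
  intro μ hμπ hμ0
  -- Step 1: functionals outside the line of `χ ∘ π`
  have step1 : ∀ ν : Module.Dual (ZMod p) V, ν ∘ₗ π = ν → ν (π u) = 0 →
      (¬ ∃ c : ZMod p, ν = c • (χ ∘ₗ π)) → InI G u ν := by
    intro ν hνπ hν0 hspan
    have hνx : ∀ x, ν (π x) = ν x := fun x =>
      congrArg (fun f : Module.Dual (ZMod p) V => f x) hνπ
    have hνu : ν u = 0 := by rw [← hνx, hν0]
    obtain ⟨m, hm, hνm, hχm⟩ : ∃ m, π m = m ∧ ν m = 0 ∧ χ m ≠ 0 := by
      by_contra hcon
      push Not at hcon
      have hν0' : ν ≠ 0 := by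
        rintro rfl
        exact hspan ⟨0, by rw [zero_smul]⟩
      obtain ⟨x₀, hx₀⟩ : ∃ x, ν x ≠ 0 := by
        by_contra hall
        push Not at hall
        exact hν0' (LinearMap.ext hall)
      have hm₀ : ν (π x₀) ≠ 0 := by rw [hνx]; exact hx₀
      have key : ∀ x, χ (π x) = (χ (π x₀) / ν (π x₀)) * ν x := by
        intro x
        have h1 := hcon (π x - (ν (π x) / ν (π x₀)) • π x₀)
          (by rw [map_sub, map_smul, hπ, hπ])
          (by rw [map_sub, map_smul, smul_eq_mul, div_mul_cancel₀ _ hm₀, sub_self])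
        rw [map_sub, map_smul, smul_eq_mul, sub_eq_zero] at h1
        rw [h1, hνx]
        field_simp
      have hc : χ ∘ₗ π = (χ (π x₀) / ν (π x₀)) • ν := by
        apply LinearMap.ext
        intro x
        rw [LinearMap.comp_apply, key, LinearMap.smul_apply, smul_eq_mul]
      have hc0 : χ (π x₀) / ν (π x₀) ≠ 0 := by
        intro h0
        rw [h0, zero_smul] at hc
        exact hχ hc
      exact hspan ⟨(χ (π x₀) / ν (π x₀))⁻¹, by
        rw [hc, smul_smul, inv_mul_cancel₀ hc0, one_smul]⟩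
    exact hu.lemma1 (h.full m ν hm hνπ hνm) hνu hχm
  -- Step 2: all functionals of `A`
  have step2 : InI G u μ := by
    by_cases hspan : ∃ c : ZMod p, μ = c • (χ ∘ₗ π)
    · obtain ⟨c, hc⟩ := hspan
      obtain ⟨m₁, hm₁, hχm₁, hout⟩ := CLAIMA.exists_outside h.idem h3 χ (π u)
      obtain ⟨f, hfπ, hf0, hfm₁⟩ := CLAIMA.exists_dual h.idem hm₁ hout
      have hfspan : ¬ ∃ c' : ZMod p, f = c' • (χ ∘ₗ π) := by
        rintro ⟨c', hc'⟩
        apply hfm₁
        rw [hc', LinearMap.smul_apply, LinearMap.comp_apply, hm₁, hχm₁, smul_zero]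
      have h1 : InI G u f := step1 f hfπ hf0 hfspan
      have h2 : InI G u (μ - f) := by
        apply step1
        · rw [LinearMap.sub_comp, hμπ, hfπ]
        · rw [LinearMap.sub_apply, hμ0, hf0, sub_zero]
        · rintro ⟨c', hc'⟩
          apply hfspan
          refine ⟨c - c', ?_⟩
          have e : f = c • (χ ∘ₗ π) - c' • (χ ∘ₗ π) := by
            rw [← hc, ← hc']; abel
          rw [e]
          exact (sub_smul c c' (χ ∘ₗ π)).symm
      have := h1.add_right h2
      rwa [add_sub_cancel] at this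
    · exact step1 μ hμπ hμ0 hspan
  exact step2.sub_left (h.full (π u) μ (hπ u) hμπ hμ0)


theorem claimA_right [Finite V] {π : V →ₗ[ZMod p] V} (h : SLfull G π)
    (h3 : 3 ≤ Module.finrank (ZMod p) ↥(LinearMap.range π)) {u : V}
    {χ : Module.Dual (ZMod p) V} (hu : InI G u χ) (hπu : π u ≠ 0) : χ - χ ∘ₗ π ∈ CC G π := by
  classical
  have hπ : ∀ x, π (π x) = π x := fun x => congrArg (fun f : V →ₗ[ZMod p] V => f x) h.idem
  have hχππ : (χ ∘ₗ π) ∘ₗ π = χ ∘ₗ π := by rw [LinearMap.comp_assoc, h.idem]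
  apply cc_of_partial h h3 (μ₀ := χ ∘ₗ π) (by rw [LinearMap.sub_comp, hχππ, sub_self]) hχππ
  intro m hm hχm
  have hχm' : χ m = 0 := by rw [LinearMap.comp_apply, hm] at hχm; exact hχm
  -- Step 1: vectors outside the line of `π u`
  have step1 : ∀ m' : V, π m' = m' → χ m' = 0 → m' ∉ Submodule.span (ZMod p) {π u} →
      InI G m' χ := by
    intro m' hm' hχm'' hout
    have hout' : π u ∉ Submodule.span (ZMod p) {π m'} := by
      rw [hm']
      intro hmem
      obtain ⟨a, ha⟩ := Submodule.mem_span_singleton.mp hmem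
      have ha0 : a ≠ 0 := by
        rintro rfl
        rw [zero_smul] at ha
        exact hπu ha.symm
      apply hout
      rw [Submodule.mem_span_singleton]
      exact ⟨a⁻¹, by rw [← ha, smul_smul, inv_mul_cancel₀ ha0, one_smul]⟩
    obtain ⟨μ, hμπ, hμ0, hμu⟩ := CLAIMA.exists_dual h.idem (w₀ := m') (m₁ := π u) (hπ u) hout'
    rw [hm'] at hμ0
    have hμu' : μ u ≠ 0 := by
      have : μ (π u) = μ u := congrArg (fun f : Module.Dual (ZMod p) V => f u) hμπ
      rwa [this] at hμu
    exact (h.full m' μ hm' hμπ hμ0).lemma1 hu hχm'' hμu'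
  -- Step 2: all vectors of `A'`
  have step2 : InI G m χ := by
    by_cases hspan : m ∈ Submodule.span (ZMod p) {π u}
    · obtain ⟨m₁, hm₁, hχm₁, hout⟩ := CLAIMA.exists_outside h.idem h3 χ (π u)
      have h1 : InI G m₁ χ := step1 m₁ hm₁ hχm₁ hout
      have h2 : InI G (m - m₁) χ := by
        apply step1
        · rw [map_sub, hm, hm₁]
        · rw [map_sub, hχm', hχm₁, sub_zero]
        · intro hmem
          apply hout
          have := Submodule.sub_mem _ hspan hmem
          rwa [sub_sub_cancel] at this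
      have := h1.add_left h2
      rwa [add_sub_cancel] at this
    · exact step1 m hm hχm' hspan
  exact step2.sub_right (h.full m (χ ∘ₗ π) hm hχππ hχm)

end Cfsg.Agent.S5075P
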