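import Mathlib

set_option autoImplicit false

namespace Cfsg.Agent.Helper16.OPG

/-- Generic criterion: a graph in which any two distinct non-adjacent vertices have a common
neighbour and which has some pair of distinct non-adjacent vertices is connected of diameter 2. -/
theorem connected_diam_two {α : Type*} (G : SimpleGraph α)
    (h1 : ∀ u v : α, u ≠ v → ¬ G.Adj u v → ∃ w, G.Adj u w ∧ G.Adj w v)
    (h2 : ∃ u v : α, u ≠ v ∧ ¬ G.Adj u v) :
    G.Connected ∧ G.diam = 2 := by
  obtain ⟨a, b, hab, hnadj⟩ := h2
  have hreach : ∀ u v : α, G.Reachable u v := by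
    intro u v
    by_cases huv : u = v
    · subst huv; exact SimpleGraph.Reachable.refl _
    · by_cases hadj : G.Adj u v
      · exact hadj.reachable
      · obtain ⟨w, h1w, h2w⟩ := h1 u v huv hadj
        exact h1w.reachable.trans h2w.reachable
  have hconn : G.Connected := { preconnected := hreach, nonempty := ⟨a⟩ }
  refine ⟨hconn, ?_⟩
  have hdist : ∀ u v : α, G.edist u v ≤ 2 := by
    intro u v
    by_cases huv : u = v
    · subst huv; simp
    · by_cases hadj : G.Adj u v
      · have : G.edist u v = 1 := SimpleGraph.edist_eq_one_iff_adj.mpr hadj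
        rw [this]; norm_num
      · obtain ⟨w, h1w, h2w⟩ := h1 u v huv hadj
        have e1 : G.edist u w = 1 := SimpleGraph.edist_eq_one_iff_adj.mpr h1w
        have e2 : G.edist w v = 1 := SimpleGraph.edist_eq_one_iff_adj.mpr h2w
        calc G.edist u v ≤ G.edist u w + G.edist w v := SimpleGraph.edist_triangle
          _ = 2 := by rw [e1, e2]; norm_num
  have hle : G.ediam ≤ 2 := SimpleGraph.ediam_le_of_edist_le hdist
  have hge : (2 : ℕ∞) ≤ G.ediam := by
    have h0 : G.edist a b ≠ 0 := by
      rw [Ne, SimpleGraph.edist_eq_zero_iff]; exact hab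
    have h1' : G.edist a b ≠ 1 := by
      rw [Ne, SimpleGraph.edist_eq_one_iff_adj]; exact hnadj
    have h2' : (2 : ℕ∞) ≤ G.edist a b := by
      have hne : G.edist a b ≠ ⊤ := ne_top_of_le_ne_top (by norm_num) (hdist a b)
      obtain ⟨n, hn⟩ := ENat.ne_top_iff_exists.mp hne
      rw [← hn] at h0 h1' ⊢
      have : n ≠ 0 := by intro h; apply h0; simp [h]
      have : n ≠ 1 := by intro h; apply h1'; simp [h]
      have : 2 ≤ n := by omega
      exact_mod_cast this
    exact h2'.trans SimpleGraph.edist_le_ediam
  have : G.ediam = 2 := le_antisymm hle hge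
  rw [SimpleGraph.diam, this]; rfl

end Cfsg.Agent.Helper16.OPG
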