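import Mathlib
import Cfsg.Prelude.Def_GeometricClasses
import Cfsg.Agent.Helper28.OrthSim3
import Cfsg.Agent.Helper8.OS6Defs

/-! # os6 piece SPADD (driver helper8): `Phi` is an additive subgroup -/

set_option autoImplicit false

namespace Cfsg.Agent.OS6P

open Matrix Module Cfsg.Agent.Helper28.Sg Cfsg.Agent.Helper28.Spin Cfsg.Agent.Helper28.SLMax
  Cfsg.Agent.Helper28.SimMax Cfsg.Agent.Helper28.OSim

variable {F : Type*} [Field F] {n : ℕ} {Q : QuadraticForm F (Fin n → F)}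

theorem SPADD.zero (M : Subgroup (Matrix.GeneralLinearGroup (Fin n) F)) (e : Fin n → F) :
    (0 : Fin n → F) ∈ Phi Q M e := by
  refine ⟨?_, ?_⟩
  · show QuadraticMap.polar ⇑Q e 0 = 0
    simp
  · rw [pv_zero, E_zero_right]
    exact one_mem_MS M

theorem SPADD.add {M : Subgroup (Matrix.GeneralLinearGroup (Fin n) F)} {e c c' : Fin n → F}
    (hc : c ∈ Phi Q M e) (hc' : c' ∈ Phi Q M e) : c + c' ∈ Phi Q M e := by
  refine ⟨?_, ?_⟩
  · exact B_add_right_zero Q hc.1 hc'.1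
  · rw [pv_add, ← E_mul_E e _ _ (by rw [pv_dot, B_comm]; exact hc.1)]
    exact MS_mul hc.2 hc'.2

theorem SPADD.neg {M : Subgroup (Matrix.GeneralLinearGroup (Fin n) F)} {e c : Fin n → F}
    (hc : c ∈ Phi Q M e) : -c ∈ Phi Q M e := by
  refine ⟨?_, ?_⟩
  · rw [B_neg_right, hc.1, neg_zero]
  · apply MS_inv' hc.2
    rw [E_mul_E e _ _ (by rw [pv_dot, B_comm]; exact hc.1), pv_neg, add_neg_cancel, E_zero_right]

theorem SPADD.sub {M : Subgroup (Matrix.GeneralLinearGroup (Fin n) F)} {e c c' : Fin n → F}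
    (hc : c ∈ Phi Q M e) (hc' : c' ∈ Phi Q M e) : c - c' ∈ Phi Q M e := by
  rw [sub_eq_add_neg]
  exact SPADD.add hc (SPADD.neg hc')

end Cfsg.Agent.OS6P
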