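import Mathlib
import Cfsg.Prelude.Def_GeometricClasses
import Cfsg.Agent.Helper28.OrthSim3
import Cfsg.Agent.Helper8.OS6Defs
import Cfsg.Agent.Helper16.OS6SPADD

/-! # os6 piece SPREFL (driver helper8): `Phi` is invariant under reflections `r_z`, `z ⊥ e` -/

set_option autoImplicit false

namespace Cfsg.Agent.OS6P

open Matrix Module Cfsg.Agent.Helper28.Sg Cfsg.Agent.Helper28.Spin Cfsg.Agent.Helper28.SLMax
  Cfsg.Agent.Helper28.SimMax Cfsg.Agent.Helper28.OSim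

variable {F : Type*} [Field F] {n : ℕ} {Q : QuadraticForm F (Fin n → F)}

theorem SPREFL.main {M : Subgroup (Matrix.GeneralLinearGroup (Fin n) F)}
    (hHM : Cfsg.Geo.quadSimilarityGroup (⇑Q) ⊓ SL n F ≤ M) {e z c : Fin n → F}
    (he : Q e ≠ 0) (hz : Q z ≠ 0) (hez : B Q e z = 0) (hc : c ∈ Phi Q M e) :
    Cfsg.reflectionMatrix ⇑Q z *ᵥ c ∈ Phi Q M e := by
  obtain ⟨A, hAdef⟩ : ∃ A : Matrix (Fin n) (Fin n) F,
      A = Cfsg.reflectionMatrix ⇑Q z * Cfsg.reflectionMatrix ⇑Q e := ⟨_, rfl⟩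
  have hAmul : ∀ x, A *ᵥ x = Cfsg.reflectionMatrix ⇑Q z *ᵥ (Cfsg.reflectionMatrix ⇑Q e *ᵥ x) := by
    intro x
    rw [hAdef, Matrix.mulVec_mulVec]
  have hAiso : ∀ x, Q (A *ᵥ x) = Q x := by
    intro x
    rw [hAmul, Cfsg.Agent.Helper28.refl_pres Q hz, Cfsg.Agent.Helper28.refl_pres Q he]
  have hAdet : A.det = 1 := by
    rw [hAdef, Matrix.det_mul, Cfsg.Agent.Helper28.refl_det Q hz, Cfsg.Agent.Helper28.refl_det Q he]
    ring
  have hze : QuadraticMap.polar ⇑Q z e = 0 := by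
    have := hez
    rw [B_comm] at this
    exact this
  have hAe : A *ᵥ e = -e := by
    rw [hAmul, Cfsg.Agent.Helper28.refl_self Q he, Matrix.mulVec_neg,
      Cfsg.Agent.Helper28.refl_fix Q hz hze]
  have hAc : A *ᵥ c = Cfsg.reflectionMatrix ⇑Q z *ᵥ c := by
    rw [hAmul, Cfsg.Agent.Helper28.refl_fix Q he hc.1]
  obtain ⟨g, hgM, hgA⟩ := mem_of_isom M hHM A hAiso hAdet
  have h1 := MS_conj g hgM hc.2
  rw [conj_isom g (by rw [hgA]; exact hAiso), hgA, hAe, hAc] at h1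
  have h2 : E (-e) (pv Q (Cfsg.reflectionMatrix ⇑Q z *ᵥ c)) =
      E e (pv Q (-(Cfsg.reflectionMatrix ⇑Q z *ᵥ c))) := by
    have := E_smul_left (-1 : F) e (pv Q (Cfsg.reflectionMatrix ⇑Q z *ᵥ c))
    rw [neg_one_smul, neg_one_smul] at this
    rw [this, pv_neg]
  rw [h2] at h1
  have hperp : B Q e (Cfsg.reflectionMatrix ⇑Q z *ᵥ c) = 0 := by
    rw [Cfsg.Agent.Helper28.reflectionMatrix_mulVec]
    show QuadraticMap.polar ⇑Q e (c - _ • z) = 0
    rw [QuadraticMap.polar_sub_right, QuadraticMap.polar_smul_right]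
    have h3 : QuadraticMap.polar ⇑Q e c = 0 := hc.1
    have h4 : QuadraticMap.polar ⇑Q e z = 0 := hez
    rw [h3, h4, smul_zero, sub_zero]
  have hneg : -(Cfsg.reflectionMatrix ⇑Q z *ᵥ c) ∈ Phi Q M e :=
    ⟨by rw [B_neg_right, hperp, neg_zero], h1⟩
  have := SPADD.neg hneg
  rwa [neg_neg] at this

end Cfsg.Agent.OS6P
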