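import Mathlib
import Cfsg.Agent.Helper16.CentSub
import Cfsg.Agent.Helper18.DihFusion
import Cfsg.Agent.Helper2.QuaternionLift
import Cfsg.Agent.S1203
import Cfsg.Agent.S1204
import Cfsg.Agent.S1205
import Cfsg.Agent.S1206
import Cfsg.Agent.S1207

set_option autoImplicit false

/-! Quasi-dihedral Sylow 2-subgroups, no subgroup of index 2: the centralizer of an involution
(towards S1213). -/

namespace Cfsg.Agent.Helper16.QDCent

open Cfsg.Agent.Helper18.QD Cfsg.Agent.Helper16.CentSub Cfsg.Agent.Helper2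

section abstract

variable {S : Type*} [Group S] [Finite S] (D : QDData S)

theorem central_invol_eq_z (s : S) (hs : ∀ t : S, t * s = s * t) (h1 : s ≠ 1) : s = D.z := by
  rcases D.exists_rep s with ⟨i, rfl⟩ | ⟨i, rfl⟩
  · have h2 := hs D.y
    rw [D.y_mul_r, ← D.sr_eq, ← D.sr_eq, D.sr_inj] at h2
    have h3 : 2 * i = 0 := by
      apply two_mul_eq_zero_of_mul D.hn
      unfold QDData.k at h2
      linear_combination -h2
    rcases (two_mul_eq_zero_iff D.hn1 i).mp h3 with rfl | rfl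
    · exact absurd D.r_zero h1
    · rfl
  · exfalso
    have h2 := hs (D.r 1)
    rw [D.r_mul_sr, D.sr_mul_r, D.sr_inj] at h2
    apply D.k_ne_one
    linear_combination -h2

theorem sq_of_order_four (s : S) (h : orderOf s = 4) : s ^ 2 = D.z := by
  rcases (D.order_four_iff s).mp h with rfl | rfl | ⟨j, rfl⟩
  · rw [D.r_sq, two_mul_qq D.hn2]; rfl
  · rw [D.r_sq]
    have e : 2 * - qq D.n = hh D.n := by
      have h1 := two_mul_qq (n := D.n) D.hn2
      have h2 := neg_hh (n := D.n) D.hn1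
      linear_combination -h1 + h2
    rw [e]; rfl
  · exact D.sr_odd_sq j

theorem exists_quat (D : QDData S) : ∃ f : QuaternionGroup 2 →* S, Function.Injective f := by
  have ha : D.r (qq D.n) ^ (2 * 2) = 1 := by
    rw [← D.r_natCast_mul, D.r_eq_one_iff]
    have := four_mul_qq (n := D.n) D.hn2
    push_cast; linear_combination this
  have hb : D.sr 1 * D.sr 1 = D.r (qq D.n) ^ 2 := by
    rw [D.sr_mul_self, ← D.r_natCast_mul]
    congr 1
    have := two_mul_qq (n := D.n) D.hn2
    push_cast; linear_combination -this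
  have hab : D.sr 1 * D.r (qq D.n) * (D.sr 1)⁻¹ = (D.r (qq D.n))⁻¹ := by
    rw [D.sr_conj_r, D.r_inv]
    congr 1
    unfold QDData.k
    have := qq_mul_hh (n := D.n) D.hn
    linear_combination this
  have hord : orderOf (D.r (qq D.n)) = 2 * 2 := (D.order_four_iff _).mpr (Or.inl rfl)
  have hsq : D.r (qq D.n) ^ 2 ≠ 1 := by
    rw [sq_of_order_four D _ hord]; exact D.z_ne_one
  exact ⟨_, QLift.quaternionLift_injective 2 _ _ ha hb hab hord
    (QLift.not_mem_zpowers_of_sq_ne _ _ hab hsq)⟩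

end abstract

theorem q8_invol_unique : ∀ g h : QuaternionGroup 2, g ^ 2 = 1 → g ≠ 1 → h ^ 2 = 1 → h ≠ 1 →
    g = h := by decide

section main

variable {G : Type*} [Group G] [Finite G] (S : Sylow 2 G)

theorem exists_TQ (D : QDData (S : Subgroup G)) :
    ∃ T Q : Subgroup G, IsKleinFour T ∧ T ≤ S ∧ Q ≤ S ∧ Nonempty (Q ≃* QuaternionGroup 2) := by
  obtain ⟨f, hf⟩ := exists_quat D
  obtain ⟨zG, hzG⟩ : ∃ zG : G, zG = ((D.z : (S : Subgroup G)) : G) := ⟨_, rfl⟩
  obtain ⟨yG, hyG⟩ : ∃ yG : G, yG = ((D.y : (S : Subgroup G)) : G) := ⟨_, rfl⟩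
  have hz2 : zG * zG = 1 := by
    have := congrArg Subtype.val D.z_mul_z
    rw [hzG]; simpa using this
  have hy2 : yG * yG = 1 := by
    have := congrArg Subtype.val D.y_mul_y
    rw [hyG]; simpa using this
  have hzy : zG * yG = yG * zG := by
    have := congrArg Subtype.val (D.z_central D.y)
    rw [hzG, hyG]; simpa using this
  have hz1 : zG ≠ 1 := by
    rw [hzG]; intro h
    exact D.z_ne_one (Subtype.ext h)
  have hy1 : yG ≠ 1 := by
    rw [hyG]; intro h
    exact D.y_ne_one (Subtype.ext h)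
  have hne : zG ≠ yG := by
    rw [hzG, hyG]; intro h
    exact D.y_not_mem (hh D.n) (Subtype.ext h).symm
  have hzS : zG ∈ (S : Subgroup G) := by rw [hzG]; exact (D.z).2
  have hyS : yG ∈ (S : Subgroup G) := by rw [hyG]; exact (D.y).2
  obtain ⟨g, hgdef⟩ : ∃ g : QuaternionGroup 2 →* G, g = (S : Subgroup G).subtype.comp f := ⟨_, rfl⟩
  have hg : Function.Injective g := by
    rw [hgdef]; exact (Subgroup.subtype_injective _).comp hf
  refine ⟨Cfsg.Agent.Helper18.DihFusion.kleinSub zG yG hz2 hy2 hzy, g.range,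
    Cfsg.Agent.Helper18.DihFusion.kleinSub_isKleinFour hz2 hy2 hzy hz1 hy1 hne, ?_, ?_,
    ⟨(MonoidHom.ofInjective hg).symm⟩⟩
  · intro v hv
    rcases (Cfsg.Agent.Helper18.DihFusion.mem_kleinSub hz2 hy2 hzy v).mp hv with
      rfl | rfl | rfl | rfl
    · exact Subgroup.one_mem _
    · exact hzS
    · exact hyS
    · exact Subgroup.mul_mem _ hzS hyS
  · rintro _ ⟨q, rfl⟩
    rw [hgdef]
    exact (f q).2

/-- Without subgroups of index 2, both local indices are 6. -/
theorem qd_indices (hS : Cfsg.IsQuasiDihedral (S : Subgroup G))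
    (hG : ∀ H : Subgroup G, H.index ≠ 2) :
    ∃ T Q : Subgroup G, IsKleinFour T ∧ T ≤ S ∧ Q ≤ S ∧ Nonempty (Q ≃* QuaternionGroup 2) ∧
      (Subgroup.centralizer (T : Set G)).relIndex (Subgroup.normalizer (T : Set G)) = 6 ∧
      (Q ⊔ Subgroup.centralizer (Q : Set G)).relIndex (Subgroup.normalizer (Q : Set G)) = 6 := by
  obtain ⟨D⟩ := exists_qdData hS
  obtain ⟨T, Q, hT, hTS, hQS, ⟨eQ⟩⟩ := exists_TQ S D
  refine ⟨T, Q, hT, hTS, hQS, ⟨eQ⟩, ?_⟩
  obtain ⟨h1, h2⟩ := Cfsg.Agent.S1203.result S hS T hT hTS Q hQS eQ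
  rcases h1 with h1 | h1 <;> rcases h2 with h2 | h2
  · exfalso
    obtain ⟨hc, _⟩ := Cfsg.Agent.S1207.result S hS T hT hTS Q hQS eQ h1 h2
    obtain ⟨H, hH⟩ := exists_index_two_of_complement S (D.n + 1) (by omega) D.card hc
    exact hG H hH
  · exfalso
    obtain ⟨⟨K, _, hK, _⟩, _⟩ := Cfsg.Agent.S1205.result S hS T hT hTS Q hQS eQ h1 h2
    exact hG K hK
  · exfalso
    obtain ⟨⟨K, _, hK, _⟩, _⟩ := Cfsg.Agent.S1206.result S hS T hT hTS Q hQS eQ h1 h2
    exact hG K hK
  · exact ⟨h1, h2⟩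

omit [Finite G] in
theorem exists_ne_in_klein (T : Subgroup G) (hT : IsKleinFour T) (x : G) :
    ∃ t ∈ T, t ≠ 1 ∧ t ≠ x := by
  have h1 : ({1, x} : Set G).ncard < ((T : Set G)).ncard := by
    have h2 : ((T : Set G)).ncard = 4 := by
      rw [← Nat.card_coe_set_eq]; exact hT.card_four
    have h3 : ({1, x} : Set G).ncard ≤ 2 := by
      have := Set.ncard_insert_le (1 : G) ({x} : Set G)
      rw [Set.ncard_singleton] at this
      exact this
    omega
  obtain ⟨t, htT, hts⟩ := Set.exists_mem_notMem_of_ncard_lt_ncard h1 (Set.toFinite _)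
  exact ⟨t, htT, fun h => hts (by rw [h]; simp), fun h => hts (by rw [h]; simp)⟩

/-- The centralizer `C` of a central involution `x` of `S`, in the `(6,6)` situation. -/
theorem qd_central (hS : Cfsg.IsQuasiDihedral (S : Subgroup G))
    (T : Subgroup G) (hT : IsKleinFour T) (hTS : T ≤ S) (Q : Subgroup G) (hQS : Q ≤ S)
    (eQ : Q ≃* QuaternionGroup 2)
    (h₂ : (Q ⊔ Subgroup.centralizer (Q : Set G)).relIndex (Subgroup.normalizer (Q : Set G)) = 6)
    (x : G) (hx : orderOf x = 2) (hxS : x ∈ (S : Subgroup G))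
    (hxc : ∀ s ∈ (S : Subgroup G), s * x = x * s)
    (C : Subgroup G) (hC : ∀ g, g ∈ C ↔ g * x = x * g) (hle : (S : Subgroup G) ≤ C)
    (R : Sylow 2 C) (hR : (R : Subgroup C) = (S : Subgroup G).subgroupOf C) :
    (∃ K : Subgroup C, K.Normal ∧ (∃ a : ℕ, K.index = 2 ^ a) ∧
      (∀ H : Subgroup ↥K, H.index ≠ 2) ∧
      (∀ P : Sylow 2 ↥K, ∃ m : ℕ, 1 ≤ m ∧
        Nonempty ((P : Subgroup ↥K) ≃* QuaternionGroup (2 ^ m)))) ∧
    (∀ Z₀ : Subgroup C,
      Z₀ ≤ ((Subgroup.center (R : Subgroup C)).map (R : Subgroup C).subtype) →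
      Cfsg.IsWeaklyClosed Z₀ (R : Subgroup C)) := by
  obtain ⟨D⟩ := exists_qdData hS
  have hx1 : x ≠ 1 := by
    intro h; rw [h, orderOf_one] at hx; norm_num at hx
  -- `x = z`
  have hxz : (⟨x, hxS⟩ : (S : Subgroup G)) = D.z := by
    apply central_invol_eq_z D
    · intro t; apply Subtype.ext; exact hxc t t.2
    · intro h; exact hx1 (congrArg Subtype.val h)
  -- `x ∈ Q`
  have hxQ : x ∈ Q := by
    obtain ⟨q, hq⟩ : ∃ q : Q, q = eQ.symm (QuaternionGroup.a 1) := ⟨_, rfl⟩
    have hq4 : q ^ 4 = 1 := by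
      apply eQ.injective
      rw [map_pow, map_one]; exact q8_pow_four _
    have hq2 : q ^ 2 ≠ 1 := by
      intro h
      have h1 := congrArg eQ h
      rw [map_pow, map_one, hq, MulEquiv.apply_symm_apply] at h1
      exact q8_gen_facts.1 h1
    have hqS : orderOf (⟨(q : G), hQS q.2⟩ : (S : Subgroup G)) = 4 := by
      rw [orderOf_eq_four_iff]
      constructor
      · apply Subtype.ext
        have := congrArg Subtype.val hq4
        simpa using this
      · intro h
        apply hq2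
        apply Subtype.ext
        have := congrArg Subtype.val h
        simpa using this
    have h3 := sq_of_order_four D _ hqS
    rw [← hxz] at h3
    have h4 : (q : G) ^ 2 = x := by
      have := congrArg Subtype.val h3
      simpa using this
    rw [← h4]
    exact Q.pow_mem q.2 2
  -- the unique involution of `Q`
  have hx' := (Cfsg.Agent.Helper18.QD.orderOf_eq_two_iff x).mp hx
  have huniq : ∀ v ∈ Q, orderOf v = 2 → v = x := by
    intro v hv hv2
    have hv' := (Cfsg.Agent.Helper18.QD.orderOf_eq_two_iff v).mp hv2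
    have h1 : eQ ⟨v, hv⟩ = eQ ⟨x, hxQ⟩ := by
      apply q8_invol_unique
      · rw [← map_pow, ← map_one eQ]; congr 1; apply Subtype.ext; simpa using hv'.1
      · intro h; rw [← map_one eQ] at h
        exact hv'.2 (congrArg Subtype.val (eQ.injective h))
      · rw [← map_pow, ← map_one eQ]; congr 1; apply Subtype.ext; simpa using hx'.1
      · intro h; rw [← map_one eQ] at h
        exact hx'.2 (congrArg Subtype.val (eQ.injective h))
    exact congrArg Subtype.val (eQ.injective h1)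
  have hN : Subgroup.normalizer (Q : Set G) ≤ C := by
    intro g hg
    rw [hC]
    have h1 : g * x * g⁻¹ ∈ Q := (Subgroup.mem_normalizer_iff.mp hg x).mp hxQ
    have h2 : orderOf (g * x * g⁻¹) = 2 := by rw [orderOf_conj' g x]; exact hx
    have h3 := huniq _ h1 h2
    calc g * x = g * x * g⁻¹ * g := by group
      _ = x * g := by rw [h3]
  have hCQ : Subgroup.centralizer (Q : Set G) ≤ C := by
    intro g hg
    rw [hC]
    exact (Subgroup.mem_centralizer_iff.mp hg x hxQ).symm
  have hQC : Q ≤ C := hQS.trans hle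
  -- now inside `C`
  have eR : (R : Subgroup C) ≃* (S : Subgroup G) :=
    (MulEquiv.subgroupCongr hR).trans (Subgroup.subgroupOfEquivOfLe hle)
  have hRqd : Cfsg.IsQuasiDihedral (R : Subgroup C) := isQuasiDihedral_of_equiv eR.symm hS
  have hT' : IsKleinFour (T.subgroupOf C) :=
    isKleinFour_of_equiv (Subgroup.subgroupOfEquivOfLe (hTS.trans hle)).symm hT
  have hT'R : T.subgroupOf C ≤ R := by rw [hR]; exact Subgroup.comap_mono hTS
  have hQ'R : Q.subgroupOf C ≤ R := by rw [hR]; exact Subgroup.comap_mono hQS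
  have eQ' : Q.subgroupOf C ≃* QuaternionGroup 2 := (Subgroup.subgroupOfEquivOfLe hQC).trans eQ
  have h₂' : ((Q.subgroupOf C) ⊔ Subgroup.centralizer ((Q.subgroupOf C : Subgroup C) : Set C)).relIndex
      (Subgroup.normalizer ((Q.subgroupOf C : Subgroup C) : Set C)) = 6 := by
    rw [relIndex_local Q C hQC hN hCQ]; exact h₂
  obtain ⟨h1, -⟩ := Cfsg.Agent.S1203.result R hRqd (T.subgroupOf C) hT' hT'R (Q.subgroupOf C)
    hQ'R eQ'
  have h₁' : (Subgroup.centralizer ((T.subgroupOf C : Subgroup C) : Set C)).relIndex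
      (Subgroup.normalizer ((T.subgroupOf C : Subgroup C) : Set C)) = 2 := by
    rcases h1 with h1 | h1
    · exact h1
    · exfalso
      obtain ⟨-, hone, -⟩ := Cfsg.Agent.S1204.result R hRqd _ hT' hT'R _ hQ'R eQ' h1 h₂'
      obtain ⟨t, htT, ht1, htx⟩ := exists_ne_in_klein T hT x
      have htC : t ∈ C := hle (hTS htT)
      have hxC : x ∈ C := hle hxS
      have ht2 : orderOf (⟨t, htC⟩ : C) = 2 := by
        rw [Cfsg.Agent.Helper18.QD.orderOf_eq_two_iff]
        refine ⟨?_, fun h => ht1 (congrArg Subtype.val h)⟩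
        apply Subtype.ext
        have := congrArg Subtype.val (IsKleinFour.mul_self (⟨t, htT⟩ : T))
        rw [pow_two]
        simpa using this
      have hx2' : orderOf (⟨x, hxC⟩ : C) = 2 := by
        rw [Subgroup.orderOf_mk]; exact hx
      have hconj := isConj_of_card_classes_eq_one hone ⟨x, hxC⟩ ⟨t, htC⟩ hx2' ht2
      have := eq_of_isConj_central (fun g => Subtype.ext ((hC g).mp g.2)) hconj
      exact htx (congrArg Subtype.val this).symm
  obtain ⟨⟨K, hKN, hKi, hKP, hKH⟩, hwc, -, -⟩ :=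
    Cfsg.Agent.S1205.result R hRqd _ hT' hT'R _ hQ'R eQ' h₁' h₂'
  refine ⟨⟨K, hKN, ⟨1, by rw [hKi, pow_one]⟩, hKH, hKP⟩, ?_⟩
  intro Z₀ hZ₀
  obtain ⟨D'⟩ := exists_qdData hRqd
  have hcard : Nat.card ((Subgroup.center (R : Subgroup C)).map (R : Subgroup C).subtype) = 2 := by
    rw [Subgroup.card_map_of_injective (Subgroup.subtype_injective _)]
    exact D'.card_center
  have hdvd : Nat.card Z₀ ∣ 2 := by rw [← hcard]; exact Subgroup.card_dvd_of_le hZ₀
  rcases (Nat.dvd_prime Nat.prime_two).mp hdvd with h | h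
  · have h0 : Z₀ = ⊥ := Subgroup.card_eq_one.mp h
    rw [h0]
    exact ⟨bot_le, fun g _ => by rw [Subgroup.map_bot]⟩
  · have h0 : Z₀ = _ := Subgroup.eq_of_le_of_card_ge hZ₀ (by rw [hcard, h])
    rw [h0]; exact hwc

end main

end Cfsg.Agent.Helper16.QDCent
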