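import Mathlib
import Cfsg.Agent.Helper16.QDFusion4
import Cfsg.Agent.Helper16.Homocyclic
import Cfsg.Agent.Helper18.Wr6

/-!
Fusion in groups with wreathed Sylow 2-subgroups.
-/

set_option autoImplicit false

namespace Cfsg.Agent.Helper16.WrFusion

open Cfsg.Agent.Helper18.Wr
open Cfsg.Agent.Helper18.QD (hh qq two_mul_hh hh_ne_zero two_mul_eq_zero_iff neg_hh two_mul_qq
  qq_add_hh two_mul_eq_two_mul_iff even_or_odd hh_mul_odd hh_mul_even q8_pow_four
  orderOf_conj' exists_conj_mem_sylow)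
open Cfsg.Agent.Helper16.QDFusion

section struct

variable {S : Type*} [Group S] [Finite S] (D : WrData S)

theorem q8_noncomm : (QuaternionGroup.a 1 : QuaternionGroup 2) * QuaternionGroup.xa 0 ≠
    QuaternionGroup.xa 0 * QuaternionGroup.a 1 := by decide

/-- structure of a quaternion subgroup of order 8 of a wreathed group -/
theorem q8_struct (Y : Subgroup S) (φ : Y ≃* QuaternionGroup 2) :
    D.u (qq D.n) (-qq D.n) ∈ Y ∧ (∃ a, D.uz a (hh D.n - a) ∈ Y) ∧ Y ≤ D.Qg := by
  have hcard : Nat.card Y = 8 := by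
    rw [Nat.card_congr φ.toEquiv, Nat.card_eq_fintype_card, QuaternionGroup.card]
  have hYU : ¬ Y ≤ D.U := by
    intro h
    apply q8_noncomm
    have h1 := D.U_comm _ (h (φ.symm (QuaternionGroup.a 1)).2) _ (h (φ.symm (QuaternionGroup.xa 0)).2)
    have h2 : φ.symm (QuaternionGroup.a 1) * φ.symm (QuaternionGroup.xa 0) =
        φ.symm (QuaternionGroup.xa 0) * φ.symm (QuaternionGroup.a 1) := Subtype.ext h1
    rw [← map_mul, ← map_mul] at h2
    exact φ.symm.injective h2
  have hcardYU : Nat.card ↥(Y ⊓ D.U) = 4 := by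
    have := D.card_inf_U Y hYU
    rw [hcard] at this
    omega
  obtain ⟨d, hdY, hdU, hd2⟩ : ∃ d, d ∈ Y ∧ d ∈ D.U ∧ d ^ 2 ≠ 1 := by
    by_contra hcon
    push Not at hcon
    obtain ⟨ι, hι⟩ : ∃ ι : S, ι = ((φ.symm (QuaternionGroup.a 2) : Y) : S) := ⟨_, rfl⟩
    have hle : Y ⊓ D.U ≤ Subgroup.zpowers ι := by
      rintro v ⟨hvY, hvU⟩
      have h1 := hcon v hvY hvU
      have h2 : (φ ⟨v, hvY⟩) ^ 2 = 1 := by
        rw [← map_pow, ← map_one φ]
        congr 1
        apply Subtype.ext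
        simpa using h1
      rcases q8_unique_invol _ h2 with h | h
      · rw [← map_one φ] at h
        have := congrArg Subtype.val (φ.injective h)
        simp only [Subgroup.coe_one] at this
        rw [this]; exact Subgroup.one_mem _
      · have h3 : (⟨v, hvY⟩ : Y) = φ.symm (QuaternionGroup.a 2) := by
          rw [← h, φ.symm_apply_apply]
        have := congrArg Subtype.val h3
        simp only at this
        rw [this, hι]; exact Subgroup.mem_zpowers _
    have h1 := Subgroup.card_le_of_le hle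
    rw [hcardYU, Nat.card_zpowers] at h1
    have h2 : ι ^ 2 = 1 := by
      have : (QuaternionGroup.a 2 : QuaternionGroup 2) ^ 2 = 1 := by decide
      have h3 := congrArg φ.symm this
      rw [map_pow, map_one] at h3
      have := congrArg Subtype.val h3
      rw [hι]
      simpa using this
    have := orderOf_le_of_pow_eq_one (by norm_num) h2
    omega
  have hK' := qk_of_equiv_q8 Y φ d hdY hd2
  have hnc' : ∃ y ∈ Y, y ∉ Subgroup.zpowers d := by
    obtain ⟨y, hyY, hyU⟩ := SetLike.not_le_iff_exists.mp hYU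
    refine ⟨y, hyY, fun h => hyU ?_⟩
    have : Subgroup.zpowers d ≤ D.U := by rw [Subgroup.zpowers_le]; exact hdU
    exact this h
  have hle : Y ≤ D.Qg := D.le_Qg_of_QK Y d 2 le_rfl hK' hdU hnc'
  refine ⟨?_, ?_, hle⟩
  · obtain ⟨α, β, rfl⟩ := hdU
    have hβ : β = -α := D.u_mem_Qg.mp (hle hdY)
    subst hβ
    have h4 : D.u α (-α) ^ 4 = 1 := by
      have h1 := q8_pow_four (φ ⟨_, hdY⟩)
      rw [← map_pow, ← map_one φ] at h1
      have := congrArg Subtype.val (φ.injective h1)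
      simpa using this
    rw [D.u_pow, D.u_eq_one_iff] at h4
    rw [D.u_sq, Ne, D.u_eq_one_iff] at hd2
    have h2α : 2 * α = hh D.n := by
      have h5 : 2 * (2 * α) = 0 := by
        have := h4.1
        push_cast at this
        linear_combination this
      rcases (two_mul_eq_zero_iff D.hn1 _).mp h5 with h | h
      · exact absurd ⟨h, by linear_combination -h⟩ hd2
      · exact h
    rw [← two_mul_qq D.hn, two_mul_eq_two_mul_iff D.hn1] at h2α
    rcases h2α with rfl | rfl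
    · exact hdY
    · have := Y.inv_mem hdY
      rw [D.u_inv, qq_add_hh D.hn, neg_neg] at this
      exact this
  · obtain ⟨y, hyY, hyU⟩ := SetLike.not_le_iff_exists.mp hYU
    rcases D.exists_rep y with ⟨a, b, rfl⟩ | ⟨a, b, rfl⟩
    · exact absurd (D.u_mem_U a b) hyU
    · refine ⟨a, ?_⟩
      have := D.uz_mem_Qg.mp (hle hyY)
      have hb : b = hh D.n - a := by linear_combination this
      rw [← hb]; exact hyY

end struct

section coords

variable {G : Type*} [Group G] (S : Sylow 2 G) (D : WrData (S : Subgroup G))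

/-- `u a b` as an element of `G` -/
noncomputable def uG (a b : ZMod (2 ^ D.n)) : G := ((D.u a b : (S : Subgroup G)) : G)

/-- `uz a b` as an element of `G` -/
noncomputable def uzG (a b : ZMod (2 ^ D.n)) : G := ((D.uz a b : (S : Subgroup G)) : G)

theorem uG_mem (a b : ZMod (2 ^ D.n)) : uG S D a b ∈ (S : Subgroup G) := (D.u a b).2
theorem uzG_mem (a b : ZMod (2 ^ D.n)) : uzG S D a b ∈ (S : Subgroup G) := (D.uz a b).2

theorem uG_mul_uG (a b c d : ZMod (2 ^ D.n)) :
    uG S D a b * uG S D c d = uG S D (a + c) (b + d) := by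
  unfold uG; rw [← Subgroup.coe_mul, D.u_mul_u]

theorem uG_mul_uzG (a b c d : ZMod (2 ^ D.n)) :
    uG S D a b * uzG S D c d = uzG S D (a + c) (b + d) := by
  unfold uG uzG; rw [← Subgroup.coe_mul, D.u_mul_uz]

theorem uzG_mul_uG (a b c d : ZMod (2 ^ D.n)) :
    uzG S D a b * uG S D c d = uzG S D (a + d) (b + c) := by
  unfold uG uzG; rw [← Subgroup.coe_mul, D.uz_mul_u]

theorem uzG_mul_uzG (a b c d : ZMod (2 ^ D.n)) :
    uzG S D a b * uzG S D c d = uG S D (a + d) (b + c) := by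
  unfold uG uzG; rw [← Subgroup.coe_mul, D.uz_mul_uz]

theorem uG_zero : uG S D 0 0 = 1 := by
  unfold uG; rw [D.u_zero]; rfl

theorem uG_inv (a b : ZMod (2 ^ D.n)) : (uG S D a b)⁻¹ = uG S D (-a) (-b) := by
  unfold uG; rw [← Subgroup.coe_inv, D.u_inv]

theorem uzG_inv (a b : ZMod (2 ^ D.n)) : (uzG S D a b)⁻¹ = uzG S D (-b) (-a) := by
  unfold uzG; rw [← Subgroup.coe_inv, D.uz_inv]

theorem uG_inj {a b c d : ZMod (2 ^ D.n)} : uG S D a b = uG S D c d ↔ a = c ∧ b = d := by
  unfold uG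
  rw [← D.u_inj]
  exact ⟨fun h => Subtype.ext h, fun h => congrArg _ h⟩

theorem uzG_inj {a b c d : ZMod (2 ^ D.n)} : uzG S D a b = uzG S D c d ↔ a = c ∧ b = d := by
  unfold uzG
  rw [← D.uz_inj]
  exact ⟨fun h => Subtype.ext h, fun h => congrArg _ h⟩

theorem uG_ne_uzG (a b c d : ZMod (2 ^ D.n)) : uG S D a b ≠ uzG S D c d := by
  unfold uG uzG
  intro h
  exact D.u_ne_uz a b c d (Subtype.ext h)

theorem uG_eq_one_iff (a b : ZMod (2 ^ D.n)) : uG S D a b = 1 ↔ a = 0 ∧ b = 0 := by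
  rw [← uG_zero S D, uG_inj]

theorem uzG_ne_one (a b : ZMod (2 ^ D.n)) : uzG S D a b ≠ 1 := by
  rw [← uG_zero S D]; exact (uG_ne_uzG S D 0 0 a b).symm

theorem uG_pow (a b : ZMod (2 ^ D.n)) (m : ℕ) : uG S D a b ^ m = uG S D (m * a) (m * b) := by
  unfold uG; rw [← Subgroup.coe_pow, D.u_pow]

theorem uG_comm (a b c d : ZMod (2 ^ D.n)) :
    uG S D a b * uG S D c d = uG S D c d * uG S D a b := by
  rw [uG_mul_uG, uG_mul_uG, add_comm a c, add_comm b d]

theorem uG_conj_uzG (a b c d : ZMod (2 ^ D.n)) :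
    uG S D c d * uzG S D a b * (uG S D c d)⁻¹ = uzG S D (a + c - d) (b + d - c) := by
  rw [uG_inv, uG_mul_uzG, uzG_mul_uG, uzG_inj]
  constructor <;> ring

theorem uzG_conj_uG (a b c d : ZMod (2 ^ D.n)) :
    uzG S D a b * uG S D c d * (uzG S D a b)⁻¹ = uG S D d c := by
  rw [uzG_inv, uzG_mul_uG, uzG_mul_uzG, uG_inj]
  constructor <;> ring

variable [Finite G]

theorem exists_rep (s : G) (hs : s ∈ (S : Subgroup G)) :
    (∃ a b, s = uG S D a b) ∨ (∃ a b, s = uzG S D a b) := by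
  rcases D.exists_rep ⟨s, hs⟩ with ⟨a, b, h⟩ | ⟨a, b, h⟩
  · left; exact ⟨a, b, congrArg Subtype.val h⟩
  · right; exact ⟨a, b, congrArg Subtype.val h⟩

theorem invol_iff (s : G) (hs : s ∈ (S : Subgroup G)) :
    orderOf s = 2 ↔ s = uG S D (hh D.n) 0 ∨ s = uG S D 0 (hh D.n) ∨ s = uG S D (hh D.n) (hh D.n) ∨
      ∃ a, s = uzG S D a (-a) := by
  have h1 : orderOf s = orderOf (⟨s, hs⟩ : (S : Subgroup G)) := (Subgroup.orderOf_mk s hs).symm
  rw [h1, D.invol_iff]
  unfold uG uzG
  constructor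
  · rintro (h | h | h | ⟨a, h⟩)
    · exact Or.inl (congrArg Subtype.val h)
    · exact Or.inr (Or.inl (congrArg Subtype.val h))
    · exact Or.inr (Or.inr (Or.inl (congrArg Subtype.val h)))
    · exact Or.inr (Or.inr (Or.inr ⟨a, congrArg Subtype.val h⟩))
  · rintro (h | h | h | ⟨a, h⟩)
    · exact Or.inl (Subtype.ext h)
    · exact Or.inr (Or.inl (Subtype.ext h))
    · exact Or.inr (Or.inr (Or.inl (Subtype.ext h)))
    · exact Or.inr (Or.inr (Or.inr ⟨a, Subtype.ext h⟩))

/-- `S`-central elements -/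
theorem uG_diag_comm (c : ZMod (2 ^ D.n)) (s : G) (hs : s ∈ (S : Subgroup G)) :
    uG S D c c * s = s * uG S D c c := by
  rcases exists_rep S D s hs with ⟨a, b, rfl⟩ | ⟨a, b, rfl⟩
  · exact uG_comm S D _ _ _ _
  · rw [uG_mul_uzG, uzG_mul_uG, uzG_inj]; constructor <;> ring

omit [Finite G] in
/-- `t' = z t z⁻¹`, and `uz a (-a)` is conjugate to `z` -/
theorem isConj_t_t' : IsConj (uG S D (hh D.n) 0) (uG S D 0 (hh D.n)) := by
  rw [isConj_iff]
  exact ⟨uzG S D 0 0, uzG_conj_uG S D _ _ _ _⟩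

omit [Finite G] in
theorem isConj_uzG (a : ZMod (2 ^ D.n)) : IsConj (uzG S D a (-a)) (uzG S D 0 0) := by
  rw [isConj_iff]
  refine ⟨uG S D (-a) 0, ?_⟩
  rw [uG_conj_uzG, uzG_inj]; constructor <;> ring

end coords

section fusion

variable {G : Type*} [Group G]

/-- an element of odd order cannot swap two distinct elements -/
theorem eq_of_swap {g a b : G} (hodd : Odd (orderOf g)) (h1 : g * a * g⁻¹ = b)
    (h2 : g * b * g⁻¹ = a) : a = b := by
  have h3 : g ^ 2 * a * (g ^ 2)⁻¹ = a := by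
    rw [pow_two]
    calc g * g * a * (g * g)⁻¹ = g * (g * a * g⁻¹) * g⁻¹ := by group
      _ = a := by rw [h1, h2]
  have h4 : Commute (g ^ 2) a := by
    show g ^ 2 * a = a * g ^ 2
    calc g ^ 2 * a = g ^ 2 * a * (g ^ 2)⁻¹ * g ^ 2 := by rw [inv_mul_cancel_right]
      _ = a * g ^ 2 := by rw [h3]
  have h5 : g * a = a * g := commute_of_sq_commute hodd h4
  rw [← h1, h5, mul_inv_cancel_right]

variable [Finite G] (S : Sylow 2 G) (D : WrData (S : Subgroup G))

omit [Finite G] in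
theorem hh_add_hh : hh D.n + hh D.n = 0 := by
  have := two_mul_hh D.hn1
  linear_combination this

/-- involutions of `U` -/
theorem invol_U (a b : ZMod (2 ^ D.n)) (h : orderOf (uG S D a b) = 2) :
    uG S D a b = uG S D (hh D.n) 0 ∨ uG S D a b = uG S D 0 (hh D.n) ∨
      uG S D a b = uG S D (hh D.n) (hh D.n) := by
  rcases (invol_iff S D _ (uG_mem S D a b)).mp h with h | h | h | ⟨c, h⟩
  · exact Or.inl h
  · exact Or.inr (Or.inl h)
  · exact Or.inr (Or.inr h)
  · exact absurd h (uG_ne_uzG S D _ _ _ _)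

/-- involutions outside `U` -/
theorem invol_uzG (a b : ZMod (2 ^ D.n)) (h : orderOf (uzG S D a b) = 2) : b = -a := by
  rcases (invol_iff S D _ (uzG_mem S D a b)).mp h with h | h | h | ⟨c, h⟩
  · exact absurd h.symm (uG_ne_uzG S D _ _ _ _)
  · exact absurd h.symm (uG_ne_uzG S D _ _ _ _)
  · exact absurd h.symm (uG_ne_uzG S D _ _ _ _)
  · obtain ⟨h1, h2⟩ := (uzG_inj S D).mp h
    rw [h2, h1]

theorem orderOf_zeta : orderOf (uG S D (hh D.n) (hh D.n)) = 2 :=
  (invol_iff S D _ (uG_mem S D _ _)).mpr (Or.inr (Or.inr (Or.inl rfl)))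

theorem orderOf_t : orderOf (uG S D (hh D.n) 0) = 2 :=
  (invol_iff S D _ (uG_mem S D _ _)).mpr (Or.inl rfl)

theorem orderOf_t' : orderOf (uG S D 0 (hh D.n)) = 2 :=
  (invol_iff S D _ (uG_mem S D _ _)).mpr (Or.inr (Or.inl rfl))

theorem orderOf_w (p : ZMod (2 ^ D.n)) : orderOf (uzG S D p (-p)) = 2 :=
  (invol_iff S D _ (uzG_mem S D _ _)).mpr (Or.inr (Or.inr (Or.inr ⟨p, rfl⟩)))

omit [Finite G] in
theorem t_ne_t' : uG S D (hh D.n) 0 ≠ uG S D 0 (hh D.n) := by
  intro h
  exact hh_ne_zero D.hn1 ((uG_inj S D).mp h).1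

omit [Finite G] in
theorem t_ne_zeta : uG S D (hh D.n) 0 ≠ uG S D (hh D.n) (hh D.n) := by
  intro h
  exact hh_ne_zero D.hn1 ((uG_inj S D).mp h).2.symm

omit [Finite G] in
theorem zeta_mul_t : uG S D (hh D.n) (hh D.n) * uG S D (hh D.n) 0 = uG S D 0 (hh D.n) := by
  rw [uG_mul_uG, hh_add_hh, add_zero]

omit [Finite G] in
theorem zeta_mul_t' : uG S D (hh D.n) (hh D.n) * uG S D 0 (hh D.n) = uG S D (hh D.n) 0 := by
  rw [uG_mul_uG, hh_add_hh, add_zero]

omit [Finite G] in
theorem uG_pow_two_pow (a b : ZMod (2 ^ D.n)) : uG S D a b ^ 2 ^ D.n = 1 := by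
  rw [uG_pow, uG_eq_one_iff]
  have : ((2 ^ D.n : ℕ) : ZMod (2 ^ D.n)) = 0 := ZMod.natCast_self _
  rw [this, zero_mul, zero_mul]
  exact ⟨rfl, rfl⟩

omit [Finite G] in
/-- elements of `U` of order at most `2` -/
theorem sq_eq_one_U (a b : ZMod (2 ^ D.n)) (h : uG S D a b ^ 2 = 1) :
    (a = 0 ∨ a = hh D.n) ∧ (b = 0 ∨ b = hh D.n) := by
  rw [uG_pow, uG_eq_one_iff] at h
  push_cast at h
  exact ⟨(two_mul_eq_zero_iff D.hn1 a).mp h.1, (two_mul_eq_zero_iff D.hn1 b).mp h.2⟩

/-- fusion in `N(U)`: if `3 ∣ |N(U) : C(U)|`, the central involution is fused to `t` or `t'`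
by an element of `N(U)`. -/
theorem fusion_U (U : Subgroup G) (hU : ∀ x, x ∈ U ↔ ∃ a b, x = uG S D a b)
    (h3 : 3 ∣ (Subgroup.centralizer (U : Set G)).relIndex (Subgroup.normalizer (U : Set G))) :
    ∃ g ∈ Subgroup.normalizer (U : Set G),
      g * uG S D (hh D.n) (hh D.n) * g⁻¹ = uG S D (hh D.n) 0 ∨
      g * uG S D (hh D.n) (hh D.n) * g⁻¹ = uG S D 0 (hh D.n) := by
  obtain ⟨g, hgN, hgC, hodd⟩ := exists_odd_not_mem _ _ h3
  refine ⟨g, hgN, ?_⟩
  by_contra hcon
  push Not at hcon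
  apply hgC
  have hconjU : ∀ a b, ∃ a' b', g * uG S D a b * g⁻¹ = uG S D a' b' := by
    intro a b
    exact (hU _).mp (conj_mem_of_mem_normalizer hgN ((hU _).mpr ⟨a, b, rfl⟩))
  have hζ : g * uG S D (hh D.n) (hh D.n) * g⁻¹ = uG S D (hh D.n) (hh D.n) := by
    obtain ⟨a', b', h⟩ := hconjU (hh D.n) (hh D.n)
    have hord : orderOf (uG S D a' b') = 2 := by rw [← h, orderOf_conj', orderOf_zeta]
    rw [h] at hcon ⊢
    rcases invol_U S D a' b' hord with h' | h' | h'
    · exact absurd h' hcon.1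
    · exact absurd h' hcon.2
    · exact h'
  have ht : g * uG S D (hh D.n) 0 * g⁻¹ = uG S D (hh D.n) 0 := by
    obtain ⟨a', b', h⟩ := hconjU (hh D.n) 0
    have hord : orderOf (uG S D a' b') = 2 := by rw [← h, orderOf_conj', orderOf_t]
    rcases invol_U S D a' b' hord with h' | h' | h'
    · rw [h, h']
    · exfalso
      rw [h'] at h
      have h2 : g * uG S D 0 (hh D.n) * g⁻¹ = uG S D (hh D.n) 0 := by
        rw [← zeta_mul_t, ← conj_mul, hζ, h, zeta_mul_t']
      exact t_ne_t' S D (eq_of_swap hodd h h2)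
    · exfalso
      rw [h', ← hζ] at h
      exact t_ne_zeta S D (conj_inj h)
  have ht' : g * uG S D 0 (hh D.n) * g⁻¹ = uG S D 0 (hh D.n) := by
    rw [← zeta_mul_t, ← conj_mul, hζ, ht]
  have hab : ∀ a ∈ U, ∀ b ∈ U, a * b = b * a := by
    intro a ha b hb
    obtain ⟨a1, a2, rfl⟩ := (hU _).mp ha
    obtain ⟨b1, b2, rfl⟩ := (hU _).mp hb
    exact uG_comm S D _ _ _ _
  have key := Cfsg.Agent.Helper16.Homocyclic.conj_trivial_of_trivial_on_invol U hab g
    (fun x hx => conj_mem_of_mem_normalizer hgN hx) (orderOf g) hodd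
    (fun x _ => by rw [pow_orderOf_eq_one]; simp)
    (by
      intro x hx hx2
      obtain ⟨a, b, rfl⟩ := (hU _).mp hx
      obtain ⟨ha, hb⟩ := sq_eq_one_U S D a b hx2
      rcases ha with rfl | rfl <;> rcases hb with rfl | rfl
      · rw [uG_zero]; simp
      · exact ht'
      · exact ht
      · exact hζ)
  rw [Subgroup.mem_centralizer_iff]
  intro x hx
  obtain ⟨a, b, rfl⟩ := (hU _).mp hx
  have := key D.n _ ((hU _).mpr ⟨a, b, rfl⟩) (uG_pow_two_pow S D a b)
  calc uG S D a b * g = g * uG S D a b * g⁻¹ * g := by rw [this]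
    _ = g * uG S D a b := by rw [inv_mul_cancel_right]

/-- the shape of the elements of `V = Q Z(S)` -/
def VP (p : ZMod (2 ^ D.n)) (v : G) : Prop :=
  (∃ a b, v = uG S D a b ∧ 2 * (a - b) = 0) ∨
    (∃ a b, v = uzG S D a b ∧ 2 * (a - b - 2 * p) = 0)

/-- the subgroup of all elements of that shape -/
def VW (p : ZMod (2 ^ D.n)) : Subgroup G where
  carrier := {v | VP S D p v}
  one_mem' := Or.inl ⟨0, 0, (uG_zero S D).symm, by ring⟩
  mul_mem' := by
    rintro x y (⟨a, b, rfl, h1⟩ | ⟨a, b, rfl, h1⟩) (⟨c, d, rfl, h2⟩ | ⟨c, d, rfl, h2⟩)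
    · exact Or.inl ⟨_, _, uG_mul_uG S D _ _ _ _, by linear_combination h1 + h2⟩
    · exact Or.inr ⟨_, _, uG_mul_uzG S D _ _ _ _, by linear_combination h1 + h2⟩
    · exact Or.inr ⟨_, _, uzG_mul_uG S D _ _ _ _, by linear_combination h1 - h2⟩
    · exact Or.inl ⟨_, _, uzG_mul_uzG S D _ _ _ _, by linear_combination h1 - h2⟩
  inv_mem' := by
    rintro x (⟨a, b, rfl, h1⟩ | ⟨a, b, rfl, h1⟩)
    · exact Or.inl ⟨_, _, uG_inv S D _ _, by linear_combination -h1⟩
    · exact Or.inr ⟨_, _, uzG_inv S D _ _, by linear_combination h1⟩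

omit [Finite G] in
theorem mem_VW (p : ZMod (2 ^ D.n)) (v : G) : v ∈ VW S D p ↔ VP S D p v := Iff.rfl

theorem mem_Zc (x : G) :
    x ∈ (Subgroup.center (S : Subgroup G)).map (S : Subgroup G).subtype ↔
      ∃ c, x = uG S D c c := by
  constructor
  · rintro ⟨s, hs, rfl⟩
    obtain ⟨c, hc⟩ := (D.mem_center_iff s).mp hs
    exact ⟨c, congrArg Subtype.val hc⟩
  · rintro ⟨c, rfl⟩
    exact ⟨D.u c c, (D.mem_center_iff _).mpr ⟨c, rfl⟩, rfl⟩

/-- structure of `V = Q Z(S)` -/
theorem V_struct (Q : Subgroup G) (hQS : Q ≤ S) (eQ : Q ≃* QuaternionGroup 2) :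
    ∃ p, uzG S D p (-p) ∈ Q ⊔ (Subgroup.center (S : Subgroup G)).map (S : Subgroup G).subtype ∧
      uG S D (hh D.n) 0 ∈ Q ⊔ (Subgroup.center (S : Subgroup G)).map (S : Subgroup G).subtype ∧
      Q ⊔ (Subgroup.center (S : Subgroup G)).map (S : Subgroup G).subtype ≤ VW S D p := by
  obtain ⟨φ⟩ : Nonempty (↥(Q.subgroupOf (S : Subgroup G)) ≃* QuaternionGroup 2) :=
    ⟨(Subgroup.subgroupOfEquivOfLe hQS).trans eQ⟩
  obtain ⟨hi, ⟨a₀, hj⟩, hle⟩ := q8_struct D _ φ
  have hiQ : uG S D (qq D.n) (-qq D.n) ∈ Q := Subgroup.mem_subgroupOf.mp hi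
  have hjQ : uzG S D a₀ (hh D.n - a₀) ∈ Q := Subgroup.mem_subgroupOf.mp hj
  have hZ : ∀ c, uG S D c c ∈ (Subgroup.center (S : Subgroup G)).map (S : Subgroup G).subtype :=
    fun c => (mem_Zc S D _).mpr ⟨c, rfl⟩
  have h4 : ∀ y ∈ Q, y ^ 4 = 1 := by
    intro y hy
    have h1 := q8_pow_four (eQ ⟨y, hy⟩)
    rw [← map_pow, ← map_one eQ] at h1
    have := congrArg Subtype.val (eQ.injective h1)
    simpa using this
  have hqq : 2 * qq D.n = hh D.n := two_mul_qq D.hn
  have hhh : 2 * hh D.n = 0 := two_mul_hh D.hn1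
  refine ⟨a₀ + qq D.n, ?_, ?_, ?_⟩
  · have h1 : uzG S D (a₀ + qq D.n) (-(a₀ + qq D.n)) =
        uzG S D a₀ (hh D.n - a₀) * uG S D (qq D.n) (qq D.n) := by
      rw [uzG_mul_uG, uzG_inj]
      refine ⟨rfl, ?_⟩
      linear_combination -hqq - hhh
    rw [h1]
    exact Subgroup.mul_mem _ (Subgroup.mem_sup_left hjQ) (Subgroup.mem_sup_right (hZ _))
  · have h1 : uG S D (hh D.n) 0 = uG S D (qq D.n) (-qq D.n) * uG S D (qq D.n) (qq D.n) := by
      rw [uG_mul_uG, uG_inj]
      refine ⟨?_, by ring⟩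
      linear_combination -hqq
    rw [h1]
    exact Subgroup.mul_mem _ (Subgroup.mem_sup_left hiQ) (Subgroup.mem_sup_right (hZ _))
  · apply sup_le
    · intro y hy
      have hyS : y ∈ (S : Subgroup G) := hQS hy
      have hyQg : (⟨y, hyS⟩ : (S : Subgroup G)) ∈ D.Qg := hle (Subgroup.mem_subgroupOf.mpr hy)
      rcases exists_rep S D y hyS with ⟨a, b, rfl⟩ | ⟨a, b, rfl⟩
      · have hb : b = -a := D.u_mem_Qg.mp hyQg
        have h5 := h4 _ hy
        rw [uG_pow, uG_eq_one_iff] at h5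
        refine Or.inl ⟨a, b, rfl, ?_⟩
        have := h5.1
        push_cast at this
        rw [hb]
        linear_combination this
      · have hab : a + b = hh D.n := D.uz_mem_Qg.mp hyQg
        have h5 := h4 _ (Q.mul_mem (Q.inv_mem hjQ) hy)
        rw [uzG_inv, uzG_mul_uzG, uG_pow, uG_eq_one_iff] at h5
        refine Or.inr ⟨a, b, rfl, ?_⟩
        have := h5.2
        push_cast at this
        have hb : b = hh D.n - a := by linear_combination hab
        rw [hb]
        linear_combination this - 2 * hhh - 2 * hqq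
    · intro y hy
      obtain ⟨c, rfl⟩ := (mem_Zc S D y).mp hy
      exact Or.inl ⟨c, c, rfl, by ring⟩

omit [Finite G] in
theorem commute_of_conj_eq {g x : G} (h : g * x * g⁻¹ = x) : Commute g x := by
  show g * x = x * g
  calc g * x = g * x * g⁻¹ * g := by rw [inv_mul_cancel_right]
    _ = x * g := by rw [h]

omit [Finite G] in
theorem conj_eq_of_commute {g x : G} (h : Commute g x) : g * x * g⁻¹ = x := by
  have : g * x = x * g := h
  rw [this, mul_inv_cancel_right]

/-- fusion in `N(V)`: if `3 ∣ |N(V) : V C(V)|` then `t` is fused to `z`. -/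
theorem fusion_V (V : Subgroup G) (p : ZMod (2 ^ D.n))
    (hw : uzG S D p (-p) ∈ V) (ht : uG S D (hh D.n) 0 ∈ V) (hc : ∀ c, uG S D c c ∈ V)
    (hV : V ≤ VW S D p)
    (h3 : 3 ∣ (V ⊔ Subgroup.centralizer (V : Set G)).relIndex
      (Subgroup.normalizer (V : Set G))) :
    IsConj (uG S D (hh D.n) 0) (uzG S D 0 0) := by
  obtain ⟨g, hgN, hgVC, hodd⟩ := exists_odd_not_mem _ _ h3
  by_contra hcon
  apply hgVC
  apply Subgroup.mem_sup_right
  have hginvN : g⁻¹ ∈ Subgroup.normalizer (V : Set G) := Subgroup.inv_mem _ hgN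
  have hVS : ∀ v ∈ V, v ∈ (S : Subgroup G) := by
    intro v hv
    rcases hV hv with ⟨a, b, rfl, -⟩ | ⟨a, b, rfl, -⟩
    · exact uG_mem S D a b
    · exact uzG_mem S D a b
  have hhn : hh D.n ≠ 0 := hh_ne_zero D.hn1
  -- (F1) `g` normalizes `Z(S)`
  have hF1 : ∀ c, ∃ c', g * uG S D c c * g⁻¹ = uG S D c' c' := by
    intro c
    have hvV : g * uG S D c c * g⁻¹ ∈ V := conj_mem_of_mem_normalizer hgN (hc c)
    have key : ∀ v' ∈ V, g * uG S D c c * g⁻¹ * v' = v' * (g * uG S D c c * g⁻¹) := by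
      intro v' hv'
      have h1 : g⁻¹ * v' * g ∈ V := by
        have := conj_mem_of_mem_normalizer hginvN hv'
        rwa [inv_inv] at this
      have h2 := uG_diag_comm S D c _ (hVS _ h1)
      calc g * uG S D c c * g⁻¹ * v' = g * (uG S D c c * (g⁻¹ * v' * g)) * g⁻¹ := by group
        _ = g * ((g⁻¹ * v' * g) * uG S D c c) * g⁻¹ := by rw [h2]
        _ = v' * (g * uG S D c c * g⁻¹) := by group
    rcases hV hvV with ⟨a, b, hab, -⟩ | ⟨a, b, hab, -⟩
    · have h1 := key _ hw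
      rw [hab, uG_mul_uzG, uzG_mul_uG, uzG_inj] at h1
      have : a = b := by linear_combination h1.1
      subst this
      exact ⟨a, hab⟩
    · exfalso
      have h1 := key _ ht
      rw [hab, uG_mul_uzG, uzG_mul_uG, uzG_inj] at h1
      apply hhn
      linear_combination -h1.1
  -- (F2) `g` fixes the central involution
  have hζ : g * uG S D (hh D.n) (hh D.n) * g⁻¹ = uG S D (hh D.n) (hh D.n) := by
    obtain ⟨c', h⟩ := hF1 (hh D.n)
    have hord : orderOf (uG S D c' c') = 2 := by rw [← h, orderOf_conj', orderOf_zeta]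
    rcases invol_U S D c' c' hord with h' | h' | h'
    · exfalso
      obtain ⟨h1, h2⟩ := (uG_inj S D).mp h'
      exact hhn (h1.symm.trans h2)
    · exfalso
      obtain ⟨h1, h2⟩ := (uG_inj S D).mp h'
      exact hhn (h2.symm.trans h1)
    · rw [h, h']
  -- (F3) `g` centralizes `Z(S)`
  have hF3 : ∀ c, g * uG S D c c * g⁻¹ = uG S D c c := by
    have hab : ∀ a ∈ (Subgroup.center (S : Subgroup G)).map (S : Subgroup G).subtype,
        ∀ b ∈ (Subgroup.center (S : Subgroup G)).map (S : Subgroup G).subtype, a * b = b * a := by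
      intro a ha b hb
      obtain ⟨a1, rfl⟩ := (mem_Zc S D _).mp ha
      obtain ⟨b1, rfl⟩ := (mem_Zc S D _).mp hb
      exact uG_comm S D _ _ _ _
    have key := Cfsg.Agent.Helper16.Homocyclic.conj_trivial_of_trivial_on_invol _ hab g
      (fun x hx => by
        obtain ⟨c, rfl⟩ := (mem_Zc S D _).mp hx
        obtain ⟨c', h⟩ := hF1 c
        rw [h]; exact (mem_Zc S D _).mpr ⟨c', rfl⟩)
      (orderOf g) hodd
      (fun x _ => by rw [pow_orderOf_eq_one]; simp)
      (by
        intro x hx hx2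
        obtain ⟨c, rfl⟩ := (mem_Zc S D _).mp hx
        obtain ⟨ha, -⟩ := sq_eq_one_U S D c c hx2
        rcases ha with rfl | rfl
        · rw [uG_zero]; simp
        · exact hζ)
    intro c
    exact key D.n _ ((mem_Zc S D _).mpr ⟨c, rfl⟩) (uG_pow_two_pow S D c c)
  -- (F4) `g` fixes `t`
  have htt : g * uG S D (hh D.n) 0 * g⁻¹ = uG S D (hh D.n) 0 := by
    have hvV : g * uG S D (hh D.n) 0 * g⁻¹ ∈ V := conj_mem_of_mem_normalizer hgN ht
    rcases hV hvV with ⟨a, b, hab, -⟩ | ⟨a, b, hab, -⟩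
    · have hord : orderOf (uG S D a b) = 2 := by rw [← hab, orderOf_conj', orderOf_t]
      rcases invol_U S D a b hord with h' | h' | h'
      · rw [hab, h']
      · exfalso
        rw [h'] at hab
        have h2 : g * uG S D 0 (hh D.n) * g⁻¹ = uG S D (hh D.n) 0 := by
          rw [← zeta_mul_t, ← conj_mul, hζ, hab, zeta_mul_t']
        exact t_ne_t' S D (eq_of_swap hodd hab h2)
      · exfalso
        rw [h', ← hζ] at hab
        exact t_ne_zeta S D (conj_inj hab)
    · exfalso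
      have hord : orderOf (uzG S D a b) = 2 := by rw [← hab, orderOf_conj', orderOf_t]
      have hb := invol_uzG S D a b hord
      subst hb
      apply hcon
      have h1 : IsConj (uG S D (hh D.n) 0) (uzG S D a (-a)) := by
        rw [isConj_iff]; exact ⟨g, hab⟩
      exact h1.trans (isConj_uzG S D a)
  have htt' : g * uG S D 0 (hh D.n) * g⁻¹ = uG S D 0 (hh D.n) := by
    rw [← zeta_mul_t, ← conj_mul, hζ, htt]
  -- `g` commutes with `u a b` when `2 (a - b) = 0`
  have hcomm : ∀ a b, 2 * (a - b) = 0 → Commute g (uG S D a b) := by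
    intro a b h
    have h1 : uG S D a b = uG S D a a * uG S D 0 (b - a) := by
      rw [uG_mul_uG, uG_inj]; constructor <;> ring
    rw [h1]
    apply Commute.mul_right (commute_of_conj_eq (hF3 a))
    have h2 : 2 * (b - a) = 0 := by linear_combination -h
    rcases (two_mul_eq_zero_iff D.hn1 _).mp h2 with h | h
    · rw [h, uG_zero]; exact Commute.one_right g
    · rw [h]; exact commute_of_conj_eq htt'
  -- (F5)–(F7) `g` commutes with `w`
  have hgw : Commute g (uzG S D p (-p)) := by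
    have hvV : g * uzG S D p (-p) * g⁻¹ ∈ V := conj_mem_of_mem_normalizer hgN hw
    rcases hV hvV with ⟨a, b, hab, -⟩ | ⟨a, b, hab, h2⟩
    · exfalso
      have hord : orderOf (uG S D a b) = 2 := by rw [← hab, orderOf_conj', orderOf_w]
      rcases invol_U S D a b hord with h' | h' | h'
      · rw [h', ← htt] at hab
        exact uG_ne_uzG S D _ _ _ _ (conj_inj hab).symm
      · rw [h', ← htt'] at hab
        exact uG_ne_uzG S D _ _ _ _ (conj_inj hab).symm
      · rw [h', ← hζ] at hab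
        exact uG_ne_uzG S D _ _ _ _ (conj_inj hab).symm
    · have hord : orderOf (uzG S D a b) = 2 := by rw [← hab, orderOf_conj', orderOf_w]
      have hb := invol_uzG S D a b hord
      subst hb
      have h4 : uzG S D a (-a) = uG S D (a - p) (-(a - p)) * uzG S D p (-p) := by
        rw [uG_mul_uzG, uzG_inj]; constructor <;> ring
      rw [h4] at hab
      have h5 : Commute g (uG S D (a - p) (-(a - p))) := by
        apply hcomm
        linear_combination h2
      exact commute_of_conj_eq_mul hodd h5 D.n (uG_pow_two_pow S D _ _) hab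
  -- (F8) `g` centralizes `V`
  rw [Subgroup.mem_centralizer_iff]
  intro v hv
  rcases hV hv with ⟨a, b, rfl, h⟩ | ⟨a, b, rfl, h⟩
  · exact (hcomm a b h).eq.symm
  · have h1 : uzG S D a b = uG S D (a - p) (b + p) * uzG S D p (-p) := by
      rw [uG_mul_uzG, uzG_inj]; constructor <;> ring
    rw [h1]
    have h2 : Commute g (uG S D (a - p) (b + p)) := by
      apply hcomm
      linear_combination h
    exact (h2.mul_right hgw).eq.symm

/-- `S ≤ H` as soon as `u 1 0` and `z` lie in the normal subgroup `H` -/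
theorem le_of_gens_mem (H : Subgroup G) [H.Normal] (hx : uG S D 1 0 ∈ H) (hz : uzG S D 0 0 ∈ H) :
    (S : Subgroup G) ≤ H := by
  have hy : uG S D 0 1 ∈ H := by
    have := Subgroup.Normal.conj_mem (inferInstance : H.Normal) _ hx (uzG S D 0 0)
    rwa [uzG_conj_uG] at this
  have hu : ∀ a b, uG S D a b ∈ H := by
    intro a b
    have h1 : uG S D a b = uG S D 1 0 ^ a.val * uG S D 0 1 ^ b.val := by
      rw [uG_pow, uG_pow, uG_mul_uG, uG_inj, ZMod.natCast_zmod_val, ZMod.natCast_zmod_val]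
      constructor <;> ring
    rw [h1]
    exact H.mul_mem (H.pow_mem hx _) (H.pow_mem hy _)
  intro s hs
  rcases exists_rep S D s hs with ⟨a, b, rfl⟩ | ⟨a, b, rfl⟩
  · exact hu a b
  · have h1 : uzG S D a b = uG S D a b * uzG S D 0 0 := by
      rw [uG_mul_uzG, add_zero, add_zero]
    rw [h1]
    exact H.mul_mem (hu a b) hz

/-- no subgroup of index 2 when both fusions take place -/
theorem no_index_two (g : G)
    (hgU : ∀ a b, ∃ a' b', g * uG S D a b * g⁻¹ = uG S D a' b')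
    (hg : g * uG S D (hh D.n) (hh D.n) * g⁻¹ = uG S D (hh D.n) 0 ∨
      g * uG S D (hh D.n) (hh D.n) * g⁻¹ = uG S D 0 (hh D.n))
    (htz : IsConj (uG S D (hh D.n) 0) (uzG S D 0 0)) :
    ∀ H : Subgroup G, H.index ≠ 2 := by
  intro H hH
  have hN : H.Normal := Subgroup.normal_of_index_eq_two hH
  have hsq : ∀ x : G, x ^ 2 ∈ H := Subgroup.sq_mem_of_index_two hH
  have hζH : uG S D (hh D.n) (hh D.n) ∈ H := by
    have := hsq (uzG S D (hh D.n) 0)
    rwa [pow_two, uzG_mul_uzG, add_zero, zero_add] at this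
  have hgζH : g * uG S D (hh D.n) (hh D.n) * g⁻¹ ∈ H := hN.conj_mem _ hζH g
  have htH : uG S D (hh D.n) 0 ∈ H := by
    rcases hg with h | h
    · rwa [h] at hgζH
    · rw [h] at hgζH
      rw [← zeta_mul_t']
      exact H.mul_mem hζH hgζH
  have hzH : uzG S D 0 0 ∈ H := by
    obtain ⟨c, hc⟩ := isConj_iff.mp htz
    rw [← hc]; exact hN.conj_mem _ htH c
  have heven : ∀ a b, uG S D (2 * a) (2 * b) ∈ H := by
    intro a b
    have := hsq (uG S D a b)
    rw [uG_pow] at this
    push_cast at this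
    exact this
  have h11 : uG S D 1 1 ∈ H := by
    have := hsq (uzG S D 1 0)
    rwa [pow_two, uzG_mul_uzG, add_zero, zero_add] at this
  obtain ⟨a', b', hab⟩ := hgU 1 1
  have habH : uG S D a' b' ∈ H := by rw [← hab]; exact hN.conj_mem _ h11 g
  have hpow : g * uG S D (hh D.n) (hh D.n) * g⁻¹ = uG S D (hh D.n * a') (hh D.n * b') := by
    have h1 : uG S D (hh D.n) (hh D.n) = uG S D 1 1 ^ 2 ^ (D.n - 1) := by
      rw [uG_pow, mul_one, ← D.hh_eq_natCast]
    rw [h1, ← conj_pow, hab, uG_pow, ← D.hh_eq_natCast]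
  have hx : uG S D 1 0 ∈ H ∨ uG S D 0 1 ∈ H := by
    rcases hg with h | h
    · left
      rw [hpow, uG_inj] at h
      rcases even_or_odd a' with ⟨j, rfl⟩ | ⟨j, rfl⟩
      · rw [hh_mul_even D.hn1 j] at h
        exact absurd h.1.symm (hh_ne_zero D.hn1)
      rcases even_or_odd b' with ⟨j', rfl⟩ | ⟨j', rfl⟩
      · have h2 : uG S D 1 0 = uG S D (2 * j + 1) (2 * j') * uG S D (2 * (-j)) (2 * (-j')) := by
          rw [uG_mul_uG, uG_inj]; constructor <;> ring
        rw [h2]
        exact H.mul_mem habH (heven _ _)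
      · rw [hh_mul_odd D.hn1 j'] at h
        exact absurd h.2 (hh_ne_zero D.hn1)
    · right
      rw [hpow, uG_inj] at h
      rcases even_or_odd b' with ⟨j', rfl⟩ | ⟨j', rfl⟩
      · rw [hh_mul_even D.hn1 j'] at h
        exact absurd h.2.symm (hh_ne_zero D.hn1)
      rcases even_or_odd a' with ⟨j, rfl⟩ | ⟨j, rfl⟩
      · have h2 : uG S D 0 1 = uG S D (2 * j) (2 * j' + 1) * uG S D (2 * (-j)) (2 * (-j')) := by
          rw [uG_mul_uG, uG_inj]; constructor <;> ring
        rw [h2]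
        exact H.mul_mem habH (heven _ _)
      · rw [hh_mul_odd D.hn1 j] at h
        exact absurd h.1 (hh_ne_zero D.hn1)
  have hx' : uG S D 1 0 ∈ H := by
    rcases hx with h | h
    · exact h
    · have := hN.conj_mem _ h (uzG S D 0 0)
      rwa [uzG_conj_uG] at this
  have hle := le_of_gens_mem S D H hx' hzH
  have hdvd : H.index ∣ (S : Subgroup G).index := Subgroup.index_dvd_of_le hle
  rw [hH] at hdvd
  have hodd := sylow_index_odd S
  rw [Nat.odd_iff] at hodd
  omega

/-- one class of involutions -/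
theorem card_invol_classes_eq_one
    (hζt : IsConj (uG S D (hh D.n) (hh D.n)) (uG S D (hh D.n) 0))
    (htz : IsConj (uG S D (hh D.n) 0) (uzG S D 0 0)) :
    Nat.card {C : ConjClasses G // ∃ t : G, orderOf t = 2 ∧ ConjClasses.mk t = C} = 1 := by
  have hset : {C : ConjClasses G | ∃ t : G, orderOf t = 2 ∧ ConjClasses.mk t = C} =
      {ConjClasses.mk (uG S D (hh D.n) (hh D.n))} := by
    ext C
    simp only [Set.mem_ofPred_eq, Set.mem_singleton_iff]
    constructor
    · rintro ⟨t, ht, rfl⟩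
      rw [ConjClasses.mk_eq_mk_iff_isConj]
      obtain ⟨g, hg⟩ := exists_conj_mem_sylow S t 1 (by rw [ht]; norm_num)
      have hconj : IsConj t (g * t * g⁻¹) := by rw [isConj_iff]; exact ⟨g, rfl⟩
      have hord : orderOf (g * t * g⁻¹) = 2 := by rw [orderOf_conj', ht]
      rcases (invol_iff S D _ hg).mp hord with h | h | h | ⟨a, h⟩
      · rw [h] at hconj
        exact hconj.trans hζt.symm
      · rw [h] at hconj
        exact hconj.trans ((isConj_t_t' S D).symm.trans hζt.symm)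
      · rw [h] at hconj
        exact hconj
      · rw [h] at hconj
        exact hconj.trans ((isConj_uzG S D a).trans (htz.symm.trans hζt.symm))
    · rintro rfl
      exact ⟨_, orderOf_zeta S D, rfl⟩
  show Nat.card ↥{C : ConjClasses G | ∃ t : G, orderOf t = 2 ∧ ConjClasses.mk t = C} = 1
  rw [Nat.card_coe_set_eq, hset, Set.ncard_singleton]

end fusion

end Cfsg.Agent.Helper16.WrFusion
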