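import Mathlib
import Cfsg.Agent.Helper16.WrFusion

/-!
Local indices `|N(U) : C(U)|` and `|N(V) : V C(V)|` for a wreathed Sylow 2-subgroup.
-/

set_option autoImplicit false

namespace Cfsg.Agent.Helper16.WrIndices

open Cfsg.Agent.Helper18.Wr
open Cfsg.Agent.Helper18.QD (hh qq two_mul_hh hh_ne_zero two_mul_eq_zero_iff neg_hh two_mul_qq
  qq_add_hh two_mul_eq_two_mul_iff even_or_odd hh_mul_odd hh_mul_even q8_pow_four
  orderOf_conj' exists_conj_mem_sylow)
open Cfsg.Agent.Helper16.QDFusion Cfsg.Agent.Helper16.WrFusion Cfsg.Agent.Helper16.Homocyclic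

theorem two_or_six (r k e : ℕ) (h : r = k * 2 ^ e) (hk : k ∣ 6) (h2 : 2 ∣ r) (h4 : ¬ 4 ∣ r) :
    r = 2 ∨ r = 6 := by
  have hk6 : k ≤ 6 := Nat.le_of_dvd (by norm_num) hk
  rcases e with _ | _ | e
  · rw [pow_zero, mul_one] at h
    subst h
    interval_cases r <;> omega
  · rw [zero_add, pow_one] at h
    subst h
    interval_cases k <;> omega
  · exfalso
    apply h4
    rw [h, pow_succ, pow_succ]
    exact ⟨k * 2 ^ e, by ring⟩

section A

variable {G : Type*} [Group G] [Finite G] (S : Sylow 2 G) (D : WrData (S : Subgroup G))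
  (U : Subgroup G) (hU : ∀ x, x ∈ U ↔ ∃ a b, x = uG S D a b)

omit [Finite G] in
theorem t'_ne_zeta : uG S D 0 (hh D.n) ≠ uG S D (hh D.n) (hh D.n) := by
  intro h
  exact hh_ne_zero D.hn1 ((uG_inj S D).mp h).1.symm

include hU in
omit [Finite G] in
theorem card_inv_U : Nat.card (Homocyclic.Inv U) = 3 := by
  have hset : {x : G | x ∈ U ∧ x ≠ 1 ∧ x ^ 2 = 1} =
      {uG S D (hh D.n) 0, uG S D 0 (hh D.n), uG S D (hh D.n) (hh D.n)} := by
    ext x
    simp only [Set.mem_ofPred_eq, Set.mem_insert_iff, Set.mem_singleton_iff]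
    constructor
    · rintro ⟨hx, hx1, hx2⟩
      obtain ⟨a, b, rfl⟩ := (hU x).mp hx
      obtain ⟨ha, hb⟩ := sq_eq_one_U S D a b hx2
      rcases ha with rfl | rfl <;> rcases hb with rfl | rfl
      · exact absurd (uG_zero S D) hx1
      · exact Or.inr (Or.inl rfl)
      · exact Or.inl rfl
      · exact Or.inr (Or.inr rfl)
    · have hhh := hh_add_hh S D
      have h0 := hh_ne_zero D.hn1
      rintro (rfl | rfl | rfl)
      · refine ⟨(hU _).mpr ⟨_, _, rfl⟩, ?_, ?_⟩
        · rw [Ne, uG_eq_one_iff]; exact fun h => h0 h.1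
        · rw [pow_two, uG_mul_uG, hhh, add_zero, uG_zero]
      · refine ⟨(hU _).mpr ⟨_, _, rfl⟩, ?_, ?_⟩
        · rw [Ne, uG_eq_one_iff]; exact fun h => h0 h.2
        · rw [pow_two, uG_mul_uG, hhh, add_zero, uG_zero]
      · refine ⟨(hU _).mpr ⟨_, _, rfl⟩, ?_, ?_⟩
        · rw [Ne, uG_eq_one_iff]; exact fun h => h0 h.1
        · rw [pow_two, uG_mul_uG, hhh, uG_zero]
  show Nat.card ({x : G | x ∈ U ∧ x ≠ 1 ∧ x ^ 2 = 1} : Set G) = 3
  rw [Nat.card_coe_set_eq, hset, Set.ncard_eq_three]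
  exact ⟨_, _, _, t_ne_t' S D, t_ne_zeta S D, t'_ne_zeta S D, rfl⟩

include hU in
theorem sylow_le_normalizer_U : (S : Subgroup G) ≤ Subgroup.normalizer (U : Set G) := by
  intro s hs
  apply mem_normalizer_of_conj_mem
  intro x hx
  obtain ⟨c, d, rfl⟩ := (hU x).mp hx
  rcases exists_rep S D s hs with ⟨a, b, rfl⟩ | ⟨a, b, rfl⟩
  · rw [conj_eq_of_commute (uG_comm S D _ _ _ _)]
    exact (hU _).mpr ⟨_, _, rfl⟩
  · rw [uzG_conj_uG]
    exact (hU _).mpr ⟨_, _, rfl⟩

include hU in
omit [Finite G] in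
theorem U_le_centralizer_U : U ≤ Subgroup.centralizer (U : Set G) := by
  intro x hx
  rw [Subgroup.mem_centralizer_iff]
  intro y hy
  obtain ⟨a, b, rfl⟩ := (hU x).mp hx
  obtain ⟨c, d, rfl⟩ := (hU y).mp hy
  exact uG_comm S D _ _ _ _

include hU in
omit [Finite G] in
theorem U_le_S : U ≤ (S : Subgroup G) := by
  intro x hx
  obtain ⟨a, b, rfl⟩ := (hU x).mp hx
  exact uG_mem S D a b

include hU in
theorem relIndex_U_S : U.relIndex (S : Subgroup G) = 2 := by
  have h1 : U.subgroupOf (S : Subgroup G) = D.U := by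
    ext s
    rw [Subgroup.mem_subgroupOf, hU]
    constructor
    · rintro ⟨a, b, h⟩
      exact ⟨a, b, Subtype.ext h⟩
    · rintro ⟨a, b, h⟩
      exact ⟨a, b, congrArg Subtype.val h⟩
  show (U.subgroupOf (S : Subgroup G)).index = 2
  rw [h1]; exact D.U_index

include hU in
/-- `|N(U) : C(U)|` is `2` or `6`. -/
theorem relIndex_U :
    (Subgroup.centralizer (U : Set G)).relIndex (Subgroup.normalizer (U : Set G)) = 2 ∨
      (Subgroup.centralizer (U : Set G)).relIndex (Subgroup.normalizer (U : Set G)) = 6 := by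
  have hp : Fact (Nat.Prime 2) := ⟨Nat.prime_two⟩
  have hcard := card_inv_U S D U hU
  have hfin : Finite (Homocyclic.Inv U) := Nat.finite_of_card_ne_zero (by rw [hcard]; norm_num)
  have hab : ∀ a ∈ U, ∀ b ∈ U, a * b = b * a := by
    intro a ha b hb
    obtain ⟨a1, a2, rfl⟩ := (hU _).mp ha
    obtain ⟨b1, b2, rfl⟩ := (hU _).mp hb
    exact uG_comm S D _ _ _ _
  obtain ⟨K, hK⟩ : ∃ K, K = (MulAction.toPermHom (Subgroup.normalizer (U : Set G)) (Homocyclic.Inv U)).ker :=
    ⟨_, rfl⟩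
  obtain ⟨C', hC'⟩ : ∃ C', C' = (Subgroup.centralizer (U : Set G)).subgroupOf
      (Subgroup.normalizer (U : Set G)) := ⟨_, rfl⟩
  have hC'n : C'.Normal := by rw [hC']; infer_instance
  have hKidx : K.index ∣ 6 := by
    rw [hK, Subgroup.index_ker]
    have h2 := Subgroup.card_subgroup_dvd_card
      (MulAction.toPermHom (Subgroup.normalizer (U : Set G)) (Homocyclic.Inv U)).range
    rw [Nat.card_perm, hcard] at h2
    exact h2
  have hCK : C' ≤ K := by
    intro n hn
    rw [hC', Subgroup.mem_subgroupOf, Subgroup.mem_centralizer_iff] at hn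
    rw [hK, MonoidHom.mem_ker]
    apply Equiv.ext
    intro x
    apply Subtype.ext
    show (n : G) * x.1 * (n : G)⁻¹ = x.1
    rw [← hn x.1 x.2.1, mul_inv_cancel_right]
  -- elements of `K` have a 2-power power in `C'`
  have h2pow : ∀ k ∈ K, ∃ j : ℕ, k ^ 2 ^ j ∈ C' := by
    intro k hk
    obtain ⟨j, m, hm, hjm⟩ := Nat.exists_eq_two_pow_mul_odd (orderOf_pos (k : G)).ne'
    refine ⟨j, ?_⟩
    have hk' : k ^ 2 ^ j ∈ K := K.pow_mem hk _
    rw [hK, MonoidHom.mem_ker] at hk'
    have hfix : ∀ x : Homocyclic.Inv U, (k ^ 2 ^ j) • x = x := by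
      intro x
      have := congrArg (fun σ : Equiv.Perm (Homocyclic.Inv U) => σ x) hk'
      simpa using this
    have hinv : ∀ x ∈ U, x ^ 2 = 1 →
        ((k ^ 2 ^ j : Subgroup.normalizer (U : Set G)) : G) * x *
          ((k ^ 2 ^ j : Subgroup.normalizer (U : Set G)) : G)⁻¹ = x := by
      intro x hx hx2
      by_cases hx1 : x = 1
      · rw [hx1]; group
      · exact congrArg Subtype.val (hfix ⟨x, hx, hx1, hx2⟩)
    have hnorm : ∀ x ∈ U, ((k ^ 2 ^ j : Subgroup.normalizer (U : Set G)) : G) * x *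
        ((k ^ 2 ^ j : Subgroup.normalizer (U : Set G)) : G)⁻¹ ∈ U :=
      fun x hx => conj_mem_of_mem_normalizer (k ^ 2 ^ j).2 hx
    have hone : ((k ^ 2 ^ j : Subgroup.normalizer (U : Set G)) : G) ^ m = 1 := by
      rw [Subgroup.coe_pow, ← pow_mul, ← hjm, pow_orderOf_eq_one]
    have key := conj_trivial_of_trivial_on_invol U hab _ hnorm m hm
      (fun x _ => by rw [hone]; simp) hinv
    rw [hC', Subgroup.mem_subgroupOf, Subgroup.mem_centralizer_iff]
    intro x hx
    obtain ⟨a, b, rfl⟩ := (hU _).mp hx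
    have := key D.n _ ((hU _).mpr ⟨a, b, rfl⟩) (uG_pow_two_pow S D a b)
    exact (commute_of_conj_eq this).eq.symm
  -- hence `|K : C'|` is a power of two
  obtain ⟨e, he⟩ : ∃ e : ℕ, C'.relIndex K = 2 ^ e := by
    have hpg : IsPGroup 2 (↥K ⧸ C'.subgroupOf K) := by
      intro q
      induction q using QuotientGroup.induction_on with
      | H k =>
        obtain ⟨j, hj⟩ := h2pow (k : Subgroup.normalizer (U : Set G)) k.2
        refine ⟨j, ?_⟩
        rw [← QuotientGroup.mk_pow, QuotientGroup.eq_one_iff, Subgroup.mem_subgroupOf,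
          Subgroup.coe_pow]
        exact hj
    obtain ⟨e, he⟩ := IsPGroup.iff_card.mp hpg
    exact ⟨e, he⟩
  have hidx : C'.index = K.index * 2 ^ e := by
    rw [← he, mul_comm]; exact (Subgroup.relIndex_mul_index hCK).symm
  -- the 2-part
  have hzN : uzG S D 0 0 ∈ Subgroup.normalizer (U : Set G) :=
    sylow_le_normalizer_U S D U hU (uzG_mem S D 0 0)
  have hzC : uzG S D 0 0 ∉ Subgroup.centralizer (U : Set G) := by
    intro h
    rw [Subgroup.mem_centralizer_iff] at h
    have h1 := h (uG S D (hh D.n) 0) ((hU _).mpr ⟨_, _, rfl⟩)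
    rw [uG_mul_uzG, uzG_mul_uG, uzG_inj] at h1
    apply hh_ne_zero D.hn1
    have := h1.1
    linear_combination this
  have heven : 2 ∣ C'.index := by
    by_contra hodd
    have hodd' : Odd C'.index := Nat.odd_iff.mpr (Nat.two_dvd_ne_zero.mp hodd)
    obtain ⟨l, hl⟩ := hodd'
    have h1 : (⟨uzG S D 0 0, hzN⟩ : Subgroup.normalizer (U : Set G)) ^ C'.index ∈ C' :=
      Subgroup.pow_index_mem C' _
    have h2 : (⟨uzG S D 0 0, hzN⟩ : Subgroup.normalizer (U : Set G)) ^ C'.index =
        ⟨uzG S D 0 0, hzN⟩ := by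
      apply Subtype.ext
      rw [Subgroup.coe_pow, hl, pow_succ, pow_mul]
      have : uzG S D 0 0 ^ 2 = 1 := by
        rw [pow_two, uzG_mul_uzG, add_zero, uG_zero]
      rw [this, one_pow, one_mul]
    rw [h2, hC', Subgroup.mem_subgroupOf] at h1
    exact hzC h1
  have h4 : ¬ 4 ∣ C'.index := by
    intro h
    have h1 : (Subgroup.centralizer (U : Set G)).relIndex (Subgroup.normalizer (U : Set G)) ∣
        U.relIndex (Subgroup.normalizer (U : Set G)) :=
      Subgroup.relIndex_dvd_of_le_left _ (U_le_centralizer_U S D U hU)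
    have h2 : U.relIndex (S : Subgroup G) * (S : Subgroup G).relIndex
        (Subgroup.normalizer (U : Set G)) = U.relIndex (Subgroup.normalizer (U : Set G)) :=
      Subgroup.relIndex_mul_relIndex _ _ _ (U_le_S S D U hU) (sylow_le_normalizer_U S D U hU)
    rw [relIndex_U_S S D U hU] at h2
    have h3 : (S : Subgroup G).relIndex (Subgroup.normalizer (U : Set G)) ∣
        (S : Subgroup G).index :=
      Subgroup.relIndex_dvd_index_of_le (sylow_le_normalizer_U S D U hU)
    have h5 := sylow_index_odd S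
    have h6 : C'.index = (Subgroup.centralizer (U : Set G)).relIndex
        (Subgroup.normalizer (U : Set G)) := by rw [hC']; rfl
    rw [h6] at h
    have h7 := dvd_trans h h1
    rw [← h2] at h7
    have h8 : 2 ∣ (S : Subgroup G).relIndex (Subgroup.normalizer (U : Set G)) := by
      obtain ⟨c, hc⟩ := h7
      exact ⟨c, by omega⟩
    have h9 := dvd_trans h8 h3
    rw [Nat.odd_iff] at h5
    omega
  have h6 : C'.index = (Subgroup.centralizer (U : Set G)).relIndex
      (Subgroup.normalizer (U : Set G)) := by rw [hC']; rfl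
  rw [← h6]
  exact two_or_six _ _ _ hidx hKidx heven h4

end A

section B

variable {G : Type*} [Group G] [Finite G] (S : Sylow 2 G) (D : WrData (S : Subgroup G))
  (p : ZMod (2 ^ D.n))

omit [Finite G] in
theorem uG_mem_VW {a b : ZMod (2 ^ D.n)} : uG S D a b ∈ VW S D p ↔ 2 * (a - b) = 0 := by
  constructor
  · rintro (⟨a', b', h, h2⟩ | ⟨a', b', h, -⟩)
    · obtain ⟨rfl, rfl⟩ := (uG_inj S D).mp h
      exact h2
    · exact absurd h (uG_ne_uzG S D _ _ _ _)
  · intro h
    exact Or.inl ⟨a, b, rfl, h⟩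

omit [Finite G] in
theorem uzG_mem_VW {a b : ZMod (2 ^ D.n)} :
    uzG S D a b ∈ VW S D p ↔ 2 * (a - b - 2 * p) = 0 := by
  constructor
  · rintro (⟨a', b', h, -⟩ | ⟨a', b', h, h2⟩)
    · exact absurd h.symm (uG_ne_uzG S D _ _ _ _)
    · obtain ⟨rfl, rfl⟩ := (uzG_inj S D).mp h
      exact h2
  · intro h
    exact Or.inr ⟨a, b, rfl, h⟩

omit [Finite G] in
theorem t_mem_VW : uG S D (hh D.n) 0 ∈ VW S D p := by
  rw [uG_mem_VW]
  have := two_mul_hh D.hn1
  linear_combination this

omit [Finite G] in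
theorem w_mem_VW : uzG S D p (-p) ∈ VW S D p := by
  rw [uzG_mem_VW]; ring

omit [Finite G] in
theorem c_mem_VW (c : ZMod (2 ^ D.n)) : uG S D c c ∈ VW S D p := by
  rw [uG_mem_VW]; ring

omit [Finite G] in
theorem VW_le_S : VW S D p ≤ (S : Subgroup G) := by
  rintro v (⟨a, b, rfl, -⟩ | ⟨a, b, rfl, -⟩)
  · exact uG_mem S D a b
  · exact uzG_mem S D a b

/-- every element of `N(V)` centralizes `Z(S)` -/
theorem centralizes_Zc (g : G) (hgN : g ∈ Subgroup.normalizer ((VW S D p : Subgroup G) : Set G))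
    (c : ZMod (2 ^ D.n)) : g * uG S D c c * g⁻¹ = uG S D c c := by
  have hginvN : g⁻¹ ∈ Subgroup.normalizer ((VW S D p : Subgroup G) : Set G) :=
    Subgroup.inv_mem _ hgN
  have hhn : hh D.n ≠ 0 := hh_ne_zero D.hn1
  have hF1 : ∀ c, ∃ c', g * uG S D c c * g⁻¹ = uG S D c' c' := by
    intro c
    have hvV : g * uG S D c c * g⁻¹ ∈ VW S D p :=
      conj_mem_of_mem_normalizer hgN (c_mem_VW S D p c)
    have key : ∀ v' ∈ VW S D p,
        g * uG S D c c * g⁻¹ * v' = v' * (g * uG S D c c * g⁻¹) := by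
      intro v' hv'
      have h1 : g⁻¹ * v' * g ∈ VW S D p := by
        have := conj_mem_of_mem_normalizer hginvN hv'
        rwa [inv_inv] at this
      have h2 := uG_diag_comm S D c _ (VW_le_S S D p h1)
      calc g * uG S D c c * g⁻¹ * v' = g * (uG S D c c * (g⁻¹ * v' * g)) * g⁻¹ := by group
        _ = g * ((g⁻¹ * v' * g) * uG S D c c) * g⁻¹ := by rw [h2]
        _ = v' * (g * uG S D c c * g⁻¹) := by group
    rcases hvV with ⟨a, b, hab, -⟩ | ⟨a, b, hab, -⟩
    · have h1 := key _ (w_mem_VW S D p)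
      rw [hab, uG_mul_uzG, uzG_mul_uG, uzG_inj] at h1
      have : a = b := by linear_combination h1.1
      subst this
      exact ⟨a, hab⟩
    · exfalso
      have h1 := key _ (t_mem_VW S D p)
      rw [hab, uG_mul_uzG, uzG_mul_uG, uzG_inj] at h1
      apply hhn
      linear_combination -h1.1
  have hζ : g * uG S D (hh D.n) (hh D.n) * g⁻¹ = uG S D (hh D.n) (hh D.n) := by
    obtain ⟨c', h⟩ := hF1 (hh D.n)
    have hord : orderOf (uG S D c' c') = 2 := by rw [← h, orderOf_conj', orderOf_zeta]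
    rcases invol_U S D c' c' hord with h' | h' | h'
    · exfalso
      obtain ⟨h1, h2⟩ := (uG_inj S D).mp h'
      exact hhn (h1.symm.trans h2)
    · exfalso
      obtain ⟨h1, h2⟩ := (uG_inj S D).mp h'
      exact hhn (h2.symm.trans h1)
    · rw [h, h']
  obtain ⟨Zc, hZc⟩ : ∃ Zc, Zc = (Subgroup.center (S : Subgroup G)).map (S : Subgroup G).subtype :=
    ⟨_, rfl⟩
  have hmem : ∀ x, x ∈ Zc ↔ ∃ c, x = uG S D c c := by
    intro x; rw [hZc]; exact mem_Zc S D x
  have hab : ∀ a ∈ Zc, ∀ b ∈ Zc, a * b = b * a := by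
    intro a ha b hb
    obtain ⟨a1, rfl⟩ := (hmem _).mp ha
    obtain ⟨b1, rfl⟩ := (hmem _).mp hb
    exact uG_comm S D _ _ _ _
  have hgNZ : g ∈ Subgroup.normalizer (Zc : Set G) := by
    apply mem_normalizer_of_conj_mem
    intro x hx
    obtain ⟨c, rfl⟩ := (hmem _).mp hx
    obtain ⟨c', h⟩ := hF1 c
    rw [h]; exact (hmem _).mpr ⟨c', rfl⟩
  -- `|N(Z) : C(Z)|` is odd
  have hSC : (S : Subgroup G) ≤ Subgroup.centralizer (Zc : Set G) := by
    intro s hs
    rw [Subgroup.mem_centralizer_iff]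
    intro x hx
    obtain ⟨c, rfl⟩ := (hmem _).mp hx
    exact uG_diag_comm S D c s hs
  obtain ⟨r, hr⟩ : ∃ r, r = ((Subgroup.centralizer (Zc : Set G)).subgroupOf
      (Subgroup.normalizer (Zc : Set G))).index := ⟨_, rfl⟩
  have hrodd : Odd r := by
    have h1 : (Subgroup.centralizer (Zc : Set G)).relIndex (Subgroup.normalizer (Zc : Set G)) ∣
        (Subgroup.centralizer (Zc : Set G)).index :=
      Subgroup.relIndex_dvd_index_of_le (Subgroup.centralizer_le_normalizer _)
    have h2 : (Subgroup.centralizer (Zc : Set G)).index ∣ (S : Subgroup G).index :=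
      Subgroup.index_dvd_of_le hSC
    have h3 := sylow_index_odd S
    have h4 : r ∣ (S : Subgroup G).index := by rw [hr]; exact dvd_trans h1 h2
    exact Odd.of_dvd_nat h3 h4
  have hgr : (⟨g, hgNZ⟩ : Subgroup.normalizer (Zc : Set G)) ^ r ∈
      (Subgroup.centralizer (Zc : Set G)).subgroupOf (Subgroup.normalizer (Zc : Set G)) := by
    rw [hr]; exact Subgroup.pow_index_mem _ _
  rw [Subgroup.mem_subgroupOf, Subgroup.mem_centralizer_iff] at hgr
  have hnk : ∀ x ∈ Zc, g ^ r * x * (g ^ r)⁻¹ = x := by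
    intro x hx
    have := hgr x hx
    rw [Subgroup.coe_pow] at this
    show g ^ r * x * (g ^ r)⁻¹ = x
    have h' : x * g ^ r = g ^ r * x := this
    rw [← h', mul_inv_cancel_right]
  have key := conj_trivial_of_trivial_on_invol Zc hab g
    (fun x hx => conj_mem_of_mem_normalizer hgNZ hx) r hrodd hnk
    (by
      intro x hx hx2
      obtain ⟨c, rfl⟩ := (hmem _).mp hx
      obtain ⟨ha, -⟩ := sq_eq_one_U S D c c hx2
      rcases ha with rfl | rfl
      · rw [uG_zero]; simp
      · exact hζ)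
  exact key D.n _ ((hmem _).mpr ⟨c, rfl⟩) (uG_pow_two_pow S D c c)

/-- `g ∈ N(V)` commuting with `t` and `w` centralizes `V` -/
theorem mem_centralizer_VW (g : G)
    (hgN : g ∈ Subgroup.normalizer ((VW S D p : Subgroup G) : Set G))
    (h1 : Commute g (uG S D (hh D.n) 0)) (h2 : Commute g (uzG S D p (-p))) :
    g ∈ Subgroup.centralizer ((VW S D p : Subgroup G) : Set G) := by
  have hF3 := centralizes_Zc S D p g hgN
  have ht' : Commute g (uG S D 0 (hh D.n)) := by
    rw [← zeta_mul_t]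
    exact (commute_of_conj_eq (hF3 _)).mul_right h1
  have hcomm : ∀ a b, 2 * (a - b) = 0 → Commute g (uG S D a b) := by
    intro a b h
    have h1 : uG S D a b = uG S D a a * uG S D 0 (b - a) := by
      rw [uG_mul_uG, uG_inj]; constructor <;> ring
    rw [h1]
    apply Commute.mul_right (commute_of_conj_eq (hF3 a))
    have h2 : 2 * (b - a) = 0 := by linear_combination -h
    rcases (two_mul_eq_zero_iff D.hn1 _).mp h2 with h | h
    · rw [h, uG_zero]; exact Commute.one_right g
    · rw [h]; exact ht'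
  rw [Subgroup.mem_centralizer_iff]
  rintro v (⟨a, b, rfl, h⟩ | ⟨a, b, rfl, h⟩)
  · exact (hcomm a b h).eq.symm
  · have h3 : uzG S D a b = uG S D (a - p) (b + p) * uzG S D p (-p) := by
      rw [uG_mul_uzG, uzG_inj]; constructor <;> ring
    rw [h3]
    have h4 : Commute g (uG S D (a - p) (b + p)) := by
      apply hcomm
      linear_combination h
    exact (h4.mul_right h2).eq.symm

open Classical in
/-- the class of an element of `V` modulo `Z(S)` -/
noncomputable def cl (v : G) : Fin 3 :=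
  if ∃ a b, v = uG S D a b then 0
  else if ∃ a b, v = uzG S D a b ∧ a - b - 2 * p = 0 then 1 else 2

/-- class representatives -/
noncomputable def rep : Fin 3 → G
  | 0 => uG S D (hh D.n) 0
  | 1 => uzG S D p (-p)
  | 2 => uzG S D (p + hh D.n) (-p)

omit [Finite G] in
theorem cl_u (a b : ZMod (2 ^ D.n)) : cl S D p (uG S D a b) = 0 := by
  unfold cl
  rw [if_pos ⟨a, b, rfl⟩]

omit [Finite G] in
theorem cl_uz_zero (a b : ZMod (2 ^ D.n)) (h : a - b - 2 * p = 0) :
    cl S D p (uzG S D a b) = 1 := by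
  unfold cl
  rw [if_neg, if_pos ⟨a, b, rfl, h⟩]
  rintro ⟨a', b', h'⟩
  exact uG_ne_uzG S D _ _ _ _ h'.symm

omit [Finite G] in
theorem cl_uz_ne (a b : ZMod (2 ^ D.n)) (h : a - b - 2 * p ≠ 0) :
    cl S D p (uzG S D a b) = 2 := by
  unfold cl
  rw [if_neg, if_neg]
  · rintro ⟨a', b', h', h2⟩
    obtain ⟨rfl, rfl⟩ := (uzG_inj S D).mp h'
    exact h h2
  · rintro ⟨a', b', h'⟩
    exact uG_ne_uzG S D _ _ _ _ h'.symm

omit [Finite G] in
theorem cl_rep_mul (j : Fin 3) (c : ZMod (2 ^ D.n)) :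
    cl S D p (rep S D p j * uG S D c c) = j := by
  fin_cases j
  · show cl S D p (uG S D (hh D.n) 0 * uG S D c c) = 0
    rw [uG_mul_uG]; exact cl_u S D p _ _
  · show cl S D p (uzG S D p (-p) * uG S D c c) = 1
    rw [uzG_mul_uG]; exact cl_uz_zero S D p _ _ (by ring)
  · show cl S D p (uzG S D (p + hh D.n) (-p) * uG S D c c) = 2
    rw [uzG_mul_uG]
    apply cl_uz_ne
    intro h
    apply hh_ne_zero D.hn1
    linear_combination h

omit [Finite G] in
theorem cl_rep (j : Fin 3) : cl S D p (rep S D p j) = j := by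
  have := cl_rep_mul S D p j 0
  rwa [uG_zero, mul_one] at this

omit [Finite G] in
theorem rep_mem (j : Fin 3) : rep S D p j ∈ VW S D p := by
  have hhh := two_mul_hh D.hn1
  fin_cases j
  · exact t_mem_VW S D p
  · exact w_mem_VW S D p
  · show uzG S D (p + hh D.n) (-p) ∈ VW S D p
    rw [uzG_mem_VW]
    linear_combination hhh

omit [Finite G] in
theorem rep_ne (j : Fin 3) (c : ZMod (2 ^ D.n)) : rep S D p j ≠ uG S D c c := by
  fin_cases j
  · show uG S D (hh D.n) 0 ≠ uG S D c c
    intro h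
    obtain ⟨h1, h2⟩ := (uG_inj S D).mp h
    exact hh_ne_zero D.hn1 (h1.trans h2.symm)
  · exact (uG_ne_uzG S D _ _ _ _).symm
  · exact (uG_ne_uzG S D _ _ _ _).symm

omit [Finite G] in
/-- non-central elements of `V` are `rep (cl v)` times a central element -/
theorem exists_rep_cl (v : G) (hv : v ∈ VW S D p) (hnc : ∀ c, v ≠ uG S D c c) :
    ∃ c, v = rep S D p (cl S D p v) * uG S D c c := by
  rcases hv with ⟨a, b, rfl, h⟩ | ⟨a, b, rfl, h⟩
  · rw [cl_u]
    refine ⟨b, ?_⟩
    show uG S D a b = uG S D (hh D.n) 0 * uG S D b b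
    rw [uG_mul_uG, uG_inj]
    refine ⟨?_, by ring⟩
    rcases (two_mul_eq_zero_iff D.hn1 _).mp h with h' | h'
    · exfalso
      have : a = b := by linear_combination h'
      subst this
      exact hnc a rfl
    · linear_combination h'
  · by_cases h0 : a - b - 2 * p = 0
    · rw [cl_uz_zero S D p a b h0]
      refine ⟨a - p, ?_⟩
      show uzG S D a b = uzG S D p (-p) * uG S D (a - p) (a - p)
      rw [uzG_mul_uG, uzG_inj]
      refine ⟨by ring, ?_⟩
      linear_combination -h0
    · rw [cl_uz_ne S D p a b h0]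
      refine ⟨a - p - hh D.n, ?_⟩
      show uzG S D a b = uzG S D (p + hh D.n) (-p) * uG S D (a - p - hh D.n) (a - p - hh D.n)
      rw [uzG_mul_uG, uzG_inj]
      refine ⟨by ring, ?_⟩
      rcases (two_mul_eq_zero_iff D.hn1 _).mp h with h' | h'
      · exact absurd h' h0
      · linear_combination -h'

/-- conjugates of the representatives -/
theorem conj_rep (g : G) (hgN : g ∈ Subgroup.normalizer ((VW S D p : Subgroup G) : Set G))
    (j : Fin 3) :
    ∃ c, g * rep S D p j * g⁻¹ = rep S D p (cl S D p (g * rep S D p j * g⁻¹)) * uG S D c c := by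
  apply exists_rep_cl
  · exact conj_mem_of_mem_normalizer hgN (rep_mem S D p j)
  · intro c h
    have h1 := centralizes_Zc S D p g⁻¹ (Subgroup.inv_mem _ hgN) c
    rw [inv_inv] at h1
    apply rep_ne S D p j c
    calc rep S D p j = g⁻¹ * (g * rep S D p j * g⁻¹) * g := by group
      _ = uG S D c c := by rw [h, h1]

/-- the action of `N(V)` on the three classes -/
@[reducible] noncomputable def actN :
    MulAction (Subgroup.normalizer ((VW S D p : Subgroup G) : Set G)) (Fin 3) where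
  smul g j := cl S D p ((g : G) * rep S D p j * (g : G)⁻¹)
  one_smul j := by
    show cl S D p (((1 : Subgroup.normalizer ((VW S D p : Subgroup G) : Set G)) : G) *
      rep S D p j * ((1 : Subgroup.normalizer ((VW S D p : Subgroup G) : Set G)) : G)⁻¹) = j
    rw [Subgroup.coe_one, one_mul, inv_one, mul_one, cl_rep]
  mul_smul g h j := by
    show cl S D p (((g * h : Subgroup.normalizer ((VW S D p : Subgroup G) : Set G)) : G) *
      rep S D p j * ((g * h : Subgroup.normalizer ((VW S D p : Subgroup G) : Set G)) : G)⁻¹) =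
      cl S D p ((g : G) * rep S D p (cl S D p ((h : G) * rep S D p j * (h : G)⁻¹)) * (g : G)⁻¹)
    obtain ⟨c, hc⟩ := conj_rep S D p (h : G) h.2 j
    obtain ⟨k, hk⟩ : ∃ k, k = cl S D p ((h : G) * rep S D p j * (h : G)⁻¹) := ⟨_, rfl⟩
    rw [← hk] at hc ⊢
    obtain ⟨c', hc'⟩ := conj_rep S D p (g : G) g.2 k
    have h1 : ((g * h : Subgroup.normalizer ((VW S D p : Subgroup G) : Set G)) : G) *
        rep S D p j * ((g * h : Subgroup.normalizer ((VW S D p : Subgroup G) : Set G)) : G)⁻¹ =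
        (g : G) * ((h : G) * rep S D p j * (h : G)⁻¹) * (g : G)⁻¹ := by
      rw [Subgroup.coe_mul]; group
    rw [h1, hc, ← conj_mul, centralizes_Zc S D p (g : G) g.2 c]
    obtain ⟨l, hl⟩ : ∃ l, l = cl S D p ((g : G) * rep S D p k * (g : G)⁻¹) := ⟨_, rfl⟩
    rw [← hl] at hc' ⊢
    rw [hc', mul_assoc, uG_mul_uG, cl_rep_mul]

omit [Finite G] in
/-- conjugation inside `V` is multiplication by a central element -/
theorem conj_in_VW (v v' : G) (hv : v ∈ VW S D p) (hv' : v' ∈ VW S D p) :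
    ∃ e, v * v' * v⁻¹ = v' * uG S D e e := by
  rcases hv with ⟨a, b, rfl, h⟩ | ⟨a, b, rfl, h⟩ <;>
    rcases hv' with ⟨c, d, rfl, h'⟩ | ⟨c, d, rfl, h'⟩
  · refine ⟨0, ?_⟩
    rw [conj_eq_of_commute (uG_comm S D _ _ _ _), uG_zero, mul_one]
  · refine ⟨a - b, ?_⟩
    rw [uG_conj_uzG, uzG_mul_uG, uzG_inj]
    refine ⟨by ring, ?_⟩
    linear_combination -h
  · refine ⟨d - c, ?_⟩
    rw [uzG_conj_uG, uG_mul_uG, uG_inj]
    refine ⟨by ring, ?_⟩
    linear_combination h'
  · refine ⟨a + d - b - c, ?_⟩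
    rw [uzG_inv, uzG_mul_uzG, uG_mul_uzG, uzG_mul_uG, uzG_inj]
    refine ⟨by ring, ?_⟩
    linear_combination -h + h'

/-- `|N(V) : V C(V)|` is `2` or `6`. -/
theorem relIndex_V :
    (VW S D p ⊔ Subgroup.centralizer ((VW S D p : Subgroup G) : Set G)).relIndex
        (Subgroup.normalizer ((VW S D p : Subgroup G) : Set G)) = 2 ∨
      (VW S D p ⊔ Subgroup.centralizer ((VW S D p : Subgroup G) : Set G)).relIndex
        (Subgroup.normalizer ((VW S D p : Subgroup G) : Set G)) = 6 := by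
  let _ := actN S D p
  have hsmul : ∀ (g : Subgroup.normalizer ((VW S D p : Subgroup G) : Set G)) (j : Fin 3),
      g • j = cl S D p ((g : G) * rep S D p j * (g : G)⁻¹) := fun _ _ => rfl
  obtain ⟨K, hK⟩ : ∃ K, K = (MulAction.toPermHom
      (Subgroup.normalizer ((VW S D p : Subgroup G) : Set G)) (Fin 3)).ker := ⟨_, rfl⟩
  have hKn : K.Normal := by rw [hK]; infer_instance
  have hmemK : ∀ g : Subgroup.normalizer ((VW S D p : Subgroup G) : Set G),
      g ∈ K ↔ ∀ j : Fin 3, cl S D p ((g : G) * rep S D p j * (g : G)⁻¹) = j := by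
    intro g
    rw [hK, MonoidHom.mem_ker]
    constructor
    · intro h j
      have := congrArg (fun σ : Equiv.Perm (Fin 3) => σ j) h
      simpa [hsmul] using this
    · intro h
      apply Equiv.ext
      intro j
      show g • j = j
      rw [hsmul]; exact h j
  have hKidx : K.index ∣ 6 := by
    rw [hK, Subgroup.index_ker]
    have h2 := Subgroup.card_subgroup_dvd_card (MulAction.toPermHom
      (Subgroup.normalizer ((VW S D p : Subgroup G) : Set G)) (Fin 3)).range
    rw [Nat.card_perm, Nat.card_fin] at h2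
    exact h2
  have hhh := hh_add_hh S D
  have hhn := hh_ne_zero D.hn1
  -- `K ≤ V C(V)`
  have hKM : K ≤ (VW S D p ⊔ Subgroup.centralizer ((VW S D p : Subgroup G) : Set G)).subgroupOf
      (Subgroup.normalizer ((VW S D p : Subgroup G) : Set G)) := by
    intro g hg
    rw [hmemK] at hg
    rw [Subgroup.mem_subgroupOf]
    obtain ⟨c₁, h1⟩ := conj_rep S D p (g : G) g.2 0
    rw [hg 0] at h1
    obtain ⟨c₂, h2⟩ := conj_rep S D p (g : G) g.2 1
    rw [hg 1] at h2
    change (g : G) * uG S D (hh D.n) 0 * (g : G)⁻¹ = uG S D (hh D.n) 0 * uG S D c₁ c₁ at h1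
    change (g : G) * uzG S D p (-p) * (g : G)⁻¹ = uzG S D p (-p) * uG S D c₂ c₂ at h2
    have hc₁ : c₁ = 0 ∨ c₁ = hh D.n := by
      have hord : orderOf (uG S D (hh D.n) 0 * uG S D c₁ c₁) = 2 := by
        rw [← h1, orderOf_conj', orderOf_t]
      rw [uG_mul_uG] at hord
      have h3 : uG S D (hh D.n + c₁) (0 + c₁) ^ 2 = 1 := by
        have := pow_orderOf_eq_one (uG S D (hh D.n + c₁) (0 + c₁))
        rwa [hord] at this
      have := (sq_eq_one_U S D _ _ h3).2
      rwa [zero_add] at this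
    have hc₂ : c₂ = 0 ∨ c₂ = hh D.n := by
      have hord : orderOf (uzG S D p (-p) * uG S D c₂ c₂) = 2 := by
        rw [← h2, orderOf_conj', orderOf_w]
      rw [uzG_mul_uG] at hord
      have h3 := invol_uzG S D _ _ hord
      apply (two_mul_eq_zero_iff D.hn1 _).mp
      linear_combination h3
    -- a correcting element `v ∈ V`
    obtain ⟨v, hvV, hvt, hvw⟩ : ∃ v ∈ VW S D p,
        v * (uG S D (hh D.n) 0 * uG S D c₁ c₁) * v⁻¹ = uG S D (hh D.n) 0 ∧
        v * (uzG S D p (-p) * uG S D c₂ c₂) * v⁻¹ = uzG S D p (-p) := by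
      rcases hc₁ with rfl | rfl <;> rcases hc₂ with rfl | rfl
      · refine ⟨1, Subgroup.one_mem _, ?_, ?_⟩
        · rw [uG_zero]; simp
        · rw [uG_zero]; simp
      · refine ⟨uG S D (hh D.n) 0, t_mem_VW S D p, ?_, ?_⟩
        · rw [uG_zero, mul_one]; exact conj_eq_of_commute (Commute.refl _)
        · rw [uzG_mul_uG, uG_conj_uzG, uzG_inj]
          constructor <;> first | ring1 | linear_combination hhh
      · refine ⟨uzG S D p (-p), w_mem_VW S D p, ?_, ?_⟩
        · rw [uG_mul_uG, uzG_conj_uG, uG_inj]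
          constructor <;> first | ring1 | linear_combination hhh
        · rw [uG_zero, mul_one]; exact conj_eq_of_commute (Commute.refl _)
      · refine ⟨uG S D (hh D.n) 0 * uzG S D p (-p),
          (VW S D p).mul_mem (t_mem_VW S D p) (w_mem_VW S D p), ?_, ?_⟩
        · rw [uG_mul_uG, uG_mul_uzG, uzG_conj_uG, uG_inj]
          constructor <;> first | ring1 | linear_combination hhh
        · rw [uG_mul_uzG, uzG_mul_uG, uzG_inv, uzG_mul_uzG, uG_mul_uzG, uzG_inj]
          constructor <;> first | ring1 | linear_combination hhh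
    have hvN : v ∈ Subgroup.normalizer ((VW S D p : Subgroup G) : Set G) :=
      Subgroup.le_normalizer hvV
    have hvgN : v * (g : G) ∈ Subgroup.normalizer ((VW S D p : Subgroup G) : Set G) :=
      Subgroup.mul_mem _ hvN g.2
    have e1 : v * (g : G) * uG S D (hh D.n) 0 * (v * (g : G))⁻¹ = uG S D (hh D.n) 0 := by
      calc v * (g : G) * uG S D (hh D.n) 0 * (v * (g : G))⁻¹
          = v * ((g : G) * uG S D (hh D.n) 0 * (g : G)⁻¹) * v⁻¹ := by group
        _ = uG S D (hh D.n) 0 := by rw [h1, hvt]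
    have e2 : v * (g : G) * uzG S D p (-p) * (v * (g : G))⁻¹ = uzG S D p (-p) := by
      calc v * (g : G) * uzG S D p (-p) * (v * (g : G))⁻¹
          = v * ((g : G) * uzG S D p (-p) * (g : G)⁻¹) * v⁻¹ := by group
        _ = uzG S D p (-p) := by rw [h2, hvw]
    have hcen := mem_centralizer_VW S D p _ hvgN (commute_of_conj_eq e1) (commute_of_conj_eq e2)
    have e3 : (g : G) = v⁻¹ * (v * (g : G)) := by group
    rw [e3]
    exact Subgroup.mul_mem _ (Subgroup.mem_sup_left ((VW S D p).inv_mem hvV))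
      (Subgroup.mem_sup_right hcen)
  -- `V C(V) ≤ K`
  have hMK : VW S D p ⊔ Subgroup.centralizer ((VW S D p : Subgroup G) : Set G) ≤
      K.map (Subgroup.normalizer ((VW S D p : Subgroup G) : Set G)).subtype := by
    apply sup_le
    · intro v hv
      refine ⟨⟨v, Subgroup.le_normalizer hv⟩, ?_, rfl⟩
      rw [SetLike.mem_coe, hmemK]
      intro j
      obtain ⟨e, he⟩ := conj_in_VW S D p v (rep S D p j) hv (rep_mem S D p j)
      show cl S D p (v * rep S D p j * v⁻¹) = j
      rw [he, cl_rep_mul]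
    · intro c hc
      refine ⟨⟨c, Subgroup.centralizer_le_normalizer _ hc⟩, ?_, rfl⟩
      rw [SetLike.mem_coe, hmemK]
      intro j
      show cl S D p (c * rep S D p j * c⁻¹) = j
      rw [Subgroup.mem_centralizer_iff] at hc
      rw [← hc _ (rep_mem S D p j), mul_inv_cancel_right, cl_rep]
  have hKeq : (VW S D p ⊔ Subgroup.centralizer ((VW S D p : Subgroup G) : Set G)).subgroupOf
      (Subgroup.normalizer ((VW S D p : Subgroup G) : Set G)) = K := by
    apply le_antisymm _ hKM
    intro g hg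
    rw [Subgroup.mem_subgroupOf] at hg
    obtain ⟨k, hk, hkg⟩ := hMK hg
    have : k = g := Subtype.ext hkg
    rw [← this]; exact hk
  show ((VW S D p ⊔ Subgroup.centralizer ((VW S D p : Subgroup G) : Set G)).subgroupOf
      (Subgroup.normalizer ((VW S D p : Subgroup G) : Set G))).index = 2 ∨
    ((VW S D p ⊔ Subgroup.centralizer ((VW S D p : Subgroup G) : Set G)).subgroupOf
      (Subgroup.normalizer ((VW S D p : Subgroup G) : Set G))).index = 6
  rw [hKeq]
  -- an element of `N(V)` outside `K` with square in `K`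
  have hqq := two_mul_qq D.hn
  have h2hh := two_mul_hh D.hn1
  have hsN : uG S D (qq D.n) 0 ∈ Subgroup.normalizer ((VW S D p : Subgroup G) : Set G) := by
    apply mem_normalizer_of_conj_mem
    rintro v (⟨a, b, rfl, h⟩ | ⟨a, b, rfl, h⟩)
    · rw [conj_eq_of_commute (uG_comm S D _ _ _ _)]
      exact (uG_mem_VW S D p).mpr h
    · rw [uG_conj_uzG, uzG_mem_VW]
      linear_combination h + 2 * hqq + h2hh
  have hsK : (⟨uG S D (qq D.n) 0, hsN⟩ :
      Subgroup.normalizer ((VW S D p : Subgroup G) : Set G)) ∉ K := by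
    rw [hmemK]
    intro h
    have h1 := h 1
    change cl S D p (uG S D (qq D.n) 0 * uzG S D p (-p) * (uG S D (qq D.n) 0)⁻¹) = 1 at h1
    rw [uG_conj_uzG, cl_uz_ne] at h1
    · exact absurd h1 (by decide)
    · intro h0
      apply hhn
      linear_combination h0 - hqq
  have hs2K : (⟨uG S D (qq D.n) 0, hsN⟩ :
      Subgroup.normalizer ((VW S D p : Subgroup G) : Set G)) ^ 2 ∈ K := by
    rw [← hKeq, Subgroup.mem_subgroupOf, Subgroup.coe_pow]
    apply Subgroup.mem_sup_left
    show uG S D (qq D.n) 0 ^ 2 ∈ VW S D p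
    rw [uG_pow, uG_mem_VW]
    push_cast
    linear_combination 2 * hqq + h2hh
  have heven : 2 ∣ K.index := by
    by_contra hodd
    have hodd' : Odd K.index := Nat.odd_iff.mpr (Nat.two_dvd_ne_zero.mp hodd)
    obtain ⟨l, hl⟩ := hodd'
    have h1 := Subgroup.pow_index_mem K (⟨uG S D (qq D.n) 0, hsN⟩ :
      Subgroup.normalizer ((VW S D p : Subgroup G) : Set G))
    rw [hl, pow_succ, pow_mul] at h1
    have h2 := K.pow_mem hs2K l
    exact hsK ((Subgroup.mul_mem_cancel_left K h2).mp h1)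
  have hle : K.index ≤ 6 := Nat.le_of_dvd (by norm_num) hKidx
  obtain ⟨r, hr⟩ : ∃ r, r = K.index := ⟨_, rfl⟩
  rw [← hr] at hKidx heven hle ⊢
  interval_cases r <;> omega

omit [Finite G] in
/-- `V = VW p` as soon as `V ≤ VW p` contains `t`, `w` and `Z(S)` -/
theorem VW_le (V : Subgroup G) (hw : uzG S D p (-p) ∈ V) (ht : uG S D (hh D.n) 0 ∈ V)
    (hc : ∀ c, uG S D c c ∈ V) : VW S D p ≤ V := by
  have ht' : uG S D 0 (hh D.n) ∈ V := by
    rw [← zeta_mul_t]; exact V.mul_mem (hc _) ht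
  have hu : ∀ a b, 2 * (a - b) = 0 → uG S D a b ∈ V := by
    intro a b h
    have h1 : uG S D a b = uG S D a a * uG S D 0 (b - a) := by
      rw [uG_mul_uG, uG_inj]; constructor <;> ring
    rw [h1]
    apply V.mul_mem (hc a)
    have h2 : 2 * (b - a) = 0 := by linear_combination -h
    rcases (two_mul_eq_zero_iff D.hn1 _).mp h2 with h | h
    · rw [h, uG_zero]; exact V.one_mem
    · rw [h]; exact ht'
  rintro v (⟨a, b, rfl, h⟩ | ⟨a, b, rfl, h⟩)
  · exact hu a b h
  · have h3 : uzG S D a b = uG S D (a - p) (b + p) * uzG S D p (-p) := by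
      rw [uG_mul_uzG, uzG_inj]; constructor <;> ring
    rw [h3]
    apply V.mul_mem _ hw
    apply hu
    linear_combination h

end B

end Cfsg.Agent.Helper16.WrIndices
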