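import Mathlib
import Cfsg.Agent.Helper18.Wr6
import Cfsg.Agent.Helper16.AutOdd

/-!
Self-centralizing subgroups of a wreathed 2-group: apart from the abelian subgroup `U` of index 2
and the subgroups `V_p = Q₈ Z(S)`, their automorphism groups are 2-groups.
-/

set_option autoImplicit false

namespace Cfsg.Agent.Helper16.WrCentric

open Cfsg.Agent.Helper18.Wr
open Cfsg.Agent.Helper18.QD (hh qq two_mul_hh hh_ne_zero two_mul_eq_zero_iff neg_hh two_mul_qq
  qq_add_hh two_mul_eq_two_mul_iff even_or_odd hh_mul_odd hh_mul_even two_mul_ne_odd four_mul_qq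
  two_pow_self_eq_zero)
open Cfsg.Agent.Helper16.AutOdd

theorem exists_pow_mul_eq_hh {n : ℕ} (hn : 1 ≤ n) (e : ZMod (2 ^ n)) (he : e ≠ 0) :
    ∃ j : ℕ, (2 : ZMod (2 ^ n)) ^ j * e = hh n := by
  classical
  have hex : ∃ k : ℕ, (2 : ZMod (2 ^ n)) ^ k * e = 0 :=
    ⟨n, by rw [two_pow_self_eq_zero, zero_mul]⟩
  have hk := Nat.find_spec hex
  obtain ⟨k, hk0⟩ : ∃ k, k = Nat.find hex := ⟨_, rfl⟩
  rw [← hk0] at hk
  rcases k with _ | k
  · rw [pow_zero, one_mul] at hk; exact absurd hk he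
  · refine ⟨k, ?_⟩
    have h1 : 2 * ((2 : ZMod (2 ^ n)) ^ k * e) = 0 := by
      rw [← mul_assoc, ← pow_succ']; exact hk
    rcases (two_mul_eq_zero_iff hn _).mp h1 with h | h
    · exact absurd h (Nat.find_min hex (by omega))
    · exact h

section
variable {S : Type*} [Group S] (D : WrData S)

/-- the subgroup `V_p` -/
def VS (p : ZMod (2 ^ D.n)) : Subgroup S where
  carrier := {v | (∃ a b, v = D.u a b ∧ 2 * (a - b) = 0) ∨
    (∃ a b, v = D.uz a b ∧ 2 * (a - b - 2 * p) = 0)}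
  one_mem' := Or.inl ⟨0, 0, D.u_zero.symm, by ring⟩
  mul_mem' := by
    rintro x y (⟨a, b, rfl, h1⟩ | ⟨a, b, rfl, h1⟩) (⟨c, d, rfl, h2⟩ | ⟨c, d, rfl, h2⟩)
    · exact Or.inl ⟨_, _, D.u_mul_u _ _ _ _, by linear_combination h1 + h2⟩
    · exact Or.inr ⟨_, _, D.u_mul_uz _ _ _ _, by linear_combination h1 + h2⟩
    · exact Or.inr ⟨_, _, D.uz_mul_u _ _ _ _, by linear_combination h1 - h2⟩
    · exact Or.inl ⟨_, _, D.uz_mul_uz _ _ _ _, by linear_combination h1 - h2⟩
  inv_mem' := by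
    rintro x (⟨a, b, rfl, h1⟩ | ⟨a, b, rfl, h1⟩)
    · exact Or.inl ⟨_, _, D.u_inv _ _, by linear_combination -h1⟩
    · exact Or.inr ⟨_, _, D.uz_inv _ _, by linear_combination h1⟩

theorem u_mem_VS {p a b : ZMod (2 ^ D.n)} : D.u a b ∈ VS D p ↔ 2 * (a - b) = 0 := by
  constructor
  · rintro (⟨c, d, h, h1⟩ | ⟨c, d, h, _⟩)
    · obtain ⟨rfl, rfl⟩ := D.u_inj.mp h
      exact h1
    · exact absurd h (D.u_ne_uz _ _ _ _)
  · intro h
    exact Or.inl ⟨a, b, rfl, h⟩

theorem uz_mem_VS {p a b : ZMod (2 ^ D.n)} :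
    D.uz a b ∈ VS D p ↔ 2 * (a - b - 2 * p) = 0 := by
  constructor
  · rintro (⟨c, d, h, _⟩ | ⟨c, d, h, h1⟩)
    · exact absurd h.symm (D.u_ne_uz _ _ _ _)
    · obtain ⟨rfl, rfl⟩ := D.uz_inj.mp h
      exact h1
  · intro h
    exact Or.inr ⟨a, b, rfl, h⟩

theorem uz_not_comm_t (c d : ZMod (2 ^ D.n)) :
    D.uz c d * D.u (hh D.n) 0 ≠ D.u (hh D.n) 0 * D.uz c d := by
  intro h
  rw [D.uz_mul_u, D.u_mul_uz, D.uz_inj] at h
  apply hh_ne_zero D.hn1
  linear_combination -h.1

theorem pow_card_eq_one [Finite S] (s : S) : s ^ (2 ^ (2 * D.n + 1)) = 1 := by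
  rw [← D.card]; exact pow_card_eq_one'

theorem pow_card_eq_one_sub [Finite S] (X : Subgroup S) (y : X) : y ^ (2 ^ (2 * D.n + 1)) = 1 := by
  apply Subtype.ext
  rw [Subgroup.coe_pow, Subgroup.coe_one]
  exact pow_card_eq_one D _

theorem u_central (c : ZMod (2 ^ D.n)) (g : S) [Finite S] : g * D.u c c = D.u c c * g := by
  have := (D.mem_center_iff (D.u c c)).mpr ⟨c, rfl⟩
  exact Subgroup.mem_center_iff.mp this g

theorem zeta_mul_t : D.u (hh D.n) (hh D.n) * D.u (hh D.n) 0 = D.u 0 (hh D.n) := by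
  rw [D.u_mul_u, D.u_inj]
  have := two_mul_hh D.hn1
  constructor
  · linear_combination this
  · ring

theorem zeta_mul_t' : D.u (hh D.n) (hh D.n) * D.u 0 (hh D.n) = D.u (hh D.n) 0 := by
  rw [D.u_mul_u, D.u_inj]
  have := two_mul_hh D.hn1
  constructor
  · ring
  · linear_combination this

end

section
variable {S : Type*} [Group S] [Finite S] (D : WrData S)

/-- Lemma Q: an automorphism of odd order of `X ∋ t, s` mapping `t` into `U` is trivial -/
theorem aut_trivial_Q (X : Subgroup S) (hZ : ∀ c, D.u c c ∈ X) (ht : D.u (hh D.n) 0 ∈ X)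
    (a₀ b₀ : ZMod (2 ^ D.n)) (hs : D.uz a₀ b₀ ∈ X) (α : MulAut X) (hodd : Odd (orderOf α))
    (hαt : ∃ a b, ((α ⟨D.u (hh D.n) 0, ht⟩ : X) : S) = D.u a b) : α = 1 := by
  have hne := hh_ne_zero D.hn1
  have ht' : D.u 0 (hh D.n) ∈ X := by
    rw [← zeta_mul_t D]; exact X.mul_mem (hZ _) ht
  -- ζ is fixed
  have hcentral : ∀ v : X, (⟨D.u (hh D.n) (hh D.n), hZ _⟩ : X) * v =
      v * ⟨D.u (hh D.n) (hh D.n), hZ _⟩ := by
    intro v
    apply Subtype.ext
    exact (u_central D _ v.1).symm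
  have hordζ : orderOf (D.u (hh D.n) (hh D.n)) = 2 :=
    (D.invol_iff _).mpr (Or.inr (Or.inr (Or.inl rfl)))
  have hordt : orderOf (D.u (hh D.n) 0) = 2 := (D.invol_iff _).mpr (Or.inl rfl)
  have hζ : α ⟨D.u (hh D.n) (hh D.n), hZ _⟩ = ⟨D.u (hh D.n) (hh D.n), hZ _⟩ := by
    have hc := map_central α _ hcentral
    have hord : orderOf ((α ⟨D.u (hh D.n) (hh D.n), hZ _⟩ : X) : S) = 2 := by
      rw [Subgroup.orderOf_coe, MulEquiv.orderOf_eq, ← Subgroup.orderOf_coe]
      exact hordζ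
    obtain ⟨y', hy'⟩ : ∃ y', y' = α ⟨D.u (hh D.n) (hh D.n), hZ _⟩ := ⟨_, rfl⟩
    rw [← hy'] at hc hord ⊢
    have hct := congrArg Subtype.val (hc ⟨D.u (hh D.n) 0, ht⟩)
    have hcs := congrArg Subtype.val (hc ⟨D.uz a₀ b₀, hs⟩)
    rw [Subgroup.coe_mul, Subgroup.coe_mul] at hct hcs
    apply Subtype.ext
    show (y' : S) = _
    rcases D.exists_rep (y' : S) with ⟨a, b, h⟩ | ⟨c, d, h⟩
    · rw [h] at hcs hord ⊢
      simp only at hcs
      rw [D.u_mul_uz, D.uz_mul_u, D.uz_inj] at hcs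
      have hab : a = b := by linear_combination hcs.1
      subst hab
      rcases (D.invol_iff _).mp hord with h1 | h1 | h1 | ⟨e, h1⟩
      · have := D.u_inj.mp h1
        exact absurd (this.1.symm.trans this.2) hne
      · have := D.u_inj.mp h1
        exact absurd (this.2.symm.trans this.1) hne
      · exact h1
      · exact absurd h1 (D.u_ne_uz _ _ _ _)
    · rw [h] at hct
      exact absurd hct (uz_not_comm_t D c d)
  -- t is fixed
  have hζt : (⟨D.u (hh D.n) (hh D.n), hZ _⟩ : X) * ⟨D.u (hh D.n) 0, ht⟩ = ⟨D.u 0 (hh D.n), ht'⟩ :=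
    Subtype.ext (zeta_mul_t D)
  have hζt' : (⟨D.u (hh D.n) (hh D.n), hZ _⟩ : X) * ⟨D.u 0 (hh D.n), ht'⟩ = ⟨D.u (hh D.n) 0, ht⟩ :=
    Subtype.ext (zeta_mul_t' D)
  have htfix : α ⟨D.u (hh D.n) 0, ht⟩ = ⟨D.u (hh D.n) 0, ht⟩ := by
    obtain ⟨a, b, hab⟩ := hαt
    have hord : orderOf ((α ⟨D.u (hh D.n) 0, ht⟩ : X) : S) = 2 := by
      rw [Subgroup.orderOf_coe, MulEquiv.orderOf_eq, ← Subgroup.orderOf_coe]
      exact hordt
    rcases (D.invol_iff _).mp hord with h1 | h1 | h1 | ⟨e, h1⟩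
    · exact Subtype.ext h1
    · have h2 : α ⟨D.u (hh D.n) 0, ht⟩ = ⟨D.u 0 (hh D.n), ht'⟩ := Subtype.ext h1
      apply fix_of_sq_fix α hodd
      rw [h2, ← hζt, map_mul, hζ, h2, hζt']
    · exfalso
      have h2 : α ⟨D.u (hh D.n) 0, ht⟩ = α ⟨D.u (hh D.n) (hh D.n), hZ _⟩ := by
        rw [hζ]; exact Subtype.ext h1
      have h3 := congrArg Subtype.val (α.injective h2)
      simp only at h3
      exact hne (D.u_inj.mp h3).2.symm
    · rw [hab] at h1
      exact absurd h1 (D.u_ne_uz _ _ _ _)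
  have ht'fix : α ⟨D.u 0 (hh D.n), ht'⟩ = ⟨D.u 0 (hh D.n), ht'⟩ := by
    rw [← hζt, map_mul, hζ, htfix]
  -- the subgroup P = X ∩ U
  have hmemP : ∀ y : X, y ∈ D.U.subgroupOf X ↔ ∃ a b, (y : S) = D.u a b := by
    intro y
    rw [Subgroup.mem_subgroupOf, D.mem_U]
  have hαP : ∀ y ∈ D.U.subgroupOf X, α y ∈ D.U.subgroupOf X := by
    intro y hy
    obtain ⟨a, b, hab⟩ := (hmemP y).mp hy
    have hcomm : y * ⟨D.u (hh D.n) 0, ht⟩ = ⟨D.u (hh D.n) 0, ht⟩ * y := by
      apply Subtype.ext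
      rw [Subgroup.coe_mul, Subgroup.coe_mul, hab]
      simp only
      rw [D.u_mul_u, D.u_mul_u, D.u_inj]
      constructor <;> ring
    have h2 := congrArg α hcomm
    rw [map_mul, map_mul, htfix] at h2
    have h3 := congrArg Subtype.val h2
    rw [Subgroup.coe_mul, Subgroup.coe_mul] at h3
    rw [hmemP]
    rcases D.exists_rep ((α y : X) : S) with ⟨c, d, h⟩ | ⟨c, d, h⟩
    · exact ⟨c, d, h⟩
    · rw [h] at h3
      exact absurd h3 (uz_not_comm_t D c d)
  have hPcomm : ∀ a ∈ D.U.subgroupOf X, ∀ b ∈ D.U.subgroupOf X, a * b = b * a := by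
    intro a ha b hb
    obtain ⟨a1, a2, ha'⟩ := (hmemP a).mp ha
    obtain ⟨b1, b2, hb'⟩ := (hmemP b).mp hb
    apply Subtype.ext
    rw [Subgroup.coe_mul, Subgroup.coe_mul, ha', hb', D.u_mul_u, D.u_mul_u, D.u_inj]
    constructor <;> ring
  have hinv : ∀ y ∈ D.U.subgroupOf X, orderOf y = 2 → α y = y := by
    intro y hy hord
    obtain ⟨a, b, hab⟩ := (hmemP y).mp hy
    rw [← Subgroup.orderOf_coe] at hord
    rcases (D.invol_iff _).mp hord with h1 | h1 | h1 | ⟨e, h1⟩
    · have : y = ⟨D.u (hh D.n) 0, ht⟩ := Subtype.ext h1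
      rw [this]; exact htfix
    · have : y = ⟨D.u 0 (hh D.n), ht'⟩ := Subtype.ext h1
      rw [this]; exact ht'fix
    · have : y = ⟨D.u (hh D.n) (hh D.n), hZ _⟩ := Subtype.ext h1
      rw [this]; exact hζ
    · rw [hab] at h1
      exact absurd h1 (D.u_ne_uz _ _ _ _)
  have hfixP : ∀ y ∈ D.U.subgroupOf X, α y = y := fun y hy =>
    fix_of_fix_invol α hodd _ hPcomm hαP hinv (2 * D.n + 1) y hy (pow_card_eq_one_sub D X y)
  -- s is fixed
  have hsfix : α ⟨D.uz a₀ b₀, hs⟩ = ⟨D.uz a₀ b₀, hs⟩ := by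
    rcases D.exists_rep ((α ⟨D.uz a₀ b₀, hs⟩ : X) : S) with ⟨c, d, h⟩ | ⟨c, d, h⟩
    · exfalso
      have h1 : α ⟨D.uz a₀ b₀, hs⟩ ∈ D.U.subgroupOf X := (hmemP _).mpr ⟨c, d, h⟩
      have h2 := hfixP _ h1
      have h3 := α.injective h2
      rw [h3] at h1
      obtain ⟨a, b, hab⟩ := (hmemP _).mp h1
      exact D.u_ne_uz _ _ _ _ hab.symm
    · obtain ⟨c', hc'⟩ : ∃ c', c' = (⟨D.uz a₀ b₀, hs⟩ : X)⁻¹ * α ⟨D.uz a₀ b₀, hs⟩ := ⟨_, rfl⟩
      have hc'P : c' ∈ D.U.subgroupOf X := by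
        rw [hmemP, hc', Subgroup.coe_mul, Subgroup.coe_inv, h]
        simp only
        rw [D.uz_inv, D.uz_mul_uz]
        exact ⟨_, _, rfl⟩
      have h1 : α ⟨D.uz a₀ b₀, hs⟩ = ⟨D.uz a₀ b₀, hs⟩ * c' := by rw [hc']; group
      exact fix_of_stab α hodd _ c' h1 (hfixP c' hc'P) (2 * D.n + 1) (pow_card_eq_one_sub D X c')
  apply MulEquiv.ext
  intro y
  rw [MulAut.one_apply]
  rcases D.exists_rep (y : S) with ⟨a, b, h⟩ | ⟨a, b, h⟩
  · exact hfixP y ((hmemP y).mpr ⟨a, b, h⟩)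
  · have h1 : y * (⟨D.uz a₀ b₀, hs⟩ : X)⁻¹ ∈ D.U.subgroupOf X := by
      rw [hmemP, Subgroup.coe_mul, Subgroup.coe_inv, h]
      simp only
      rw [D.uz_inv, D.uz_mul_uz]
      exact ⟨_, _, rfl⟩
    have h2 : y = y * (⟨D.uz a₀ b₀, hs⟩ : X)⁻¹ * ⟨D.uz a₀ b₀, hs⟩ := by group
    rw [h2, map_mul, hfixP _ h1, hsfix]


/-- case B1: `t ∉ X` -/
theorem aut_trivial_B1 (X : Subgroup S) (hZ : ∀ c, D.u c c ∈ X) (ht : D.u (hh D.n) 0 ∉ X)
    (a₀ b₀ : ZMod (2 ^ D.n)) (hs : D.uz a₀ b₀ ∈ X) (α : MulAut X) (hodd : Odd (orderOf α)) :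
    α = 1 := by
  have hne := hh_ne_zero D.hn1
  -- X ∩ U = Zc
  have hdiag : ∀ a b, D.u a b ∈ X → a = b := by
    intro a b hab
    by_contra hne'
    have he : a - b ≠ 0 := sub_ne_zero.mpr hne'
    obtain ⟨j, hj⟩ := exists_pow_mul_eq_hh D.hn1 _ he
    have h1 : D.u (a - b) 0 ∈ X := by
      have : D.u (a - b) 0 = D.u a b * D.u (-b) (-b) := by
        rw [D.u_mul_u, D.u_inj]; constructor <;> ring
      rw [this]; exact X.mul_mem hab (hZ _)
    have h2 := X.pow_mem h1 (2 ^ j)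
    rw [D.u_pow, mul_zero] at h2
    push_cast at h2
    rw [hj] at h2
    exact ht h2
  have ht' : D.u 0 (hh D.n) ∉ X := fun h => hne (hdiag _ _ h).symm
  have hordζ : orderOf (D.u (hh D.n) (hh D.n)) = 2 :=
    (D.invol_iff _).mpr (Or.inr (Or.inr (Or.inl rfl)))
  -- shape of the elements outside U
  have hshape : ∀ c d, D.uz c d ∈ X → c - d = a₀ - b₀ := by
    intro c d hcd
    have h1 : D.uz c d * (D.uz a₀ b₀)⁻¹ ∈ X := X.mul_mem hcd (X.inv_mem hs)
    rw [D.uz_inv, D.uz_mul_uz] at h1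
    have := hdiag _ _ h1
    linear_combination this
  have hcomm : ∀ v ∈ (⊤ : Subgroup X), ∀ w ∈ (⊤ : Subgroup X), v * w = w * v := by
    intro v _ w _
    apply Subtype.ext
    rw [Subgroup.coe_mul, Subgroup.coe_mul]
    rcases D.exists_rep (v : S) with ⟨a, b, h⟩ | ⟨a, b, h⟩
    · have hv := v.2
      rw [h] at hv
      have := hdiag _ _ hv
      subst this
      rw [h]
      exact (u_central D a w.1).symm
    · rcases D.exists_rep (w : S) with ⟨c, d, h'⟩ | ⟨c, d, h'⟩
      · have hw := w.2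
        rw [h'] at hw
        have := hdiag _ _ hw
        subst this
        rw [h']
        exact u_central D c v.1
      · have hv := v.2
        have hw := w.2
        rw [h] at hv
        rw [h'] at hw
        have h1 := hshape _ _ hv
        have h2 := hshape _ _ hw
        rw [h, h', D.uz_mul_uz, D.uz_mul_uz, D.u_inj]
        constructor
        · linear_combination h1 - h2
        · linear_combination h2 - h1
  -- ζ is fixed
  have hζ : α ⟨D.u (hh D.n) (hh D.n), hZ _⟩ = ⟨D.u (hh D.n) (hh D.n), hZ _⟩ := by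
    have hsq : (⟨D.u (hh D.n) (hh D.n), hZ _⟩ : X) = (⟨D.u (qq D.n) (qq D.n), hZ _⟩ : X) ^ 2 := by
      apply Subtype.ext
      rw [Subgroup.coe_pow]
      simp only
      rw [D.u_sq, two_mul_qq D.hn]
    have hord : orderOf ((α ⟨D.u (hh D.n) (hh D.n), hZ _⟩ : X) : S) = 2 := by
      rw [Subgroup.orderOf_coe, MulEquiv.orderOf_eq, ← Subgroup.orderOf_coe]
      exact hordζ
    have hU : ∃ a b, ((α ⟨D.u (hh D.n) (hh D.n), hZ _⟩ : X) : S) = D.u a b := by
      rw [hsq, map_pow, Subgroup.coe_pow]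
      rcases D.exists_rep ((α ⟨D.u (qq D.n) (qq D.n), hZ _⟩ : X) : S) with ⟨c, d, h⟩ | ⟨c, d, h⟩
      · rw [h, D.u_sq]; exact ⟨_, _, rfl⟩
      · rw [h, D.uz_sq]; exact ⟨_, _, rfl⟩
    have hmem := (α ⟨D.u (hh D.n) (hh D.n), hZ _⟩).2
    rcases (D.invol_iff _).mp hord with h1 | h1 | h1 | ⟨e, h1⟩
    · rw [h1] at hmem; exact absurd hmem ht
    · rw [h1] at hmem; exact absurd hmem ht'
    · exact Subtype.ext h1
    · obtain ⟨a, b, hab⟩ := hU
      rw [hab] at h1
      exact absurd h1 (D.u_ne_uz _ _ _ _)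
  have hinv : ∀ y ∈ (⊤ : Subgroup X), orderOf y = 2 → α y = y := by
    intro y _ hord
    have hord' := hord
    rw [← Subgroup.orderOf_coe] at hord
    have hmem := y.2
    rcases (D.invol_iff _).mp hord with h1 | h1 | h1 | ⟨a, h1⟩
    · rw [h1] at hmem; exact absurd hmem ht
    · rw [h1] at hmem; exact absurd hmem ht'
    · have : y = ⟨D.u (hh D.n) (hh D.n), hZ _⟩ := Subtype.ext h1
      rw [this]; exact hζ
    · have hord2 : orderOf ((α y : X) : S) = 2 := by
        rw [Subgroup.orderOf_coe, MulEquiv.orderOf_eq]; exact hord'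
      have hmem2 := (α y).2
      rcases (D.invol_iff _).mp hord2 with h2 | h2 | h2 | ⟨a', h2⟩
      · rw [h2] at hmem2; exact absurd hmem2 ht
      · rw [h2] at hmem2; exact absurd hmem2 ht'
      · exfalso
        have h3 : α y = α ⟨D.u (hh D.n) (hh D.n), hZ _⟩ := by
          rw [hζ]; exact Subtype.ext h2
        have h4 := congrArg Subtype.val (α.injective h3)
        rw [h1] at h4
        exact D.u_ne_uz _ _ _ _ h4.symm
      · obtain ⟨c', hc'⟩ : ∃ c', c' = y⁻¹ * α y := ⟨_, rfl⟩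
        have hc'val : (c' : S) = D.u (a - a') (-(a - a')) := by
          rw [hc', Subgroup.coe_mul, Subgroup.coe_inv, h1, h2, D.uz_inv, D.uz_mul_uz, D.u_inj]
          constructor <;> ring
        have hc'mem := c'.2
        rw [hc'val] at hc'mem
        have h5 := hdiag _ _ hc'mem
        have h6 : 2 * (a - a') = 0 := by linear_combination h5
        have hc'fix : α c' = c' := by
          rcases (two_mul_eq_zero_iff D.hn1 _).mp h6 with h7 | h7
          · have : c' = 1 := by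
              apply Subtype.ext
              rw [hc'val, h7, neg_zero, D.u_zero]; rfl
            rw [this, map_one]
          · have : c' = ⟨D.u (hh D.n) (hh D.n), hZ _⟩ := by
              apply Subtype.ext
              rw [hc'val, h7, neg_hh D.hn1]
            rw [this]; exact hζ
        have hc'sq : c' ^ 2 ^ 1 = 1 := by
          apply Subtype.ext
          rw [pow_one, Subgroup.coe_pow, hc'val, D.u_sq, Subgroup.coe_one, D.u_eq_one_iff]
          constructor
          · exact h6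
          · linear_combination -h6
        have h8 : α y = y * c' := by rw [hc']; group
        exact fix_of_stab α hodd y c' h8 hc'fix 1 hc'sq
  apply MulEquiv.ext
  intro y
  rw [MulAut.one_apply]
  exact fix_of_fix_invol α hodd ⊤ hcomm (fun _ _ => Subgroup.mem_top _) hinv (2 * D.n + 1) y
    (Subgroup.mem_top _) (pow_card_eq_one_sub D X y)

/-- the trichotomy for self-centralizing subgroups -/
theorem trichotomy (X : Subgroup S) (hC : Subgroup.centralizer (X : Set S) ≤ X) :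
    X = D.U ∨ (∃ p, X = VS D p) ∨ ∀ α : MulAut X, Odd (orderOf α) → α = 1 := by
  have hne := hh_ne_zero D.hn1
  have hZ : ∀ c, D.u c c ∈ X := by
    intro c
    apply hC
    rw [Subgroup.mem_centralizer_iff]
    intro h _
    exact u_central D c h
  by_cases hXU : X ≤ D.U
  · left
    apply le_antisymm hXU
    intro x hx
    apply hC
    rw [Subgroup.mem_centralizer_iff]
    intro h hh'
    exact D.U_comm h (hXU hh') x hx
  obtain ⟨s, hsX, hsU⟩ := SetLike.not_le_iff_exists.mp hXU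
  rcases D.exists_rep s with ⟨a, b, rfl⟩ | ⟨a₀, b₀, rfl⟩
  · exact absurd (D.u_mem_U a b) hsU
  by_cases ht : D.u (hh D.n) 0 ∈ X
  · by_cases h3 : ∃ a b, D.u a b ∈ X ∧ 2 * (a - b) ≠ 0
    · right; right
      intro α hodd
      apply aut_trivial_Q D X hZ ht a₀ b₀ hsX α hodd
      obtain ⟨a, b, hab, h2⟩ := h3
      obtain ⟨j, hj⟩ := exists_pow_mul_eq_hh D.hn1 _ h2
      have h1 : D.u (a - b) 0 ∈ X := by
        have : D.u (a - b) 0 = D.u a b * D.u (-b) (-b) := by
          rw [D.u_mul_u, D.u_inj]; constructor <;> ring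
        rw [this]; exact X.mul_mem hab (hZ _)
      have h4 := X.pow_mem h1 (2 ^ j)
      have hsq : (⟨D.u (hh D.n) 0, ht⟩ : X) = (⟨D.u (a - b) 0 ^ 2 ^ j, h4⟩ : X) ^ 2 := by
        apply Subtype.ext
        rw [Subgroup.coe_pow]
        simp only
        rw [D.u_pow, D.u_sq, mul_zero, mul_zero, D.u_inj]
        push_cast
        constructor
        · linear_combination -hj
        · rfl
      rw [hsq, map_pow, Subgroup.coe_pow]
      rcases D.exists_rep ((α ⟨D.u (a - b) 0 ^ 2 ^ j, h4⟩ : X) : S) with ⟨c, d, h⟩ | ⟨c, d, h⟩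
      · rw [h, D.u_sq]; exact ⟨_, _, rfl⟩
      · rw [h, D.uz_sq]; exact ⟨_, _, rfl⟩
    · push Not at h3
      have hshape : ∀ c d, D.uz c d ∈ X → 2 * (c - d - (a₀ - b₀)) = 0 := by
        intro c d hcd
        have h1 : D.uz c d * (D.uz a₀ b₀)⁻¹ ∈ X := X.mul_mem hcd (X.inv_mem hsX)
        rw [D.uz_inv, D.uz_mul_uz] at h1
        have := h3 _ _ h1
        linear_combination this
      rcases even_or_odd (a₀ + b₀) with ⟨j, hj⟩ | ⟨j, hj⟩
      · right; left
        refine ⟨j - b₀, ?_⟩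
        ext x
        rcases D.exists_rep x with ⟨a, b, rfl⟩ | ⟨a, b, rfl⟩
        · rw [u_mem_VS]
          constructor
          · exact h3 a b
          · intro h
            have h1 : D.u a b = D.u b b * D.u (a - b) 0 := by
              rw [D.u_mul_u, D.u_inj]; constructor <;> ring
            rw [h1]
            apply X.mul_mem (hZ _)
            rcases (two_mul_eq_zero_iff D.hn1 _).mp h with h2 | h2
            · rw [h2, D.u_zero]; exact X.one_mem
            · rw [h2]; exact ht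
        · rw [uz_mem_VS]
          constructor
          · intro h
            have := hshape _ _ h
            linear_combination this + 2 * hj
          · intro h
            have h1 : D.uz a b = D.u (a - a₀) (b - b₀) * D.uz a₀ b₀ := by
              rw [D.u_mul_uz, D.uz_inj]; constructor <;> ring
            rw [h1]
            refine X.mul_mem ?_ hsX
            have h2 : 2 * ((a - a₀) - (b - b₀)) = 0 := by linear_combination h - 2 * hj
            have h4 : D.u (a - a₀) (b - b₀) = D.u (b - b₀) (b - b₀) * D.u ((a - a₀) - (b - b₀)) 0 := by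
              rw [D.u_mul_u, D.u_inj]; constructor <;> ring
            rw [h4]
            apply X.mul_mem (hZ _)
            rcases (two_mul_eq_zero_iff D.hn1 _).mp h2 with h5 | h5
            · rw [h5, D.u_zero]; exact X.one_mem
            · rw [h5]; exact ht
      · right; right
        intro α hodd
        apply aut_trivial_Q D X hZ ht a₀ b₀ hsX α hodd
        have hordt : orderOf (D.u (hh D.n) 0) = 2 := (D.invol_iff _).mpr (Or.inl rfl)
        have hord : orderOf ((α ⟨D.u (hh D.n) 0, ht⟩ : X) : S) = 2 := by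
          rw [Subgroup.orderOf_coe, MulEquiv.orderOf_eq, ← Subgroup.orderOf_coe]
          exact hordt
        rcases (D.invol_iff _).mp hord with h1 | h1 | h1 | ⟨e, h1⟩
        · exact ⟨_, _, h1⟩
        · exact ⟨_, _, h1⟩
        · exact ⟨_, _, h1⟩
        · exfalso
          have hmem := (α ⟨D.u (hh D.n) 0, ht⟩).2
          rw [h1] at hmem
          have h2 := hshape _ _ hmem
          have h4 : 2 * (2 * e - a₀ + b₀) = 0 := by linear_combination h2
          rcases (two_mul_eq_zero_iff D.hn1 _).mp h4 with h5 | h5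
          · apply two_mul_ne_odd D.hn1 0 (e + j - a₀)
            linear_combination -h5 + hj
          · apply two_mul_ne_odd D.hn1 (qq D.n) (e + j - a₀)
            rw [two_mul_qq D.hn]
            linear_combination -h5 + hj
  · right; right
    intro α hodd
    exact aut_trivial_B1 D X hZ ht a₀ b₀ hsX α hodd

/-- subgroups with automorphisms of odd order -/
theorem eq_U_or_VS (X : Subgroup S) (hC : Subgroup.centralizer (X : Set S) ≤ X)
    (hA : ¬ IsPGroup 2 (MulAut X)) : X = D.U ∨ ∃ p, X = VS D p := by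
  rcases trichotomy D X hC with h | h | h
  · exact Or.inl h
  · exact Or.inr h
  · exact absurd (isPGroup_of_odd_trivial h) hA

end

end Cfsg.Agent.Helper16.WrCentric
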