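import Mathlib
import Cfsg.Agent.Helper16.WrCentric
import Cfsg.Agent.Helper16.QDFusion2
import Cfsg.Agent.Helper2.QuaternionLift

/-!
The subgroups `U` and `V_p` of a wreathed 2-group: normalizers, conjugacy, `V_p = Q₈ Z(S)`.
-/

set_option autoImplicit false

namespace Cfsg.Agent.Helper16.WrCentric

open Cfsg.Agent.Helper18.Wr
open Cfsg.Agent.Helper18.QD (hh qq two_mul_hh hh_ne_zero two_mul_eq_zero_iff neg_hh two_mul_qq
  qq_add_hh two_mul_eq_two_mul_iff even_or_odd hh_mul_odd hh_mul_even two_mul_ne_odd four_mul_qq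
  two_pow_self_eq_zero)
open Cfsg.Agent.Helper16.QDFusion (mem_normalizer_of_conj_mem conj_mem_of_mem_normalizer)

section
variable {S : Type*} [Group S] [Finite S] (D : WrData S)

theorem relIndex_normalizer_U : D.U.relIndex (Subgroup.normalizer (D.U : Set S)) = 2 := by
  have hN : D.U.Normal := Subgroup.normal_of_index_eq_two D.U_index
  rw [Subgroup.normalizer_eq_top, Subgroup.relIndex_top_right]
  exact D.U_index

omit [Finite S] in
theorem w_mem_VS (p : ZMod (2 ^ D.n)) : D.uz p (-p) ∈ VS D p := (uz_mem_VS D).mpr (by ring)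

theorem relIndex_normalizer_VS (p : ZMod (2 ^ D.n)) :
    (VS D p).relIndex (Subgroup.normalizer (VS D p : Set S)) = 2 := by
  rw [Subgroup.relIndex_eq_two_iff]
  have h4q := four_mul_qq D.hn
  have h2q := two_mul_qq D.hn
  have hne := hh_ne_zero D.hn1
  refine ⟨D.u (qq D.n) 0, ?_, ?_⟩
  · apply mem_normalizer_of_conj_mem
    intro x hx
    rcases D.exists_rep x with ⟨a, b, rfl⟩ | ⟨a, b, rfl⟩
    · rw [D.u_conj_u]; exact hx
    · rw [D.u_conj_uz, uz_mem_VS]
      have := (uz_mem_VS D).mp hx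
      linear_combination this + h4q
  · intro b hb
    have hw := w_mem_VS D p
    rcases D.exists_rep b with ⟨c, d, rfl⟩ | ⟨c, d, rfl⟩
    · have h1 := conj_mem_of_mem_normalizer hb hw
      rw [D.u_conj_uz, uz_mem_VS] at h1
      have h2 : 2 * (2 * (c - d)) = 0 := by linear_combination h1
      rw [D.u_mul_u, u_mem_VS, u_mem_VS]
      rcases (two_mul_eq_zero_iff D.hn1 _).mp h2 with h3 | h3
      · right
        refine ⟨h3, ?_⟩
        intro h
        apply hne
        linear_combination h - h3 - h2q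
      · left
        refine ⟨?_, ?_⟩
        · have := two_mul_hh D.hn1
          linear_combination h3 + h2q + this
        · rw [h3]; exact hne
    · have h1 := conj_mem_of_mem_normalizer hb hw
      rw [D.uz_conj_uz, uz_mem_VS] at h1
      have h2 : 2 * (2 * (c - d - 2 * p)) = 0 := by linear_combination h1
      rw [D.uz_mul_u, uz_mem_VS, uz_mem_VS]
      rcases (two_mul_eq_zero_iff D.hn1 _).mp h2 with h3 | h3
      · right
        refine ⟨h3, ?_⟩
        intro h
        apply hne
        linear_combination -h + h3 - h2q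
      · left
        refine ⟨?_, ?_⟩
        · have := two_mul_hh D.hn1
          linear_combination h3 - h2q
        · rw [h3]; exact hne

theorem map_conj_VS (p e : ZMod (2 ^ D.n)) :
    (VS D p).map (MulAut.conj (D.u e 0)).toMonoidHom = VS D (p + e) := by
  ext y
  constructor
  · rintro ⟨x, hx, rfl⟩
    show D.u e 0 * x * (D.u e 0)⁻¹ ∈ VS D (p + e)
    rcases D.exists_rep x with ⟨a, b, rfl⟩ | ⟨a, b, rfl⟩
    · rw [D.u_conj_u, u_mem_VS]
      exact (u_mem_VS D).mp hx
    · rw [D.u_conj_uz, uz_mem_VS]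
      have := (uz_mem_VS D).mp hx
      linear_combination this
  · intro hy
    refine ⟨(D.u e 0)⁻¹ * y * D.u e 0, ?_, ?_⟩
    · rw [SetLike.mem_coe]
      rcases D.exists_rep y with ⟨a, b, rfl⟩ | ⟨a, b, rfl⟩
      · rw [D.u_inv, D.u_mul_u, D.u_mul_u, u_mem_VS]
        have := (u_mem_VS D).mp hy
        linear_combination this
      · rw [D.u_inv, D.u_mul_uz, D.uz_mul_u, uz_mem_VS]
        have := (uz_mem_VS D).mp hy
        linear_combination this
    · show D.u e 0 * ((D.u e 0)⁻¹ * y * D.u e 0) * (D.u e 0)⁻¹ = y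
      group

theorem VS_eq_sup (p : ZMod (2 ^ D.n)) :
    ∃ Q : Subgroup S, Nonempty (Q ≃* QuaternionGroup 2) ∧ VS D p = Q ⊔ Subgroup.center S := by
  have h2q := two_mul_qq D.hn
  have h4q := four_mul_qq D.hn
  have h2h := two_mul_hh D.hn1
  have hne := hh_ne_zero D.hn1
  obtain ⟨i, hi⟩ : ∃ i, i = D.u (qq D.n) (-qq D.n) := ⟨_, rfl⟩
  obtain ⟨j, hj⟩ : ∃ j, j = D.uz (p + qq D.n) (-p + qq D.n) := ⟨_, rfl⟩
  have hi2 : i ^ 2 = D.u (hh D.n) (hh D.n) := by
    rw [hi, D.u_sq, D.u_inj]
    constructor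
    · exact h2q
    · linear_combination -h2q - h2h
  have hi4 : i ^ (2 * 2) = 1 := by
    rw [pow_mul, hi2, D.u_sq, D.u_eq_one_iff]
    exact ⟨h2h, h2h⟩
  have hb : j * j = i ^ 2 := by
    rw [hi2, hj, D.uz_mul_uz, D.u_inj]
    constructor
    · linear_combination h2q
    · linear_combination h2q
  have hab : j * i * j⁻¹ = i⁻¹ := by
    rw [hi, hj, D.uz_conj_u, D.u_inv, neg_neg]
  have hord : orderOf i = 2 * 2 := by
    have h1 : ¬ i ^ 2 ^ 1 = 1 := by
      rw [pow_one, hi2, D.u_eq_one_iff]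
      exact fun h => hne h.1
    have h2 : i ^ 2 ^ (1 + 1) = 1 := by
      have : 2 ^ (1 + 1) = 2 * 2 := by norm_num
      rw [this]; exact hi4
    have := orderOf_eq_prime_pow h1 h2
    rw [this]; norm_num
  have hiU : i ∈ D.U := by rw [hi]; exact D.u_mem_U _ _
  have hba : j ∉ Subgroup.zpowers i := by
    intro h
    have h1 : Subgroup.zpowers i ≤ D.U := (Subgroup.zpowers_le).mpr hiU
    have := h1 h
    rw [hj] at this
    exact D.uz_not_mem_U _ _ this
  have hinj := Cfsg.Agent.Helper2.QLift.quaternionLift_injective 2 i j hi4 hb hab hord hba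
  refine ⟨(Cfsg.Agent.Helper2.QLift.quaternionLift 2 i j hi4 hb hab).range,
    ⟨(MonoidHom.ofInjective hinj).symm⟩, ?_⟩
  have hiQ := Cfsg.Agent.Helper2.QLift.a_mem_range 2 i j hi4 hb hab
  have hjQ := Cfsg.Agent.Helper2.QLift.b_mem_range 2 i j hi4 hb hab
  have hcen : ∀ c, D.u c c ∈ Subgroup.center S := fun c => (D.mem_center_iff _).mpr ⟨c, rfl⟩
  apply le_antisymm
  · have hU2 : ∀ a b, 2 * (a - b) = 0 → D.u a b ∈
        (Cfsg.Agent.Helper2.QLift.quaternionLift 2 i j hi4 hb hab).range ⊔ Subgroup.center S := by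
      intro a b h
      rcases (two_mul_eq_zero_iff D.hn1 _).mp h with h1 | h1
      · have : a = b := sub_eq_zero.mp h1
        subst this
        exact Subgroup.mem_sup_right (hcen a)
      · have h3 : D.u a b = i * D.u (qq D.n + b) (qq D.n + b) := by
          rw [hi, D.u_mul_u, D.u_inj]
          constructor
          · linear_combination h1 - h2q
          · ring
        rw [h3]
        exact Subgroup.mul_mem _ (Subgroup.mem_sup_left hiQ) (Subgroup.mem_sup_right (hcen _))
    intro x hx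
    rcases D.exists_rep x with ⟨a, b, rfl⟩ | ⟨a, b, rfl⟩
    · exact hU2 a b ((u_mem_VS D).mp hx)
    · have h1 : D.uz a b = D.u (a - p - qq D.n) (b + p - qq D.n) * j := by
        rw [hj, D.u_mul_uz, D.uz_inj]; constructor <;> ring
      rw [h1]
      apply Subgroup.mul_mem _ _ (Subgroup.mem_sup_left hjQ)
      apply hU2
      have := (uz_mem_VS D).mp hx
      linear_combination this
  · apply sup_le
    · apply Cfsg.Agent.Helper2.QLift.range_le
      · rw [hi, u_mem_VS]; linear_combination h4q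
      · rw [hj, uz_mem_VS]; ring
    · intro x hx
      obtain ⟨c, rfl⟩ := (D.mem_center_iff x).mp hx
      rw [u_mem_VS]; ring

end

end Cfsg.Agent.Helper16.WrCentric
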