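import Mathlib
import Cfsg.Agent.Helper16.WrCentric2
import Cfsg.Agent.Helper16.WrIndices
import Cfsg.Agent.Helper10.AGClassic

/-!
Alperin–Goldschmidt fusion analysis in a group with wreathed Sylow 2-subgroup.
-/

set_option autoImplicit false

namespace Cfsg.Agent.Helper16.WrAG

open Cfsg.Agent.Helper18.Wr
open Cfsg.Agent.Helper18.QD (hh qq two_mul_hh hh_ne_zero two_mul_eq_zero_iff neg_hh two_mul_qq
  qq_add_hh two_mul_eq_two_mul_iff even_or_odd hh_mul_odd hh_mul_even two_mul_ne_odd four_mul_qq)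
open Cfsg.Agent.Helper16.QDFusion Cfsg.Agent.Helper16.WrFusion Cfsg.Agent.Helper16.WrIndices
open Cfsg.Agent.Helper16.WrCentric Cfsg.Agent.Helper16.AutOdd
open Cfsg.Agent.Helper10 Cfsg.Agent.Helper14
open Subgroup
open scoped Pointwise

section general
variable {G : Type*} [Group G]

/-- a reflexive transitive relation respected by each step is respected by a decomposition -/
theorem dec_rel (𝓕 : Set (Subgroup G)) (R : G → G → Prop) (hrefl : ∀ a, R a a)
    (htrans : ∀ a b c, R a b → R b c → R a c)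
    (hstep : ∀ T ∈ 𝓕, ∀ x ∈ normalizer (T : Set G), ∀ a ∈ T, R a (x⁻¹ * a * x)) :
    ∀ (l : List (Subgroup G × G)) (a : G), Dec 𝓕 {a} l → R a ((lprod l)⁻¹ * a * lprod l) := by
  intro l
  induction l with
  | nil =>
    intro a _
    rw [lprod_nil, inv_one, one_mul, mul_one]
    exact hrefl a
  | cons b l ih =>
    obtain ⟨T, x⟩ := b
    intro a h
    obtain ⟨hT, hx, haT, hdec⟩ := h
    have h1 : rc x {a} = {x⁻¹ * a * x} := Set.image_singleton
    rw [h1] at hdec
    have h2 := ih _ hdec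
    have h3 := hstep T hT x hx a (haT rfl)
    have h4 : (lprod ((T, x) :: l))⁻¹ * a * lprod ((T, x) :: l) =
        (lprod l)⁻¹ * (x⁻¹ * a * x) * lprod l := by
      rw [lprod_cons]; group
    rw [h4]
    exact htrans _ _ _ h3 h2

theorem conj_eq_of_mul {T : Subgroup G} {s c a : G} (hs : s ∈ normalizer (T : Set G))
    (hc : c ∈ centralizer (T : Set G)) (ha : a ∈ T) :
    (s * c)⁻¹ * a * (s * c) = s⁻¹ * a * s := by
  have h1 : s⁻¹ * a * s ∈ T := by
    have := conj_mem_of_mem_normalizer (inv_mem hs) ha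
    rwa [inv_inv] at this
  have h2 := Subgroup.mem_centralizer_iff.mp hc _ h1
  calc (s * c)⁻¹ * a * (s * c) = c⁻¹ * ((s⁻¹ * a * s) * c) := by group
    _ = c⁻¹ * (c * (s⁻¹ * a * s)) := by rw [h2]
    _ = s⁻¹ * a * s := by group

variable [Finite G]

/-- a general fusion principle from the Alperin–Goldschmidt theorem -/
theorem fusion_rel (S : Sylow 2 G) (R : G → G → Prop) (hrefl : ∀ a, R a a)
    (htrans : ∀ a b c, R a b → R b c → R a c)
    (hstep : ∀ T ∈ agFam 2 S (agK 2), ∀ x ∈ normalizer (T : Set G), ∀ a ∈ T, R a (x⁻¹ * a * x))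
    (a g : G) (ha : a ∈ (S : Subgroup G)) (hg : g⁻¹ * a * g ∈ (S : Subgroup G)) :
    R a (g⁻¹ * a * g) := by
  have hA : ({a} : Set G) ⊆ ((S : Subgroup G) : Set G) := by
    rintro _ rfl; exact ha
  have hAg : rc g {a} ⊆ ((S : Subgroup G) : Set G) := by
    have h1 : rc g {a} = {g⁻¹ * a * g} := Set.image_singleton
    rw [h1]
    rintro _ rfl; exact hg
  obtain ⟨c, hc, l, hl, hgl⟩ := ag_set S (agK 2)
    (fun i T _ => agK_le 2 i T) (fun i T _ => normalizer_le_normalizer_agK 2 i T)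
    (fun i T hT => agK_pow_mem i (S.2.to_le (tameFam_le hT))) {a} g hA hAg
  have h1 := dec_rel _ R hrefl htrans hstep l a hl
  have hca : a * c = c * a := Subgroup.mem_centralizer_iff.mp hc a rfl
  have h2 : g⁻¹ * a * g = (lprod l)⁻¹ * a * lprod l := by
    rw [hgl]
    calc (c * lprod l)⁻¹ * a * (c * lprod l) = (lprod l)⁻¹ * (c⁻¹ * (a * c)) * lprod l := by group
      _ = (lprod l)⁻¹ * (c⁻¹ * (c * a)) * lprod l := by rw [hca]
      _ = (lprod l)⁻¹ * a * lprod l := by group
  rw [h2]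
  exact h1

/-- Lemma D: if `Aut T` is a 2-group and `T` is extremal then `N(T) = N_S(T) C(T)` -/
theorem mem_mul_of_isPGroup_aut (S : Sylow 2 G) (T : Subgroup G)
    (hext : ¬ 2 ∣ ((S : Subgroup G) ⊓ normalizer (T : Set G)).relIndex (normalizer (T : Set G)))
    (hA : IsPGroup 2 (MulAut T)) (x : G) (hx : x ∈ normalizer (T : Set G)) :
    ∃ s ∈ (S : Subgroup G) ⊓ normalizer (T : Set G), ∃ c ∈ centralizer (T : Set G),
      x = s * c := by
  have key := Subgroup.card_dvd_of_injective _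
    (QuotientGroup.kerLift_injective T.normalizerMonoidHom)
  rw [Subgroup.normalizerMonoidHom_ker, ← Subgroup.index, ← Subgroup.relIndex] at key
  obtain ⟨k, hk⟩ := (IsPGroup.iff_card).mp hA
  rw [hk] at key
  obtain ⟨R, hR⟩ : ∃ R, R = (S : Subgroup G) ⊓ normalizer (T : Set G) := ⟨_, rfl⟩
  obtain ⟨C, hC⟩ : ∃ C, C = centralizer (T : Set G) := ⟨_, rfl⟩
  rw [← hR] at hext ⊢
  rw [← hC] at key ⊢
  have h1 : (R ⊔ C).relIndex (normalizer (T : Set G)) ∣ R.relIndex (normalizer (T : Set G)) :=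
    Subgroup.relIndex_dvd_of_le_left _ le_sup_left
  have h2 : (R ⊔ C).relIndex (normalizer (T : Set G)) ∣ C.relIndex (normalizer (T : Set G)) :=
    Subgroup.relIndex_dvd_of_le_left _ le_sup_right
  have h3 := h2.trans key
  obtain ⟨i, hi, hi'⟩ := (Nat.dvd_prime_pow Nat.prime_two).mp h3
  have hi0 : i = 0 := by
    by_contra hne
    apply hext
    refine dvd_trans ?_ h1
    rw [hi']; exact dvd_pow_self 2 hne
  rw [hi0, pow_zero] at hi'
  have hle : normalizer (T : Set G) ≤ R ⊔ C := Subgroup.relIndex_eq_one.mp hi'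
  have hRN : R ≤ normalizer (C : Set G) := by
    rw [hR, hC]
    exact inf_le_right.trans (le_normalizer_centralizer_of_le le_rfl)
  have hmem : x ∈ ((R : Set G) * (C : Set G)) := by
    rw [← Subgroup.coe_mul_of_left_le_normalizer_right R C hRN]; exact hle hx
  obtain ⟨s, hs, c, hc, hsc⟩ := Set.mem_mul.1 hmem
  exact ⟨s, hs, c, hc, hsc.symm⟩

/-- the steps at `T` are conjugations by elements of `S` -/
def SConj (S : Sylow 2 G) (T : Subgroup G) : Prop :=
  ∀ x ∈ normalizer (T : Set G), ∃ s ∈ (S : Subgroup G), ∀ a ∈ T, x⁻¹ * a * x = s⁻¹ * a * s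

theorem sconj_of_isPGroup_aut (S : Sylow 2 G) (T : Subgroup G)
    (hext : ¬ 2 ∣ ((S : Subgroup G) ⊓ normalizer (T : Set G)).relIndex (normalizer (T : Set G)))
    (hA : IsPGroup 2 (MulAut T)) : SConj S T := by
  intro x hx
  obtain ⟨s, hs, c, hc, rfl⟩ := mem_mul_of_isPGroup_aut S T hext hA x hx
  exact ⟨s, hs.1, fun a ha => conj_eq_of_mul hs.2 hc ha⟩

end general

section wr
variable {G : Type*} [Group G] [Finite G] (S : Sylow 2 G) (D : WrData (S : Subgroup G))

/-- the trichotomy for centric subgroups, inside `G` -/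
theorem trichotomyG (T : Subgroup G) (hTS : T ≤ S)
    (hC : (S : Subgroup G) ⊓ centralizer (T : Set G) ≤ T) :
    (∀ x, x ∈ T ↔ ∃ a b, x = uG S D a b) ∨ (∃ p, T = VW S D p) ∨ IsPGroup 2 (MulAut T) := by
  have hC' : centralizer ((T.subgroupOf (S : Subgroup G) : Subgroup (S : Subgroup G)) :
      Set (S : Subgroup G)) ≤ T.subgroupOf (S : Subgroup G) := by
    intro x hx
    rw [Subgroup.mem_subgroupOf]
    apply hC
    have hxc : (x : G) ∈ centralizer (T : Set G) := by
      rw [Subgroup.mem_centralizer_iff]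
      intro t ht
      have := (Subgroup.mem_centralizer_iff.mp hx) ⟨t, hTS ht⟩ (Subgroup.mem_subgroupOf.mpr ht)
      exact congrArg Subtype.val this
    exact ⟨x.2, hxc⟩
  rcases trichotomy D _ hC' with h | ⟨p, h⟩ | h
  · left
    intro x
    constructor
    · intro hx
      have h1 : (⟨x, hTS hx⟩ : (S : Subgroup G)) ∈ T.subgroupOf (S : Subgroup G) :=
        Subgroup.mem_subgroupOf.mpr hx
      rw [h] at h1
      obtain ⟨a, b, hab⟩ := h1
      exact ⟨a, b, congrArg Subtype.val hab⟩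
    · rintro ⟨a, b, rfl⟩
      have h1 : D.u a b ∈ T.subgroupOf (S : Subgroup G) := by rw [h]; exact D.u_mem_U a b
      exact Subgroup.mem_subgroupOf.mp h1
  · right; left
    refine ⟨p, ?_⟩
    ext x
    rw [mem_VW]
    constructor
    · intro hx
      have h1 : (⟨x, hTS hx⟩ : (S : Subgroup G)) ∈ T.subgroupOf (S : Subgroup G) :=
        Subgroup.mem_subgroupOf.mpr hx
      rw [h] at h1
      rcases h1 with ⟨a, b, hab, h2⟩ | ⟨a, b, hab, h2⟩
      · exact Or.inl ⟨a, b, congrArg Subtype.val hab, h2⟩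
      · exact Or.inr ⟨a, b, congrArg Subtype.val hab, h2⟩
    · rintro (⟨a, b, rfl, h2⟩ | ⟨a, b, rfl, h2⟩)
      · have h1 : D.u a b ∈ T.subgroupOf (S : Subgroup G) := by
          rw [h]; exact (u_mem_VS D).mpr h2
        exact Subgroup.mem_subgroupOf.mp h1
      · have h1 : D.uz a b ∈ T.subgroupOf (S : Subgroup G) := by
          rw [h]; exact (uz_mem_VS D).mpr h2
        exact Subgroup.mem_subgroupOf.mp h1
  · right; right
    have h1 := isPGroup_of_odd_trivial h
    exact h1.of_equiv (MulAut.congr (Subgroup.subgroupOfEquivOfLe hTS))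

/-- members of the Alperin–Goldschmidt family -/
theorem agFam_cases (T : Subgroup G) (hT : T ∈ agFam 2 S (agK 2)) :
    (∀ x, x ∈ T ↔ ∃ a b, x = uG S D a b) ∨ (∃ p, T = VW S D p) ∨ SConj S T := by
  have hTS := agFam_le S hT
  have hext := agFam_isExt S hT
  have hC : (S : Subgroup G) ⊓ centralizer (T : Set G) ≤ T := by
    refine le_trans ?_ (hT.2 true)
    exact inf_le_inf_left _ (le_sup_right : centralizer (T : Set G) ≤ T ⊔ centralizer (T : Set G))
  rcases trichotomyG S D T hTS hC with h | h | h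
  · exact Or.inl h
  · exact Or.inr (Or.inl h)
  · exact Or.inr (Or.inr (sconj_of_isPGroup_aut S T hext h))


omit [Finite G] in
/-- from an index-2 subgroup of `N(T)` acting by `S`-conjugations and one more element of `S` -/
theorem sconj_of_relIndex_two (T M : Subgroup G)
    (hM : ∀ m ∈ M, ∃ s ∈ (S : Subgroup G), ∀ a ∈ T, m⁻¹ * a * m = s⁻¹ * a * s)
    (h : M.relIndex (normalizer (T : Set G)) = 2) (s₀ : G) (hs₀S : s₀ ∈ (S : Subgroup G))
    (hs₀N : s₀ ∈ normalizer (T : Set G)) (hs₀ : s₀ ∉ M) : SConj S T := by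
  intro x hx
  by_cases hxM : x ∈ M
  · exact hM x hxM
  · have h1 := (mul_mem_iff_of_relIndex_two h hx hs₀N).mpr
      ⟨fun h' => absurd h' hxM, fun h' => absurd h' hs₀⟩
    obtain ⟨s, hs, hsa⟩ := hM _ h1
    refine ⟨s * s₀⁻¹, (S : Subgroup G).mul_mem hs ((S : Subgroup G).inv_mem hs₀S), ?_⟩
    intro a ha
    have h2 := hsa a ha
    calc x⁻¹ * a * x = s₀ * ((x * s₀)⁻¹ * a * (x * s₀)) * s₀⁻¹ := by group
      _ = s₀ * (s⁻¹ * a * s) * s₀⁻¹ := by rw [h2]
      _ = (s * s₀⁻¹)⁻¹ * a * (s * s₀⁻¹) := by group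

variable (U : Subgroup G) (hU : ∀ x, x ∈ U ↔ ∃ a b, x = uG S D a b)

include hU in
/-- in the case `|N(U) : C(U)| = 2`, the normalizer of `U` acts by `S`-conjugations -/
theorem sconj_U (h₁ : (centralizer (U : Set G)).relIndex (normalizer (U : Set G)) = 2) :
    SConj S U := by
  apply sconj_of_relIndex_two S U (centralizer (U : Set G)) ?_ h₁ (uzG S D 0 0) (uzG_mem S D 0 0)
    (sylow_le_normalizer_U S D U hU (uzG_mem S D 0 0))
  · intro h
    have h1 := Subgroup.mem_centralizer_iff.mp h (uG S D 1 0) ((hU _).mpr ⟨_, _, rfl⟩)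
    rw [uG_mul_uzG, uzG_mul_uG, uzG_inj] at h1
    apply D.one_ne_zero'
    linear_combination h1.1
  · intro m hm
    refine ⟨1, (S : Subgroup G).one_mem, ?_⟩
    intro a ha
    have h1 := Subgroup.mem_centralizer_iff.mp hm a ha
    rw [inv_one, one_mul, mul_one, mul_assoc, h1, inv_mul_cancel_left]

omit [Finite G] in
theorem VW_map_cj (p e : ZMod (2 ^ D.n)) :
    (VW S D p).map (cj (uG S D e 0)) = VW S D (p + e) := by
  ext y
  rw [mem_map_cj]
  constructor
  · intro h
    have hy : y = uG S D e 0 * ((uG S D e 0)⁻¹ * y * uG S D e 0) * (uG S D e 0)⁻¹ := by group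
    rw [hy]
    rcases h with ⟨a, b, hv, h2⟩ | ⟨a, b, hv, h2⟩
    · rw [hv, conj_eq_of_commute (uG_comm S D _ _ _ _), uG_mem_VW]
      exact h2
    · rw [hv, uG_conj_uzG, uzG_mem_VW]
      linear_combination h2
  · intro h
    rcases h with ⟨a, b, rfl, h2⟩ | ⟨a, b, rfl, h2⟩
    · rw [uG_inv, uG_mul_uG, uG_mul_uG, uG_mem_VW]
      linear_combination h2
    · rw [uG_inv, uG_mul_uzG, uzG_mul_uG, uzG_mem_VW]
      linear_combination h2

omit [Finite G] in
theorem relIndex_VW_all (p₀ p : ZMod (2 ^ D.n))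
    (h : (VW S D p₀ ⊔ centralizer ((VW S D p₀ : Subgroup G) : Set G)).relIndex
      (normalizer ((VW S D p₀ : Subgroup G) : Set G)) = 2) :
    (VW S D p ⊔ centralizer ((VW S D p : Subgroup G) : Set G)).relIndex
      (normalizer ((VW S D p : Subgroup G) : Set G)) = 2 := by
  have h1 : VW S D p = (VW S D p₀).map (cj (uG S D (p - p₀) 0)) := by
    rw [VW_map_cj]; congr 1; ring
  rw [h1, ← map_cj_centralizer, ← Subgroup.map_sup, ← map_cj_normalizer, relIndex_map_cj]
  exact h

/-- in the case `|N(V) : V C(V)| = 2`, the normalizer of `V_p` acts by `S`-conjugations -/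
theorem sconj_VW (p : ZMod (2 ^ D.n))
    (h : (VW S D p ⊔ centralizer ((VW S D p : Subgroup G) : Set G)).relIndex
      (normalizer ((VW S D p : Subgroup G) : Set G)) = 2) : SConj S (VW S D p) := by
  have h4q := four_mul_qq D.hn
  have h2q := two_mul_qq D.hn
  have hne := hh_ne_zero D.hn1
  have hVN : VW S D p ≤ normalizer ((centralizer ((VW S D p : Subgroup G) : Set G) : Subgroup G)
      : Set G) := le_normalizer_centralizer_of_le le_normalizer
  have hdecomp : ∀ m ∈ VW S D p ⊔ centralizer ((VW S D p : Subgroup G) : Set G),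
      ∃ v ∈ VW S D p, ∃ c ∈ centralizer ((VW S D p : Subgroup G) : Set G), m = v * c := by
    intro m hm
    have hmem : m ∈ (((VW S D p : Subgroup G) : Set G) *
        ((centralizer ((VW S D p : Subgroup G) : Set G) : Subgroup G) : Set G)) := by
      rw [← Subgroup.coe_mul_of_left_le_normalizer_right _ _ hVN]; exact hm
    obtain ⟨v, hv, c, hc, hvc⟩ := Set.mem_mul.1 hmem
    exact ⟨v, hv, c, hc, hvc.symm⟩
  apply sconj_of_relIndex_two S (VW S D p) _ ?_ h (uG S D (qq D.n) 0) (uG_mem S D _ _)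
  · apply mem_normalizer_of_conj_mem
    intro x hx
    rcases hx with ⟨a, b, rfl, h2⟩ | ⟨a, b, rfl, h2⟩
    · rw [conj_eq_of_commute (uG_comm S D _ _ _ _), uG_mem_VW]
      exact h2
    · rw [uG_conj_uzG, uzG_mem_VW]
      linear_combination h2 + h4q
  · intro hmem
    obtain ⟨v, hv, c, hc, hvc⟩ := hdecomp _ hmem
    have hcS : c ∈ (S : Subgroup G) := by
      have : c = v⁻¹ * uG S D (qq D.n) 0 := by rw [hvc]; group
      rw [this]
      exact (S : Subgroup G).mul_mem ((S : Subgroup G).inv_mem (VW_le_S S D p hv)) (uG_mem S D _ _)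
    have hct := Subgroup.mem_centralizer_iff.mp hc _ (t_mem_VW S D p)
    have hcw := Subgroup.mem_centralizer_iff.mp hc _ (w_mem_VW S D p)
    have hcV : c ∈ VW S D p := by
      rcases exists_rep S D c hcS with ⟨a, b, rfl⟩ | ⟨a, b, rfl⟩
      · rw [uzG_mul_uG, uG_mul_uzG, uzG_inj] at hcw
        have hab : a = b := by linear_combination -hcw.1
        subst hab
        exact c_mem_VW S D p a
      · exfalso
        rw [uG_mul_uzG, uzG_mul_uG, uzG_inj] at hct
        apply hne
        linear_combination hct.1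
    have h5 : uG S D (qq D.n) 0 ∈ VW S D p := by
      rw [hvc]; exact (VW S D p).mul_mem hv hcV
    rw [uG_mem_VW] at h5
    apply hne
    linear_combination h5 - h2q
  · intro m hm
    obtain ⟨v, hv, c, hc, rfl⟩ := hdecomp m hm
    exact ⟨v, VW_le_S S D p hv, fun a ha => conj_eq_of_mul (le_normalizer hv) hc ha⟩

end wr

end Cfsg.Agent.Helper16.WrAG
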