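import Mathlib
import Cfsg.Agent.Helper16.WrAG
import Cfsg.Agent.Helper16.ThompsonTransfer2
import Cfsg.Agent.Helper16.QDFusion3

/-!
Wreathed Sylow 2-subgroups: the case `|N(U):C(U)| = 6`, `|N(V):VC(V)| = 2`.
-/

set_option autoImplicit false

namespace Cfsg.Agent.Helper16.WrAG

open Cfsg.Agent.Helper18.Wr
open Cfsg.Agent.Helper18.QD (hh qq two_mul_hh hh_ne_zero two_mul_eq_zero_iff neg_hh two_mul_qq
  qq_add_hh two_mul_eq_two_mul_iff even_or_odd hh_mul_odd hh_mul_even two_mul_ne_odd four_mul_qq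
  orderOf_conj' exists_conj_mem_sylow)
open Cfsg.Agent.Helper16.QDFusion Cfsg.Agent.Helper16.WrFusion Cfsg.Agent.Helper16.WrIndices
open Cfsg.Agent.Helper16.WrCentric Cfsg.Agent.Helper16.AutOdd
open Cfsg.Agent.Helper10 Cfsg.Agent.Helper14
open Subgroup

section generic
variable {G : Type*} [Group G]

theorem mem_of_odd_of_index_two {H : Subgroup G} (hH : H.index = 2) {g : G}
    (hodd : Odd (orderOf g)) : g ∈ H := by
  obtain ⟨j, hj⟩ := hodd
  have h1 : g ^ 2 ∈ H := Subgroup.sq_mem_of_index_two hH g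
  have h2 : g = (g ^ 2) ^ (j + 1) := by
    rw [← pow_mul]
    have : 2 * (j + 1) = orderOf g + 1 := by omega
    rw [this, pow_succ, pow_orderOf_eq_one, one_mul]
  rw [h2]
  exact H.pow_mem h1 _

theorem mem_map_subtype_iff {K : Subgroup G} (H : Subgroup K) {x : G} (hx : x ∈ K) :
    x ∈ H.map K.subtype ↔ (⟨x, hx⟩ : K) ∈ H := by
  constructor
  · rintro ⟨k, hk, hkx⟩
    have : k = ⟨x, hx⟩ := Subtype.ext hkx
    rw [← this]; exact hk
  · intro h
    exact ⟨⟨x, hx⟩, h, rfl⟩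

end generic

section wr
variable {G : Type*} [Group G] [Finite G] (S : Sylow 2 G) (D : WrData (S : Subgroup G))

/-- fusion in `N(U)` by an element of odd order -/
theorem fusion_U_odd (U : Subgroup G) (hU : ∀ x, x ∈ U ↔ ∃ a b, x = uG S D a b)
    (h3 : 3 ∣ (Subgroup.centralizer (U : Set G)).relIndex (Subgroup.normalizer (U : Set G))) :
    ∃ g ∈ Subgroup.normalizer (U : Set G), Odd (orderOf g) ∧
      (g * uG S D (hh D.n) (hh D.n) * g⁻¹ = uG S D (hh D.n) 0 ∨
      g * uG S D (hh D.n) (hh D.n) * g⁻¹ = uG S D 0 (hh D.n)) := by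
  obtain ⟨g, hgN, hgC, hodd⟩ := exists_odd_not_mem _ _ h3
  refine ⟨g, hgN, hodd, ?_⟩
  by_contra hcon
  push Not at hcon
  apply hgC
  have hconjU : ∀ a b, ∃ a' b', g * uG S D a b * g⁻¹ = uG S D a' b' := by
    intro a b
    exact (hU _).mp (conj_mem_of_mem_normalizer hgN ((hU _).mpr ⟨a, b, rfl⟩))
  have hζ : g * uG S D (hh D.n) (hh D.n) * g⁻¹ = uG S D (hh D.n) (hh D.n) := by
    obtain ⟨a', b', h⟩ := hconjU (hh D.n) (hh D.n)
    have hord : orderOf (uG S D a' b') = 2 := by rw [← h, orderOf_conj', orderOf_zeta]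
    rw [h] at hcon ⊢
    rcases invol_U S D a' b' hord with h' | h' | h'
    · exact absurd h' hcon.1
    · exact absurd h' hcon.2
    · exact h'
  have ht : g * uG S D (hh D.n) 0 * g⁻¹ = uG S D (hh D.n) 0 := by
    obtain ⟨a', b', h⟩ := hconjU (hh D.n) 0
    have hord : orderOf (uG S D a' b') = 2 := by rw [← h, orderOf_conj', orderOf_t]
    rcases invol_U S D a' b' hord with h' | h' | h'
    · rw [h, h']
    · exfalso
      rw [h'] at h
      have h2 : g * uG S D 0 (hh D.n) * g⁻¹ = uG S D (hh D.n) 0 := by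
        rw [← WrFusion.zeta_mul_t, ← conj_mul, hζ, h, WrFusion.zeta_mul_t']
      exact t_ne_t' S D (eq_of_swap hodd h h2)
    · exfalso
      rw [h', ← hζ] at h
      exact t_ne_zeta S D (conj_inj h)
  have ht' : g * uG S D 0 (hh D.n) * g⁻¹ = uG S D 0 (hh D.n) := by
    rw [← WrFusion.zeta_mul_t, ← conj_mul, hζ, ht]
  have hab : ∀ a ∈ U, ∀ b ∈ U, a * b = b * a := by
    intro a ha b hb
    obtain ⟨a1, a2, rfl⟩ := (hU _).mp ha
    obtain ⟨b1, b2, rfl⟩ := (hU _).mp hb
    exact uG_comm S D _ _ _ _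
  have key := Cfsg.Agent.Helper16.Homocyclic.conj_trivial_of_trivial_on_invol U hab g
    (fun x hx => conj_mem_of_mem_normalizer hgN hx) (orderOf g) hodd
    (fun x _ => by rw [pow_orderOf_eq_one]; simp)
    (by
      intro x hx hx2
      obtain ⟨a, b, rfl⟩ := (hU _).mp hx
      obtain ⟨ha, hb⟩ := sq_eq_one_U S D a b hx2
      rcases ha with rfl | rfl <;> rcases hb with rfl | rfl
      · rw [uG_zero]; simp
      · exact ht'
      · exact ht
      · exact hζ)
  rw [Subgroup.mem_centralizer_iff]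
  intro x hx
  obtain ⟨a, b, rfl⟩ := (hU _).mp hx
  have := key D.n _ ((hU _).mpr ⟨a, b, rfl⟩) (uG_pow_two_pow S D a b)
  calc uG S D a b * g = g * uG S D a b * g⁻¹ * g := by rw [this]
    _ = g * uG S D a b := by rw [inv_mul_cancel_right]

omit [Finite G] in
theorem t_mul_t' : uG S D (hh D.n) 0 * uG S D 0 (hh D.n) = uG S D (hh D.n) (hh D.n) := by
  rw [uG_mul_uG, add_zero, zero_add]

/-- the three involutions of `U` are permuted cyclically -/
theorem cycle_of_fusion (g : G) (hodd : Odd (orderOf g))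
    (hgU : ∀ a b, ∃ a' b', g * uG S D a b * g⁻¹ = uG S D a' b') :
    (g * uG S D (hh D.n) (hh D.n) * g⁻¹ = uG S D (hh D.n) 0 →
      g * uG S D (hh D.n) 0 * g⁻¹ = uG S D 0 (hh D.n) ∧
      g * uG S D 0 (hh D.n) * g⁻¹ = uG S D (hh D.n) (hh D.n)) ∧
    (g * uG S D (hh D.n) (hh D.n) * g⁻¹ = uG S D 0 (hh D.n) →
      g * uG S D 0 (hh D.n) * g⁻¹ = uG S D (hh D.n) 0 ∧
      g * uG S D (hh D.n) 0 * g⁻¹ = uG S D (hh D.n) (hh D.n)) := by
  constructor
  · intro hζ
    have h1 : g * uG S D (hh D.n) 0 * g⁻¹ = uG S D 0 (hh D.n) := by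
      obtain ⟨a', b', h⟩ := hgU (hh D.n) 0
      have hord : orderOf (uG S D a' b') = 2 := by rw [← h, orderOf_conj', orderOf_t]
      rcases invol_U S D a' b' hord with h' | h' | h'
      · exfalso
        have h5 : g * uG S D (hh D.n) 0 * g⁻¹ = g * uG S D (hh D.n) (hh D.n) * g⁻¹ := by
          rw [h, h', hζ]
        exact t_ne_zeta S D (conj_inj h5)
      · rw [h, h']
      · exfalso
        rw [h'] at h
        exact t_ne_zeta S D (eq_of_swap hodd h hζ)
    refine ⟨h1, ?_⟩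
    rw [← WrFusion.zeta_mul_t, ← conj_mul, hζ, h1, t_mul_t']
  · intro hζ
    have h1 : g * uG S D 0 (hh D.n) * g⁻¹ = uG S D (hh D.n) 0 := by
      obtain ⟨a', b', h⟩ := hgU 0 (hh D.n)
      have hord : orderOf (uG S D a' b') = 2 := by rw [← h, orderOf_conj', orderOf_t']
      rcases invol_U S D a' b' hord with h' | h' | h'
      · rw [h, h']
      · exfalso
        have h5 : g * uG S D 0 (hh D.n) * g⁻¹ = g * uG S D (hh D.n) (hh D.n) * g⁻¹ := by
          rw [h, h', hζ]
        exact t'_ne_zeta S D (conj_inj h5)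
      · exfalso
        rw [h'] at h
        exact t'_ne_zeta S D (eq_of_swap hodd h hζ)
    refine ⟨h1, ?_⟩
    rw [← WrFusion.zeta_mul_t', ← conj_mul, hζ, h1, uG_comm, t_mul_t']

/-- a subgroup meeting `U` in a subgroup of index at most 2 which is invariant under an element
of odd order of `N(U)` fusing the involutions of `U` contains `U` -/
theorem U_le_of_index_two (M : Subgroup G) (g : G) (hodd : Odd (orderOf g))
    (hgU : ∀ a b, ∃ a' b', g * uG S D a b * g⁻¹ = uG S D a' b')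
    (hg : g * uG S D (hh D.n) (hh D.n) * g⁻¹ = uG S D (hh D.n) 0 ∨
      g * uG S D (hh D.n) (hh D.n) * g⁻¹ = uG S D 0 (hh D.n))
    (heven : ∀ a b, uG S D (2 * a) (2 * b) ∈ M)
    (hxor : ∀ a b c d, uG S D (a + c) (b + d) ∈ M ↔ (uG S D a b ∈ M ↔ uG S D c d ∈ M))
    (hinv : ∀ a b, uG S D a b ∈ M → g * uG S D a b * g⁻¹ ∈ M) :
    ∀ a b, uG S D a b ∈ M := by
  have hne := hh_ne_zero D.hn1
  have hshift : ∀ a b j j', uG S D (a + 2 * j) (b + 2 * j') ∈ M ↔ uG S D a b ∈ M := by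
    intro a b j j'
    rw [hxor]
    exact ⟨fun h => h.mpr (heven j j'), fun h => ⟨fun _ => heven j j', fun _ => h⟩⟩
  -- one step of the action
  have step : ∀ a b α β, g * uG S D (hh D.n * a) (hh D.n * b) * g⁻¹ = uG S D α β →
      uG S D a b ∈ M → ∃ a' b', uG S D a' b' ∈ M ∧ hh D.n * a' = α ∧ hh D.n * b' = β := by
    intro a b α β hαβ hM
    obtain ⟨a', b', hab⟩ := hgU a b
    refine ⟨a', b', ?_, ?_⟩
    · rw [← hab]; exact hinv a b hM
    · have h1 : uG S D (hh D.n * a) (hh D.n * b) = uG S D a b ^ 2 ^ (D.n - 1) := by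
        rw [uG_pow, ← D.hh_eq_natCast]
      have h2 : uG S D (hh D.n * a') (hh D.n * b') = uG S D a' b' ^ 2 ^ (D.n - 1) := by
        rw [uG_pow, ← D.hh_eq_natCast]
      rw [h1, ← conj_pow, hab, ← h2, uG_inj] at hαβ
      exact hαβ
  have hoddpar : ∀ a', hh D.n * a' = hh D.n → ∃ j, a' = 1 + 2 * j := by
    intro a' h
    rcases even_or_odd a' with ⟨j, rfl⟩ | ⟨j, rfl⟩
    · rw [hh_mul_even D.hn1] at h
      exact absurd h.symm hne
    · exact ⟨j, by ring⟩
  have hevenpar : ∀ a', hh D.n * a' = 0 → ∃ j, a' = 0 + 2 * j := by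
    intro a' h
    rcases even_or_odd a' with ⟨j, rfl⟩ | ⟨j, rfl⟩
    · exact ⟨j, by ring⟩
    · rw [hh_mul_odd D.hn1] at h
      exact absurd h hne
  have hcyc := cycle_of_fusion S D g hodd hgU
  have h111 : uG S D 1 1 ∈ M ↔ (uG S D 1 0 ∈ M ↔ uG S D 0 1 ∈ M) := by
    have := hxor 1 0 0 1
    rwa [add_zero, zero_add] at this
  have hall : uG S D 1 0 ∈ M ∧ uG S D 0 1 ∈ M ∧ uG S D 1 1 ∈ M := by
    rcases hg with hζ | hζ
    · obtain ⟨ht, ht'⟩ := hcyc.1 hζ
      have i1 : uG S D 1 1 ∈ M → uG S D 1 0 ∈ M := by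
        intro h
        obtain ⟨a', b', hM, ha, hb⟩ := step 1 1 _ _ (by rw [mul_one]; exact hζ) h
        obtain ⟨j, rfl⟩ := hoddpar a' ha
        obtain ⟨j', rfl⟩ := hevenpar b' hb
        exact (hshift _ _ _ _).mp hM
      have i2 : uG S D 1 0 ∈ M → uG S D 0 1 ∈ M := by
        intro h
        obtain ⟨a', b', hM, ha, hb⟩ := step 1 0 _ _ (by rw [mul_one, mul_zero]; exact ht) h
        obtain ⟨j, rfl⟩ := hevenpar a' ha
        obtain ⟨j', rfl⟩ := hoddpar b' hb
        exact (hshift _ _ _ _).mp hM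
      have i3 : uG S D 0 1 ∈ M → uG S D 1 1 ∈ M := by
        intro h
        obtain ⟨a', b', hM, ha, hb⟩ := step 0 1 _ _ (by rw [mul_one, mul_zero]; exact ht') h
        obtain ⟨j, rfl⟩ := hoddpar a' ha
        obtain ⟨j', rfl⟩ := hoddpar b' hb
        exact (hshift _ _ _ _).mp hM
      by_cases h11 : uG S D 1 1 ∈ M
      · exact ⟨i1 h11, i2 (i1 h11), h11⟩
      · exfalso
        have h01 : uG S D 0 1 ∉ M := fun h => h11 (i3 h)
        have h10 : uG S D 1 0 ∉ M := fun h => h01 (i2 h)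
        exact h11 (h111.mpr ⟨fun h => absurd h h10, fun h => absurd h h01⟩)
    · obtain ⟨ht', ht⟩ := hcyc.2 hζ
      have i1 : uG S D 1 1 ∈ M → uG S D 0 1 ∈ M := by
        intro h
        obtain ⟨a', b', hM, ha, hb⟩ := step 1 1 _ _ (by rw [mul_one]; exact hζ) h
        obtain ⟨j, rfl⟩ := hevenpar a' ha
        obtain ⟨j', rfl⟩ := hoddpar b' hb
        exact (hshift _ _ _ _).mp hM
      have i2 : uG S D 0 1 ∈ M → uG S D 1 0 ∈ M := by
        intro h
        obtain ⟨a', b', hM, ha, hb⟩ := step 0 1 _ _ (by rw [mul_one, mul_zero]; exact ht') h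
        obtain ⟨j, rfl⟩ := hoddpar a' ha
        obtain ⟨j', rfl⟩ := hevenpar b' hb
        exact (hshift _ _ _ _).mp hM
      have i3 : uG S D 1 0 ∈ M → uG S D 1 1 ∈ M := by
        intro h
        obtain ⟨a', b', hM, ha, hb⟩ := step 1 0 _ _ (by rw [mul_one, mul_zero]; exact ht) h
        obtain ⟨j, rfl⟩ := hoddpar a' ha
        obtain ⟨j', rfl⟩ := hoddpar b' hb
        exact (hshift _ _ _ _).mp hM
      by_cases h11 : uG S D 1 1 ∈ M
      · exact ⟨i2 (i1 h11), i1 h11, h11⟩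
      · exfalso
        have h10 : uG S D 1 0 ∉ M := fun h => h11 (i3 h)
        have h01 : uG S D 0 1 ∉ M := fun h => h10 (i2 h)
        exact h11 (h111.mpr ⟨fun h => absurd h h10, fun h => absurd h h01⟩)
  obtain ⟨h10, h01, h11⟩ := hall
  intro a b
  rcases even_or_odd a with ⟨j, rfl⟩ | ⟨j, rfl⟩ <;> rcases even_or_odd b with ⟨j', rfl⟩ | ⟨j', rfl⟩
  · exact heven j j'
  · have : uG S D (2 * j) (2 * j' + 1) = uG S D (0 + 2 * j) (1 + 2 * j') := by
      congr 1 <;> ring
    rw [this]; exact (hshift _ _ _ _).mpr h01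
  · have : uG S D (2 * j + 1) (2 * j') = uG S D (1 + 2 * j) (0 + 2 * j') := by
      congr 1 <;> ring
    rw [this]; exact (hshift _ _ _ _).mpr h10
  · have : uG S D (2 * j + 1) (2 * j' + 1) = uG S D (1 + 2 * j) (1 + 2 * j') := by
      congr 1 <;> ring
    rw [this]; exact (hshift _ _ _ _).mpr h11


variable (U : Subgroup G) (hU : ∀ x, x ∈ U ↔ ∃ a b, x = uG S D a b)

include hU in
/-- elements of `S` outside `U` are not fused into `U` when `|N(V) : V C(V)| = 2` -/
theorem not_fuse_into_U (p₀ : ZMod (2 ^ D.n))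
    (h₂ : (VW S D p₀ ⊔ centralizer ((VW S D p₀ : Subgroup G) : Set G)).relIndex
      (normalizer ((VW S D p₀ : Subgroup G) : Set G)) = 2)
    (a g : G) (ha : a ∈ (S : Subgroup G)) (haU : a ∉ U) (hg : g⁻¹ * a * g ∈ (S : Subgroup G)) :
    g⁻¹ * a * g ∉ U := by
  have hstep : ∀ T ∈ agFam 2 S (agK 2), ∀ x ∈ normalizer (T : Set G), ∀ a ∈ T,
      (a ∈ (S : Subgroup G) ∧ a ∉ U) →
        (x⁻¹ * a * x ∈ (S : Subgroup G) ∧ x⁻¹ * a * x ∉ U) := by
    rintro T hT x hx a haT ⟨haS, haU⟩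
    have hS : SConj S T := by
      rcases agFam_cases S D T hT with h | ⟨p, rfl⟩ | h
      · exfalso; exact haU ((hU _).mpr ((h a).mp haT))
      · exact sconj_VW S D p (relIndex_VW_all S D p₀ p h₂)
      · exact h
    obtain ⟨s, hs, hsa⟩ := hS x hx
    rw [hsa a haT]
    refine ⟨mul_mem (mul_mem (inv_mem hs) haS) hs, ?_⟩
    intro hU'
    apply haU
    have hsN := sylow_le_normalizer_U S D U hU hs
    have := conj_mem_of_mem_normalizer hsN hU'
    have h3 : s * (s⁻¹ * a * s) * s⁻¹ = a := by group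
    rwa [h3] at this
  have h1 := fusion_rel S
    (fun a b => (a ∈ (S : Subgroup G) ∧ a ∉ U) → (b ∈ (S : Subgroup G) ∧ b ∉ U))
    (fun a h => h) (fun a b c h1 h2 h => h2 (h1 h)) hstep a g ha hg
  exact (h1 ⟨ha, haU⟩).2

include hU in
omit [Finite G] in
theorem z_not_mem_U : uzG S D 0 0 ∉ U := by
  intro h
  obtain ⟨a, b, hab⟩ := (hU _).mp h
  exact uG_ne_uzG S D _ _ _ _ hab.symm

include hU in
/-- the normal subgroup of index 2 in the case `(6,2)` -/
theorem exists_K (p₀ : ZMod (2 ^ D.n))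
    (h₂ : (VW S D p₀ ⊔ centralizer ((VW S D p₀ : Subgroup G) : Set G)).relIndex
      (normalizer ((VW S D p₀ : Subgroup G) : Set G)) = 2)
    (g : G) (hgN : g ∈ normalizer (U : Set G)) (hodd : Odd (orderOf g))
    (hg : g * uG S D (hh D.n) (hh D.n) * g⁻¹ = uG S D (hh D.n) 0 ∨
      g * uG S D (hh D.n) (hh D.n) * g⁻¹ = uG S D 0 (hh D.n)) :
    ∃ K : Subgroup G, K.Normal ∧ K.index = 2 ∧ U ≤ K ∧ ∀ H : Subgroup K, H.index ≠ 2 := by
  obtain ⟨f, hf⟩ : ∃ f : G →* ℤˣ, f = MonoidHom.transfer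
      (Cfsg.Agent.Helper16.indexTwoHom D.U D.U_index) := ⟨_, rfl⟩
  have hzU := z_not_mem_U S D U hU
  have hfz : f (uzG S D 0 0) = -1 := by
    rw [hf]
    apply Cfsg.Agent.Helper16.transfer_indexTwoHom_eq_neg_one (S : Subgroup G)
      (sylow_index_odd S) D.U D.U_index _ 1 le_rfl
      (by rw [pow_one]; have := orderOf_w S D 0; rwa [neg_zero] at this)
    · rintro y ⟨c, hc⟩ hyU
      have h1 : (y : G) ∈ U := by
        obtain ⟨a, b, hab⟩ := hyU
        exact (hU _).mpr ⟨a, b, congrArg Subtype.val hab⟩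
      have h2 := not_fuse_into_U S D U hU p₀ h₂ (uzG S D 0 0) c⁻¹ (uzG_mem S D 0 0) hzU
        (by rw [inv_inv, ← hc]; exact y.2)
      rw [inv_inv, ← hc] at h2
      exact h2 h1
    · intro y hy
      rw [Nat.sub_self, pow_zero]
      have hne : (y : G) ≠ 1 := by
        intro h
        apply hy
        have : y = 1 := Subtype.ext h
        rw [this]; exact D.U.one_mem
      have hpos := orderOf_pos (y : G)
      have : orderOf (y : G) ≠ 1 := fun h => hne (orderOf_eq_one_iff.mp h)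
      omega
  have hKN : f.ker.Normal := MonoidHom.normal_ker f
  have hKidx : f.ker.index = 2 := ker_index_two f _ hfz
  have hgU : ∀ a b, ∃ a' b', g * uG S D a b * g⁻¹ = uG S D a' b' := by
    intro a b
    exact (hU _).mp (conj_mem_of_mem_normalizer hgN ((hU _).mpr ⟨a, b, rfl⟩))
  have hUK : ∀ a b, uG S D a b ∈ f.ker := by
    apply U_le_of_index_two S D f.ker g hodd hgU hg
    · intro a b
      rw [MonoidHom.mem_ker]
      have := hom_sq f (uG S D a b)
      rw [uG_pow] at this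
      push_cast at this
      exact this
    · intro a b c d
      rw [← uG_mul_uG]
      exact Subgroup.mul_mem_iff_of_index_two hKidx
    · intro a b h
      exact hKN.conj_mem _ h g
  have hUK' : U ≤ f.ker := by
    intro x hx
    obtain ⟨a, b, rfl⟩ := (hU _).mp hx
    exact hUK a b
  refine ⟨f.ker, hKN, hKidx, hUK', ?_⟩
  intro H hH
  have hgK : g ∈ f.ker := mem_of_odd_of_index_two hKidx hodd
  have hgH : (⟨g, hgK⟩ : f.ker) ∈ H :=
    mem_of_odd_of_index_two hH (by rw [Subgroup.orderOf_mk]; exact hodd)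
  have hgM : g ∈ H.map f.ker.subtype := (mem_map_subtype_iff H hgK).mpr hgH
  have hUM : ∀ a b, uG S D a b ∈ H.map f.ker.subtype := by
    apply U_le_of_index_two S D _ g hodd hgU hg
    · intro a b
      rw [mem_map_subtype_iff H (hUK _ _)]
      have h1 := Subgroup.sq_mem_of_index_two hH ⟨uG S D a b, hUK a b⟩
      have h2 : (⟨uG S D a b, hUK a b⟩ : f.ker) ^ 2 = ⟨uG S D (2 * a) (2 * b), hUK _ _⟩ := by
        apply Subtype.ext
        rw [Subgroup.coe_pow]
        simp only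
        rw [uG_pow]
        push_cast
        rfl
      rwa [h2] at h1
    · intro a b c d
      rw [mem_map_subtype_iff H (hUK _ _), mem_map_subtype_iff H (hUK _ _),
        mem_map_subtype_iff H (hUK _ _)]
      have h1 := Subgroup.mul_mem_iff_of_index_two hH (a := ⟨uG S D a b, hUK a b⟩)
        (b := ⟨uG S D c d, hUK c d⟩)
      have h2 : (⟨uG S D a b, hUK a b⟩ : f.ker) * ⟨uG S D c d, hUK c d⟩ =
          ⟨uG S D (a + c) (b + d), hUK _ _⟩ := by
        apply Subtype.ext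
        rw [Subgroup.coe_mul]
        exact uG_mul_uG S D a b c d
      rwa [h2] at h1
    · intro a b h
      exact Subgroup.mul_mem _ (Subgroup.mul_mem _ hgM h) (Subgroup.inv_mem _ hgM)
  have hle : U.subgroupOf f.ker ≤ H := by
    intro x hx
    rw [Subgroup.mem_subgroupOf] at hx
    obtain ⟨a, b, hab⟩ := (hU _).mp hx
    have h1 := hUM a b
    rw [← hab] at h1
    exact (mem_map_subtype_iff H x.2).mp h1
  have hdvd : H.index ∣ (U.subgroupOf f.ker).index := Subgroup.index_dvd_of_le hle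
  rw [hH] at hdvd
  have h1 : U.relIndex f.ker * f.ker.index = U.index := Subgroup.relIndex_mul_index hUK'
  have h2 : U.relIndex (S : Subgroup G) * (S : Subgroup G).index = U.index :=
    Subgroup.relIndex_mul_index (U_le_S S D U hU)
  rw [relIndex_U_S S D U hU] at h2
  rw [hKidx] at h1
  have h3 : (U.subgroupOf f.ker).index = U.relIndex f.ker := rfl
  rw [h3] at hdvd
  have hoddS := sylow_index_odd S
  rw [Nat.odd_iff] at hoddS
  omega

include hU in
/-- two classes of involutions in the case `(6,2)` -/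
theorem card_invol_classes_eq_two (p₀ : ZMod (2 ^ D.n))
    (h₂ : (VW S D p₀ ⊔ centralizer ((VW S D p₀ : Subgroup G) : Set G)).relIndex
      (normalizer ((VW S D p₀ : Subgroup G) : Set G)) = 2)
    (hζt : IsConj (uG S D (hh D.n) (hh D.n)) (uG S D (hh D.n) 0)) :
    Nat.card {C : ConjClasses G // ∃ t : G, orderOf t = 2 ∧ ConjClasses.mk t = C} = 2 := by
  have hset : {C : ConjClasses G | ∃ t : G, orderOf t = 2 ∧ ConjClasses.mk t = C} =
      {ConjClasses.mk (uG S D (hh D.n) (hh D.n)), ConjClasses.mk (uzG S D 0 0)} := by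
    ext C
    simp only [Set.mem_ofPred_eq, Set.mem_insert_iff, Set.mem_singleton_iff]
    constructor
    · rintro ⟨t, ht, rfl⟩
      obtain ⟨g, hg⟩ := exists_conj_mem_sylow S t 1 (by rw [ht]; norm_num)
      have hconj : IsConj t (g * t * g⁻¹) := by rw [isConj_iff]; exact ⟨g, rfl⟩
      have hord : orderOf (g * t * g⁻¹) = 2 := by rw [orderOf_conj', ht]
      rcases (invol_iff S D _ hg).mp hord with h | h | h | ⟨a, h⟩
      · left
        rw [ConjClasses.mk_eq_mk_iff_isConj]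
        rw [h] at hconj
        exact hconj.trans hζt.symm
      · left
        rw [ConjClasses.mk_eq_mk_iff_isConj]
        rw [h] at hconj
        exact hconj.trans ((isConj_t_t' S D).symm.trans hζt.symm)
      · left
        rw [ConjClasses.mk_eq_mk_iff_isConj, ← h]; exact hconj
      · right
        rw [ConjClasses.mk_eq_mk_iff_isConj]
        rw [h] at hconj
        exact hconj.trans (isConj_uzG S D a)
    · rintro (rfl | rfl)
      · exact ⟨_, orderOf_zeta S D, rfl⟩
      · refine ⟨_, ?_, rfl⟩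
        have := orderOf_w S D 0
        rwa [neg_zero] at this
  have h1 : ConjClasses.mk (uG S D (hh D.n) (hh D.n)) ≠ ConjClasses.mk (uzG S D 0 0) := by
    rw [Ne, ConjClasses.mk_eq_mk_iff_isConj]
    intro h
    obtain ⟨c, hc⟩ := isConj_iff.mp h.symm
    have h3 : c⁻¹⁻¹ * uzG S D 0 0 * c⁻¹ = uG S D (hh D.n) (hh D.n) := by rw [inv_inv]; exact hc
    have h4 := not_fuse_into_U S D U hU p₀ h₂ (uzG S D 0 0) c⁻¹ (uzG_mem S D 0 0)
      (z_not_mem_U S D U hU) (by rw [h3]; exact uG_mem S D _ _)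
    rw [h3] at h4
    exact h4 ((hU _).mpr ⟨_, _, rfl⟩)
  show Nat.card ↥{C : ConjClasses G | ∃ t : G, orderOf t = 2 ∧ ConjClasses.mk t = C} = 2
  rw [Nat.card_coe_set_eq, hset]
  exact Set.ncard_pair h1

end wr

end Cfsg.Agent.Helper16.WrAG
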