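import Mathlib
import Cfsg.Agent.Helper16.WrAG3

/-!
Wreathed Sylow 2-subgroups: the case `|N(U):C(U)| = 2`, `|N(V):VC(V)| = 6`.
-/

set_option autoImplicit false

namespace Cfsg.Agent.Helper16.WrAG

open Cfsg.Agent.Helper18.Wr
open Cfsg.Agent.Helper18.QD (hh qq two_mul_hh hh_ne_zero two_mul_eq_zero_iff neg_hh two_mul_qq
  qq_add_hh two_mul_eq_two_mul_iff even_or_odd hh_mul_odd hh_mul_even two_mul_ne_odd four_mul_qq
  orderOf_conj' exists_conj_mem_sylow)
open Cfsg.Agent.Helper16.QDFusion Cfsg.Agent.Helper16.WrFusion Cfsg.Agent.Helper16.WrIndices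
open Cfsg.Agent.Helper16.WrCentric Cfsg.Agent.Helper16.AutOdd
open Cfsg.Agent.Helper10 Cfsg.Agent.Helper14
open Subgroup
open scoped commutatorElement

section wr
variable {G : Type*} [Group G] [Finite G] (S : Sylow 2 G) (D : WrData (S : Subgroup G))

/-- the generalized quaternion subgroup of `S`, inside `G` -/
def QgG : Subgroup G := D.Qg.map (S : Subgroup G).subtype

omit [Finite G] in
theorem mem_QgG_iff (s : (S : Subgroup G)) : (s : G) ∈ QgG S D ↔ s ∈ D.Qg := by
  constructor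
  · rintro ⟨s', hs', h⟩
    have : s' = s := Subtype.ext h
    rw [← this]; exact hs'
  · intro h
    exact ⟨s, h, rfl⟩

omit [Finite G] in
theorem QgG_le_S : QgG S D ≤ (S : Subgroup G) := by
  rintro _ ⟨s, _, rfl⟩
  exact s.2

omit [Finite G] in
theorem uG_mem_QgG {a b : ZMod (2 ^ D.n)} : uG S D a b ∈ QgG S D ↔ b = -a := by
  show ((D.u a b : (S : Subgroup G)) : G) ∈ QgG S D ↔ _
  rw [mem_QgG_iff, D.u_mem_Qg]

omit [Finite G] in
theorem uzG_mem_QgG {a b : ZMod (2 ^ D.n)} : uzG S D a b ∈ QgG S D ↔ a + b = hh D.n := by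
  show ((D.uz a b : (S : Subgroup G)) : G) ∈ QgG S D ↔ _
  rw [mem_QgG_iff, D.uz_mem_Qg]

/-- commutators of elements of `S` lie in `Qg` -/
theorem comm_mem_QgG (a s : G) (ha : a ∈ (S : Subgroup G)) (hs : s ∈ (S : Subgroup G)) :
    a⁻¹ * (s⁻¹ * a * s) ∈ QgG S D := by
  have h1 : ⁅(⟨a, ha⟩ : (S : Subgroup G))⁻¹, (⟨s, hs⟩ : (S : Subgroup G))⁻¹⁆ ∈
      commutator (S : Subgroup G) := by
    rw [_root_.commutator_def]
    exact Subgroup.commutator_mem_commutator (Subgroup.mem_top _) (Subgroup.mem_top _)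
  rw [← D.Qg_inf_U] at h1
  have h2 := (mem_QgG_iff S D _).mpr h1.1
  have h3 : ((⁅(⟨a, ha⟩ : (S : Subgroup G))⁻¹, (⟨s, hs⟩ : (S : Subgroup G))⁻¹⁆ :
      (S : Subgroup G)) : G) = a⁻¹ * (s⁻¹ * a * s) := by
    rw [commutatorElement_def]
    simp only [Subgroup.coe_mul, Subgroup.coe_inv, inv_inv]
    group
  rwa [h3] at h2

open scoped IsMulCommutative in
/-- the kernel of the transfer into `S / Qg` -/
theorem exists_K_quat
    (hinv : ∀ a g : G, a ∈ (S : Subgroup G) → g⁻¹ * a * g ∈ (S : Subgroup G) →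
      a⁻¹ * (g⁻¹ * a * g) ∈ QgG S D) :
    ∃ K : Subgroup G, K.Normal ∧ K.index = 2 ^ D.n ∧ K ⊓ (S : Subgroup G) = QgG S D ∧
      ∀ x : G, Odd (orderOf x) → x ∈ K := by
  have : D.Qg.Normal := D.Qg_normal
  have hcomm : IsMulCommutative ((S : Subgroup G) ⧸ D.Qg) := by
    rw [Subgroup.Normal.quotient_commutative_iff_commutator_le, ← D.Qg_inf_U]
    exact inf_le_left
  obtain ⟨f, hf⟩ : ∃ f : G →* ((S : Subgroup G) ⧸ D.Qg),
      f = MonoidHom.transfer (QuotientGroup.mk' D.Qg) := ⟨_, rfl⟩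
  have hpow : ∀ s : (S : Subgroup G), f (s : G) =
      (QuotientGroup.mk' D.Qg s) ^ (S : Subgroup G).index := by
    intro s
    have : Fintype (Quotient (MulAction.orbitRel (zpowers (s : G)) (G ⧸ (S : Subgroup G)))) :=
      Fintype.ofFinite _
    rw [hf, Subgroup.index_eq_sum_minimalPeriod (S : Subgroup G) (s : G),
      ← Finset.prod_pow_eq_pow_sum, MonoidHom.transfer_eq_prod_quotient_orbitRel_zpowers_quot]
    apply Finset.prod_congr rfl
    intro q _
    rw [← map_pow]
    apply QuotientGroup.eq.mpr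
    have hk : (s : G) ^ Function.minimalPeriod ((s : G) • ·) q.out ∈ (S : Subgroup G) :=
      Subgroup.pow_mem _ s.2 _
    have h1 := hinv _ q.out.out hk
      (QuotientGroup.out_conj_pow_minimalPeriod_mem (S : Subgroup G) (s : G) q.out)
    rw [← mem_QgG_iff]
    have h2 := (QgG S D).inv_mem h1
    convert h2 using 1
    simp only [Subgroup.coe_mul, Subgroup.coe_inv, Subgroup.coe_pow, mul_inv_rev, inv_inv]
  have hQ : IsPGroup 2 ((S : Subgroup G) ⧸ D.Qg) := S.isPGroup'.to_quotient D.Qg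
  have hsurj : Function.Surjective f := by
    intro y
    obtain ⟨y', rfl⟩ := (hQ.powEquiv' S.not_dvd_index).surjective y
    obtain ⟨s, rfl⟩ := QuotientGroup.mk'_surjective _ y'
    exact ⟨s, hpow s⟩
  have hidx : D.Qg.index = 2 ^ D.n := by
    have h1 := Subgroup.card_mul_index D.Qg
    rw [D.card_Qg, D.card] at h1
    have h2 : 2 ^ (2 * D.n + 1) = 2 ^ (D.n + 1) * 2 ^ D.n := by rw [← pow_add]; congr 1; ring
    rw [h2] at h1
    exact Nat.eq_of_mul_eq_mul_left (by positivity) h1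
  refine ⟨f.ker, MonoidHom.normal_ker f, ?_, ?_, ?_⟩
  · rw [Subgroup.index_ker, MonoidHom.range_eq_top.mpr hsurj, Subgroup.card_top,
      ← Subgroup.index_eq_card, hidx]
  · ext x
    constructor
    · rintro ⟨hxK, hxS⟩
      have h1 := hpow ⟨x, hxS⟩
      rw [MonoidHom.mem_ker.mp hxK] at h1
      have h2 : (hQ.powEquiv' S.not_dvd_index) (QuotientGroup.mk' D.Qg ⟨x, hxS⟩) =
          (hQ.powEquiv' S.not_dvd_index) 1 := by
        rw [IsPGroup.powEquiv_apply, IsPGroup.powEquiv_apply, one_pow]; exact h1.symm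
      have h3 := (hQ.powEquiv' S.not_dvd_index).injective h2
      have h4 : (⟨x, hxS⟩ : (S : Subgroup G)) ∈ D.Qg := (QuotientGroup.eq_one_iff _).mp h3
      exact (mem_QgG_iff S D ⟨x, hxS⟩).mpr h4
    · intro hx
      have hxS := QgG_le_S S D hx
      have hxK : x ∈ f.ker := by
        rw [MonoidHom.mem_ker]
        have h1 := hpow ⟨x, hxS⟩
        have h4 : (⟨x, hxS⟩ : (S : Subgroup G)) ∈ D.Qg := (mem_QgG_iff S D ⟨x, hxS⟩).mp hx
        have h3 : QuotientGroup.mk' D.Qg ⟨x, hxS⟩ = 1 := (QuotientGroup.eq_one_iff _).mpr h4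
        rw [h3, one_pow] at h1
        exact h1
      exact ⟨hxK, hxS⟩
  · intro x hodd
    rw [MonoidHom.mem_ker]
    obtain ⟨k, hk⟩ := hQ (f x)
    have h1 : f x ^ orderOf x = 1 := by rw [← map_pow, pow_orderOf_eq_one, map_one]
    exact eq_one_of_pow_odd hodd h1 k hk


/-- a non-central element of `S` whose square is the central involution lies in `Qg` -/
theorem mem_QgG_of_sq (s : G) (hs : s ∈ (S : Subgroup G))
    (hsq : s * s = uG S D (hh D.n) (hh D.n)) (hnc : ∀ c, s ≠ uG S D c c) : s ∈ QgG S D := by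
  have hne := hh_ne_zero D.hn1
  have h2h := two_mul_hh D.hn1
  rcases exists_rep S D s hs with ⟨a, b, rfl⟩ | ⟨a, b, rfl⟩
  · rw [uG_mul_uG, uG_inj] at hsq
    rw [uG_mem_QgG]
    have h1 : 2 * (a - b) = 0 := by linear_combination hsq.1 - hsq.2
    rcases (two_mul_eq_zero_iff D.hn1 _).mp h1 with h | h
    · exfalso
      have : a = b := sub_eq_zero.mp h
      subst this
      exact hnc a rfl
    · linear_combination hsq.1 - h
  · rw [uzG_mul_uzG, uG_inj] at hsq
    rw [uzG_mem_QgG]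
    exact hsq.1

omit [Finite G] in
/-- non-central elements of `V` are a central element times an element of `Qg` of order 4 -/
theorem exists_quat_part (p : ZMod (2 ^ D.n)) (v : G) (hv : v ∈ VW S D p)
    (hnc : ∀ c, v ≠ uG S D c c) :
    ∃ q c, v = q * uG S D c c ∧ q ∈ VW S D p ∧ q * q = uG S D (hh D.n) (hh D.n) ∧
      (∀ c', q ≠ uG S D c' c') := by
  have hne := hh_ne_zero D.hn1
  have h2h := two_mul_hh D.hn1
  have h2q := two_mul_qq D.hn
  have h4q := four_mul_qq D.hn
  rcases hv with ⟨a, b, rfl, h⟩ | ⟨a, b, rfl, h⟩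
  · have hab : a - b = hh D.n := by
      rcases (two_mul_eq_zero_iff D.hn1 _).mp h with h' | h'
      · exfalso
        have : a = b := sub_eq_zero.mp h'
        subst this
        exact hnc a rfl
      · exact h'
    refine ⟨uG S D (qq D.n) (-qq D.n), b + qq D.n, ?_, ?_, ?_, ?_⟩
    · rw [uG_mul_uG, uG_inj]
      constructor
      · linear_combination hab - h2q
      · ring
    · rw [uG_mem_VW]; linear_combination h4q
    · rw [uG_mul_uG, uG_inj]
      constructor
      · linear_combination h2q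
      · linear_combination -h2q - h2h
    · intro c' h'
      have := (uG_inj S D).mp h'
      apply hne
      linear_combination (this.1 - this.2) - h2q
  · rcases (two_mul_eq_zero_iff D.hn1 _).mp h with h' | h'
    · refine ⟨uzG S D (p + qq D.n) (-p + qq D.n), a - p - qq D.n, ?_, ?_, ?_, ?_⟩
      · rw [uzG_mul_uG, uzG_inj]
        constructor
        · ring
        · linear_combination -h'
      · rw [uzG_mem_VW]; ring
      · rw [uzG_mul_uzG, uG_inj]
        constructor
        · linear_combination h2q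
        · linear_combination h2q
      · intro c' h''
        exact uG_ne_uzG S D _ _ _ _ h''.symm
    · refine ⟨uzG S D (p + hh D.n) (-p), a - p - hh D.n, ?_, ?_, ?_, ?_⟩
      · rw [uzG_mul_uG, uzG_inj]
        constructor
        · ring
        · linear_combination -h'
      · rw [uzG_mem_VW]; linear_combination h2h
      · rw [uzG_mul_uzG, uG_inj]
        constructor
        · ring
        · ring
      · intro c' h''
        exact uG_ne_uzG S D _ _ _ _ h''.symm

/-- the step at `V`: conjugation by `N(V)` changes elements of `V` by elements of `Qg` -/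
theorem VW_step (p : ZMod (2 ^ D.n)) (g : G)
    (hgN : g ∈ normalizer ((VW S D p : Subgroup G) : Set G)) (v : G) (hv : v ∈ VW S D p) :
    v⁻¹ * (g * v * g⁻¹) ∈ QgG S D := by
  by_cases hc : ∃ c, v = uG S D c c
  · obtain ⟨c, rfl⟩ := hc
    rw [centralizes_Zc S D p g hgN c, inv_mul_cancel]
    exact Subgroup.one_mem _
  · push Not at hc
    obtain ⟨q, c, rfl, hqV, hqsq, hqnc⟩ := exists_quat_part S D p v hv hc
    have hqS := VW_le_S S D p hqV
    have hq'V : g * q * g⁻¹ ∈ VW S D p := conj_mem_of_mem_normalizer hgN hqV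
    have hq'S := VW_le_S S D p hq'V
    have hqQ : q ∈ QgG S D := mem_QgG_of_sq S D q hqS hqsq hqnc
    have hq'Q : g * q * g⁻¹ ∈ QgG S D := by
      apply mem_QgG_of_sq S D _ hq'S
      · rw [conj_mul, hqsq, centralizes_Zc S D p g hgN]
      · intro c' h'
        apply hqnc c'
        have h1 := centralizes_Zc S D p g⁻¹ (Subgroup.inv_mem _ hgN) c'
        rw [inv_inv] at h1
        calc q = g⁻¹ * (g * q * g⁻¹) * g := by group
          _ = uG S D c' c' := by rw [h', h1]
    have h1 : g * (q * uG S D c c) * g⁻¹ = (g * q * g⁻¹) * uG S D c c := by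
      rw [← conj_mul, centralizes_Zc S D p g hgN c]
    have h2 : uG S D c c * (q⁻¹ * (g * q * g⁻¹)) = (q⁻¹ * (g * q * g⁻¹)) * uG S D c c :=
      uG_diag_comm S D c _ ((S : Subgroup G).mul_mem ((S : Subgroup G).inv_mem hqS) hq'S)
    have h3 : (q * uG S D c c)⁻¹ * (g * (q * uG S D c c) * g⁻¹) = q⁻¹ * (g * q * g⁻¹) := by
      rw [h1]
      calc (q * uG S D c c)⁻¹ * (g * q * g⁻¹ * uG S D c c)
          = (uG S D c c)⁻¹ * ((q⁻¹ * (g * q * g⁻¹)) * uG S D c c) := by group
        _ = (uG S D c c)⁻¹ * (uG S D c c * (q⁻¹ * (g * q * g⁻¹))) := by rw [h2]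
        _ = q⁻¹ * (g * q * g⁻¹) := by group
    rw [h3]
    exact (QgG S D).mul_mem ((QgG S D).inv_mem hqQ) hq'Q

variable (U : Subgroup G) (hU : ∀ x, x ∈ U ↔ ∃ a b, x = uG S D a b)

include hU in
/-- when `|N(U) : C(U)| = 2`, fusion in `S` is trivial modulo `Qg` -/
theorem qg_invariant (h₁ : (centralizer (U : Set G)).relIndex (normalizer (U : Set G)) = 2)
    (a g : G) (ha : a ∈ (S : Subgroup G)) (hg : g⁻¹ * a * g ∈ (S : Subgroup G)) :
    a⁻¹ * (g⁻¹ * a * g) ∈ QgG S D := by
  have hstep : ∀ T ∈ agFam 2 S (agK 2), ∀ x ∈ normalizer (T : Set G), ∀ a ∈ T,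
      a ∈ (S : Subgroup G) →
        (x⁻¹ * a * x ∈ (S : Subgroup G) ∧ a⁻¹ * (x⁻¹ * a * x) ∈ QgG S D) := by
    intro T hT x hx a haT haS
    have hsc : SConj S T → (x⁻¹ * a * x ∈ (S : Subgroup G) ∧ a⁻¹ * (x⁻¹ * a * x) ∈ QgG S D) := by
      intro hS
      obtain ⟨s, hs, hsa⟩ := hS x hx
      rw [hsa a haT]
      exact ⟨mul_mem (mul_mem (inv_mem hs) haS) hs, comm_mem_QgG S D a s haS hs⟩
    rcases agFam_cases S D T hT with h | ⟨p, rfl⟩ | h
    · have : T = U := by
        ext x; rw [h, hU]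
      apply hsc
      rw [this]; exact sconj_U S D U hU h₁
    · have hxN := Subgroup.inv_mem _ hx
      have h1 := VW_step S D p x⁻¹ hxN a haT
      rw [inv_inv] at h1
      refine ⟨?_, h1⟩
      have := conj_mem_of_mem_normalizer hxN haT
      rw [inv_inv] at this
      exact VW_le_S S D p this
    · exact hsc h
  have h1 := fusion_rel S
    (fun a b => a ∈ (S : Subgroup G) → (b ∈ (S : Subgroup G) ∧ a⁻¹ * b ∈ QgG S D))
    (fun a h => ⟨h, by rw [inv_mul_cancel]; exact Subgroup.one_mem _⟩)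
    (fun a b c h1 h2 h => by
      obtain ⟨hb, hab⟩ := h1 h
      obtain ⟨hc, hbc⟩ := h2 hb
      refine ⟨hc, ?_⟩
      have : a⁻¹ * c = (a⁻¹ * b) * (b⁻¹ * c) := by group
      rw [this]
      exact Subgroup.mul_mem _ hab hbc)
    hstep a g ha hg
  exact (h1 ha).2

include hU in
/-- when `|N(U) : C(U)| = 2`, the elements of `Z(S)` are isolated in `S` -/
theorem zc_isolated (h₁ : (centralizer (U : Set G)).relIndex (normalizer (U : Set G)) = 2)
    (c : ZMod (2 ^ D.n)) (g : G) (hg : g⁻¹ * uG S D c c * g ∈ (S : Subgroup G)) :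
    g⁻¹ * uG S D c c * g = uG S D c c := by
  have hstep : ∀ T ∈ agFam 2 S (agK 2), ∀ x ∈ normalizer (T : Set G), ∀ a ∈ T,
      (∃ c, a = uG S D c c) → x⁻¹ * a * x = a := by
    rintro T hT x hx a haT ⟨c, rfl⟩
    have hsc : SConj S T → x⁻¹ * uG S D c c * x = uG S D c c := by
      intro hS
      obtain ⟨s, hs, hsa⟩ := hS x hx
      rw [hsa _ haT, mul_assoc, uG_diag_comm S D c s hs, inv_mul_cancel_left]
    rcases agFam_cases S D T hT with h | ⟨p, rfl⟩ | h
    · have : T = U := by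
        ext x; rw [h, hU]
      apply hsc
      rw [this]; exact sconj_U S D U hU h₁
    · have h1 := centralizes_Zc S D p x⁻¹ (Subgroup.inv_mem _ hx) c
      rwa [inv_inv] at h1
    · exact hsc h
  have h1 := fusion_rel S (fun a b => (∃ c, a = uG S D c c) → b = a)
    (fun a _ => rfl)
    (fun a b c h1 h2 h => by
      have hb := h1 h
      rw [hb] at h2
      exact h2 h)
    hstep (uG S D c c) g (uG_mem S D c c) hg
  exact h1 ⟨c, rfl⟩

end wr

end Cfsg.Agent.Helper16.WrAG
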