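import Mathlib
import Cfsg.Agent.Helper16.WrAG4

/-!
Wreathed Sylow 2-subgroups, case `(2,6)`: the normal subgroup with generalized quaternion Sylow
2-subgroups has no subgroup of index 2.
-/

set_option autoImplicit false

namespace Cfsg.Agent.Helper16.WrAG

open Cfsg.Agent.Helper18.Wr
open Cfsg.Agent.Helper18.QD (hh qq two_mul_hh hh_ne_zero two_mul_eq_zero_iff neg_hh two_mul_qq
  qq_add_hh two_mul_eq_two_mul_iff even_or_odd hh_mul_odd hh_mul_even two_mul_ne_odd four_mul_qq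
  orderOf_conj' exists_conj_mem_sylow)
open Cfsg.Agent.Helper16.QDFusion Cfsg.Agent.Helper16.WrFusion Cfsg.Agent.Helper16.WrIndices
open Cfsg.Agent.Helper16.WrCentric Cfsg.Agent.Helper16.AutOdd
open Cfsg.Agent.Helper10 Cfsg.Agent.Helper14
open Subgroup

theorem perm3_sq_of_fix : ∀ σ : Equiv.Perm (Fin 3), ∀ k, σ k = k → σ * σ = 1 := by decide

section generic
variable {G : Type*} [Group G] [Finite G]

theorem not_dvd_relIndex_inf_normal (S : Sylow 2 G) (K : Subgroup G) [hK : K.Normal] :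
    ¬ 2 ∣ ((S : Subgroup G) ⊓ K).relIndex K := by
  have hp : Fact (Nat.Prime 2) := ⟨Nat.prime_two⟩
  rw [Subgroup.inf_relIndex_right]
  have h1 : (S : Subgroup G) ≤ normalizer (K : Set G) := by
    rw [Subgroup.normalizer_eq_top]; exact le_top
  rw [← Cfsg.Agent.Lead.relIndex_sup_of_le_normalizer (S : Subgroup G) K h1]
  intro h
  exact S.not_dvd_index (h.trans (Subgroup.relIndex_dvd_index_of_le le_sup_left))

/-- the Sylow 2-subgroups of a normal subgroup `K` are isomorphic to `S ∩ K` -/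
theorem sylow_iso_normal (S : Sylow 2 G) (K : Subgroup G) [hK : K.Normal] (P : Sylow 2 K) :
    Nonempty ((P : Subgroup K) ≃* ((S : Subgroup G) ⊓ K : Subgroup G)) := by
  have hp : Fact (Nat.Prime 2) := ⟨Nat.prime_two⟩
  have hP₀ : IsPGroup 2 (((S : Subgroup G) ⊓ K).subgroupOf K) := by
    have h1 : IsPGroup 2 ((S : Subgroup G) ⊓ K : Subgroup G) := S.isPGroup'.to_le inf_le_left
    exact h1.comap_subtype
  obtain ⟨P₀, hP₀'⟩ : ∃ P₀ : Sylow 2 K, (P₀ : Subgroup K) = ((S : Subgroup G) ⊓ K).subgroupOf K :=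
    ⟨hP₀.toSylow (not_dvd_relIndex_inf_normal S K), IsPGroup.toSylow_coe _ _⟩
  obtain ⟨k, hk⟩ := MulAction.exists_smul_eq K P₀ P
  have e1 : (P₀ : Subgroup K) ≃* (P : Subgroup K) := by
    rw [← hk]; exact Sylow.equivSMul P₀ k
  have e2 : (P₀ : Subgroup K) ≃* ((S : Subgroup G) ⊓ K : Subgroup G) := by
    rw [hP₀']; exact Subgroup.subgroupOfEquivOfLe inf_le_right
  exact ⟨e1.symm.trans e2⟩

end generic

section wr
variable {G : Type*} [Group G] [Finite G] (S : Sylow 2 G) (D : WrData (S : Subgroup G))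
  (p : ZMod (2 ^ D.n))

omit [Finite G] in
theorem cl_eq_zero_iff (v : G) : cl S D p v = 0 ↔ ∃ a b, v = uG S D a b := by
  constructor
  · intro h
    by_contra hne
    unfold cl at h
    rw [if_neg hne] at h
    split_ifs at h
    · exact absurd h (by decide)
    · exact absurd h (by decide)
  · rintro ⟨a, b, rfl⟩
    exact cl_u S D p a b

/-- an element of `N(V)` fixing the classes `0` and `1` lies in `V C(V)` -/
theorem mem_sup_of_fix (g : G) (hgN : g ∈ normalizer ((VW S D p : Subgroup G) : Set G))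
    (hg0 : cl S D p (g * rep S D p 0 * g⁻¹) = 0) (hg1 : cl S D p (g * rep S D p 1 * g⁻¹) = 1) :
    g ∈ VW S D p ⊔ centralizer ((VW S D p : Subgroup G) : Set G) := by
  have hhh := hh_add_hh S D
  obtain ⟨c₁, h1⟩ := conj_rep S D p g hgN 0
  rw [hg0] at h1
  obtain ⟨c₂, h2⟩ := conj_rep S D p g hgN 1
  rw [hg1] at h2
  change g * uG S D (hh D.n) 0 * g⁻¹ = uG S D (hh D.n) 0 * uG S D c₁ c₁ at h1
  change g * uzG S D p (-p) * g⁻¹ = uzG S D p (-p) * uG S D c₂ c₂ at h2
  have hc₁ : c₁ = 0 ∨ c₁ = hh D.n := by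
    have hord : orderOf (uG S D (hh D.n) 0 * uG S D c₁ c₁) = 2 := by
      rw [← h1, orderOf_conj', orderOf_t]
    rw [uG_mul_uG] at hord
    have h3 : uG S D (hh D.n + c₁) (0 + c₁) ^ 2 = 1 := by
      have := pow_orderOf_eq_one (uG S D (hh D.n + c₁) (0 + c₁))
      rwa [hord] at this
    have := (sq_eq_one_U S D _ _ h3).2
    rwa [zero_add] at this
  have hc₂ : c₂ = 0 ∨ c₂ = hh D.n := by
    have hord : orderOf (uzG S D p (-p) * uG S D c₂ c₂) = 2 := by
      rw [← h2, orderOf_conj', orderOf_w]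
    rw [uzG_mul_uG] at hord
    have h3 := invol_uzG S D _ _ hord
    apply (two_mul_eq_zero_iff D.hn1 _).mp
    linear_combination h3
  obtain ⟨v, hvV, hvt, hvw⟩ : ∃ v ∈ VW S D p,
      v * (uG S D (hh D.n) 0 * uG S D c₁ c₁) * v⁻¹ = uG S D (hh D.n) 0 ∧
      v * (uzG S D p (-p) * uG S D c₂ c₂) * v⁻¹ = uzG S D p (-p) := by
    rcases hc₁ with rfl | rfl <;> rcases hc₂ with rfl | rfl
    · refine ⟨1, Subgroup.one_mem _, ?_, ?_⟩
      · rw [uG_zero]; simp
      · rw [uG_zero]; simp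
    · refine ⟨uG S D (hh D.n) 0, t_mem_VW S D p, ?_, ?_⟩
      · rw [uG_zero, mul_one]; exact conj_eq_of_commute (Commute.refl _)
      · rw [uzG_mul_uG, uG_conj_uzG, uzG_inj]
        constructor <;> first | ring1 | linear_combination hhh
    · refine ⟨uzG S D p (-p), w_mem_VW S D p, ?_, ?_⟩
      · rw [uG_mul_uG, uzG_conj_uG, uG_inj]
        constructor <;> first | ring1 | linear_combination hhh
      · rw [uG_zero, mul_one]; exact conj_eq_of_commute (Commute.refl _)
    · refine ⟨uG S D (hh D.n) 0 * uzG S D p (-p),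
        (VW S D p).mul_mem (t_mem_VW S D p) (w_mem_VW S D p), ?_, ?_⟩
      · rw [uG_mul_uG, uG_mul_uzG, uzG_conj_uG, uG_inj]
        constructor <;> first | ring1 | linear_combination hhh
      · rw [uG_mul_uzG, uzG_mul_uG, uzG_inv, uzG_mul_uzG, uG_mul_uzG, uzG_inj]
        constructor <;> first | ring1 | linear_combination hhh
  have hvN : v ∈ normalizer ((VW S D p : Subgroup G) : Set G) := Subgroup.le_normalizer hvV
  have hvgN : v * g ∈ normalizer ((VW S D p : Subgroup G) : Set G) :=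
    Subgroup.mul_mem _ hvN hgN
  have e1 : v * g * uG S D (hh D.n) 0 * (v * g)⁻¹ = uG S D (hh D.n) 0 := by
    calc v * g * uG S D (hh D.n) 0 * (v * g)⁻¹
        = v * (g * uG S D (hh D.n) 0 * g⁻¹) * v⁻¹ := by group
      _ = uG S D (hh D.n) 0 := by rw [h1, hvt]
  have e2 : v * g * uzG S D p (-p) * (v * g)⁻¹ = uzG S D p (-p) := by
    calc v * g * uzG S D p (-p) * (v * g)⁻¹
        = v * (g * uzG S D p (-p) * g⁻¹) * v⁻¹ := by group
      _ = uzG S D p (-p) := by rw [h2, hvw]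
  have hcen := mem_centralizer_VW S D p _ hvgN (commute_of_conj_eq e1) (commute_of_conj_eq e2)
  have e3 : g = v⁻¹ * (v * g) := by group
  rw [e3]
  exact Subgroup.mul_mem _ (Subgroup.mem_sup_left ((VW S D p).inv_mem hvV))
    (Subgroup.mem_sup_right hcen)

/-- an element of odd order of `N(V)` outside `V C(V)` moves every class -/
theorem three_cycle (x : G) (hxN : x ∈ normalizer ((VW S D p : Subgroup G) : Set G))
    (hodd : Odd (orderOf x))
    (hx : x ∉ VW S D p ⊔ centralizer ((VW S D p : Subgroup G) : Set G)) (k : Fin 3) :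
    cl S D p (x * rep S D p k * x⁻¹) ≠ k := by
  let _ := actN S D p
  intro hk
  apply hx
  obtain ⟨σ, hσ⟩ : ∃ σ : Equiv.Perm (Fin 3), σ = MulAction.toPermHom
      (normalizer ((VW S D p : Subgroup G) : Set G)) (Fin 3) ⟨x, hxN⟩ := ⟨_, rfl⟩
  have hσapp : ∀ j, σ j = cl S D p (x * rep S D p j * x⁻¹) := by
    intro j; rw [hσ]; rfl
  have hsq : σ * σ = 1 := perm3_sq_of_fix σ k (by rw [hσapp]; exact hk)
  have hpow : σ ^ orderOf x = 1 := by
    rw [hσ, ← map_pow]
    have : (⟨x, hxN⟩ : normalizer ((VW S D p : Subgroup G) : Set G)) ^ orderOf x = 1 := by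
      apply Subtype.ext
      rw [Subgroup.coe_pow, Subgroup.coe_one]
      exact pow_orderOf_eq_one x
    rw [this, map_one]
  have hσ1 : σ = 1 := by
    obtain ⟨j, hj⟩ := hodd
    rw [hj, pow_succ, pow_mul, pow_two, hsq, one_pow, one_mul] at hpow
    exact hpow
  apply mem_sup_of_fix S D p x hxN
  · rw [← hσapp, hσ1]; rfl
  · rw [← hσapp, hσ1]; rfl

/-- the class of a conjugate -/
theorem cl_conj (x : G) (hxN : x ∈ normalizer ((VW S D p : Subgroup G) : Set G)) (v : G)
    (hv : v ∈ VW S D p) (hnc : ∀ c, v ≠ uG S D c c) :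
    cl S D p (x * v * x⁻¹) = cl S D p (x * rep S D p (cl S D p v) * x⁻¹) := by
  obtain ⟨c, hc⟩ := exists_rep_cl S D p v hv hnc
  obtain ⟨c', hc'⟩ := conj_rep S D p x hxN (cl S D p v)
  have h1 : x * v * x⁻¹ = x * rep S D p (cl S D p v) * x⁻¹ * uG S D c c := by
    conv_lhs => rw [hc]
    rw [← conj_mul, centralizes_Zc S D p x hxN c]
  rw [h1]
  obtain ⟨k', hk'⟩ : ∃ k', k' = cl S D p (x * rep S D p (cl S D p v) * x⁻¹) := ⟨_, rfl⟩
  rw [← hk'] at hc' ⊢
  rw [hc', mul_assoc, uG_mul_uG, cl_rep_mul]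


/-- a subgroup containing a 3-element of `N(V_p)` and normalized by `Qg` contains a quaternion
subgroup of `V_p` -/
theorem exists_uz_mem (x : G) (hxN : x ∈ normalizer ((VW S D p : Subgroup G) : Set G))
    (hodd : Odd (orderOf x))
    (hx : x ∉ VW S D p ⊔ centralizer ((VW S D p : Subgroup G) : Set G))
    (M : Subgroup G) (hxM : x ∈ M) (hnorm : ∀ k ∈ QgG S D, ∀ m ∈ M, k * m * k⁻¹ ∈ M) :
    uG S D (qq D.n) (-qq D.n) ∈ M ∧ uG S D (hh D.n) (hh D.n) ∈ M ∧
      ∃ a b, a + b = hh D.n ∧ 2 * (a - b - 2 * p) = 0 ∧ uzG S D a b ∈ M := by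
  have hne := hh_ne_zero D.hn1
  have h2h := two_mul_hh D.hn1
  have h2q := two_mul_qq D.hn
  have h4q := four_mul_qq D.hn
  have hqh := qq_add_hh D.hn
  have hiV : uG S D (qq D.n) (-qq D.n) ∈ VW S D p := by
    rw [uG_mem_VW]; linear_combination h4q
  have hiQ : uG S D (qq D.n) (-qq D.n) ∈ QgG S D := (uG_mem_QgG S D).mpr rfl
  have hii : uG S D (qq D.n) (-qq D.n) * uG S D (qq D.n) (-qq D.n) =
      uG S D (hh D.n) (hh D.n) := by
    rw [uG_mul_uG, uG_inj]
    constructor
    · linear_combination h2q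
    · linear_combination -h2q - h2h
  have hxinvN : x⁻¹ ∈ normalizer ((VW S D p : Subgroup G) : Set G) := Subgroup.inv_mem _ hxN
  have hζfix : x * uG S D (hh D.n) (hh D.n) * x⁻¹ = uG S D (hh D.n) (hh D.n) :=
    centralizes_Zc S D p x hxN _
  have hi'V : x * uG S D (qq D.n) (-qq D.n) * x⁻¹ ∈ VW S D p :=
    conj_mem_of_mem_normalizer hxN hiV
  have h30 := three_cycle S D p x hxN hodd hx 0
  have hrep0 : x * rep S D p 0 * x⁻¹ =
      x * uG S D (qq D.n) (-qq D.n) * x⁻¹ * uG S D (qq D.n) (qq D.n) := by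
    have : rep S D p 0 = uG S D (qq D.n) (-qq D.n) * uG S D (qq D.n) (qq D.n) := by
      show uG S D (hh D.n) 0 = _
      rw [uG_mul_uG, uG_inj]
      constructor
      · linear_combination -h2q
      · ring
    rw [this, ← conj_mul, centralizes_Zc S D p x hxN]
  rcases hi'V with ⟨a, b, hab, _⟩ | ⟨a, b, hab, h2⟩
  · exfalso
    apply h30
    rw [hrep0, hab, uG_mul_uG]
    exact cl_u S D p _ _
  have hsum : a + b = hh D.n := by
    have h1 : x * uG S D (qq D.n) (-qq D.n) * x⁻¹ * (x * uG S D (qq D.n) (-qq D.n) * x⁻¹) =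
        uG S D (hh D.n) (hh D.n) := by rw [conj_mul, hii, hζfix]
    rw [hab, uzG_mul_uzG, uG_inj] at h1
    exact h1.1
  -- the commutator
  have hr₁M : uzG S D (qq D.n + -b) (-qq D.n + -a) ∈ M := by
    have h1 : uG S D (qq D.n) (-qq D.n) * (x * uG S D (qq D.n) (-qq D.n) * x⁻¹)⁻¹ =
        (uG S D (qq D.n) (-qq D.n) * x * (uG S D (qq D.n) (-qq D.n))⁻¹) * x⁻¹ := by group
    have h2 : uG S D (qq D.n) (-qq D.n) * (x * uG S D (qq D.n) (-qq D.n) * x⁻¹)⁻¹ ∈ M := by
      rw [h1]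
      exact M.mul_mem (hnorm _ hiQ x hxM) (M.inv_mem hxM)
    rwa [hab, uzG_inv, uG_mul_uzG] at h2
  obtain ⟨a₁, ha₁⟩ : ∃ a₁, a₁ = qq D.n + -b := ⟨_, rfl⟩
  obtain ⟨b₁, hb₁⟩ : ∃ b₁, b₁ = -qq D.n + -a := ⟨_, rfl⟩
  rw [← ha₁, ← hb₁] at hr₁M
  have hsum₁ : a₁ + b₁ = hh D.n := by
    rw [ha₁, hb₁]; linear_combination (-1 : ZMod (2 ^ D.n)) * hsum - h2h
  have hdiff₁ : 2 * (a₁ - b₁ - 2 * p) = 0 := by
    rw [ha₁, hb₁]; linear_combination h2 + h4q
  have hζM : uG S D (hh D.n) (hh D.n) ∈ M := by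
    have h1 := M.mul_mem hr₁M hr₁M
    rw [uzG_mul_uzG] at h1
    have h3 : b₁ + a₁ = hh D.n := by rw [add_comm]; exact hsum₁
    rwa [hsum₁, h3] at h1
  have hr₁V : uzG S D a₁ b₁ ∈ VW S D p := (uzG_mem_VW S D p).mpr hdiff₁
  have hr₁nc : ∀ c, uzG S D a₁ b₁ ≠ uG S D c c := fun c h => uG_ne_uzG S D _ _ _ _ h.symm
  have hr₁'M : x * uzG S D a₁ b₁ * x⁻¹ ∈ M := M.mul_mem (M.mul_mem hxM hr₁M) (M.inv_mem hxM)
  have hr₁'V : x * uzG S D a₁ b₁ * x⁻¹ ∈ VW S D p := conj_mem_of_mem_normalizer hxN hr₁V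
  have hr₁'sq : x * uzG S D a₁ b₁ * x⁻¹ * (x * uzG S D a₁ b₁ * x⁻¹) =
      uG S D (hh D.n) (hh D.n) := by
    rw [conj_mul, uzG_mul_uzG]
    have h3 : b₁ + a₁ = hh D.n := by rw [add_comm]; exact hsum₁
    rw [hsum₁, h3, hζfix]
  have hcl : cl S D p (x * uzG S D a₁ b₁ * x⁻¹) ≠ cl S D p (uzG S D a₁ b₁) := by
    rw [cl_conj S D p x hxN _ hr₁V hr₁nc]
    exact three_cycle S D p x hxN hodd hx _
  have hiM : uG S D (qq D.n) (-qq D.n) ∈ M := by
    rcases hr₁'V with ⟨a', b', hab', h2'⟩ | ⟨a₂, b₂, hab', h2'⟩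
    · rw [hab'] at hr₁'M hr₁'sq
      rw [uG_mul_uG, uG_inj] at hr₁'sq
      have hab'' : a' - b' = hh D.n := by
        rcases (two_mul_eq_zero_iff D.hn1 _).mp h2' with h | h
        · exfalso
          have : a' = b' := sub_eq_zero.mp h
          subst this
          have h5 := centralizes_Zc S D p x⁻¹ hxinvN a'
          rw [inv_inv] at h5
          have h6 : uzG S D a₁ b₁ = uG S D a' a' := by
            calc uzG S D a₁ b₁ = x⁻¹ * (x * uzG S D a₁ b₁ * x⁻¹) * x := by group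
              _ = uG S D a' a' := by rw [hab', h5]
          exact hr₁nc a' h6
        · exact h
      have hb' : 2 * (b' - qq D.n) = 0 := by linear_combination hr₁'sq.2 - h2q
      rcases (two_mul_eq_zero_iff D.hn1 _).mp hb' with h | h
      · have h7 : uG S D (qq D.n) (-qq D.n) = (uG S D a' b')⁻¹ := by
          rw [uG_inv, uG_inj]
          constructor
          · linear_combination hab'' + h + h2q + h2h
          · linear_combination h
        rw [h7]; exact M.inv_mem hr₁'M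
      · have h7 : uG S D (qq D.n) (-qq D.n) = uG S D a' b' := by
          rw [uG_inj]
          constructor
          · linear_combination -hab'' - h - h2h
          · linear_combination -h - hqh
        rw [h7]; exact hr₁'M
    · rw [hab'] at hr₁'M hr₁'sq hcl
      rw [uzG_mul_uzG, uG_inj] at hr₁'sq
      have hsum₂ : a₂ + b₂ = hh D.n := hr₁'sq.1
      have hdd : (a₂ - b₂) - (a₁ - b₁) = hh D.n := by
        by_cases hd₁ : a₁ - b₁ - 2 * p = 0
        · rw [cl_uz_zero S D p a₁ b₁ hd₁] at hcl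
          have hd₂ : a₂ - b₂ - 2 * p ≠ 0 := by
            intro h
            exact hcl (cl_uz_zero S D p a₂ b₂ h)
          rcases (two_mul_eq_zero_iff D.hn1 _).mp h2' with h | h
          · exact absurd h hd₂
          · linear_combination h - hd₁
        · rw [cl_uz_ne S D p a₁ b₁ hd₁] at hcl
          have hd₂ : a₂ - b₂ - 2 * p = 0 := by
            by_contra h
            exact hcl (cl_uz_ne S D p a₂ b₂ h)
          rcases (two_mul_eq_zero_iff D.hn1 _).mp hdiff₁ with h | h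
          · exact absurd h hd₁
          · linear_combination hd₂ - h - h2h
      have hprod : uG S D (-b₁ + b₂) (-a₁ + a₂) ∈ M := by
        have := M.mul_mem (M.inv_mem hr₁M) hr₁'M
        rwa [uzG_inv, uzG_mul_uzG] at this
      have he : 2 * ((a₂ - a₁) - qq D.n) = 0 := by
        linear_combination hdd + hsum₂ - hsum₁ - h2q
      rcases (two_mul_eq_zero_iff D.hn1 _).mp he with h | h
      · have h7 : uG S D (qq D.n) (-qq D.n) = (uG S D (-b₁ + b₂) (-a₁ + a₂))⁻¹ := by
          rw [uG_inv, uG_inj]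
          constructor
          · linear_combination -h + hsum₂ - hsum₁
          · linear_combination h
        rw [h7]; exact M.inv_mem hprod
      · have h7 : uG S D (qq D.n) (-qq D.n) = uG S D (-b₁ + b₂) (-a₁ + a₂) := by
          rw [uG_inj]
          constructor
          · linear_combination h - hsum₂ + hsum₁ + h2q + h2h
          · linear_combination -h - hqh
        rw [h7]; exact hprod
  exact ⟨hiM, hζM, a₁, b₁, hsum₁, hdiff₁, hr₁M⟩


omit [Finite G] in
theorem relIndex_VW_eq (p₀ : ZMod (2 ^ D.n)) :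
    (VW S D p ⊔ centralizer ((VW S D p : Subgroup G) : Set G)).relIndex
      (normalizer ((VW S D p : Subgroup G) : Set G)) =
    (VW S D p₀ ⊔ centralizer ((VW S D p₀ : Subgroup G) : Set G)).relIndex
      (normalizer ((VW S D p₀ : Subgroup G) : Set G)) := by
  have h1 : VW S D p = (VW S D p₀).map (cj (uG S D (p - p₀) 0)) := by
    rw [VW_map_cj]; congr 1; ring
  rw [h1, ← map_cj_centralizer, ← Subgroup.map_sup, ← map_cj_normalizer, relIndex_map_cj]

/-- a subgroup containing `i`, `ζ` and a non-abelian part of each `V_p ∩ Qg` contains `Qg` -/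
theorem QgG_le_of_all (M : Subgroup G) (hi : uG S D (qq D.n) (-qq D.n) ∈ M)
    (hζ : uG S D (hh D.n) (hh D.n) ∈ M)
    (hall : ∀ p : ZMod (2 ^ D.n), ∃ a b, a + b = hh D.n ∧ 2 * (a - b - 2 * p) = 0 ∧
      uzG S D a b ∈ M) : QgG S D ≤ M := by
  have h2h := two_mul_hh D.hn1
  have h2q := two_mul_qq D.hn
  have hPadd : ∀ e₁ e₂, uG S D e₁ (-e₁) ∈ M → uG S D e₂ (-e₂) ∈ M →
      uG S D (e₁ + e₂) (-(e₁ + e₂)) ∈ M := by
    intro e₁ e₂ h1 h2
    have : uG S D (e₁ + e₂) (-(e₁ + e₂)) = uG S D e₁ (-e₁) * uG S D e₂ (-e₂) := by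
      rw [uG_mul_uG, uG_inj]; constructor <;> ring
    rw [this]; exact M.mul_mem h1 h2
  have hPneg : ∀ e, uG S D e (-e) ∈ M → uG S D (-e) (-(-e)) ∈ M := by
    intro e h
    have : uG S D (-e) (-(-e)) = (uG S D e (-e))⁻¹ := by rw [uG_inv]
    rw [this]; exact M.inv_mem h
  have hPhh : uG S D (hh D.n) (-hh D.n) ∈ M := by rw [neg_hh D.hn1]; exact hζ
  obtain ⟨a', b', hs', hd', hm'⟩ := hall 0
  have hA : ∀ e, uG S D e (-e) ∈ M := by
    intro e
    obtain ⟨a, b, hs, hd, hm⟩ := hall e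
    have hPd : uG S D (a - a') (-(a - a')) ∈ M := by
      have h1 := M.mul_mem hm (M.inv_mem hm')
      rw [uzG_inv, uzG_mul_uzG] at h1
      have : uG S D (a - a') (-(a - a')) = uG S D (a + -a') (b + -b') := by
        rw [uG_inj]
        constructor
        · ring
        · linear_combination -hs + hs'
      rw [this]; exact h1
    have h4 : 2 * (2 * ((a - a') - e)) = 0 := by
      linear_combination hd - hd' + 2 * hs - 2 * hs'
    rcases (two_mul_eq_zero_iff D.hn1 _).mp h4 with h5 | h5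
    · rcases (two_mul_eq_zero_iff D.hn1 _).mp h5 with h6 | h6
      · have : e = a - a' := by linear_combination -h6
        rw [this]; exact hPd
      · have : e = (a - a') + -(hh D.n) := by linear_combination -h6
        rw [this]; exact hPadd _ _ hPd (hPneg _ hPhh)
    · have h5' : 2 * ((a - a') - e - qq D.n) = 0 := by linear_combination h5 - h2q
      rcases (two_mul_eq_zero_iff D.hn1 _).mp h5' with h6 | h6
      · have : e = (a - a') + -(qq D.n) := by linear_combination -h6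
        rw [this]; exact hPadd _ _ hPd (hPneg _ hi)
      · have : e = ((a - a') + -(qq D.n)) + -(hh D.n) := by linear_combination -h6
        rw [this]; exact hPadd _ _ (hPadd _ _ hPd (hPneg _ hi)) (hPneg _ hPhh)
  intro x hx
  have hxS := QgG_le_S S D hx
  rcases exists_rep S D x hxS with ⟨a, b, rfl⟩ | ⟨a, b, rfl⟩
  · have := (uG_mem_QgG S D).mp hx
    rw [this]; exact hA a
  · have hab := (uzG_mem_QgG S D).mp hx
    have : uzG S D a b = uG S D (a - a') (-(a - a')) * uzG S D a' b' := by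
      rw [uG_mul_uzG, uzG_inj]
      constructor
      · ring
      · linear_combination hab - hs'
    rw [this]; exact M.mul_mem (hA _) hm'

/-- in the case `(·,6)`, a normal subgroup `K` containing all elements of odd order with
`K ∩ S = Qg` has no subgroup of index 2 -/
theorem no_index_two_K (K : Subgroup G) [hKN : K.Normal]
    (hKS : K ⊓ (S : Subgroup G) = QgG S D) (hKodd : ∀ x : G, Odd (orderOf x) → x ∈ K)
    (h6 : ∀ p : ZMod (2 ^ D.n),
      (VW S D p ⊔ centralizer ((VW S D p : Subgroup G) : Set G)).relIndex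
        (normalizer ((VW S D p : Subgroup G) : Set G)) = 6) :
    ∀ H : Subgroup K, H.index ≠ 2 := by
  intro H hH
  have hHN : H.Normal := Subgroup.normal_of_index_eq_two hH
  have hQK : QgG S D ≤ K := by rw [← hKS]; exact inf_le_left
  have hnorm : ∀ k ∈ QgG S D, ∀ m ∈ H.map K.subtype, k * m * k⁻¹ ∈ H.map K.subtype := by
    rintro k hk _ ⟨h, hh', rfl⟩
    refine ⟨⟨k, hQK hk⟩ * h * ⟨k, hQK hk⟩⁻¹, hHN.conj_mem h hh' ⟨k, hQK hk⟩, ?_⟩
    simp
  have hstep : ∀ p : ZMod (2 ^ D.n), uG S D (qq D.n) (-qq D.n) ∈ H.map K.subtype ∧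
      uG S D (hh D.n) (hh D.n) ∈ H.map K.subtype ∧
      ∃ a b, a + b = hh D.n ∧ 2 * (a - b - 2 * p) = 0 ∧ uzG S D a b ∈ H.map K.subtype := by
    intro p
    obtain ⟨x, hxN, hxVC, hodd⟩ := exists_odd_not_mem
      (VW S D p ⊔ centralizer ((VW S D p : Subgroup G) : Set G))
      (normalizer ((VW S D p : Subgroup G) : Set G)) (by rw [h6 p]; norm_num)
    have hxK : x ∈ K := hKodd x hodd
    have hxH : (⟨x, hxK⟩ : K) ∈ H :=
      mem_of_odd_of_index_two hH (by rw [Subgroup.orderOf_mk]; exact hodd)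
    have hxM : x ∈ H.map K.subtype := (mem_map_subtype_iff H hxK).mpr hxH
    exact exists_uz_mem S D p x hxN hodd hxVC _ hxM hnorm
  have hQM : QgG S D ≤ H.map K.subtype :=
    QgG_le_of_all S D _ (hstep 0).1 (hstep 0).2.1 (fun p => (hstep p).2.2)
  have hle : (QgG S D).subgroupOf K ≤ H := by
    intro x hx
    rw [Subgroup.mem_subgroupOf] at hx
    exact (mem_map_subtype_iff H x.2).mp (hQM hx)
  have hdvd : H.index ∣ ((QgG S D).subgroupOf K).index := Subgroup.index_dvd_of_le hle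
  rw [hH] at hdvd
  have h3 : ((QgG S D).subgroupOf K).index = ((S : Subgroup G) ⊓ K).relIndex K := by
    rw [← hKS, inf_comm]; rfl
  rw [h3] at hdvd
  exact not_dvd_relIndex_inf_normal S K hdvd

/-- two classes of involutions in the case `(2,6)` -/
theorem card_invol_classes_eq_two'
    (htz : IsConj (uG S D (hh D.n) 0) (uzG S D 0 0))
    (hiso : ∀ g : G, g⁻¹ * uG S D (hh D.n) (hh D.n) * g ∈ (S : Subgroup G) →
      g⁻¹ * uG S D (hh D.n) (hh D.n) * g = uG S D (hh D.n) (hh D.n)) :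
    Nat.card {C : ConjClasses G // ∃ t : G, orderOf t = 2 ∧ ConjClasses.mk t = C} = 2 := by
  have hset : {C : ConjClasses G | ∃ t : G, orderOf t = 2 ∧ ConjClasses.mk t = C} =
      {ConjClasses.mk (uG S D (hh D.n) (hh D.n)), ConjClasses.mk (uG S D (hh D.n) 0)} := by
    ext C
    simp only [Set.mem_ofPred_eq, Set.mem_insert_iff, Set.mem_singleton_iff]
    constructor
    · rintro ⟨t, ht, rfl⟩
      obtain ⟨g, hg⟩ := exists_conj_mem_sylow S t 1 (by rw [ht]; norm_num)
      have hconj : IsConj t (g * t * g⁻¹) := by rw [isConj_iff]; exact ⟨g, rfl⟩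
      have hord : orderOf (g * t * g⁻¹) = 2 := by rw [orderOf_conj', ht]
      rcases (invol_iff S D _ hg).mp hord with h | h | h | ⟨a, h⟩
      · right
        rw [ConjClasses.mk_eq_mk_iff_isConj, ← h]; exact hconj
      · right
        rw [ConjClasses.mk_eq_mk_iff_isConj]
        rw [h] at hconj
        exact hconj.trans (isConj_t_t' S D).symm
      · left
        rw [ConjClasses.mk_eq_mk_iff_isConj, ← h]; exact hconj
      · right
        rw [ConjClasses.mk_eq_mk_iff_isConj]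
        rw [h] at hconj
        exact hconj.trans ((isConj_uzG S D a).trans htz.symm)
    · rintro (rfl | rfl)
      · exact ⟨_, orderOf_zeta S D, rfl⟩
      · exact ⟨_, orderOf_t S D, rfl⟩
  have h1 : ConjClasses.mk (uG S D (hh D.n) (hh D.n)) ≠ ConjClasses.mk (uG S D (hh D.n) 0) := by
    rw [Ne, ConjClasses.mk_eq_mk_iff_isConj]
    intro h
    obtain ⟨c, hc⟩ := isConj_iff.mp h
    have h3 : c⁻¹⁻¹ * uG S D (hh D.n) (hh D.n) * c⁻¹ = uG S D (hh D.n) 0 := by
      rw [inv_inv]; exact hc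
    have h4 := hiso c⁻¹ (by rw [h3]; exact uG_mem S D _ _)
    rw [h3] at h4
    exact t_ne_zeta S D h4
  show Nat.card ↥{C : ConjClasses G | ∃ t : G, orderOf t = 2 ∧ ConjClasses.mk t = C} = 2
  rw [Nat.card_coe_set_eq, hset]
  exact Set.ncard_pair h1

end wr

end Cfsg.Agent.Helper16.WrAG
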