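import Mathlib
import Cfsg.Agent.Helper16.WrAG
import Cfsg.Agent.Helper9.Frobenius

/-!
Wreathed Sylow 2-subgroups: the case `|N(U):C(U)| = 2`, `|N(V):VC(V)| = 2`.
-/

set_option autoImplicit false

namespace Cfsg.Agent.Helper16.WrAG

open Cfsg.Agent.Helper18.Wr
open Cfsg.Agent.Helper18.QD (hh qq two_mul_hh hh_ne_zero two_mul_eq_zero_iff neg_hh two_mul_qq
  qq_add_hh two_mul_eq_two_mul_iff even_or_odd hh_mul_odd hh_mul_even two_mul_ne_odd four_mul_qq
  orderOf_conj' exists_conj_mem_sylow)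
open Cfsg.Agent.Helper16.QDFusion Cfsg.Agent.Helper16.WrFusion Cfsg.Agent.Helper16.WrIndices
open Cfsg.Agent.Helper16.WrCentric Cfsg.Agent.Helper16.AutOdd
open Cfsg.Agent.Helper10 Cfsg.Agent.Helper14
open Subgroup

section wr
variable {G : Type*} [Group G] [Finite G] (S : Sylow 2 G) (D : WrData (S : Subgroup G))

theorem all_sconj (U : Subgroup G) (hU : ∀ x, x ∈ U ↔ ∃ a b, x = uG S D a b)
    (p₀ : ZMod (2 ^ D.n))
    (h₁ : (centralizer (U : Set G)).relIndex (normalizer (U : Set G)) = 2)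
    (h₂ : (VW S D p₀ ⊔ centralizer ((VW S D p₀ : Subgroup G) : Set G)).relIndex
      (normalizer ((VW S D p₀ : Subgroup G) : Set G)) = 2) :
    ∀ T ∈ agFam 2 S (agK 2), SConj S T := by
  intro T hT
  rcases agFam_cases S D T hT with h | ⟨p, rfl⟩ | h
  · have : T = U := by
      ext x; rw [h, hU]
    rw [this]; exact sconj_U S D U hU h₁
  · exact sconj_VW S D p (relIndex_VW_all S D p₀ p h₂)
  · exact h

theorem controlsFusion_of_sconj (hall : ∀ T ∈ agFam 2 S (agK 2), SConj S T) :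
    Cfsg.Agent.Helper9.ControlsFusion (S : Subgroup G) := by
  intro x hx g hg
  have h1 := fusion_rel S (fun a b => ∃ s ∈ (S : Subgroup G), b = s⁻¹ * a * s)
    (fun a => ⟨1, one_mem _, by group⟩)
    (fun a b c ⟨s, hs, h1⟩ ⟨s', hs', h2⟩ => ⟨s * s', mul_mem hs hs', by rw [h2, h1]; group⟩)
    (fun T hT y hy a ha => by
      obtain ⟨s, hs, h⟩ := hall T hT y hy
      exact ⟨s, hs, h a ha⟩)
    x g⁻¹ hx (by rw [inv_inv]; exact hg)
  obtain ⟨s, hs, h⟩ := h1
  refine ⟨s⁻¹, inv_mem hs, ?_⟩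
  rw [inv_inv] at h ⊢
  exact h.symm

include D in
/-- three classes of involutions when `S` controls its own fusion -/
theorem card_invol_classes_eq_three
    (hfus : Cfsg.Agent.Helper9.ControlsFusion (S : Subgroup G)) :
    Nat.card {C : ConjClasses G // ∃ t : G, orderOf t = 2 ∧ ConjClasses.mk t = C} = 3 := by
  have hne := hh_ne_zero D.hn1
  have hset : {C : ConjClasses G | ∃ t : G, orderOf t = 2 ∧ ConjClasses.mk t = C} =
      {ConjClasses.mk (uG S D (hh D.n) (hh D.n)), ConjClasses.mk (uG S D (hh D.n) 0),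
        ConjClasses.mk (uzG S D 0 0)} := by
    ext C
    simp only [Set.mem_ofPred_eq, Set.mem_insert_iff, Set.mem_singleton_iff]
    constructor
    · rintro ⟨t, ht, rfl⟩
      obtain ⟨g, hg⟩ := exists_conj_mem_sylow S t 1 (by rw [ht]; norm_num)
      have hconj : IsConj t (g * t * g⁻¹) := by rw [isConj_iff]; exact ⟨g, rfl⟩
      have hord : orderOf (g * t * g⁻¹) = 2 := by rw [orderOf_conj', ht]
      rcases (invol_iff S D _ hg).mp hord with h | h | h | ⟨a, h⟩
      · right; left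
        rw [ConjClasses.mk_eq_mk_iff_isConj, ← h]; exact hconj
      · right; left
        rw [ConjClasses.mk_eq_mk_iff_isConj]
        rw [h] at hconj
        exact hconj.trans (isConj_t_t' S D).symm
      · left
        rw [ConjClasses.mk_eq_mk_iff_isConj, ← h]; exact hconj
      · right; right
        rw [ConjClasses.mk_eq_mk_iff_isConj]
        rw [h] at hconj
        exact hconj.trans (isConj_uzG S D a)
    · rintro (rfl | rfl | rfl)
      · exact ⟨_, orderOf_zeta S D, rfl⟩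
      · exact ⟨_, orderOf_t S D, rfl⟩
      · refine ⟨_, ?_, rfl⟩
        have := orderOf_w S D 0
        rwa [neg_zero] at this
  have hSconj : ∀ a b : G, a ∈ (S : Subgroup G) → b ∈ (S : Subgroup G) → IsConj a b →
      ∃ u ∈ (S : Subgroup G), u * a * u⁻¹ = b := by
    intro a b ha hb hab
    obtain ⟨g, hg⟩ := isConj_iff.mp hab
    obtain ⟨u, hu, h⟩ := hfus a ha g (by rw [hg]; exact hb)
    exact ⟨u, hu, by rw [h, hg]⟩
  have h1 : ConjClasses.mk (uG S D (hh D.n) (hh D.n)) ≠ ConjClasses.mk (uG S D (hh D.n) 0) := by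
    rw [Ne, ConjClasses.mk_eq_mk_iff_isConj]
    intro h
    obtain ⟨u, hu, h'⟩ := hSconj _ _ (uG_mem S D _ _) (uG_mem S D _ _) h
    rw [← uG_diag_comm S D _ u hu, mul_inv_cancel_right] at h'
    exact t_ne_zeta S D h'.symm
  have h2 : ConjClasses.mk (uG S D (hh D.n) (hh D.n)) ≠ ConjClasses.mk (uzG S D 0 0) := by
    rw [Ne, ConjClasses.mk_eq_mk_iff_isConj]
    intro h
    obtain ⟨u, hu, h'⟩ := hSconj _ _ (uG_mem S D _ _) (uzG_mem S D _ _) h
    rw [← uG_diag_comm S D _ u hu, mul_inv_cancel_right] at h'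
    exact uG_ne_uzG S D _ _ _ _ h'
  have h3 : ConjClasses.mk (uG S D (hh D.n) 0) ≠ ConjClasses.mk (uzG S D 0 0) := by
    rw [Ne, ConjClasses.mk_eq_mk_iff_isConj]
    intro h
    obtain ⟨u, hu, h'⟩ := hSconj _ _ (uG_mem S D _ _) (uzG_mem S D _ _) h
    rcases exists_rep S D u hu with ⟨a, b, rfl⟩ | ⟨a, b, rfl⟩
    · rw [conj_eq_of_commute (uG_comm S D _ _ _ _)] at h'
      exact uG_ne_uzG S D _ _ _ _ h'
    · rw [uzG_conj_uG] at h'
      exact uG_ne_uzG S D _ _ _ _ h'
  show Nat.card ↥{C : ConjClasses G | ∃ t : G, orderOf t = 2 ∧ ConjClasses.mk t = C} = 3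
  rw [Nat.card_coe_set_eq, hset]
  exact Set.ncard_eq_three.mpr ⟨_, _, _, h1, h2, h3, rfl⟩

end wr

end Cfsg.Agent.Helper16.WrAG
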