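import Mathlib
import Cfsg.Agent.Helper16.CentSub
import Cfsg.Agent.Helper2.QuaternionLift
import Cfsg.Agent.S1208
import Cfsg.Agent.S1209
import Cfsg.Agent.S1210
import Cfsg.Agent.S1211
import Cfsg.Agent.S1212

set_option autoImplicit false

/-! Wreathed Sylow 2-subgroups, no subgroup of index 2: the centralizer of an involution
(towards S1213). -/

namespace Cfsg.Agent.Helper16.WrCent

open Cfsg.Agent.Helper18.Wr Cfsg.Agent.Helper16.WrFusion Cfsg.Agent.Helper16.WrIndices
  Cfsg.Agent.Helper16.CentSub Cfsg.Agent.Helper2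
open Cfsg.Agent.Helper18.QD (hh qq two_mul_hh hh_ne_zero two_mul_eq_zero_iff neg_hh two_mul_qq
  four_mul_qq orderOf_eq_four_iff)

variable {G : Type*} [Group G] [Finite G] (S : Sylow 2 G)

theorem exists_UQ (D : WrData (S : Subgroup G)) :
    ∃ U Q : Subgroup G, U ≤ S ∧ IsMulCommutative U ∧ Nat.card U = 2 ^ (2 * D.n) ∧ Q ≤ S ∧
      Nonempty (Q ≃* QuaternionGroup 2) := by
  obtain ⟨a, hadef⟩ : ∃ a : G, a = uG S D (qq D.n) (-qq D.n) := ⟨_, rfl⟩
  obtain ⟨b, hbdef⟩ : ∃ b : G, b = uzG S D 0 (hh D.n) := ⟨_, rfl⟩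
  have h2q := two_mul_qq (n := D.n) D.hn
  have h4q := four_mul_qq (n := D.n) D.hn
  have hnh := neg_hh (n := D.n) D.hn1
  have ha : a ^ (2 * 2) = 1 := by
    rw [hadef, uG_pow, uG_eq_one_iff]
    constructor
    · push_cast; linear_combination h4q
    · push_cast; linear_combination -h4q
  have ha2 : a ^ 2 = uG S D (hh D.n) (hh D.n) := by
    rw [hadef, uG_pow, uG_inj]
    constructor
    · push_cast; linear_combination h2q
    · push_cast; linear_combination -h2q + hnh
  have hb : b * b = a ^ 2 := by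
    rw [ha2, hbdef, uzG_mul_uzG, uG_inj]
    constructor <;> ring
  have hab : b * a * b⁻¹ = a⁻¹ := by
    rw [hadef, hbdef, uzG_conj_uG, uG_inv, uG_inj]
    constructor <;> ring
  have hsq : a ^ 2 ≠ 1 := by
    rw [ha2]
    intro h
    exact hh_ne_zero D.hn1 ((uG_eq_one_iff S D _ _).mp h).1
  have hord : orderOf a = 2 * 2 := (orderOf_eq_four_iff a).mpr ⟨ha, hsq⟩
  have hinj := QLift.quaternionLift_injective 2 a b ha hb hab hord
    (QLift.not_mem_zpowers_of_sq_ne a b hab hsq)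
  refine ⟨D.U.map (S : Subgroup G).subtype, (QLift.quaternionLift 2 a b ha hb hab).range,
    Subgroup.map_subtype_le _, ?_, ?_, ?_, ⟨(MonoidHom.ofInjective hinj).symm⟩⟩
  · refine ⟨⟨?_⟩⟩
    rintro ⟨_, ⟨s, hs, rfl⟩⟩ ⟨_, ⟨t, ht, rfl⟩⟩
    apply Subtype.ext
    have := D.U_comm s hs t ht
    have h2 : ((s * t : (S : Subgroup G)) : G) = ((t * s : (S : Subgroup G)) : G) := by rw [this]
    exact h2
  · rw [Subgroup.card_map_of_injective (Subgroup.subtype_injective _)]
    exact D.card_U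
  · apply QLift.range_le
    · rw [hadef]; exact uG_mem S D _ _
    · rw [hbdef]; exact uzG_mem S D _ _

/-- Without subgroups of index 2, both local indices are 6. -/
theorem wr_indices (hS : Cfsg.IsWreathed (S : Subgroup G)) (hG : ∀ H : Subgroup G, H.index ≠ 2) :
    ∃ (n : ℕ) (U Q : Subgroup G), Nat.card S = 2 ^ (2 * n + 1) ∧ U ≤ S ∧ IsMulCommutative U ∧
      Nat.card U = 2 ^ (2 * n) ∧ Q ≤ S ∧ Nonempty (Q ≃* QuaternionGroup 2) ∧
      (Subgroup.centralizer (U : Set G)).relIndex (Subgroup.normalizer (U : Set G)) = 6 ∧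
      ((Q ⊔ ((Subgroup.center (S : Subgroup G)).map (S : Subgroup G).subtype)) ⊔
        Subgroup.centralizer ((Q ⊔ ((Subgroup.center (S : Subgroup G)).map
          (S : Subgroup G).subtype) : Subgroup G) : Set G)).relIndex
        (Subgroup.normalizer ((Q ⊔ ((Subgroup.center (S : Subgroup G)).map
          (S : Subgroup G).subtype) : Subgroup G) : Set G)) = 6 := by
  obtain ⟨D⟩ := exists_wrData hS
  obtain ⟨U, Q, hUS, hUab, hUcard, hQS, ⟨eQ⟩⟩ := exists_UQ S D
  refine ⟨D.n, U, Q, D.card, hUS, hUab, hUcard, hQS, ⟨eQ⟩, ?_⟩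
  obtain ⟨h1, h2⟩ := Cfsg.Agent.S1208.result S hS D.n D.card U hUS hUab hUcard Q hQS eQ
  rcases h1 with h1 | h1 <;> rcases h2 with h2 | h2
  · exfalso
    obtain ⟨hc, _⟩ := Cfsg.Agent.S1212.result S hS D.n D.card U hUS hUab hUcard Q hQS eQ h1 h2
    obtain ⟨H, hH⟩ := exists_index_two_of_complement S (2 * D.n + 1) (by omega) D.card hc
    exact hG H hH
  · exfalso
    obtain ⟨⟨K, hKN, hK, _⟩, _⟩ :=
      Cfsg.Agent.S1210.result S hS D.n D.card U hUS hUab hUcard Q hQS eQ h1 h2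
    obtain ⟨H, hH⟩ := exists_index_two K D.n D.hn1 hK
    exact hG H hH
  · exfalso
    obtain ⟨⟨K, _, hK, _⟩, _⟩ :=
      Cfsg.Agent.S1211.result S hS D.n D.card U hUS hUab hUcard Q hQS eQ h1 h2
    exact hG K hK
  · exact ⟨h1, h2⟩

/-- The centralizer `C` of a central involution `x` of `S`, in the `(6,6)` situation. -/
theorem wr_central (hS : Cfsg.IsWreathed (S : Subgroup G)) (n : ℕ)
    (hn : Nat.card S = 2 ^ (2 * n + 1)) (U : Subgroup G) (hUS : U ≤ S) (hUab : IsMulCommutative U)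
    (hUcard : Nat.card U = 2 ^ (2 * n)) (Q : Subgroup G) (hQS : Q ≤ S)
    (eQ : Q ≃* QuaternionGroup 2)
    (h₂ : ((Q ⊔ ((Subgroup.center (S : Subgroup G)).map (S : Subgroup G).subtype)) ⊔
        Subgroup.centralizer ((Q ⊔ ((Subgroup.center (S : Subgroup G)).map
          (S : Subgroup G).subtype) : Subgroup G) : Set G)).relIndex
        (Subgroup.normalizer ((Q ⊔ ((Subgroup.center (S : Subgroup G)).map
          (S : Subgroup G).subtype) : Subgroup G) : Set G)) = 6)
    (x : G) (hx : orderOf x = 2) (hxS : x ∈ (S : Subgroup G))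
    (hxc : ∀ s ∈ (S : Subgroup G), s * x = x * s)
    (C : Subgroup G) (hC : ∀ g, g ∈ C ↔ g * x = x * g) (hle : (S : Subgroup G) ≤ C)
    (R : Sylow 2 C) (hR : (R : Subgroup C) = (S : Subgroup G).subgroupOf C) :
    (∃ K : Subgroup C, K.Normal ∧ (∃ a : ℕ, K.index = 2 ^ a) ∧
      (∀ H : Subgroup ↥K, H.index ≠ 2) ∧
      (∀ P : Sylow 2 ↥K, ∃ m : ℕ, 1 ≤ m ∧
        Nonempty ((P : Subgroup ↥K) ≃* QuaternionGroup (2 ^ m)))) ∧
    (∀ Z₀ : Subgroup C,
      Z₀ ≤ ((Subgroup.center (R : Subgroup C)).map (R : Subgroup C).subtype) →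
      Cfsg.IsWeaklyClosed Z₀ (R : Subgroup C)) := by
  obtain ⟨D⟩ := exists_wrData hS
  -- `x = ζ`
  have hxZ : x ∈ (Subgroup.center (S : Subgroup G)).map (S : Subgroup G).subtype := by
    refine ⟨⟨x, hxS⟩, ?_, rfl⟩
    rw [SetLike.mem_coe, Subgroup.mem_center_iff]
    intro t; apply Subtype.ext; exact hxc t t.2
  have hxz : x = uG S D (hh D.n) (hh D.n) := by
    obtain ⟨c, hc⟩ := (mem_Zc S D x).mp hxZ
    rw [hc] at hx ⊢
    rcases invol_U S D c c hx with h | h | h
    · exfalso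
      obtain ⟨h1, h2⟩ := (uG_inj S D).mp h
      exact hh_ne_zero D.hn1 (h1.symm.trans h2)
    · exfalso
      obtain ⟨h1, h2⟩ := (uG_inj S D).mp h
      exact hh_ne_zero D.hn1 (h2.symm.trans h1)
    · exact h
  -- `V = Q Z(S)`
  obtain ⟨p, hw, ht, hV⟩ := V_struct S D Q hQS eQ
  have hVeq : Q ⊔ (Subgroup.center (S : Subgroup G)).map (S : Subgroup G).subtype = VW S D p :=
    le_antisymm hV (VW_le S D p _ hw ht
      (fun c => Subgroup.mem_sup_right ((mem_Zc S D _).mpr ⟨c, rfl⟩)))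
  have hVC : Q ⊔ (Subgroup.center (S : Subgroup G)).map (S : Subgroup G).subtype ≤ C := by
    rw [hVeq]; exact (VW_le_S S D p).trans hle
  have hN : Subgroup.normalizer ((Q ⊔ (Subgroup.center (S : Subgroup G)).map
      (S : Subgroup G).subtype : Subgroup G) : Set G) ≤ C := by
    rw [hVeq]
    intro g hg
    rw [hC, hxz]
    have h3 := centralizes_Zc S D p g hg (hh D.n)
    calc g * uG S D (hh D.n) (hh D.n)
        = g * uG S D (hh D.n) (hh D.n) * g⁻¹ * g := by group
      _ = uG S D (hh D.n) (hh D.n) * g := by rw [h3]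
  have hCV : Subgroup.centralizer ((Q ⊔ (Subgroup.center (S : Subgroup G)).map
      (S : Subgroup G).subtype : Subgroup G) : Set G) ≤ C := by
    intro g hg
    rw [hC]
    exact (Subgroup.mem_centralizer_iff.mp hg x (Subgroup.mem_sup_right hxZ)).symm
  have hQC : Q ≤ C := hQS.trans hle
  have hZC : (Subgroup.center (S : Subgroup G)).map (S : Subgroup G).subtype ≤ C :=
    (Subgroup.map_subtype_le _).trans hle
  -- now inside `C`
  have eR : (R : Subgroup C) ≃* (S : Subgroup G) :=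
    (MulEquiv.subgroupCongr hR).trans (Subgroup.subgroupOfEquivOfLe hle)
  have hRwr : Cfsg.IsWreathed (R : Subgroup C) := isWreathed_of_equiv eR.symm hS
  have hn' : Nat.card R = 2 ^ (2 * n + 1) := by
    rw [← hn]; exact Nat.card_congr eR.toEquiv
  have hU'R : U.subgroupOf C ≤ R := by rw [hR]; exact Subgroup.comap_mono hUS
  have hU'ab : IsMulCommutative (U.subgroupOf C) := by
    have e := Subgroup.subgroupOfEquivOfLe (hUS.trans hle)
    refine ⟨⟨fun a b => ?_⟩⟩
    apply e.injective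
    rw [map_mul, map_mul]
    exact hUab.is_comm.comm _ _
  have hU'card : Nat.card (U.subgroupOf C) = 2 ^ (2 * n) := by
    rw [← hUcard]; exact Nat.card_congr (Subgroup.subgroupOfEquivOfLe (hUS.trans hle)).toEquiv
  have hQ'R : Q.subgroupOf C ≤ R := by rw [hR]; exact Subgroup.comap_mono hQS
  have eQ' : Q.subgroupOf C ≃* QuaternionGroup 2 := (Subgroup.subgroupOfEquivOfLe hQC).trans eQ
  have hZ' : (Subgroup.center (R : Subgroup C)).map (R : Subgroup C).subtype =
      ((Subgroup.center (S : Subgroup G)).map (S : Subgroup G).subtype).subgroupOf C := by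
    rw [hR]; exact center_map_subgroupOf _ C hle
  have hV' : Q.subgroupOf C ⊔ (Subgroup.center (R : Subgroup C)).map (R : Subgroup C).subtype =
      (Q ⊔ (Subgroup.center (S : Subgroup G)).map (S : Subgroup G).subtype).subgroupOf C := by
    rw [hZ', ← Subgroup.subgroupOf_sup hQC hZC]
  have h₂' : ((Q.subgroupOf C ⊔ ((Subgroup.center (R : Subgroup C)).map (R : Subgroup C).subtype)) ⊔
        Subgroup.centralizer ((Q.subgroupOf C ⊔ ((Subgroup.center (R : Subgroup C)).map
          (R : Subgroup C).subtype) : Subgroup C) : Set C)).relIndex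
        (Subgroup.normalizer ((Q.subgroupOf C ⊔ ((Subgroup.center (R : Subgroup C)).map
          (R : Subgroup C).subtype) : Subgroup C) : Set C)) = 6 := by
    rw [hV', relIndex_local _ C hVC hN hCV]; exact h₂
  obtain ⟨h1, -⟩ := Cfsg.Agent.S1208.result R hRwr n hn' (U.subgroupOf C) hU'R hU'ab hU'card
    (Q.subgroupOf C) hQ'R eQ'
  have h₁' : (Subgroup.centralizer ((U.subgroupOf C : Subgroup C) : Set C)).relIndex
      (Subgroup.normalizer ((U.subgroupOf C : Subgroup C) : Set C)) = 2 := by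
    rcases h1 with h1 | h1
    · exact h1
    · exfalso
      obtain ⟨-, hone⟩ := Cfsg.Agent.S1209.result R hRwr n hn' (U.subgroupOf C) hU'R hU'ab
        hU'card (Q.subgroupOf C) hQ'R eQ' h1 h₂'
      have htC : uG S D (hh D.n) 0 ∈ C := hle (uG_mem S D _ _)
      have hxC : x ∈ C := hle hxS
      have ht2 : orderOf (⟨_, htC⟩ : C) = 2 := by
        rw [Subgroup.orderOf_mk]; exact orderOf_t S D
      have hx2' : orderOf (⟨x, hxC⟩ : C) = 2 := by
        rw [Subgroup.orderOf_mk]; exact hx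
      have hconj := isConj_of_card_classes_eq_one hone ⟨x, hxC⟩ ⟨_, htC⟩ hx2' ht2
      have := eq_of_isConj_central (fun g => Subtype.ext ((hC g).mp g.2)) hconj
      have h3 : x = uG S D (hh D.n) 0 := congrArg Subtype.val this
      rw [hxz] at h3
      exact t_ne_zeta S D h3.symm
  obtain ⟨⟨K, hKN, hKi, hKP, hKH⟩, hwc, -⟩ :=
    Cfsg.Agent.S1210.result R hRwr n hn' (U.subgroupOf C) hU'R hU'ab hU'card
      (Q.subgroupOf C) hQ'R eQ' h₁' h₂'
  exact ⟨⟨K, hKN, ⟨n, hKi⟩, hKH, hKP⟩, hwc⟩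

end Cfsg.Agent.Helper16.WrCent
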