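import Mathlib
import Cfsg.Agent.S1204
import Cfsg.Agent.S1209
import Cfsg.Agent.Helper16.QDCent
import Cfsg.Agent.Helper16.WrCent
import Cfsg.Agent.Helper7.PPrimeCore

set_option autoImplicit false

/-! Groups with quasi-dihedral or wreathed Sylow 2-subgroups and no subgroup of index 2:
every normal subgroup of even order contains the Sylow 2-subgroups, and if `O(X) = 1` the subgroup
generated by the Sylow 2-subgroups is simple. -/

namespace Cfsg.Agent.Helper16.OddIndexSimple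

open Cfsg Cfsg.Agent.Helper16.CentSub Cfsg.Agent.Helper16.QDCent Cfsg.Agent.Helper16.WrCent

variable {X : Type*} [Group X] [Finite X]

/-- if the image of a Sylow 2-subgroup modulo `N` is cyclic and `X` has no subgroup of index 2,
then the Sylow 2-subgroup lies in `N` -/
theorem sylow_le_of_cyclic_image (P : Sylow 2 X) (N : Subgroup X) [N.Normal]
    (hX : ∀ H : Subgroup X, H.index ≠ 2) (g : X) (hg : g ∈ (P : Subgroup X))
    (h : ∀ s ∈ (P : Subgroup X), ∃ k : ℕ, s * g ^ k ∈ N) : (P : Subgroup X) ≤ N := by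
  have hp : Fact (Nat.Prime 2) := ⟨Nat.prime_two⟩
  by_contra hle
  have hsurj := QuotientGroup.mk'_surjective N
  obtain ⟨Q, hQdef⟩ : ∃ Q : Sylow 2 (X ⧸ N), Q = P.mapSurjective hsurj := ⟨_, rfl⟩
  have hQ : (Q : Subgroup (X ⧸ N)) = (P : Subgroup X).map (QuotientGroup.mk' N) := by
    rw [hQdef]; rfl
  have hcyc : IsCyclic Q := by
    have hgQ : QuotientGroup.mk' N g ∈ (Q : Subgroup (X ⧸ N)) := by
      rw [hQ]; exact Subgroup.mem_map_of_mem _ hg
    refine ⟨⟨⟨QuotientGroup.mk' N g, hgQ⟩, ?_⟩⟩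
    rintro ⟨q, hq⟩
    have hq' : q ∈ (P : Subgroup X).map (QuotientGroup.mk' N) := by rw [← hQ]; exact hq
    obtain ⟨s, hs, rfl⟩ := hq'
    obtain ⟨k, hk⟩ := h s hs
    refine ⟨-(k : ℤ), ?_⟩
    apply Subtype.ext
    have h1 : QuotientGroup.mk' N (s * g ^ k) = 1 := by
      rw [QuotientGroup.mk'_apply, QuotientGroup.eq_one_iff]; exact hk
    rw [map_mul, map_pow] at h1
    show (QuotientGroup.mk' N g) ^ (-(k : ℤ)) = QuotientGroup.mk' N s
    rw [zpow_neg, zpow_natCast, eq_comm]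
    exact eq_inv_of_mul_eq_one_left h1
  obtain ⟨a, ha⟩ := Q.2.exists_card_eq
  have ha1 : 1 ≤ a := by
    by_contra h0
    have ha0 : a = 0 := by omega
    rw [ha0, pow_zero] at ha
    have hbot : (Q : Subgroup (X ⧸ N)) = ⊥ := Subgroup.card_eq_one.mp ha
    apply hle
    intro s hs
    have : QuotientGroup.mk' N s ∈ (Q : Subgroup (X ⧸ N)) := by
      rw [hQ]; exact Subgroup.mem_map_of_mem _ hs
    rw [hbot, Subgroup.mem_bot, QuotientGroup.mk'_apply, QuotientGroup.eq_one_iff] at this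
    exact this
  have h2 : 2 ∣ Nat.card (X ⧸ N) := by
    have h3 : Nat.card (Q : Subgroup (X ⧸ N)) ∣ Nat.card (X ⧸ N) := Subgroup.card_subgroup_dvd_card _
    rw [ha] at h3
    exact (dvd_pow_self 2 (by omega)).trans h3
  have hmin : (Nat.card (X ⧸ N)).minFac = 2 := (Nat.minFac_eq_two_iff _).mpr h2
  have hcomp := IsCyclic.isComplement' hmin hcyc
  have hN : Cfsg.HasNormalPComplement 2 (X ⧸ N) := ⟨Q, _, inferInstance, hcomp⟩
  obtain ⟨H, hH⟩ := exists_index_two_of_complement Q a ha1 ha hN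
  apply hX (H.comap (QuotientGroup.mk' N))
  rw [Subgroup.index_comap_of_surjective _ hsurj]
  exact hH

/-- if all involutions are conjugate, a normal subgroup of even order contains all of them -/
theorem invol_mem_of_even (N : Subgroup X) [N.Normal] (hN : 2 ∣ Nat.card N)
    (hconj : ∀ x y : X, orderOf x = 2 → orderOf y = 2 → IsConj x y) (w : X)
    (hw : orderOf w = 2) : w ∈ N := by
  have hp : Fact (Nat.Prime 2) := ⟨Nat.prime_two⟩
  obtain ⟨t, ht⟩ := exists_prime_orderOf_dvd_card' 2 hN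
  have ht' : orderOf (t : X) = 2 := by rw [Subgroup.orderOf_coe]; exact ht
  obtain ⟨c, hc⟩ := isConj_iff.mp (hconj _ _ ht' hw)
  rw [← hc]
  exact Subgroup.Normal.conj_mem inferInstance _ t.2 c

theorem qd_sylow_le (P : Sylow 2 X) (hS : Cfsg.IsQuasiDihedral (P : Subgroup X))
    (hX : ∀ H : Subgroup X, H.index ≠ 2) (N : Subgroup X) [N.Normal] (hN : 2 ∣ Nat.card N) :
    (P : Subgroup X) ≤ N := by
  obtain ⟨T, Q, hT, hTS, hQS, ⟨eQ⟩, h₁, h₂⟩ := qd_indices P hS hX
  obtain ⟨-, hone, -⟩ := Cfsg.Agent.S1204.result P hS T hT hTS Q hQS eQ h₁ h₂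
  obtain ⟨D⟩ := Cfsg.Agent.Helper18.QD.exists_qdData hS
  have hy : D.y ∈ N.subgroupOf (P : Subgroup X) := by
    rw [Subgroup.mem_subgroupOf]
    exact invol_mem_of_even N hN (isConj_of_card_classes_eq_one hone) _
      (by rw [Subgroup.orderOf_coe]; exact D.hy)
  apply sylow_le_of_cyclic_image P N hX (D.x : X) D.x.2
  intro s hs
  have hne : NeZero (2 ^ D.n) := ⟨by positivity⟩
  rcases D.exists_rep ⟨s, hs⟩ with ⟨i, hi⟩ | ⟨i, hi⟩
  · refine ⟨(-i).val, ?_⟩
    have h1 : (⟨s, hs⟩ : (P : Subgroup X)) * D.x ^ (-i).val = 1 := by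
      rw [hi, ← D.r_natCast, ZMod.natCast_zmod_val, ← D.r_add, add_neg_cancel, D.r_zero]
    have h2 := congrArg Subtype.val h1
    rw [Subgroup.coe_mul, Subgroup.coe_pow, Subgroup.coe_one] at h2
    rw [h2]; exact N.one_mem
  · refine ⟨(-(D.k * i)).val, ?_⟩
    have h1 : (⟨s, hs⟩ : (P : Subgroup X)) * D.x ^ (-(D.k * i)).val = D.y := by
      rw [hi, ← D.r_natCast, ZMod.natCast_zmod_val, D.sr_mul_r]
      have : i + D.k * -(D.k * i) = 0 := by
        have := D.k_mul_k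
        linear_combination (-i) * this
      rw [this, D.sr_zero]
    have h2 := congrArg Subtype.val h1
    rw [Subgroup.coe_mul, Subgroup.coe_pow] at h2
    rw [h2]; exact Subgroup.mem_subgroupOf.mp hy

theorem wr_sylow_le (P : Sylow 2 X) (hS : Cfsg.IsWreathed (P : Subgroup X))
    (hX : ∀ H : Subgroup X, H.index ≠ 2) (N : Subgroup X) [N.Normal] (hN : 2 ∣ Nat.card N) :
    (P : Subgroup X) ≤ N := by
  obtain ⟨n, U, Q, hn, hUS, hUab, hUcard, hQS, ⟨eQ⟩, h₁, h₂⟩ := wr_indices P hS hX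
  obtain ⟨-, hone⟩ := Cfsg.Agent.S1209.result P hS n hn U hUS hUab hUcard Q hQS eQ h₁ h₂
  obtain ⟨D⟩ := Cfsg.Agent.Helper18.Wr.exists_wrData hS
  have hp : Fact (Nat.Prime 2) := ⟨Nat.prime_two⟩
  have hinv : ∀ a, D.uz a (-a) ∈ N.subgroupOf (P : Subgroup X) := by
    intro a
    rw [Subgroup.mem_subgroupOf]
    apply invol_mem_of_even N hN (isConj_of_card_classes_eq_one hone)
    rw [Subgroup.orderOf_coe]
    apply orderOf_eq_prime
    · rw [D.uz_sq, add_neg_cancel, D.u_zero]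
    · exact D.uz_ne_one _ _
  have hu : ∀ a, D.u a (-a) ∈ N.subgroupOf (P : Subgroup X) := by
    intro a
    have h1 : D.u a (-a) = D.uz a (-a) * D.uz 0 (-0) := by
      rw [D.uz_mul_uz]; congr 1 <;> ring
    rw [h1]
    exact Subgroup.mul_mem _ (hinv a) (hinv 0)
  apply sylow_le_of_cyclic_image P N hX (D.x : X) D.x.2
  intro s hs
  have hne : NeZero (2 ^ D.n) := ⟨by positivity⟩
  have hxk : ∀ c : ZMod (2 ^ D.n), D.x ^ c.val = D.u c 0 := by
    intro c
    rw [← D.rx_natCast, ZMod.natCast_zmod_val]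
    unfold Cfsg.Agent.Helper18.Wr.WrData.u
    rw [D.ry_zero, mul_one]
  rcases D.exists_rep ⟨s, hs⟩ with ⟨a, b, hi⟩ | ⟨a, b, hi⟩
  · refine ⟨(-a - b).val, ?_⟩
    have h1 : (⟨s, hs⟩ : (P : Subgroup X)) * D.x ^ (-a - b).val = D.u (-b) (-(-b)) := by
      rw [hi, hxk, D.u_mul_u]; congr 1 <;> ring
    have h2 := congrArg Subtype.val h1
    rw [Subgroup.coe_mul, Subgroup.coe_pow] at h2
    rw [h2]; exact Subgroup.mem_subgroupOf.mp (hu _)
  · refine ⟨(-a - b).val, ?_⟩
    have h1 : (⟨s, hs⟩ : (P : Subgroup X)) * D.x ^ (-a - b).val = D.uz a (-a) := by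
      rw [hi, hxk, D.uz_mul_u]; congr 1 <;> ring
    have h2 := congrArg Subtype.val h1
    rw [Subgroup.coe_mul, Subgroup.coe_pow] at h2
    rw [h2]; exact Subgroup.mem_subgroupOf.mp (hinv _)


theorem sylow_le (P₀ : Sylow 2 X)
    (hS : Cfsg.IsQuasiDihedral (P₀ : Subgroup X) ∨ Cfsg.IsWreathed (P₀ : Subgroup X))
    (hX : ∀ H : Subgroup X, H.index ≠ 2) (N : Subgroup X) [N.Normal] (hN : 2 ∣ Nat.card N)
    (P : Sylow 2 X) : (P : Subgroup X) ≤ N := by
  have hp : Fact (Nat.Prime 2) := ⟨Nat.prime_two⟩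
  have h0 : (P₀ : Subgroup X) ≤ N := by
    rcases hS with hS | hS
    · exact qd_sylow_le P₀ hS hX N hN
    · exact wr_sylow_le P₀ hS hX N hN
  obtain ⟨g, rfl⟩ := MulAction.exists_smul_eq X P₀ P
  intro s hs
  rw [mem_smul_sylow] at hs
  have h2 := Subgroup.Normal.conj_mem (inferInstance : N.Normal) _ (h0 hs) g
  have h3 : g * (g⁻¹ * s * g) * g⁻¹ = s := by group
  rw [h3] at h2
  exact h2

theorem exists_facts {S : Type*} [Group S] [Finite S]
    (hS : Cfsg.IsQuasiDihedral S ∨ Cfsg.IsWreathed S) :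
    (∃ x y : S, x * y ≠ y * x) ∧ ∃ x : S, x ^ 2 ≠ 1 := by
  rcases hS with hS | hS
  · obtain ⟨D⟩ := Cfsg.Agent.Helper18.QD.exists_qdData hS
    refine ⟨⟨D.y, D.x, ?_⟩, D.x, ?_⟩
    · intro h
      have h1 := D.y_conj_r 1
      rw [D.r_one, h, mul_inv_cancel_right, mul_one] at h1
      have h2 : D.r 1 = D.r D.k := by rw [D.r_one]; exact h1
      exact D.k_ne_one (D.r_inj.mp h2).symm
    · intro h
      have h1 := orderOf_dvd_of_pow_eq_one h
      rw [D.hx] at h1
      have h2 := Nat.le_of_dvd (by norm_num) h1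
      have h3 : 2 ^ 3 ≤ 2 ^ D.n := Nat.pow_le_pow_right (by norm_num) D.hn
      omega
  · obtain ⟨D⟩ := Cfsg.Agent.Helper18.Wr.exists_wrData hS
    have hx1 : D.x ≠ 1 := by
      intro h
      have h1 := D.hx
      rw [h, orderOf_one] at h1
      have h3 : 2 ^ 2 ≤ 2 ^ D.n := Nat.pow_le_pow_right (by norm_num) D.hn
      omega
    refine ⟨⟨D.z, D.x, ?_⟩, D.x, ?_⟩
    · intro h
      have h1 := D.hzx
      rw [h, mul_inv_cancel_right] at h1
      have h2 : D.x ∈ Subgroup.zpowers D.x ⊓ Subgroup.zpowers D.y := by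
        refine ⟨Subgroup.mem_zpowers _, ?_⟩
        rw [← h1]; exact Subgroup.mem_zpowers _
      rw [D.hinf, Subgroup.mem_bot] at h2
      exact hx1 h2
    · intro h
      have h1 := orderOf_dvd_of_pow_eq_one h
      rw [D.hx] at h1
      have h2 := Nat.le_of_dvd (by norm_num) h1
      have h3 : 2 ^ 2 ≤ 2 ^ D.n := Nat.pow_le_pow_right (by norm_num) D.hn
      omega

/-- a normal subgroup of odd order is trivial when `O(X) = 1` -/
theorem two_dvd_card_of_ne_bot (hO : Cfsg.oddCore X = ⊥) (N : Subgroup X) (hN : N.IsSubnormal)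
    (hne : N ≠ ⊥) : 2 ∣ Nat.card N := by
  by_contra h2
  apply hne
  have hcop : (Nat.card N).Coprime 2 :=
    ((Nat.Prime.coprime_iff_not_dvd Nat.prime_two).mpr h2).symm
  have h3 := Cfsg.Agent.Helper7.subnormal_coprime_le_pPrimeCore hN hcop
  have h4 : Cfsg.pPrimeCore 2 X = ⊥ := hO
  rw [h4] at h3
  exact le_bot_iff.mp h3

theorem main (P₀ : Sylow 2 X)
    (hS : Cfsg.IsQuasiDihedral (P₀ : Subgroup X) ∨ Cfsg.IsWreathed (P₀ : Subgroup X))
    (hX : ∀ H : Subgroup X, H.index ≠ 2) (hO : Cfsg.oddCore X = ⊥) :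
    ∃ L : Subgroup X, L.Normal ∧ Odd L.index ∧ IsSimpleGroup L ∧ ¬ IsMulCommutative L := by
  have hp : Fact (Nat.Prime 2) := ⟨Nat.prime_two⟩
  obtain ⟨L, hL⟩ : ∃ L : Subgroup X, L = ⨆ P : Sylow 2 X, (P : Subgroup X) := ⟨_, rfl⟩
  have hPL : ∀ P : Sylow 2 X, (P : Subgroup X) ≤ L := fun P => by
    rw [hL]; exact le_iSup (fun P : Sylow 2 X => (P : Subgroup X)) P
  have hLle : ∀ K : Subgroup X, (∀ P : Sylow 2 X, (P : Subgroup X) ≤ K) → L ≤ K := fun K hK => by
    rw [hL]; exact iSup_le hK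
  have hLn : L.Normal := by
    constructor
    intro n hn g
    have h1 : L.map (MulAut.conj g).toMonoidHom ≤ L := by
      rw [hL, Subgroup.map_iSup]
      apply iSup_le
      intro P
      have h2 : (P : Subgroup X).map (MulAut.conj g).toMonoidHom =
          ((g • P : Sylow 2 X) : Subgroup X) := by
        rw [Sylow.coe_subgroup_smul]; rfl
      rw [h2]; exact le_iSup (fun P : Sylow 2 X => (P : Subgroup X)) (g • P)
    exact h1 ⟨n, hn, rfl⟩
  obtain ⟨⟨x₀, y₀, hxy₀⟩, ⟨w₀, hw₀⟩⟩ := exists_facts hS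
  have hodd : Odd L.index := by
    rw [← Nat.not_even_iff_odd, even_iff_two_dvd]
    intro h2
    exact P₀.not_dvd_index (h2.trans (Subgroup.index_dvd_of_le (hPL P₀)))
  -- `L` has no subgroup of index 2
  have hLX : ∀ H : Subgroup ↥L, H.index ≠ 2 := by
    intro H hH
    obtain ⟨A, hA⟩ : ∃ A : Subgroup X, A = Subgroup.closure {x : X | ∃ y ∈ L, y ^ 2 = x} :=
      ⟨_, rfl⟩
    have hAH : A ≤ H.map L.subtype := by
      rw [hA, Subgroup.closure_le]
      rintro x ⟨y, hy, rfl⟩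
      exact ⟨⟨y, hy⟩ ^ 2, Subgroup.sq_mem_of_index_two hH _, rfl⟩
    have hAn : A.Normal := by
      constructor
      intro n hn g
      rw [hA] at hn ⊢
      induction hn using Subgroup.closure_induction with
      | mem x hx =>
        obtain ⟨y, hy, rfl⟩ := hx
        apply Subgroup.subset_closure
        exact ⟨g * y * g⁻¹, hLn.conj_mem y hy g, by rw [conj_pow]⟩
      | one => rw [mul_one, mul_inv_cancel]; exact Subgroup.one_mem _
      | mul a b _ _ ha hb =>
        have : g * (a * b) * g⁻¹ = (g * a * g⁻¹) * (g * b * g⁻¹) := by group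
        rw [this]; exact mul_mem ha hb
      | inv a _ ha =>
        have : g * a⁻¹ * g⁻¹ = (g * a * g⁻¹)⁻¹ := by group
        rw [this]; exact inv_mem ha
    by_cases h2 : 2 ∣ Nat.card A
    · have h3 : L ≤ A := hLle A (fun P => sylow_le P₀ hS hX A h2 P)
      have h4 : H = ⊤ := by
        rw [eq_top_iff]; intro x _
        obtain ⟨y, hy, hyx⟩ := hAH (h3 x.2)
        have : y = x := Subtype.ext hyx
        rw [← this]; exact hy
      rw [h4, Subgroup.index_top] at hH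
      norm_num at hH
    · have hAbot : A = ⊥ := by
        by_contra hne
        exact h2 (two_dvd_card_of_ne_bot hO A hAn.isSubnormal hne)
      apply hw₀
      have h5 : ((w₀ : X)) ^ 2 ∈ A := by
        rw [hA]; exact Subgroup.subset_closure ⟨w₀, hPL P₀ w₀.2, rfl⟩
      rw [hAbot, Subgroup.mem_bot] at h5
      apply Subtype.ext
      rw [Subgroup.coe_pow]; exact h5
  -- the Sylow 2-subgroup of `L`
  have hS' : Cfsg.IsQuasiDihedral ((P₀.subtype (hPL P₀) : Sylow 2 ↥L) : Subgroup ↥L) ∨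
      Cfsg.IsWreathed ((P₀.subtype (hPL P₀) : Sylow 2 ↥L) : Subgroup ↥L) := by
    have e : ↥(P₀ : Subgroup X) ≃* ↥((P₀.subtype (hPL P₀) : Sylow 2 ↥L) : Subgroup ↥L) :=
      (Subgroup.subgroupOfEquivOfLe (hPL P₀)).symm
    rcases hS with hS | hS
    · exact Or.inl (isQuasiDihedral_of_equiv e hS)
    · exact Or.inr (isWreathed_of_equiv e hS)
  have hnt : Nontrivial ↥L := by
    refine ⟨⟨⟨(x₀ : X), hPL P₀ x₀.2⟩, ⟨(y₀ : X), hPL P₀ y₀.2⟩, ?_⟩⟩
    intro h
    apply hxy₀
    have h1 : (x₀ : X) = y₀ := congrArg (fun z : ↥L => (z : X)) h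
    have h2 : x₀ = y₀ := Subtype.ext h1
    rw [h2]
  refine ⟨L, hLn, hodd, ?_, ?_⟩
  · refine { toNontrivial := hnt, eq_bot_or_eq_top_of_normal := ?_ }
    intro M hM
    by_cases hMbot : M = ⊥
    · exact Or.inl hMbot
    right
    have h2 : 2 ∣ Nat.card M := by
      have hsub : (M.map L.subtype).IsSubnormal := (hM.isSubnormal).trans' (hLn.isSubnormal)
      have hne : M.map L.subtype ≠ ⊥ := by
        intro h
        apply hMbot
        rw [eq_bot_iff]
        intro m hm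
        have : (m : X) ∈ M.map L.subtype := ⟨m, hm, rfl⟩
        rw [h, Subgroup.mem_bot] at this
        rw [Subgroup.mem_bot]
        exact Subtype.ext this
      have h3 := two_dvd_card_of_ne_bot hO _ hsub hne
      rwa [Subgroup.card_map_of_injective L.subtype_injective] at h3
    have hM' := sylow_le (P₀.subtype (hPL P₀)) hS' hLX M h2
    have hLM : L ≤ M.map L.subtype := by
      apply hLle
      intro P x hx
      have h3 : (⟨x, hPL P hx⟩ : ↥L) ∈ ((P.subtype (hPL P) : Sylow 2 ↥L) : Subgroup ↥L) := by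
        rw [Sylow.coe_subtype, Subgroup.mem_subgroupOf]
        exact hx
      exact ⟨⟨x, hPL P hx⟩, hM' _ h3, rfl⟩
    rw [eq_top_iff]
    intro x _
    obtain ⟨y, hy, hyx⟩ := hLM x.2
    have : y = x := Subtype.ext hyx
    rw [← this]; exact hy
  · intro hc
    apply hxy₀
    have h1 := hc.is_comm.comm (⟨(x₀ : X), hPL P₀ x₀.2⟩ : ↥L) ⟨(y₀ : X), hPL P₀ y₀.2⟩
    have h2 : (x₀ : X) * y₀ = y₀ * x₀ := congrArg (fun z : ↥L => (z : X)) h1
    exact Subtype.ext h2

end Cfsg.Agent.Helper16.OddIndexSimple
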