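import Mathlib

set_option autoImplicit false

/-! Finite groups in which elements of the same order are conjugate: basic lemmas. -/

namespace Cfsg.Agent.Helper16.OrderConj

open scoped commutatorElement

/-- elements of the same order are conjugate -/
def OC (G : Type*) [Group G] : Prop := ∀ x y : G, orderOf x = orderOf y → IsConj x y

variable {G : Type*} [Group G] [Finite G]

omit [Finite G] in
theorem mem_of_orderOf_eq (hC : OC G) (N : Subgroup G) [hN : N.Normal] {x y : G} (hx : x ∈ N)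
    (h : orderOf y = orderOf x) : y ∈ N := by
  obtain ⟨c, hc⟩ := isConj_iff.mp (hC x y h.symm)
  rw [← hc]
  exact hN.conj_mem x hx c

omit [Finite G] in
theorem orderOf_pow_prime_pow {p a b : ℕ} (hp : p.Prime) (hab : a ≤ b) {v : G}
    (hv : orderOf v = p ^ b) : orderOf (v ^ p ^ (b - a)) = p ^ a := by
  rw [orderOf_pow_of_dvd (pow_ne_zero _ hp.ne_zero) (by rw [hv]; exact pow_dvd_pow p (by omega)),
    hv]
  rw [Nat.pow_div (by omega) hp.pos]
  congr 1
  omega

omit [Finite G] in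
theorem pow_prime_pow_mem {W₁ : Subgroup G} {p n : ℕ} (hn : 1 ≤ n) {v : G} (hv : v ^ p ∈ W₁) :
    v ^ p ^ n ∈ W₁ := by
  obtain ⟨m, rfl⟩ : ∃ m, n = m + 1 := ⟨n - 1, by omega⟩
  rw [pow_succ', pow_mul]
  exact W₁.pow_mem hv _

theorem lemmaB_aux (hC : OC G) (W₁ : Subgroup G) [W₁.Normal] {p : ℕ} (hp : p.Prime) {u v : G}
    (hu' : u ∉ W₁) (hv : v ^ p ∈ W₁) {a b : ℕ} (hua : orderOf u = p ^ a)
    (hvb : orderOf v = p ^ b) : ¬ a < b := by
  intro hab
  have h1 : v ^ p ^ (b - a) ∈ W₁ := pow_prime_pow_mem (by omega) hv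
  have h2 : orderOf (v ^ p ^ (b - a)) = p ^ a := orderOf_pow_prime_pow hp hab.le hvb
  exact hu' (mem_of_orderOf_eq hC W₁ h1 (by rw [hua, h2]))

/-- in a section of exponent `p` between normal subgroups, all `p`-elements outside the smaller
subgroup have the same order -/
theorem lemmaB (hC : OC G) (W₁ : Subgroup G) [W₁.Normal] {p : ℕ} (hp : p.Prime) {u v : G}
    (hu : u ^ p ∈ W₁) (hu' : u ∉ W₁) (hv : v ^ p ∈ W₁) (hv' : v ∉ W₁) {a b : ℕ}
    (hua : orderOf u = p ^ a) (hvb : orderOf v = p ^ b) : a = b := by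
  have h1 := lemmaB_aux hC W₁ hp hu' hv hua hvb
  have h2 := lemmaB_aux hC W₁ hp hv' hu hvb hua
  omega

/-- the `p`-part of an element, congruent to it modulo `W₁` -/
theorem exists_ppart (W₁ : Subgroup G) [hW : W₁.Normal] {p : ℕ} (hp : p.Prime) (g : G)
    (hg : g ^ p ∈ W₁) : ∃ s : ℕ, (∃ a, orderOf (g ^ s) = p ^ a) ∧ g⁻¹ * g ^ s ∈ W₁ := by
  have hn : orderOf g ≠ 0 := (orderOf_pos g).ne'
  obtain ⟨a, t, hpt, hnt⟩ := Nat.exists_eq_pow_mul_and_not_dvd hn p hp.ne_one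
  have hcop : Nat.Coprime t p := ((Nat.Prime.coprime_iff_not_dvd hp).mpr hpt).symm
  obtain ⟨t', -, ht'⟩ := Nat.exists_mul_mod_eq_one_of_coprime hcop hp.one_lt
  refine ⟨t * t', ?_, ?_⟩
  · have h1 : (g ^ (t * t')) ^ p ^ a = 1 := by
      rw [← pow_mul, mul_comm t t', mul_assoc, mul_comm t, ← hnt, mul_comm, pow_mul,
        pow_orderOf_eq_one, one_pow]
    have h2 := orderOf_dvd_of_pow_eq_one h1
    obtain ⟨a', -, ha'⟩ := (Nat.dvd_prime_pow hp).mp h2
    exact ⟨a', ha'⟩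
  · have h3 : t * t' = p * (t * t' / p) + 1 := by
      have := Nat.div_add_mod (t * t') p
      omega
    rw [h3, pow_succ, pow_mul]
    have h4 : g⁻¹ * ((g ^ p) ^ (t * t' / p) * g) = g⁻¹ * (g ^ p) ^ (t * t' / p) * g⁻¹⁻¹ := by
      group
    rw [h4]
    exact hW.conj_mem _ (W₁.pow_mem hg _) _

/-- transitivity on a section of exponent `p` -/
theorem exists_conj_mod (hC : OC G) (W₁ : Subgroup G) [hW : W₁.Normal] {p : ℕ} (hp : p.Prime)
    {g h : G} (hg : g ^ p ∈ W₁) (hg' : g ∉ W₁) (hh : h ^ p ∈ W₁) (hh' : h ∉ W₁) :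
    ∃ c : G, h⁻¹ * (c * g * c⁻¹) ∈ W₁ := by
  obtain ⟨s, ⟨a, ha⟩, hs⟩ := exists_ppart W₁ hp g hg
  obtain ⟨r, ⟨b, hb⟩, hr⟩ := exists_ppart W₁ hp h hh
  have hu' : g ^ s ∉ W₁ := by
    intro hcon
    apply hg'
    have := W₁.mul_mem hcon (W₁.inv_mem hs)
    have h2 : g ^ s * (g⁻¹ * g ^ s)⁻¹ = g := by group
    rwa [h2] at this
  have hv' : h ^ r ∉ W₁ := by
    intro hcon
    apply hh'
    have := W₁.mul_mem hcon (W₁.inv_mem hr)
    have h2 : h ^ r * (h⁻¹ * h ^ r)⁻¹ = h := by group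
    rwa [h2] at this
  have hup : (g ^ s) ^ p ∈ W₁ := by
    rw [← pow_mul, mul_comm, pow_mul]; exact W₁.pow_mem hg _
  have hvp : (h ^ r) ^ p ∈ W₁ := by
    rw [← pow_mul, mul_comm, pow_mul]; exact W₁.pow_mem hh _
  have hab := lemmaB hC W₁ hp hup hu' hvp hv' ha hb
  obtain ⟨c, hc⟩ := isConj_iff.mp (hC (g ^ s) (h ^ r) (by rw [ha, hb, hab]))
  refine ⟨c, ?_⟩
  have h5 : h⁻¹ * (c * g * c⁻¹) = (h⁻¹ * h ^ r) * (c * (g⁻¹ * g ^ s)⁻¹ * c⁻¹) := by
    rw [← hc]; group
  rw [h5]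
  exact W₁.mul_mem hr (hW.conj_mem _ (W₁.inv_mem hs) _)

omit [Finite G] in
theorem sq_mem_commutator (hC : OC G) (g : G) : g ^ 2 ∈ commutator G := by
  obtain ⟨c, hc⟩ := isConj_iff.mp (hC g g⁻¹ (orderOf_inv g).symm)
  have h1 : ⁅g⁻¹, c⁆ ∈ commutator G := by
    rw [commutator_def]
    exact Subgroup.commutator_mem_commutator (Subgroup.mem_top _) (Subgroup.mem_top _)
  have h2 : ⁅g⁻¹, c⁆ = (g ^ 2)⁻¹ := by
    rw [commutatorElement_def, inv_inv, mul_assoc g⁻¹ c g, mul_assoc, hc, pow_two, mul_inv_rev]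
  rw [h2] at h1
  exact (Subgroup.inv_mem_iff _).mp h1

theorem index_commutator (hC : OC G) [Group.IsSolvable G] [Nontrivial G] :
    (commutator G).index = 2 := by
  have hlt : commutator G < ⊤ := Group.IsSolvable.commutator_lt_top_of_nontrivial G
  obtain ⟨g₀, -, hg₀⟩ := SetLike.exists_of_lt hlt
  rw [Subgroup.index_eq_two_iff]
  refine ⟨g₀, fun b => ?_⟩
  by_cases hb : b ∈ commutator G
  · refine Or.inr ⟨hb, ?_⟩
    intro hcon
    apply hg₀
    have := (commutator G).mul_mem ((commutator G).inv_mem hb) hcon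
    rwa [inv_mul_cancel_left] at this
  · refine Or.inl ⟨?_, hb⟩
    have hp2 : Nat.Prime 2 := Nat.prime_two
    obtain ⟨c, hc⟩ := exists_conj_mod hC (commutator G) hp2 (sq_mem_commutator hC g₀) hg₀
      (sq_mem_commutator hC b) hb
    have h1 : ⁅c, g₀⁻¹⁆ ∈ commutator G := by
      rw [commutator_def]
      exact Subgroup.commutator_mem_commutator (Subgroup.mem_top _) (Subgroup.mem_top _)
    have h2 : b⁻¹ * g₀ ∈ commutator G := by
      have := (commutator G).mul_mem hc h1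
      have h3 : b⁻¹ * (c * g₀ * c⁻¹) * ⁅c, g₀⁻¹⁆ = b⁻¹ * g₀ := by
        rw [commutatorElement_def]; group
      rwa [h3] at this
    have h4 := (commutator G).mul_mem (sq_mem_commutator hC b) h2
    have h5 : b ^ 2 * (b⁻¹ * g₀) = b * g₀ := by group
    rwa [h5] at h4

/-- the number theory: `p ^ k - 1 ∣ 2 * 3 ^ e` with `k ≥ 2` forces `p ^ k = 4` -/
theorem three_pow_mod_eight (j : ℕ) : 3 ^ j % 8 = 1 ∨ 3 ^ j % 8 = 3 := by
  induction j with
  | zero => left; norm_num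
  | succ j ih =>
    rw [pow_succ, Nat.mul_mod]
    rcases ih with h | h <;> rw [h] <;> norm_num

theorem lt_pow_sub_one {p k : ℕ} (hp : 2 ≤ p) (hk : 2 ≤ k) : (p - 1) * k < p ^ k - 1 := by
  obtain ⟨q, rfl⟩ : ∃ q, p = q + 1 := ⟨p - 1, by omega⟩
  have hq : 1 ≤ q := by omega
  have key : ∀ n : ℕ, 2 ≤ n → q * n + 1 < (q + 1) ^ n := by
    intro n hn
    induction n, hn using Nat.le_induction with
    | base => nlinarith
    | succ n hn ih =>
      rw [pow_succ]
      have h1 : (q * n + 1) * (q + 1) < (q + 1) ^ n * (q + 1) :=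
        Nat.mul_lt_mul_of_pos_right ih (by omega)
      have h2 : (q * n + 1) * (q + 1) = q * (n + 1) + 1 + q * q * n := by ring
      omega
  have := key k hk
  rw [Nat.add_sub_cancel]
  omega

theorem prime_pow_eq_four {p k e : ℕ} (hp : p.Prime) (hk : 2 ≤ k)
    (h : p ^ k - 1 ∣ 2 * 3 ^ e) : p ^ k = 4 := by
  have hpk : 4 ≤ p ^ k := by
    calc 4 = 2 ^ 2 := by norm_num
      _ ≤ p ^ 2 := Nat.pow_le_pow_left hp.two_le 2
      _ ≤ p ^ k := Nat.pow_le_pow_right hp.pos hk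
  obtain ⟨d₁, d₂, hd₁, hd₂, hd⟩ := (Nat.dvd_mul).mp h
  obtain ⟨j, -, rfl⟩ := (Nat.dvd_prime_pow Nat.prime_three).mp hd₂
  have hd₁' : d₁ = 1 ∨ d₁ = 2 := by
    have := Nat.le_of_dvd (by norm_num) hd₁
    have h0 : d₁ ≠ 0 := by rintro rfl; simp at hd₁
    omega
  by_cases hp2 : p = 2
  · subst hp2
    -- `2 ^ k - 1` is odd
    have hodd : (2 ^ k - 1) % 2 = 1 := by
      obtain ⟨m, rfl⟩ : ∃ m, k = m + 1 := ⟨k - 1, by omega⟩
      rw [pow_succ]; omega
    rcases hd₁' with rfl | rfl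
    · rw [one_mul] at hd
      by_contra hne
      have hk3 : 3 ≤ k := by
        by_contra hcon
        have : k = 2 := by omega
        subst this
        norm_num at hne
      have h8 : 2 ^ k % 8 = 0 := by
        obtain ⟨m, rfl⟩ : ∃ m, k = m + 3 := ⟨k - 3, by omega⟩
        rw [pow_add]; norm_num
      rcases three_pow_mod_eight j with h3 | h3 <;> omega
    · omega
  by_cases hp3 : p = 3
  · subst hp3
    exfalso
    -- `3 ∤ 3 ^ k - 1`
    have h3 : (3 ^ k - 1) % 3 = 2 := by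
      obtain ⟨m, rfl⟩ : ∃ m, k = m + 1 := ⟨k - 1, by omega⟩
      rw [pow_succ]; omega
    rcases j with _ | j
    · rw [pow_zero, mul_one] at hd
      have : 9 ≤ 3 ^ k := by
        calc 9 = 3 ^ 2 := by norm_num
          _ ≤ 3 ^ k := Nat.pow_le_pow_right (by norm_num) hk
      omega
    · rw [pow_succ] at hd
      have : (d₁ * (3 ^ j * 3)) % 3 = 0 := by
        rw [← mul_assoc]; exact Nat.mul_mod_left _ _
      omega
  -- `p ≥ 5`
  exfalso
  have hp5 : 5 ≤ p := by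
    have := hp.two_le
    have h4 : p ≠ 4 := by rintro rfl; norm_num at hp
    omega
  have hpodd : p % 2 = 1 := by
    rcases hp.eq_two_or_odd with h2 | h2
    · exact absurd h2 hp2
    · exact h2
  have hpkodd : p ^ k % 2 = 1 := by
    rw [Nat.pow_mod, hpodd, one_pow]
    norm_num
  -- `d₁ = 2`
  have hd₁2 : d₁ = 2 := by
    rcases hd₁' with rfl | rfl
    · exfalso
      rw [one_mul] at hd
      have : 3 ^ j % 2 = 1 := by rw [Nat.pow_mod]; norm_num
      omega
    · rfl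
  subst hd₁2
  -- `p - 1 ∣ 2 * 3 ^ j`, hence `3 ∣ p - 1`
  have hdvd : p - 1 ∣ p ^ k - 1 := by
    exact Nat.sub_one_dvd_pow_sub_one p k
  rw [← hd] at hdvd
  have h3p : 3 ∣ p - 1 := by
    obtain ⟨e₁, e₂, he₁, he₂, he⟩ := (Nat.dvd_mul).mp hdvd
    obtain ⟨i, -, rfl⟩ := (Nat.dvd_prime_pow Nat.prime_three).mp he₂
    rcases i with _ | i
    · exfalso
      rw [pow_zero, mul_one] at he
      have := Nat.le_of_dvd (by norm_num) he₁
      omega
    · rw [← he, pow_succ]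
      exact Dvd.intro_left (e₁ * 3 ^ i) (by ring)
  have : Fact (Nat.Prime 3) := ⟨Nat.prime_three⟩
  have hLTE := padicValNat.pow_sub_pow (p := 3) (x := p) (y := 1) (by decide)
    hp.one_lt h3p
    (by
      intro h3
      have := (Nat.prime_dvd_prime_iff_eq Nat.prime_three hp).mp h3
      omega) (n := k) (by omega)
  rw [one_pow] at hLTE
  -- valuations
  have hv1 : padicValNat 3 (p ^ k - 1) = j := by
    rw [← hd, padicValNat.mul (by norm_num) (by positivity), padicValNat.prime_pow]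
    have : padicValNat 3 2 = 0 := by
      apply padicValNat.eq_zero_of_not_dvd; norm_num
    rw [this, zero_add]
  -- `p - 1 = 2 * 3 ^ a`
  obtain ⟨e₁, e₂, he₁, he₂, he⟩ := (Nat.dvd_mul).mp hdvd
  obtain ⟨a, -, rfl⟩ := (Nat.dvd_prime_pow Nat.prime_three).mp he₂
  have he₁2 : e₁ = 2 := by
    have := Nat.le_of_dvd (by norm_num) he₁
    have h0 : e₁ ≠ 0 := by rintro rfl; simp at he₁
    have h1 : e₁ ≠ 1 := by
      rintro rfl
      rw [one_mul] at he
      have : 3 ^ a % 2 = 1 := by rw [Nat.pow_mod]; norm_num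
      omega
    omega
  subst he₁2
  have hv2 : padicValNat 3 (p - 1) = a := by
    rw [← he, padicValNat.mul (by norm_num) (by positivity), padicValNat.prime_pow]
    have : padicValNat 3 2 = 0 := by
      apply padicValNat.eq_zero_of_not_dvd; norm_num
    rw [this, zero_add]
  rw [hv1, hv2] at hLTE
  have hvk : 3 ^ padicValNat 3 k ≤ k := Nat.le_of_dvd (by omega) pow_padicValNat_dvd
  have h6 : p ^ k - 1 = (p - 1) * 3 ^ padicValNat 3 k := by
    rw [← hd, hLTE, pow_add, ← he]; ring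
  have h7 := lt_pow_sub_one hp.two_le hk
  have h8 : (p - 1) * 3 ^ padicValNat 3 k ≤ (p - 1) * k := Nat.mul_le_mul_left _ hvk
  omega

end Cfsg.Agent.Helper16.OrderConj
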