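import Mathlib
import Cfsg.Agent.Helper16.OrderConj1

set_option autoImplicit false

/-! Order-conjugate groups: the structure of `K / K'` for `K = G'`. -/

namespace Cfsg.Agent.Helper16.OrderConj

open scoped commutatorElement

section abelian

theorem not_dvd_card_of_pow_surj {A : Type*} [CommGroup A] [Finite A] {p : ℕ} (hp : p.Prime)
    (h : ∀ b : A, ∃ c : A, b = c ^ p) : ¬ p ∣ Nat.card A := by
  intro hdvd
  haveI : Fact p.Prime := ⟨hp⟩
  obtain ⟨g, hg⟩ := exists_prime_orderOf_dvd_card' p hdvd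
  have hsurj : Function.Surjective (powMonoidHom p : A →* A) := fun b => by
    obtain ⟨c, hc⟩ := h b
    exact ⟨c, hc.symm⟩
  have hinj := Finite.injective_iff_surjective.mpr hsurj
  have h1 : (powMonoidHom p : A →* A) g = (powMonoidHom p : A →* A) 1 := by
    simp only [powMonoidHom_apply, one_pow]
    rw [← hg]; exact pow_orderOf_eq_one g
  have := hinj h1
  rw [this, orderOf_one] at hg
  exact hp.one_lt.ne hg

theorem abelian_cyclic {A : Type*} [CommGroup A] [Finite A]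
    (h1 : ∀ p : ℕ, p.Prime → p ≠ 3 → ∀ b : A, ∃ c : A, b = c ^ p)
    (a : A) (h2 : ∀ b : A, ∃ (i : ℕ) (c : A), b = a ^ i * c ^ 3) :
    (∃ n, Nat.card A = 3 ^ n) ∧ ∀ b : A, ∃ i : ℕ, b = a ^ i := by
  have hcard : ∃ n, Nat.card A = 3 ^ n := by
    refine ⟨_, Nat.eq_prime_pow_of_unique_prime_dvd Nat.card_pos.ne' ?_⟩
    intro d hd hdvd
    by_contra hne
    exact not_dvd_card_of_pow_surj hd (h1 d hd hne) hdvd
  refine ⟨hcard, ?_⟩
  obtain ⟨n, hn⟩ := hcard
  have key : ∀ d : ℕ, ∀ b : A, ∃ i : ℕ, b ^ 3 ^ (n - d) = a ^ i := by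
    intro d
    induction d with
    | zero =>
      intro b
      refine ⟨0, ?_⟩
      rw [Nat.sub_zero, ← hn, pow_card_eq_one', pow_zero]
    | succ d ih =>
      intro b
      by_cases hd : n ≤ d
      · have : n - (d + 1) = n - d := by omega
        rw [this]; exact ih b
      · obtain ⟨i, c, rfl⟩ := h2 b
        obtain ⟨i', hi'⟩ := ih c
        have h3 : n - d = (n - (d + 1)) + 1 := by omega
        refine ⟨i * 3 ^ (n - (d + 1)) + i', ?_⟩
        rw [mul_pow, ← pow_mul, ← pow_mul, pow_add, ← hi', h3]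
        congr 2
        ring
  intro b
  obtain ⟨i, hi⟩ := key n b
  rw [Nat.sub_self, pow_zero, pow_one] at hi
  exact ⟨i, hi⟩

end abelian

section frat

variable {G : Type*} [Group G]

/-- `N' N^p` for a subgroup `N` -/
def frat (p : ℕ) (N : Subgroup G) : Subgroup G :=
  (((powMonoidHom p : Abelianization N →* Abelianization N).range).comap
    Abelianization.of).map N.subtype

theorem frat_le (p : ℕ) (N : Subgroup G) : frat p N ≤ N := Subgroup.map_subtype_le _

theorem mem_frat {p : ℕ} {N : Subgroup G} {t : G} (ht : t ∈ N) :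
    t ∈ frat p N ↔ ∃ b : Abelianization N, b ^ p = Abelianization.of ⟨t, ht⟩ := by
  constructor
  · rintro ⟨t', ht', rfl⟩
    obtain ⟨b, hb⟩ := ht'
    exact ⟨b, hb⟩
  · rintro ⟨b, hb⟩
    exact ⟨⟨t, ht⟩, ⟨b, hb⟩, rfl⟩

theorem commutator_le_frat (p : ℕ) (N : Subgroup G) : ⁅N, N⁆ ≤ frat p N := by
  intro t ht
  rw [← Subgroup.map_subtype_commutator] at ht
  obtain ⟨t', ht', rfl⟩ := ht
  refine (mem_frat t'.2).mpr ⟨1, ?_⟩
  rw [one_pow]
  symm
  rw [← Abelianization.ker_of] at ht'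
  exact ht'

theorem pow_mem_frat (p : ℕ) {N : Subgroup G} {n : G} (hn : n ∈ N) : n ^ p ∈ frat p N := by
  refine (mem_frat (N.pow_mem hn p)).mpr ⟨Abelianization.of ⟨n, hn⟩, ?_⟩
  rw [← map_pow]
  rfl

theorem exists_of_mem_frat {p : ℕ} {N : Subgroup G} {t : G} (ht : t ∈ frat p N) :
    ∃ m ∈ N, ∃ c ∈ ⁅N, N⁆, t = m ^ p * c := by
  have htN := frat_le p N ht
  obtain ⟨b, hb⟩ := (mem_frat htN).mp ht
  obtain ⟨m, rfl⟩ := QuotientGroup.mk_surjective b
  have h1 : (m ^ p)⁻¹ * ⟨t, htN⟩ ∈ commutator N := by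
    rw [← Abelianization.ker_of, MonoidHom.mem_ker, map_mul, map_inv, map_pow, inv_mul_eq_one]
    exact hb
  refine ⟨m, m.2, ((m ^ p)⁻¹ * ⟨t, htN⟩ : N), ?_, ?_⟩
  · rw [← Subgroup.map_subtype_commutator]
    exact ⟨_, h1, rfl⟩
  · simp

instance frat_normal (p : ℕ) (N : Subgroup G) [hN : N.Normal] : (frat p N).Normal := by
  constructor
  intro t ht g
  obtain ⟨m, hm, c, hc, rfl⟩ := exists_of_mem_frat ht
  have h1 : g * (m ^ p * c) * g⁻¹ = (g * m * g⁻¹) ^ p * (g * c * g⁻¹) := by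
    rw [conj_pow]; group
  rw [h1]
  haveI : (⁅N, N⁆).Normal := Subgroup.commutator_normal N N
  exact (frat p N).mul_mem (pow_mem_frat p (hN.conj_mem m hm g))
    (commutator_le_frat p N (Subgroup.Normal.conj_mem inferInstance c hc g))

theorem frat_ne {p : ℕ} (hp : p.Prime) (N : Subgroup G) [Finite G]
    (hdvd : p ∣ Nat.card (Abelianization N)) : frat p N ≠ N := by
  intro heq
  refine not_dvd_card_of_pow_surj hp (A := Abelianization N) ?_ hdvd
  intro b
  obtain ⟨m, rfl⟩ := QuotientGroup.mk_surjective b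
  have hm : (m : G) ∈ frat p N := by rw [heq]; exact m.2
  obtain ⟨c, hc⟩ := (mem_frat m.2).mp hm
  exact ⟨c, hc.symm⟩

end frat

section main

variable {G : Type*} [Group G] [Finite G]

theorem frat_K (hC : OC G) [Group.IsSolvable G] [Nontrivial G] {p : ℕ} (hp : p.Prime) {k : G}
    (hk : k ∈ commutator G) (hkF : k ∉ frat p (commutator G)) :
    p = 3 ∧ ∀ m ∈ commutator G, ∃ i : ℕ, (k ^ i)⁻¹ * m ∈ frat p (commutator G) := by
  obtain ⟨K, hK⟩ : ∃ K : Subgroup G, K = commutator G := ⟨_, rfl⟩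
  rw [← hK] at hk hkF ⊢
  haveI hKn : K.Normal := by rw [hK]; infer_instance
  have hidx : K.index = 2 := by rw [hK]; exact index_commutator hC
  obtain ⟨F, hF⟩ : ∃ F : Subgroup G, F = frat p K := ⟨_, rfl⟩
  rw [← hF] at hkF ⊢
  haveI hFn : F.Normal := by rw [hF]; infer_instance
  have hFK : F ≤ K := by rw [hF]; exact frat_le p K
  have hLF : ⁅K, K⁆ ≤ F := by rw [hF]; exact commutator_le_frat p K
  have hpow : ∀ m ∈ K, m ^ p ∈ F := fun m hm => by rw [hF]; exact pow_mem_frat p hm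
  -- x₀
  obtain ⟨x₀, hx₀⟩ : ∃ x₀ : G, x₀ ∉ K := by
    by_contra hcon
    push_neg at hcon
    have : K = ⊤ := by rw [eq_top_iff]; intro g _; exact hcon g
    rw [this, Subgroup.index_top] at hidx
    omega
  have hk'K : x₀ * k * x₀⁻¹ ∈ K := hKn.conj_mem k hk x₀
  -- cover
  have hcover : ∀ h ∈ K, h ∉ F → h⁻¹ * k ∈ F ∨ h⁻¹ * (x₀ * k * x₀⁻¹) ∈ F := by
    intro h hh hhF
    obtain ⟨c, hc⟩ := exists_conj_mod hC F hp (hpow k hk) hkF (hpow h hh) hhF
    by_cases hcK : c ∈ K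
    · left
      have h1 : ⁅c, k⁻¹⁆ ∈ F := hLF (Subgroup.commutator_mem_commutator hcK (K.inv_mem hk))
      have := F.mul_mem hc h1
      have h2 : h⁻¹ * (c * k * c⁻¹) * ⁅c, k⁻¹⁆ = h⁻¹ * k := by
        rw [commutatorElement_def]; group
      rwa [h2] at this
    · right
      have hc' : x₀⁻¹ * c ∈ K := by
        rw [Subgroup.mul_mem_iff_of_index_two hidx]
        constructor
        · intro h; exact absurd ((Subgroup.inv_mem_iff _).mp h) hx₀
        · intro h; exact absurd h hcK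
      have h1 : ⁅x₀⁻¹ * c, k⁻¹⁆ ∈ F :=
        hLF (Subgroup.commutator_mem_commutator hc' (K.inv_mem hk))
      have h1' := hFn.conj_mem _ h1 x₀
      have := F.mul_mem hc h1'
      have h2 : h⁻¹ * (c * k * c⁻¹) * (x₀ * ⁅x₀⁻¹ * c, k⁻¹⁆ * x₀⁻¹)
          = h⁻¹ * (x₀ * k * x₀⁻¹) := by
        rw [commutatorElement_def]; group
      rwa [h2] at this
  -- the quotient `K / F`
  have hmk1 : ∀ m : K, (QuotientGroup.mk' (F.subgroupOf K)) m = 1 ↔ (m : G) ∈ F := by
    intro m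
    rw [QuotientGroup.mk'_apply, QuotientGroup.eq_one_iff, Subgroup.mem_subgroupOf]
  have hmkeq : ∀ m m' : K, (QuotientGroup.mk' (F.subgroupOf K)) m
      = (QuotientGroup.mk' (F.subgroupOf K)) m' ↔ (m : G)⁻¹ * m' ∈ F := by
    intro m m'
    rw [QuotientGroup.mk'_apply, QuotientGroup.mk'_apply, QuotientGroup.eq,
      Subgroup.mem_subgroupOf]
    rfl
  have hsurj : Function.Surjective (QuotientGroup.mk' (F.subgroupOf K)) :=
    QuotientGroup.mk'_surjective _
  have hcard3 : Nat.card (↥K ⧸ F.subgroupOf K) ≤ 3 := by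
    have hf : Function.Surjective (fun i : Fin 3 =>
        if i = 0 then (1 : ↥K ⧸ F.subgroupOf K)
        else if i = 1 then (QuotientGroup.mk' (F.subgroupOf K)) ⟨k, hk⟩
        else (QuotientGroup.mk' (F.subgroupOf K)) ⟨x₀ * k * x₀⁻¹, hk'K⟩) := by
      intro q
      obtain ⟨h, rfl⟩ := hsurj q
      by_cases hhF : (h : G) ∈ F
      · exact ⟨0, by simp [(hmk1 h).mpr hhF]⟩
      · rcases hcover h h.2 hhF with h1 | h1
        · refine ⟨1, ?_⟩
          have := (hmkeq h ⟨k, hk⟩).mpr h1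
          simp [this]
        · refine ⟨2, ?_⟩
          have := (hmkeq h ⟨x₀ * k * x₀⁻¹, hk'K⟩).mpr h1
          simp [this]
    have := Nat.card_le_card_of_surjective _ hf
    simpa using this
  haveI : Fact p.Prime := ⟨hp⟩
  have hPG : IsPGroup p (↥K ⧸ F.subgroupOf K) := by
    intro q
    obtain ⟨h, rfl⟩ := hsurj q
    refine ⟨1, ?_⟩
    rw [pow_one, ← map_pow, hmk1]
    exact hpow h h.2
  obtain ⟨j, hj⟩ := (IsPGroup.iff_card).mp hPG
  have hkne : (QuotientGroup.mk' (F.subgroupOf K)) ⟨k, hk⟩ ≠ 1 := by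
    intro hcon
    exact hkF ((hmk1 _).mp hcon)
  have hj0 : j ≠ 0 := by
    rintro rfl
    rw [pow_zero] at hj
    haveI := (Nat.card_eq_one_iff_unique.mp hj).1
    exact hkne (Subsingleton.elim _ _)
  have hj1 : j = 1 := by
    by_contra hne
    have h2 : 2 ≤ j := by omega
    have : p ^ 2 ≤ p ^ j := Nat.pow_le_pow_right hp.pos h2
    have : 2 ^ 2 ≤ p ^ 2 := Nat.pow_le_pow_left hp.two_le 2
    omega
  subst hj1
  rw [pow_one] at hj
  have hp3 : p = 3 := by
    by_contra hne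
    have hp2 : p = 2 := by
      have := hp.two_le
      omega
    subst hp2
    have hFidx : F.index = 2 ^ 2 := by
      rw [← Subgroup.relIndex_mul_index hFK, hidx]
      have : F.relIndex K = 2 := hj
      rw [this]
      norm_num
    have hcomm : IsMulCommutative (G ⧸ F) :=
      IsPGroup.isMulCommutative_of_card_eq_prime_sq (p := 2) hFidx
    have hle := Subgroup.Normal.quotient_commutative_iff_commutator_le.mp hcomm
    rw [← hK] at hle
    exact hkF (hle hk)
  refine ⟨hp3, ?_⟩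
  intro m hm
  have htop := zpowers_eq_top_of_prime_card hj hkne
  have hmem : (QuotientGroup.mk' (F.subgroupOf K)) ⟨m, hm⟩ ∈
      Subgroup.zpowers ((QuotientGroup.mk' (F.subgroupOf K)) ⟨k, hk⟩) := by
    rw [htop]; exact Subgroup.mem_top _
  rw [← mem_powers_iff_mem_zpowers, Submonoid.mem_powers_iff] at hmem
  obtain ⟨i, hi⟩ := hmem
  refine ⟨i, ?_⟩
  rw [← map_pow] at hi
  exact (hmkeq _ _).mp hi

theorem structure_K (hC : OC G) [Group.IsSolvable G] [Nontrivial G] :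
    ∃ y ∈ commutator G,
      (∀ m ∈ commutator G, ∃ i : ℕ, (y ^ i)⁻¹ * m ∈ ⁅commutator G, commutator G⁆) ∧
      ∃ n : ℕ, Nat.card (Abelianization (commutator G)) = 3 ^ n := by
  obtain ⟨K, hK⟩ : ∃ K : Subgroup G, K = commutator G := ⟨_, rfl⟩
  rw [← hK]
  have h1 : ∀ p : ℕ, p.Prime → p ≠ 3 → ∀ b : Abelianization K, ∃ c, b = c ^ p := by
    intro p hp hp3 b
    obtain ⟨m, rfl⟩ := QuotientGroup.mk_surjective b
    have hm : (m : G) ∈ frat p K := by
      by_contra hcon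
      have := frat_K hC hp (by rw [← hK]; exact m.2) (by rw [← hK]; exact hcon)
      exact hp3 this.1
    obtain ⟨c, hc⟩ := (mem_frat m.2).mp hm
    exact ⟨c, hc.symm⟩
  -- choose `k`
  have key : ∃ k ∈ K, ∀ m ∈ K, ∃ i : ℕ, (k ^ i)⁻¹ * m ∈ frat 3 K := by
    by_cases hex : ∃ k ∈ K, k ∉ frat 3 K
    · obtain ⟨k, hk, hkF⟩ := hex
      refine ⟨k, hk, ?_⟩
      have := (frat_K hC Nat.prime_three (by rw [← hK]; exact hk) (by rw [← hK]; exact hkF)).2
      rw [← hK] at this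
      exact this
    · push_neg at hex
      refine ⟨1, K.one_mem, fun m hm => ⟨0, ?_⟩⟩
      simpa using hex m hm
  obtain ⟨k, hk, hkm⟩ := key
  have h2 : ∀ b : Abelianization K, ∃ (i : ℕ) (c : Abelianization K),
      b = (Abelianization.of ⟨k, hk⟩) ^ i * c ^ 3 := by
    intro b
    obtain ⟨m, rfl⟩ := QuotientGroup.mk_surjective b
    obtain ⟨i, hi⟩ := hkm m m.2
    obtain ⟨c, hc⟩ := (mem_frat (K.mul_mem (K.inv_mem (K.pow_mem hk i)) m.2)).mp hi
    refine ⟨i, c, ?_⟩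
    rw [hc]
    have : (⟨(k ^ i)⁻¹ * (m : G), K.mul_mem (K.inv_mem (K.pow_mem hk i)) m.2⟩ : K)
        = (⟨k, hk⟩ ^ i)⁻¹ * m := rfl
    rw [this, map_mul, map_inv, map_pow, mul_inv_cancel_left]
    rfl
  obtain ⟨hcard, hcyc⟩ := abelian_cyclic h1 _ h2
  refine ⟨k, hk, ?_, hcard⟩
  intro m hm
  obtain ⟨i, hi⟩ := hcyc (Abelianization.of ⟨m, hm⟩)
  refine ⟨i, ?_⟩
  rw [← Subgroup.map_subtype_commutator]
  have hmem : ((⟨k, hk⟩ : K) ^ i)⁻¹ * ⟨m, hm⟩ ∈ commutator K := by
    rw [← Abelianization.ker_of, MonoidHom.mem_ker, map_mul, map_inv, map_pow, hi,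
      inv_mul_cancel]
  exact ⟨_, hmem, rfl⟩

/-- consequences of `Nat.card (Abelianization K) = 3 ^ n` -/
theorem pow_mem_commutator_of_card {K : Subgroup G} {n : ℕ}
    (hn : Nat.card (Abelianization K) = 3 ^ n) {m : G} (hm : m ∈ K) : m ^ 3 ^ n ∈ ⁅K, K⁆ := by
  rw [← Subgroup.map_subtype_commutator]
  have hmem : (⟨m, hm⟩ : K) ^ 3 ^ n ∈ commutator K := by
    rw [← Abelianization.ker_of, MonoidHom.mem_ker, map_pow, ← hn, pow_card_eq_one']
  exact ⟨_, hmem, rfl⟩

omit [Finite G] in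
theorem index_commutator_of_card {K : Subgroup G} {n : ℕ}
    (hn : Nat.card (Abelianization K) = 3 ^ n) : (⁅K, K⁆).index = 3 ^ n * K.index := by
  rw [← Subgroup.relIndex_mul_index (Subgroup.commutator_le_self K)]
  congr 1
  rw [← hn, ← Subgroup.map_subtype_commutator]
  unfold Subgroup.relIndex Subgroup.subgroupOf
  rw [Subgroup.comap_map_eq_self_of_injective K.subtype_injective]
  rfl

end main

end Cfsg.Agent.Helper16.OrderConj
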