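import Mathlib
import Cfsg.Agent.Helper16.OrderConj2

set_option autoImplicit false

/-! Order-conjugate groups: the second derived subgroup is trivial. -/

namespace Cfsg.Agent.Helper16.OrderConj

open scoped commutatorElement

section helpers

theorem commutator_le_ker_of_commute {G H : Type*} [Group G] [Group H] (f : G →* H)
    (h : ∀ a b : G, Commute (f a) (f b)) : commutator G ≤ f.ker := by
  rw [commutator_def, Subgroup.commutator_le]
  intro a _ b _
  rw [MonoidHom.mem_ker, map_commutatorElement, commutatorElement_eq_one_iff_commute]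
  exact h a b

theorem mem_of_pow_mem_of_coprime {G : Type*} [Group G] {H : Subgroup G} {g : G} {m : ℕ}
    (hco : Nat.Coprime m (orderOf g)) (h : g ^ m ∈ H) : g ∈ H := by
  obtain ⟨m', hm'⟩ := exists_pow_eq_self_of_coprime hco
  rw [← hm']
  exact H.pow_mem h m'

theorem v4_lemma {V : Type*} [Group V] (hcard : Nat.card V = 4) (hexp : ∀ v : V, v * v = 1)
    (σ : MulAut V) (hσ2 : ∀ v, σ (σ v) = v) (v₁ : V) (hv₁ : σ v₁ ≠ v₁) (vx : V)
    (hvx : σ vx = vx) : ∃ v : V, σ v * v = vx := by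
  by_contra hcon
  push_neg at hcon
  have h1 : vx ≠ 1 := fun h => hcon 1 (by rw [map_one, one_mul, h])
  have h2 : vx ≠ σ v₁ * v₁ := fun h => hcon v₁ h.symm
  haveI : Finite V := Nat.finite_of_card_ne_zero (by rw [hcard]; norm_num)
  have hv₁1 : v₁ ≠ 1 := by rintro rfl; exact hv₁ (map_one σ)
  have hσv₁1 : σ v₁ ≠ 1 := by
    intro h
    apply hv₁1
    have := hσ2 v₁
    rw [h, map_one] at this
    exact this.symm
  have hc1 : σ v₁ * v₁ ≠ 1 := by
    intro h
    apply hv₁
    have h3 := hexp v₁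
    exact mul_right_cancel (h.trans h3.symm)
  have hcv : σ v₁ * v₁ ≠ v₁ := by
    intro h; exact hσv₁1 (mul_right_cancel (h.trans (one_mul v₁).symm))
  have hcσ : σ v₁ * v₁ ≠ σ v₁ := by
    intro h; exact hv₁1 (mul_left_cancel (h.trans (mul_one _).symm))
  have hxv : vx ≠ v₁ := by rintro rfl; exact hv₁ hvx
  have hxσ : vx ≠ σ v₁ := by
    intro h
    rw [h, hσ2] at hvx
    exact hv₁ hvx.symm
  classical
  haveI := Fintype.ofFinite V
  have h5 : ({1, v₁, σ v₁, σ v₁ * v₁, vx} : Finset V).card = 5 := by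
    rw [Finset.card_insert_of_notMem, Finset.card_insert_of_notMem,
      Finset.card_insert_of_notMem, Finset.card_insert_of_notMem, Finset.card_singleton]
    · simp only [Finset.mem_singleton]; exact h2.symm
    · simp only [Finset.mem_insert, Finset.mem_singleton, not_or]
      exact ⟨hcσ.symm, hxσ.symm⟩
    · simp only [Finset.mem_insert, Finset.mem_singleton, not_or]
      exact ⟨hv₁.symm, hcv.symm, hxv.symm⟩
    · simp only [Finset.mem_insert, Finset.mem_singleton, not_or]
      exact ⟨hv₁1.symm, hσv₁1.symm, hc1.symm, h1.symm⟩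
  have := Finset.card_le_univ ({1, v₁, σ v₁, σ v₁ * v₁, vx} : Finset V)
  rw [h5, ← Nat.card_eq_fintype_card, hcard] at this
  omega

end helpers

section main

variable {G : Type*} [Group G] [Finite G]

theorem L_eq_bot (hC : OC G) [Group.IsSolvable G] [Nontrivial G] :
    ⁅commutator G, commutator G⁆ = ⊥ := by
  obtain ⟨y, hyK, hy, n, hn⟩ := structure_K hC
  obtain ⟨K, hK⟩ : ∃ K : Subgroup G, K = commutator G := ⟨_, rfl⟩
  rw [← hK] at hyK hy hn ⊢
  haveI hKn : K.Normal := by rw [hK]; infer_instance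
  have hidx : K.index = 2 := by rw [hK]; exact index_commutator hC
  obtain ⟨L, hL⟩ : ∃ L : Subgroup G, L = ⁅K, K⁆ := ⟨_, rfl⟩
  rw [← hL] at hy ⊢
  haveI hLn : L.Normal := by rw [hL]; exact Subgroup.commutator_normal K K
  have hLK : L ≤ K := by rw [hL]; exact Subgroup.commutator_le_self K
  have hLidx : L.index = 3 ^ n * 2 := by rw [hL, index_commutator_of_card hn, hidx]
  have hpowL : ∀ m ∈ K, m ^ 3 ^ n ∈ L := fun m hm => by
    rw [hL]; exact pow_mem_commutator_of_card hn hm
  by_contra hLne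
  -- the prime `p`
  haveI : Nontrivial L := (Subgroup.nontrivial_iff_ne_bot L).mpr hLne
  have hlt : commutator L < ⊤ := Group.IsSolvable.commutator_lt_top_of_nontrivial L
  have hcard1 : Nat.card (Abelianization L) ≠ 1 := by
    intro h1
    have : (commutator L).index = 1 := h1
    rw [Subgroup.index_eq_one] at this
    exact hlt.ne this
  obtain ⟨p, hp, hpdvd⟩ := Nat.exists_prime_and_dvd hcard1
  obtain ⟨W₁, hW⟩ : ∃ W₁ : Subgroup G, W₁ = frat p L := ⟨_, rfl⟩
  haveI hWn : W₁.Normal := by rw [hW]; infer_instance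
  have hWL : W₁ ≤ L := by rw [hW]; exact frat_le p L
  have hWne : W₁ ≠ L := by rw [hW]; exact frat_ne hp L hpdvd
  have hLLW : ⁅L, L⁆ ≤ W₁ := by rw [hW]; exact commutator_le_frat p L
  have hpowW : ∀ l ∈ L, l ^ p ∈ W₁ := fun l hl => by rw [hW]; exact pow_mem_frat p hl
  obtain ⟨u₀, hu₀L, hu₀W⟩ : ∃ u₀ ∈ L, u₀ ∉ W₁ := by
    by_contra hcon
    push_neg at hcon
    exact hWne (le_antisymm hWL hcon)
  -- (★)
  have hstar : ∀ g : G, g ^ p ∈ W₁ → g ∈ L := by
    intro g hg
    by_cases hgW : g ∈ W₁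
    · exact hWL hgW
    · obtain ⟨c, hc⟩ := exists_conj_mod hC W₁ hp (hpowW u₀ hu₀L) hu₀W hg hgW
      have h1 := L.mul_mem (hLn.conj_mem u₀ hu₀L c) (L.inv_mem (hWL hc))
      have h2 : c * u₀ * c⁻¹ * (g⁻¹ * (c * u₀ * c⁻¹))⁻¹ = g := by group
      rwa [h2] at h1
  -- the quotient
  obtain ⟨π, hπ⟩ : ∃ π : G →* G ⧸ W₁, π = QuotientGroup.mk' W₁ := ⟨_, rfl⟩
  have hπsurj : Function.Surjective π := by rw [hπ]; exact QuotientGroup.mk'_surjective W₁
  have hπ1 : ∀ g : G, π g = 1 ↔ g ∈ W₁ := by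
    intro g
    rw [hπ, QuotientGroup.mk'_apply, QuotientGroup.eq_one_iff]
  obtain ⟨V, hV⟩ : ∃ V : Subgroup (G ⧸ W₁), V = L.map π := ⟨_, rfl⟩
  haveI hVn : V.Normal := by rw [hV]; exact Subgroup.Normal.map hLn π hπsurj
  have hexV : ∀ v : V, ∃ l ∈ L, π l = (v : G ⧸ W₁) := by
    rintro ⟨v, hv⟩
    have hv' : v ∈ L.map π := by rw [← hV]; exact hv
    exact Subgroup.mem_map.mp hv'
  have hmemV : ∀ g : G, π g ∈ V ↔ g ∈ L := by
    intro g
    constructor
    · intro hg
      obtain ⟨l, hl, hlg⟩ := hexV ⟨π g, hg⟩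
      have h1 : π (l⁻¹ * g) = 1 := by rw [map_mul, map_inv, hlg, inv_mul_cancel]
      have h2 := L.mul_mem hl (hWL ((hπ1 _).mp h1))
      rwa [mul_inv_cancel_left] at h2
    · intro hg
      rw [hV]
      exact Subgroup.mem_map_of_mem π hg
  obtain ⟨f, hf⟩ : ∃ f : G →* MulAut V, f = (MulAut.conjNormal (H := V)).comp π := ⟨_, rfl⟩
  have hfapp : ∀ (g : G) (v : V), ((f g v : V) : G ⧸ W₁) = π g * v * (π g)⁻¹ := by
    intro g v
    rw [hf]
    rfl
  have hker : ∀ g : G, f g = 1 ↔ ∀ l ∈ L, ⁅g, l⁆ ∈ W₁ := by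
    intro g
    constructor
    · intro hg l hl
      have h1 := hfapp g ⟨π l, (hmemV l).mpr hl⟩
      rw [hg, MulAut.one_apply] at h1
      rw [← hπ1, commutatorElement_def, map_mul, map_mul, map_mul, map_inv, map_inv]
      rw [← h1, mul_inv_cancel]
    · intro hg
      ext v
      obtain ⟨l, hl, hv⟩ := hexV v
      rw [hfapp, MulAut.one_apply, ← hv]
      have := (hπ1 _).mpr (hg l hl)
      rw [commutatorElement_def, map_mul, map_mul, map_mul, map_inv, map_inv,
        mul_inv_eq_one] at this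
      exact this
  have hLker : ∀ l ∈ L, f l = 1 := by
    intro l hl
    rw [hker]
    intro l' hl'
    exact hLLW (Subgroup.commutator_mem_commutator hl hl')
  -- final contradiction from `K ≤ ker f`
  have hfinish : (∀ k ∈ K, f k = 1) → False := by
    intro hKf
    apply hWne
    refine le_antisymm hWL ?_
    rw [hL, Subgroup.commutator_le]
    intro k₁ hk₁ k₂ hk₂
    rw [← hπ1, map_commutatorElement, commutatorElement_eq_one_iff_commute]
    have hcomm1 : ∀ k ∈ K, ∀ l ∈ L, Commute (π k) (π l) := by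
      intro k hk l hl
      rw [← commutatorElement_eq_one_iff_commute, ← map_commutatorElement, hπ1]
      exact (hker k).mp (hKf k hk) l hl
    obtain ⟨i, hi⟩ := hy k₁ hk₁
    obtain ⟨j, hj⟩ := hy k₂ hk₂
    have e1 : π k₁ = (π y) ^ i * π ((y ^ i)⁻¹ * k₁) := by
      rw [← map_pow, ← map_mul, mul_inv_cancel_left]
    have e2 : π k₂ = (π y) ^ j * π ((y ^ j)⁻¹ * k₂) := by
      rw [← map_pow, ← map_mul, mul_inv_cancel_left]
    rw [e1, e2]
    have c1 : Commute (π y) (π ((y ^ j)⁻¹ * k₂)) := hcomm1 y hyK _ hj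
    have c2 : Commute (π ((y ^ i)⁻¹ * k₁)) (π y) := (hcomm1 y hyK _ hi).symm
    have c3 : Commute (π ((y ^ i)⁻¹ * k₁)) (π ((y ^ j)⁻¹ * k₂)) := hcomm1 _ (hLK hi) _ hj
    exact Commute.mul_left (Commute.mul_right ((Commute.refl _).pow_pow i j) (c1.pow_left i))
      (Commute.mul_right (c2.pow_right j) c3)
  have hfinish' : (∀ a b : G, Commute (f a) (f b)) → False := by
    intro hcomm
    have hle := commutator_le_ker_of_commute f hcomm
    rw [← hK] at hle
    exact hfinish (fun k hk => MonoidHom.mem_ker.mp (hle hk))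
  -- cardinality of `V`
  haveI : Fact p.Prime := ⟨hp⟩
  have hVpow : ∀ v : V, v ^ p = 1 := by
    intro v
    obtain ⟨l, hl, hv⟩ := hexV v
    ext
    rw [Subgroup.coe_pow, ← hv, ← map_pow, Subgroup.coe_one, hπ1]
    exact hpowW l hl
  have hVp : IsPGroup p V := fun v => ⟨1, by rw [pow_one]; exact hVpow v⟩
  obtain ⟨k, hk⟩ := IsPGroup.iff_card.mp hVp
  obtain ⟨v₀, hv₀⟩ : ∃ v₀ : V, (v₀ : G ⧸ W₁) = π u₀ := ⟨⟨π u₀, (hmemV u₀).mpr hu₀L⟩, rfl⟩
  have hv₀1 : v₀ ≠ 1 := by
    intro h
    apply hu₀W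
    rw [← hπ1, ← hv₀, h, Subgroup.coe_one]
  -- orbit counting
  have hdvd : p ^ k - 1 ∣ 2 * 3 ^ n := by
    letI : MulAction G V := MulAction.compHom V f
    have hsmul : ∀ (g : G) (v : V), g • v = f g v := fun _ _ => rfl
    have horbit : MulAction.orbit G v₀ = {v | v ≠ 1} := by
      ext v
      constructor
      · rintro ⟨g, rfl⟩ h1
        apply hv₀1
        have h2 : f g v₀ = 1 := h1
        have h3 : f g v₀ = f g 1 := by rw [h2, map_one]
        exact (f g).injective h3
      · intro hv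
        obtain ⟨l, hl, hlv⟩ := hexV v
        have hlW : l ∉ W₁ := fun h => hv (Subtype.ext (by
          rw [← hlv, Subgroup.coe_one]; exact (hπ1 l).mpr h))
        obtain ⟨c, hc⟩ := exists_conj_mod hC W₁ hp (hpowW u₀ hu₀L) hu₀W (hpowW l hl) hlW
        refine ⟨c, Subtype.ext ?_⟩
        have h4 := (hπ1 _).mpr hc
        rw [map_mul, map_inv, inv_mul_eq_one] at h4
        show ((f c v₀ : V) : G ⧸ W₁) = v
        rw [hfapp, ← hlv, h4, hv₀, map_mul, map_mul, map_inv]
    have hstab : L ≤ MulAction.stabilizer G v₀ := by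
      intro l hl
      rw [MulAction.mem_stabilizer_iff, hsmul, hLker l hl]
      rfl
    have h1 := MulAction.index_stabilizer G v₀
    rw [horbit] at h1
    have h2 : ({v : V | v ≠ 1} : Set V).ncard = p ^ k - 1 := by
      have : {v : V | v ≠ 1} = ({1} : Set V)ᶜ := by ext; simp
      rw [this, Set.ncard_compl, Set.ncard_singleton, hk]
    have h3 := Subgroup.index_dvd_of_le hstab
    rw [h1, h2, hLidx, mul_comm] at h3
    exact h3
  -- `x₀`
  obtain ⟨x₀, hx₀⟩ : ∃ x₀ : G, x₀ ∉ K := by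
    by_contra hcon
    push_neg at hcon
    have : K = ⊤ := by rw [eq_top_iff]; intro g _; exact hcon g
    rw [this, Subgroup.index_top] at hidx
    omega
  have hk0 : k ≠ 0 := by
    rintro rfl
    rw [pow_zero] at hk
    haveI := (Nat.card_eq_one_iff_unique.mp hk).1
    exact hv₀1 (Subsingleton.elim _ _)
  by_cases hk1 : k = 1
  · subst hk1
    rw [pow_one] at hk
    haveI : IsCyclic V := isCyclic_of_prime_card hk
    apply hfinish'
    intro a b
    exact (IsCyclic.mulAutMulEquiv V).injective (by rw [map_mul, map_mul, mul_comm])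
  have hk2 : 2 ≤ k := by omega
  have h4 := prime_pow_eq_four hp hk2 hdvd
  have hp2 : p = 2 := by
    have h1 : p ∣ 2 ^ 2 := by
      have : p ∣ p ^ k := dvd_pow_self p hk0
      rw [h4] at this
      exact this
    exact (Nat.prime_dvd_prime_iff_eq hp Nat.prime_two).mp (hp.dvd_of_dvd_pow h1)
  subst hp2
  rw [h4] at hk
  have hexp : ∀ v : V, v * v = 1 := by
    intro v
    rw [← pow_two]
    exact hVpow v
  -- the `2`-element `x`
  obtain ⟨s, ⟨a, ha⟩, hs⟩ := exists_ppart K Nat.prime_two x₀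
    (by rw [hK]; exact sq_mem_commutator hC x₀)
  obtain ⟨x, hx⟩ : ∃ x : G, x = x₀ ^ s := ⟨_, rfl⟩
  rw [← hx] at ha hs
  have hxK : x ∉ K := by
    intro hcon
    apply hx₀
    have := K.mul_mem hcon (K.inv_mem hs)
    have h2 : x * (x₀⁻¹ * x)⁻¹ = x₀ := by group
    rwa [h2] at this
  have hx2K : x ^ 2 ∈ K := by rw [hK]; exact sq_mem_commutator hC x
  have hx2L : x ^ 2 ∈ L := by
    refine mem_of_pow_mem_of_coprime (m := 3 ^ n) ?_ (hpowL _ hx2K)
    have hdvd2 : orderOf (x ^ 2) ∣ 2 ^ a := by rw [← ha]; exact orderOf_pow_dvd 2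
    exact Nat.Coprime.coprime_dvd_right hdvd2 (Nat.Coprime.pow _ _ (by norm_num))
  have hxL : x ∉ L := fun h => hxK (hLK h)
  by_cases hfx : f x = 1
  · apply hfinish'
    have himg : ∀ g : G, ∃ i : ℕ, f g = (f y) ^ i := by
      intro g
      by_cases hg : g ∈ K
      · obtain ⟨i, hi⟩ := hy g hg
        refine ⟨i, ?_⟩
        have := hLker _ hi
        rw [map_mul, map_inv, map_pow, inv_mul_eq_one] at this
        exact this.symm
      · have hg' : x⁻¹ * g ∈ K := by
          rw [Subgroup.mul_mem_iff_of_index_two hidx]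
          constructor
          · intro h; exact absurd ((Subgroup.inv_mem_iff _).mp h) hxK
          · intro h; exact absurd h hg
        obtain ⟨i, hi⟩ := hy _ hg'
        refine ⟨i, ?_⟩
        have := hLker _ hi
        rw [map_mul, map_inv, map_pow, map_mul, map_inv, hfx, inv_one, one_mul,
          inv_mul_eq_one] at this
        exact this.symm
    intro a b
    obtain ⟨i, hi⟩ := himg a
    obtain ⟨j, hj⟩ := himg b
    rw [hi, hj]
    exact (Commute.refl _).pow_pow i j
  · obtain ⟨v₁, hv₁⟩ : ∃ v₁ : V, f x v₁ ≠ v₁ := by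
      by_contra hcon
      push_neg at hcon
      apply hfx
      ext v
      rw [hcon v, MulAut.one_apply]
    have hσ2 : ∀ v, f x (f x v) = v := by
      intro v
      have : f x * f x = 1 := by rw [← map_mul, ← pow_two]; exact hLker _ hx2L
      have h2 : (f x * f x) v = v := by rw [this, MulAut.one_apply]
      exact h2
    obtain ⟨vx, hvx⟩ : ∃ vx : V, (vx : G ⧸ W₁) = π (x ^ 2) :=
      ⟨⟨π (x ^ 2), (hmemV _).mpr hx2L⟩, rfl⟩
    have hσvx : f x vx = vx := by
      ext
      rw [hfapp, hvx, ← map_inv, ← map_mul, ← map_mul]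
      congr 1
      group
    obtain ⟨v, hv⟩ := v4_lemma hk hexp (f x) hσ2 v₁ hv₁ vx hσvx
    obtain ⟨l, hl, hlv⟩ := hexV v
    have hw : (x * l) ^ 2 ∈ W₁ := by
      rw [← hπ1]
      have h1 : f x v * vx * v = 1 := by
        rw [← hv]
        calc f x v * (f x v * v) * v = (f x v * f x v) * (v * v) := by group
          _ = 1 := by rw [hexp, hexp, one_mul]
      have h2 := congrArg (fun z : V => (z : G ⧸ W₁)) h1
      simp only [Subgroup.coe_mul, Subgroup.coe_one] at h2
      rw [hfapp, hvx, ← hlv, ← map_inv, ← map_mul, ← map_mul, ← map_mul, ← map_mul] at h2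
      have h3 : x * l * x⁻¹ * x ^ 2 * l = (x * l) ^ 2 := by
        rw [pow_two, pow_two]; group
      rw [h3] at h2
      exact h2
    have hwL := hstar _ hw
    have h2 := L.mul_mem hwL (L.inv_mem hl)
    rw [mul_inv_cancel_right] at h2
    exact hxL h2

end main

end Cfsg.Agent.Helper16.OrderConj
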