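import Mathlib
import Cfsg.Agent.Helper16.OrderConj3
import Cfsg.Agent.Helper11.DihedralLift
import Cfsg.Agent.Helper3.S3Lift

set_option autoImplicit false

/-! Order-conjugate solvable groups: the classification. -/

namespace Cfsg.Agent.Helper16.OrderConj

open scoped commutatorElement

theorem main_theorem {G : Type*} [Group G] [Finite G] [Group.IsSolvable G] (hC : OC G) :
    Nat.card G = 1 ∨ Nat.card G = 2 ∨ Nonempty (G ≃* Equiv.Perm (Fin 3)) := by
  rcases subsingleton_or_nontrivial G with hsub | hnt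
  · left
    exact Nat.card_unique
  right
  obtain ⟨y, hyK, hy, n, hn⟩ := structure_K hC
  have hLbot := L_eq_bot hC
  obtain ⟨K, hK⟩ : ∃ K : Subgroup G, K = commutator G := ⟨_, rfl⟩
  rw [← hK] at hyK hy hn hLbot
  haveI hKn : K.Normal := by rw [hK]; infer_instance
  have hidx : K.index = 2 := by rw [hK]; exact index_commutator hC
  have hKy : ∀ m ∈ K, ∃ i : ℕ, m = y ^ i := by
    intro m hm
    obtain ⟨i, hi⟩ := hy m hm
    rw [hLbot, Subgroup.mem_bot, inv_mul_eq_one] at hi
    exact ⟨i, hi.symm⟩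
  have hcommy : ∀ m ∈ K, m * y * m⁻¹ = y := by
    intro m hm
    obtain ⟨i, rfl⟩ := hKy m hm
    rw [← pow_succ, pow_succ', mul_inv_cancel_right]
  have hy3n : y ^ 3 ^ n = 1 := by
    have := pow_mem_commutator_of_card hn hyK
    rwa [hLbot, Subgroup.mem_bot] at this
  have hodd : Nat.Coprime (orderOf y) 2 := by
    have : orderOf y ∣ 3 ^ n := orderOf_dvd_of_pow_eq_one hy3n
    exact Nat.Coprime.coprime_dvd_left this (Nat.Coprime.pow_left n (by norm_num))
  have hy3 : y ^ 3 = 1 := by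
    obtain ⟨c, hc⟩ := isConj_iff.mp (hC y (y ^ 2) (Nat.Coprime.orderOf_pow hodd).symm)
    have hc2 : c ^ 2 ∈ K := by rw [hK]; exact sq_mem_commutator hC c
    have h1 := hcommy _ hc2
    have h2 : c ^ 2 * y * (c ^ 2)⁻¹ = c * (c * y * c⁻¹) * c⁻¹ := by rw [pow_two]; group
    rw [h2, hc, ← conj_pow, hc, ← pow_mul] at h1
    have h3 : y ^ 3 * y = 1 * y := by rw [one_mul, ← pow_succ]; exact h1
    exact mul_right_cancel h3
  by_cases hy1 : y = 1
  · left
    have hKbot : K = ⊥ := by
      rw [eq_bot_iff]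
      intro m hm
      obtain ⟨i, rfl⟩ := hKy m hm
      rw [hy1, one_pow]
      exact Subgroup.mem_bot.mpr rfl
    have h1 := Subgroup.card_mul_index K
    rw [hidx, hKbot, Subgroup.card_bot, one_mul] at h1
    exact h1.symm
  · right
    haveI : Fact (Nat.Prime 3) := ⟨Nat.prime_three⟩
    have hord : orderOf y = 3 := orderOf_eq_prime hy3 hy1
    have hKeq : K = Subgroup.zpowers y := by
      refine le_antisymm ?_ (Subgroup.zpowers_le.mpr hyK)
      intro m hm
      obtain ⟨i, rfl⟩ := hKy m hm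
      exact Subgroup.pow_mem _ (Subgroup.mem_zpowers y) i
    have hcardK : Nat.card K = 3 := by rw [hKeq, Nat.card_zpowers, hord]
    have hcardG : Nat.card G = 2 * 3 := by
      rw [← Subgroup.card_mul_index K, hcardK, hidx]
    obtain ⟨x₀, hx₀⟩ : ∃ x₀ : G, x₀ ∉ K := by
      by_contra hcon
      push_neg at hcon
      have : K = ⊤ := by rw [eq_top_iff]; intro g _; exact hcon g
      rw [this, Subgroup.index_top] at hidx
      omega
    obtain ⟨s, ⟨a, ha⟩, hs⟩ := exists_ppart K Nat.prime_two x₀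
      (by rw [hK]; exact sq_mem_commutator hC x₀)
    obtain ⟨x, hx⟩ : ∃ x : G, x = x₀ ^ s := ⟨_, rfl⟩
    rw [← hx] at ha hs
    have hxK : x ∉ K := by
      intro hcon
      apply hx₀
      have := K.mul_mem hcon (K.inv_mem hs)
      have h2 : x * (x₀⁻¹ * x)⁻¹ = x₀ := by group
      rwa [h2] at this
    have hx2 : x * x = 1 := by
      have hx2K : x ^ 2 ∈ K := by rw [hK]; exact sq_mem_commutator hC x
      obtain ⟨i, hi⟩ := hKy _ hx2K
      have h3 : (x ^ 2) ^ 3 = 1 := by rw [hi, ← pow_mul, mul_comm, pow_mul, hy3, one_pow]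
      have hdvd2 : orderOf (x ^ 2) ∣ 2 ^ a := by rw [← ha]; exact orderOf_pow_dvd 2
      have hdvd3 : orderOf (x ^ 2) ∣ 3 := orderOf_dvd_of_pow_eq_one h3
      have h4 : orderOf (x ^ 2) ∣ Nat.gcd (2 ^ a) 3 := Nat.dvd_gcd hdvd2 hdvd3
      have hg : Nat.gcd (2 ^ a) 3 = 1 := Nat.Coprime.pow_left a (by norm_num)
      rw [hg, Nat.dvd_one, orderOf_eq_one_iff] at h4
      rw [← pow_two]
      exact h4
    have hxinv : x⁻¹ = x := inv_eq_of_mul_eq_one_right hx2
    have hxy : x * y * x = y⁻¹ := by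
      obtain ⟨c, hc⟩ := isConj_iff.mp (hC y (y ^ 2) (Nat.Coprime.orderOf_pow hodd).symm)
      have hcK : c ∉ K := by
        intro hcK
        rw [hcommy c hcK] at hc
        apply hy1
        have : y * 1 = y * y := by rw [mul_one, ← pow_two]; exact hc
        exact (mul_left_cancel this).symm
      have hc' : x⁻¹ * c ∈ K := by
        rw [Subgroup.mul_mem_iff_of_index_two hidx]
        constructor
        · intro h; exact absurd ((Subgroup.inv_mem_iff _).mp h) hxK
        · intro h; exact absurd h hcK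
      have h1 := hcommy _ hc'
      have h2 : x * y * x⁻¹ = c * y * c⁻¹ := by
        have : c * y * c⁻¹ = x * (x⁻¹ * c * y * (x⁻¹ * c)⁻¹) * x⁻¹ := by group
        rw [this, h1]
      rw [hxinv] at h2
      rw [h2, hc, eq_inv_iff_mul_eq_one, ← pow_succ]
      exact hy3
    have hxz : x ∉ Subgroup.zpowers y := by rw [← hKeq]; exact hxK
    obtain ⟨e1⟩ := Cfsg.Agent.Helper11.nonempty_mulEquiv_dihedralGroup 3 hcardG y x hord hx2 hxy hxz
    obtain ⟨e2⟩ := Cfsg.Agent.Helper3.dihedral3_equiv_perm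
    exact ⟨e1.trans e2⟩

end Cfsg.Agent.Helper16.OrderConj
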