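import Mathlib

/-!
# Averaging operators for elements of order `p` acting on a module over `ZMod q`
-/

set_option autoImplicit false

namespace Cfsg.Agent.Helper16.PImprim

variable {q : ℕ} [hq : Fact q.Prime] {V : Type*} [AddCommGroup V] [Module (ZMod q) V]
  {G : Type*} [Group G] (ρ : G →* (V ≃ₗ[ZMod q] V)) (p : ℕ) [hp : Fact p.Prime]

/-- the fixed space of a single element -/
def fixSub (u : G) : Submodule (ZMod q) V :=
  LinearMap.eqLocus ((ρ u : V ≃ₗ[ZMod q] V) : V →ₗ[ZMod q] V) LinearMap.id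

theorem mem_fixSub {u : G} {v : V} : v ∈ fixSub ρ u ↔ ρ u v = v := by
  unfold fixSub
  rw [LinearMap.mem_eqLocus]
  rfl

/-- the sum of the powers of `u` -/
def trc (u : G) : V →ₗ[ZMod q] V :=
  ∑ a : ZMod p, ((ρ (u ^ a.val) : V ≃ₗ[ZMod q] V) : V →ₗ[ZMod q] V)

theorem trc_apply (u : G) (v : V) : trc ρ p u v = ∑ a : ZMod p, ρ (u ^ a.val) v := by
  unfold trc
  rw [LinearMap.sum_apply]
  rfl

variable {ρ p}

theorem pow_val_add_one {u : G} (hu : u ^ p = 1) (a : ZMod p) :
    u ^ (a + 1).val = u * u ^ a.val := by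
  have : Fact (1 < p) := ⟨hp.out.one_lt⟩
  rw [ZMod.val_add, ← pow_eq_pow_mod _ hu, pow_add, ZMod.val_one, pow_one]
  exact ((Commute.refl u).pow_left a.val).eq

theorem pow_val_add {u : G} (hu : u ^ p = 1) (a b : ZMod p) :
    u ^ (a + b).val = u ^ a.val * u ^ b.val := by
  rw [ZMod.val_add, ← pow_eq_pow_mod _ hu, pow_add]

theorem rho_mul (a b : G) (v : V) : ρ (a * b) v = ρ a (ρ b v) := by
  rw [map_mul]; rfl

theorem rho_one (v : V) : ρ (1 : G) v = v := by
  rw [map_one]; rfl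

theorem rho_pow_fixed {u : G} {v : V} (hv : ρ u v = v) (n : ℕ) : ρ (u ^ n) v = v := by
  induction n with
  | zero => simp
  | succ n ih =>
    rw [pow_succ, map_mul]
    change ρ (u ^ n) (ρ u v) = v
    rw [hv, ih]

theorem pow_val_mul {u : G} (hu : u ^ p = 1) (a b : ZMod p) :
    u ^ (a * b).val = (u ^ a.val) ^ b.val := by
  rw [ZMod.val_mul, ← pow_eq_pow_mod _ hu, pow_mul]

theorem rho_trc {u : G} (hu : u ^ p = 1) (v : V) : ρ u (trc ρ p u v) = trc ρ p u v := by
  rw [trc_apply, map_sum]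
  have h1 : ∀ a : ZMod p, ρ u (ρ (u ^ a.val) v) = ρ (u ^ (a + 1).val) v := by
    intro a
    rw [pow_val_add_one hu, map_mul]
    rfl
  rw [Finset.sum_congr rfl (fun a _ => h1 a)]
  exact Equiv.sum_comp (Equiv.addRight (1 : ZMod p)) (fun a => ρ (u ^ a.val) v)

theorem trc_mem_fixSub {u : G} (hu : u ^ p = 1) (v : V) : trc ρ p u v ∈ fixSub ρ u :=
  (mem_fixSub ρ).mpr (rho_trc hu v)

theorem trc_of_fixed {u : G} {v : V} (hv : ρ u v = v) : trc ρ p u v = (p : ZMod q) • v := by
  rw [trc_apply]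
  have h1 : ∀ n : ℕ, ρ (u ^ n) v = v := by
    intro n
    induction n with
    | zero => simp
    | succ n ih =>
      rw [pow_succ, map_mul]
      change ρ (u ^ n) (ρ u v) = v
      rw [hv, ih]
  rw [Finset.sum_congr rfl (fun a _ => h1 a.val), Finset.sum_const, Finset.card_univ, ZMod.card,
    Nat.cast_smul_eq_nsmul]

theorem trc_comm {u g : G} (hg : g * u = u * g) (v : V) :
    ρ g (trc ρ p u v) = trc ρ p u (ρ g v) := by
  rw [trc_apply, trc_apply, map_sum]
  apply Finset.sum_congr rfl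
  intro a _
  have h1 : g * u ^ a.val = u ^ a.val * g := ((show Commute g u from hg).pow_right a.val).eq
  have h2 := congrArg (fun t : G => ρ t v) h1
  simpa [map_mul] using h2

/-- key decomposition: if the trace of `y` vanishes then the traces of `x y^a` sum to `p` -/
theorem sum_trc {x y : G} (_hx : x ^ p = 1) (hy : y ^ p = 1) (hxy : x * y = y * x)
    (hY : ∀ v : V, trc ρ p y v = 0) (v : V) :
    ∑ a : ZMod p, trc ρ p (x * y ^ a.val) v = (p : ZMod q) • v := by
  have hcomm : Commute x y := hxy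
  have h1 : ∀ a b : ZMod p, ρ ((x * y ^ a.val) ^ b.val) v =
      ρ (x ^ b.val) (ρ (y ^ (a * b).val) v) := by
    intro a b
    rw [(hcomm.pow_right a.val).mul_pow, pow_val_mul hy, map_mul]
    rfl
  simp_rw [trc_apply, h1]
  rw [Finset.sum_comm]
  have h2 : ∀ b : ZMod p, ∑ a : ZMod p, ρ (x ^ b.val) (ρ (y ^ (a * b).val) v) =
      if b = 0 then (p : ZMod q) • v else 0 := by
    intro b
    split_ifs with hb
    · subst hb
      simp only [mul_zero, ZMod.val_zero, pow_zero, map_one]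
      rw [Finset.sum_const, Finset.card_univ, ZMod.card, Nat.cast_smul_eq_nsmul]
      rfl
    · rw [← map_sum]
      have : ∑ a : ZMod p, ρ (y ^ (a * b).val) v = ∑ a : ZMod p, ρ (y ^ a.val) v :=
        Equiv.sum_comp (Equiv.mulRight₀ b hb) (fun a => ρ (y ^ a.val) v)
      rw [this, ← trc_apply, hY, map_zero]
  rw [Finset.sum_congr rfl (fun b _ => h2 b), Finset.sum_ite_eq' Finset.univ (0 : ZMod p),
    if_pos (Finset.mem_univ _)]

end Cfsg.Agent.Helper16.PImprim
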