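import Mathlib
import Cfsg.Agent.Helper16.PImprim2

/-!
# Imprimitivity decomposition from a normal elementary abelian subgroup of order `p²`
-/

set_option autoImplicit false

namespace Cfsg.Agent.Helper16.PImprim

variable {q : ℕ} [hq : Fact q.Prime] {V : Type*} [AddCommGroup V] [Module (ZMod q) V]
  {G : Type*} [Group G] {ρ : G →* (V ≃ₗ[ZMod q] V)} {p : ℕ} [hp : Fact p.Prime]

theorem map_fixSub (g u : G) :
    (fixSub ρ u).map ((ρ g : V ≃ₗ[ZMod q] V) : V →ₗ[ZMod q] V) = fixSub ρ (g * u * g⁻¹) := by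
  ext v
  rw [Submodule.mem_map, mem_fixSub]
  constructor
  · rintro ⟨w, hw, rfl⟩
    rw [mem_fixSub] at hw
    rw [LinearEquiv.coe_coe, ← rho_mul, inv_mul_cancel_right, rho_mul, hw]
  · intro hv
    refine ⟨ρ g⁻¹ v, ?_, ?_⟩
    · rw [mem_fixSub]
      nth_rewrite 2 [← hv]
      rw [← rho_mul, ← rho_mul]
      congr 2
      group
    · rw [LinearEquiv.coe_coe, ← rho_mul, mul_inv_cancel, rho_one]

theorem eq_one_of_fixSub_eq_top (hρ : Function.Injective ρ) {u : G} (h : fixSub ρ u = ⊤) :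
    u = 1 := by
  apply hρ
  rw [map_one]
  ext v
  have : v ∈ fixSub ρ u := h ▸ Submodule.mem_top
  exact (mem_fixSub ρ).mp this

theorem fixSub_central_eq_bot (hρ : Function.Injective ρ)
    (hirr : ∀ W : Submodule (ZMod q) V, (∀ g : G, ∀ w ∈ W, ρ g w ∈ W) → W = ⊥ ∨ W = ⊤)
    {y : G} (hy1 : y ≠ 1) (hyc : ∀ g : G, g * y = y * g) : fixSub ρ y = ⊥ := by
  have hinv : ∀ g : G, ∀ w ∈ fixSub ρ y, ρ g w ∈ fixSub ρ y := by
    intro g w hw
    rw [mem_fixSub] at hw ⊢
    rw [← rho_mul, ← hyc g, rho_mul, hw]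
  rcases hirr (fixSub ρ y) hinv with h | h
  · exact h
  · exact absurd (eq_one_of_fixSub_eq_top hρ h) hy1

theorem fixed_of_two {x y : G} (hy : y ^ p = 1) {a b : ZMod p} (hab : a ≠ b) {t : V}
    (ha : ρ (x * y ^ a.val) t = t) (hb : ρ (x * y ^ b.val) t = t) : ρ y t = t := by
  have h1 : ρ (y ^ a.val) t = ρ (y ^ b.val) t := by
    apply (ρ x).injective
    rw [← rho_mul, ← rho_mul, ha, hb]
  have hd0 : b - a ≠ 0 := sub_ne_zero.mpr (Ne.symm hab)
  have h2 : y ^ b.val = y ^ a.val * y ^ (b - a).val := by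
    rw [← pow_val_add hy]
    congr 2
    ring
  rw [h2, rho_mul] at h1
  have h3 : ρ (y ^ (b - a).val) t = t := ((ρ (y ^ a.val)).injective h1).symm
  have h4 := rho_pow_fixed h3 ((b - a)⁻¹).val
  have : Fact (1 < p) := ⟨hp.out.one_lt⟩
  rw [← pow_val_mul hy, mul_inv_cancel₀ hd0, ZMod.val_one, pow_one] at h4
  exact h4

omit hp in
theorem mul_pow_val_pow {x y : G} (hx : x ^ p = 1) (hy : y ^ p = 1) (hxy : x * y = y * x)
    (a : ZMod p) : (x * y ^ a.val) ^ p = 1 := by
  have hc : Commute x y := hxy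
  rw [(hc.pow_right a.val).mul_pow, hx, ← pow_mul, mul_comm, pow_mul, hy, one_pow, one_mul]

theorem commute_mul_pow {x y : G} (hxy : x * y = y * x) (m n : ℕ) :
    Commute (x * y ^ m) (x * y ^ n) := by
  have hc : Commute x y := hxy
  exact ((Commute.refl x).mul_right (hc.pow_right n)).mul_left
    ((hc.symm.pow_left m).mul_right ((Commute.refl y).pow_pow m n))

theorem conj_mul_central {g x z : G} (hz : g⁻¹ * z = z * g⁻¹) :
    g * (x * z) * g⁻¹ = g * x * g⁻¹ * z := by
  rw [mul_assoc (g * x) g⁻¹, hz]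
  simp only [mul_assoc]

theorem main [Finite V] [Nontrivial V] [Finite G] (hG : IsPGroup p G)
    (hρ : Function.Injective ρ)
    (hirr : ∀ W : Submodule (ZMod q) V, (∀ g : G, ∀ w ∈ W, ρ g w ∈ W) → W = ⊥ ∨ W = ⊤)
    {x y : G} (hx : x ^ p = 1) (hy : y ^ p = 1) (hy1 : y ≠ 1) (hyc : ∀ g : G, g * y = y * g)
    (hk : ∀ g : G, ∃ k : ℕ, g * x * g⁻¹ = x * y ^ k) (hxy : x ∉ Subgroup.zpowers y) :
    ∃ (H : Subgroup G) (W : Fin p → Submodule (ZMod q) V), H.index = p ∧
      iSup W = ⊤ ∧ iSupIndep W ∧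
      (∀ h ∈ H, ∀ i, ∀ w ∈ W i, ρ h w ∈ W i) ∧
      (∀ i, ∃ h ∈ H, h ≠ 1 ∧ ∀ w ∈ W i, ρ h w = w) ∧
      ∀ g : G, g ∉ H → ∃ σ : Equiv.Perm (Fin p), orderOf σ = p ∧
        ∀ i, (W i).map ((ρ g : V ≃ₗ[ZMod q] V) : V →ₗ[ZMod q] V) = W (σ i) := by
  have hp1 : Fact (1 < p) := ⟨hp.out.one_lt⟩
  have hFy : fixSub ρ y = ⊥ := fixSub_central_eq_bot hρ hirr hy1 hyc
  have hyo : orderOf y = p := orderOf_eq_prime hy hy1
  have hyinj : ∀ c c' : ZMod p, y ^ c.val = y ^ c'.val → c = c' := by
    intro c c' h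
    have h1 := (pow_eq_pow_iff_modEq).mp h
    rw [hyo] at h1
    apply ZMod.val_injective p
    exact Nat.ModEq.eq_of_lt_of_lt h1 (ZMod.val_lt c) (ZMod.val_lt c')
  -- the characteristic is not p
  have hpq : (p : ZMod q) ≠ 0 := by
    intro h0
    have hqp : q ∣ p := (ZMod.natCast_eq_zero_iff p q).mp h0
    have hqp' : q = p := (Nat.prime_dvd_prime_iff_eq hq.out hp.out).mp hqp
    let _ : MulAction G V := MulAction.compHom V ρ
    have h1 := hG.card_modEq_card_fixedPoints V
    have h2 : Nat.card (MulAction.fixedPoints G V) = 1 := by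
      rw [Nat.card_eq_one_iff_unique]
      refine ⟨⟨?_⟩, ⟨⟨0, ?_⟩⟩⟩
      · rintro ⟨a, ha⟩ ⟨b, hb⟩
        have hfix : ∀ v : V, v ∈ MulAction.fixedPoints G V → v = 0 := by
          intro v hv
          have h3 : ρ y v = v := hv y
          have h4 : v ∈ fixSub ρ y := (mem_fixSub ρ).mpr h3
          rw [hFy] at h4
          exact (Submodule.mem_bot _).mp h4
        exact Subtype.ext ((hfix a ha).trans (hfix b hb).symm)
      · intro g
        change ρ g 0 = 0
        exact map_zero _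
    rw [h2] at h1
    have h3 : p ∣ Nat.card V := by
      have : Module.Finite (ZMod q) V := Module.Finite.of_finite
      have hpq' : p ∣ q := by rw [hqp']
      rw [Module.natCard_eq_pow_finrank (K := ZMod q) (V := V), Nat.card_zmod]
      exact dvd_pow hpq' (Module.finrank_pos (R := ZMod q) (M := V)).ne'
    have h4 : p ∣ 1 := (Nat.modEq_zero_iff_dvd.mp ((h1.symm.trans (Nat.modEq_zero_iff_dvd.mpr h3))))
    exact hp.out.one_lt.ne' (Nat.dvd_one.mp h4)
  have hY : ∀ v : V, trc ρ p y v = 0 := by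
    intro v
    have h1 := trc_mem_fixSub (ρ := ρ) hy v
    rw [hFy] at h1
    exact (Submodule.mem_bot _).mp h1
  -- the conjugation exponent
  have hk' : ∀ g : G, ∃ c : ZMod p, g * x * g⁻¹ = x * y ^ c.val := by
    intro g
    obtain ⟨k, hk⟩ := hk g
    refine ⟨(k : ZMod p), ?_⟩
    rw [hk, ZMod.val_natCast, ← pow_eq_pow_mod _ hy]
  choose κ hκ using hk'
  have hyc' : ∀ (g : G) (n : ℕ), g * y ^ n = y ^ n * g := fun g n =>
    ((show Commute g y from hyc g).pow_right n).eq
  have hκmul : ∀ g h : G, κ (g * h) = κ g + κ h := by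
    intro g h
    apply hyinj
    have h1 := hκ (g * h)
    have h2 : g * h * x * (g * h)⁻¹ = g * (h * x * h⁻¹) * g⁻¹ := by group
    rw [h2, hκ h] at h1
    have h3 : g * (x * y ^ (κ h).val) * g⁻¹ = g * x * g⁻¹ * y ^ (κ h).val :=
      conj_mul_central (hyc' g⁻¹ _)
    rw [h3, hκ g, mul_assoc, ← pow_val_add hy] at h1
    exact (mul_left_cancel h1).symm
  have hκone : κ 1 = 0 := by
    have := hκmul 1 1
    rw [mul_one] at this
    exact left_eq_add.mp this
  let f : G →* Multiplicative (ZMod p) :=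
    { toFun := fun g => Multiplicative.ofAdd (κ g)
      map_one' := by rw [hκone]; rfl
      map_mul' := fun g h => by rw [hκmul]; rfl }
  have hfker : ∀ g : G, g ∈ f.ker ↔ κ g = 0 := by
    intro g
    rw [MonoidHom.mem_ker]
    exact Iff.rfl
  have hxa : ∀ a : ZMod p, (x * y ^ a.val) ^ p = 1 := mul_pow_val_pow hx hy (hyc x)
  -- the components
  set W : ZMod p → Submodule (ZMod q) V := fun a => fixSub ρ (x * y ^ a.val) with hW
  have hmap : ∀ (g : G) (a : ZMod p),
      (W a).map ((ρ g : V ≃ₗ[ZMod q] V) : V →ₗ[ZMod q] V) = W (a + κ g) := by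
    intro g a
    change (fixSub ρ (x * y ^ a.val)).map _ = fixSub ρ (x * y ^ (a + κ g).val)
    rw [map_fixSub]
    congr 1
    have h3 : g * (x * y ^ a.val) * g⁻¹ = g * x * g⁻¹ * y ^ a.val :=
      conj_mul_central (hyc' g⁻¹ _)
    rw [h3, hκ g, mul_assoc, ← pow_val_add hy, add_comm]
  have hsup : iSup W = ⊤ := by
    rw [eq_top_iff]
    intro v _
    have h1 := sum_trc (ρ := ρ) hx hy (hyc x) hY v
    have h2 : (p : ZMod q) • v ∈ iSup W := by
      rw [← h1]
      apply Submodule.sum_mem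
      intro a _
      exact Submodule.mem_iSup_of_mem a (trc_mem_fixSub (hxa a) v)
    have := Submodule.smul_mem _ ((p : ZMod q)⁻¹) h2
    rwa [smul_smul, inv_mul_cancel₀ hpq, one_smul] at this
  have hind : iSupIndep W := by
    rw [iSupIndep_def]
    intro a
    rw [Submodule.disjoint_def]
    intro v hva hvb
    have hT1 : trc ρ p (x * y ^ a.val) v = (p : ZMod q) • v :=
      trc_of_fixed ((mem_fixSub ρ).mp hva)
    have hT2 : (⨆ b, ⨆ (_ : b ≠ a), W b) ≤ LinearMap.ker (trc ρ p (x * y ^ a.val)) := by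
      apply iSup_le
      intro b
      apply iSup_le
      intro hb w hw
      rw [LinearMap.mem_ker]
      have h1 : ρ (x * y ^ a.val) (trc ρ p (x * y ^ a.val) w) = trc ρ p (x * y ^ a.val) w :=
        rho_trc (hxa a) w
      have h2 : ρ (x * y ^ b.val) (trc ρ p (x * y ^ a.val) w) = trc ρ p (x * y ^ a.val) w := by
        rw [trc_comm (commute_mul_pow (hyc x) b.val a.val).eq, (mem_fixSub ρ).mp hw]
      have h3 := fixed_of_two hy hb.symm h1 h2
      have h4 : trc ρ p (x * y ^ a.val) w ∈ fixSub ρ y := (mem_fixSub ρ).mpr h3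
      rw [hFy] at h4
      exact (Submodule.mem_bot _).mp h4
    have h5 := hT2 hvb
    rw [LinearMap.mem_ker, hT1] at h5
    exact (smul_eq_zero.mp h5).resolve_left hpq
  have hxne : ∀ a : ZMod p, x * y ^ a.val ≠ 1 := by
    intro a h
    apply hxy
    rw [mul_eq_one_iff_eq_inv] at h
    rw [h]
    exact Subgroup.inv_mem _ (Subgroup.pow_mem _ (Subgroup.mem_zpowers y) _)
  -- x is not central
  have hnc : ∃ g : G, κ g ≠ 0 := by
    by_contra hcon
    push Not at hcon
    have h1 : ∀ a : ZMod p, W a = ⊥ := by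
      intro a
      have hinv : ∀ g : G, ∀ w ∈ W a, ρ g w ∈ W a := by
        intro g w hw
        have h2 := hmap g a
        rw [hcon g, add_zero] at h2
        rw [← h2]
        exact Submodule.mem_map_of_mem hw
      rcases hirr (W a) hinv with h | h
      · exact h
      · exact absurd (eq_one_of_fixSub_eq_top hρ h) (hxne a)
    have h2 : iSup W = ⊥ := by
      rw [iSup_eq_bot]
      exact h1
    rw [h2] at hsup
    exact bot_ne_top hsup
  have hindex : f.ker.index = p := by
    rw [Subgroup.index_ker]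
    have h1 : Nat.card f.range ∣ p := by
      have := Subgroup.card_subgroup_dvd_card f.range
      rwa [Nat.card_congr Multiplicative.toAdd, Nat.card_zmod] at this
    rcases (Nat.dvd_prime hp.out).mp h1 with h | h
    · exfalso
      obtain ⟨g, hg⟩ := hnc
      have h2 : f.range = ⊥ := Subgroup.card_eq_one.mp h
      have h3 : f g ∈ f.range := ⟨g, rfl⟩
      rw [h2, Subgroup.mem_bot] at h3
      exact hg h3
    · exact h
  have hpz : NeZero p := ⟨hp.out.ne_zero⟩
  let e : Fin p ≃ ZMod p := (ZMod.finEquiv p).toEquiv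
  refine ⟨f.ker, fun i => W (e i), hindex, ?_, ?_, ?_, ?_, ?_⟩
  · rw [← hsup]
    exact e.iSup_comp (g := W)
  · exact hind.comp e.injective
  · intro h hh i w hw
    have h2 := hmap h (e i)
    rw [(hfker h).mp hh, add_zero] at h2
    change (ρ h) w ∈ W (e i)
    rw [← h2]
    exact Submodule.mem_map_of_mem hw
  · intro i
    refine ⟨x * y ^ (e i).val, ?_, hxne _, fun w hw => (mem_fixSub ρ).mp hw⟩
    rw [hfker]
    apply hyinj
    have h1 := hκ (x * y ^ (e i).val)
    have h2 : x * y ^ (e i).val * x * (x * y ^ (e i).val)⁻¹ = x := by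
      have hc : Commute (x * y ^ (e i).val) x := by
        have := commute_mul_pow (hyc x) (e i).val 0
        rwa [pow_zero, mul_one] at this
      rw [hc.eq, mul_inv_cancel_right]
    rw [h2] at h1
    rw [ZMod.val_zero, pow_zero]
    exact (mul_eq_left.mp h1.symm)
  · intro g hg
    rw [hfker] at hg
    refine ⟨(e.symm.permCongrHom (Equiv.addRight (κ g))), ?_, ?_⟩
    · rw [MulEquiv.orderOf_eq]
      apply orderOf_eq_prime
      · rw [Equiv.nsmul_addRight, nsmul_eq_mul, ZMod.natCast_self, zero_mul, Equiv.addRight_zero]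
      · intro h
        have := congrArg (fun τ : Equiv.Perm (ZMod p) => τ 0) h
        simp at this
        exact hg this
    · intro i
      rw [hmap]
      congr 1
      simp [Equiv.permCongrHom]

end Cfsg.Agent.Helper16.PImprim
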