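import Mathlib
import Cfsg.Agent.Helper25.FusionPrimeIndex
import Cfsg.Agent.Helper25.FusionAlperin2

set_option autoImplicit false

/-! Definitions for S5140 (existence of the `p'`-residual subsystem `O^{p'}(F)`). -/

namespace Cfsg.Agent.Helper16.PR

open Cfsg Cfsg.FusionSystem Cfsg.Agent.Helper25

variable {Ω : Type*} [Group Ω] {S : Subgroup Ω}

/-- The intersection of a family of fusion systems over `S` containing `F₀`. -/
def infSystem (𝒟 : Set (FusionSystem S)) (F₀ : FusionSystem S) (h₀ : F₀ ∈ 𝒟) : FusionSystem S where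
  Hom P := {φ | ∀ D ∈ 𝒟, φ ∈ D.Hom P}
  le_of_mem := fun h => F₀.le_of_mem (h F₀ h₀)
  injective_of_mem := fun h => F₀.injective_of_mem (h F₀ h₀)
  conj_mem := fun hP hg D _ => D.conj_mem hP hg
  comp_mem := fun hφ hψ h D hD => D.comp_mem (hφ D hD) (hψ D hD) h
  inv_mem := by
    intro P φ hφ
    obtain ⟨ψ, hψ, hinv⟩ := F₀.inv_mem (hφ F₀ h₀)
    refine ⟨ψ, fun D hD => ?_, hinv⟩
    obtain ⟨ψ', hψ', hinv'⟩ := D.inv_mem (hφ D hD)
    have : ψ = ψ' := by
      ext ⟨_, x, rfl⟩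
      rw [hinv x, hinv' x]
    rw [this]
    exact hψ'

theorem mem_infSystem {𝒟 : Set (FusionSystem S)} {F₀ : FusionSystem S} {h₀ : F₀ ∈ 𝒟}
    {P : Subgroup Ω} {φ : P →* Ω} :
    φ ∈ (infSystem 𝒟 F₀ h₀).Hom P ↔ ∀ D ∈ 𝒟, φ ∈ D.Hom P := Iff.rfl

theorem infSystem_le {𝒟 : Set (FusionSystem S)} {F₀ : FusionSystem S} (h₀ : F₀ ∈ 𝒟)
    {D : FusionSystem S} (hD : D ∈ 𝒟) : infSystem 𝒟 F₀ h₀ ≤ D := fun _ _ h => h D hD

/-- The restrictions of the elements of a group `B` of automorphisms of `S` containing the inner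
automorphisms form a fusion system over `S`. -/
def resSystem (B : Subgroup (MulAut S)) (hB : ∀ s : S, MulAut.conj s ∈ B) : FusionSystem S where
  Hom P := {φ | ∃ hPS : P ≤ S, ∃ β ∈ B, ∀ x : P, φ x = ((β ⟨x, hPS x.2⟩ : S) : Ω)}
  le_of_mem := by
    rintro P φ ⟨hPS, β, -, h⟩
    exact ⟨hPS, fun x => by rw [h x]; exact (β _).2⟩
  injective_of_mem := by
    rintro P φ ⟨hPS, β, -, h⟩ x y hxy
    rw [h x, h y] at hxy
    have := β.injective (Subtype.ext hxy)
    exact Subtype.ext (congrArg (fun z : S => (z : Ω)) this)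
  conj_mem := by
    intro P g hP hg
    exact ⟨hP, MulAut.conj ⟨g, hg⟩, hB _, fun x => rfl⟩
  comp_mem := by
    rintro P Q φ ψ ⟨hPS, β, hβ, h⟩ ⟨hQS, γ, hγ, h'⟩ hval
    refine ⟨hPS, γ * β, B.mul_mem hγ hβ, fun x => ?_⟩
    show ψ ⟨φ x, hval x⟩ = _
    rw [h', MulAut.mul_apply]
    congr 2
    exact Subtype.ext (h x)
  inv_mem := by
    rintro P φ ⟨hPS, β, hβ, h⟩
    have hrS : φ.range ≤ S := by
      rintro _ ⟨x, rfl⟩
      rw [h x]
      exact (β _).2
    refine ⟨(S.subtype.comp β⁻¹.toMonoidHom).comp (Subgroup.inclusion hrS),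
      ⟨hrS, β⁻¹, B.inv_mem hβ, fun x => rfl⟩, ?_⟩
    intro x
    show ((β⁻¹ ⟨φ x, _⟩ : S) : Ω) = x
    have : (⟨φ x, hrS ⟨x, rfl⟩⟩ : S) = β ⟨x, hPS x.2⟩ := Subtype.ext (h x)
    rw [this, MulAut.inv_apply_self]

theorem mem_resSystem {B : Subgroup (MulAut S)} {hB : ∀ s : S, MulAut.conj s ∈ B}
    {P : Subgroup Ω} {φ : P →* Ω} :
    φ ∈ (resSystem B hB).Hom P ↔
      ∃ hPS : P ≤ S, ∃ β ∈ B, ∀ x : P, φ x = ((β ⟨x, hPS x.2⟩ : S) : Ω) := Iff.rfl

theorem resSystem_autGroup (B : Subgroup (MulAut S)) (hB : ∀ s : S, MulAut.conj s ∈ B) :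
    (resSystem B hB).autGroup S = B := by
  ext α
  rw [mem_autGroup_iff _ le_rfl]
  constructor
  · rintro ⟨_, β, hβ, h⟩
    have : α = β := by
      apply MulEquiv.ext
      intro x
      exact Subtype.ext (h x)
    rw [this]
    exact hβ
  · intro hα
    exact ⟨le_rfl, α, hα, fun x => rfl⟩

/-- `D` contains `O^{p'}(Aut_F(P))` for all `F`-centric `P`. -/
def HasGen (F : FusionSystem S) (p : ℕ) (D : FusionSystem S) : Prop :=
  ∀ P : Subgroup Ω, F.IsCentric P → pGenAut F p P ≤ D.autGroup P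

theorem hasGen_self (F : FusionSystem S) (p : ℕ) : HasGen F p F :=
  fun P _ => pGenAut_le_autGroup F p P

/-- The family of subsystems of `F` over `S` containing `O^{p'}(Aut_F(P))` for centric `P`. -/
def genFam (F : FusionSystem S) (p : ℕ) : Set (FusionSystem S) := {D | D ≤ F ∧ HasGen F p D}

theorem self_mem_genFam (F : FusionSystem S) (p : ℕ) : F ∈ genFam F p :=
  ⟨fun _ _ h => h, hasGen_self F p⟩

/-- `E₀`: the `Aut_F(S)`-core of the smallest subsystem of `F` containing `O^{p'}(Aut_F(P))` for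
all centric `P`. -/
def E0 (F : FusionSystem S) (p : ℕ) : FusionSystem S :=
  coreSystem F (infSystem (genFam F p) F (self_mem_genFam F p))

theorem hasGen_inf (F : FusionSystem S) (p : ℕ) :
    HasGen F p (infSystem (genFam F p) F (self_mem_genFam F p)) := by
  intro P hP γ hγ
  rw [mem_autGroup_iff _ hP.1]
  intro D hD
  exact (mem_autGroup_iff D hP.1 γ).mp (hD.2 P hP hγ)

theorem hasGen_E0 (F : FusionSystem S) (p : ℕ) : HasGen F p (E0 F p) :=
  fun _ hP => pGenAut_le_core p F _ (hasGen_inf F p) hP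

theorem E0_le_of_mem (F : FusionSystem S) (p : ℕ) {D : FusionSystem S} (hD : D ∈ genFam F p) :
    E0 F p ≤ D := fun P _ h =>
  infSystem_le (self_mem_genFam F p) hD P (coreSystem_isSubsystemOf F _ P h)

theorem E0_le (F : FusionSystem S) (p : ℕ) : E0 F p ≤ F := E0_le_of_mem F p (self_mem_genFam F p)

theorem invCond_E0 (F : FusionSystem S) (p : ℕ) : InvCond (E0 F p) F := coreSystem_invCond F _

/-- The generators of `Aut⁰_F(S)`: automorphisms of `S` in `F` whose restriction to some centric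
subgroup is a map of `E₀`. -/
def aut0Gen (F : FusionSystem S) (p : ℕ) : Set (MulAut S) :=
  {β | β ∈ F.autGroup S ∧ ∃ (A : Subgroup Ω) (hAS : A ≤ S), F.IsCentric A ∧
    (autHom β).comp (Subgroup.inclusion hAS) ∈ (E0 F p).Hom A}

/-- `Aut⁰_F(S)`. -/
def aut0 (F : FusionSystem S) (p : ℕ) : Subgroup (MulAut S) := Subgroup.closure (aut0Gen F p)

theorem aut0_le (F : FusionSystem S) (p : ℕ) : aut0 F p ≤ F.autGroup S := by
  unfold aut0
  rw [Subgroup.closure_le]
  exact fun β hβ => hβ.1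

theorem isCentric_top [Finite S] (F : FusionSystem S) : F.IsCentric S := by
  refine ⟨le_rfl, ?_⟩
  rintro Q ⟨φ, hφ, rfl⟩
  rw [range_eq_of_hom_top F hφ]
  exact inf_le_left

theorem conj_mem_aut0 [Finite S] (F : FusionSystem S) (p : ℕ) (s : S) :
    MulAut.conj s ∈ aut0 F p := by
  apply Subgroup.subset_closure
  have h1 : autHom (MulAut.conj s) = conjHom S (s : Ω) := by
    ext x
    rfl
  refine ⟨?_, S, le_rfl, isCentric_top F, ?_⟩
  · rw [mem_autGroup_iff F le_rfl, h1]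
    exact F.conj_mem le_rfl s.2
  · have h2 : (autHom (MulAut.conj s)).comp (Subgroup.inclusion (le_refl S)) =
        conjHom S (s : Ω) := by
      ext x
      rfl
    rw [h2]
    exact (E0 F p).conj_mem le_rfl s.2

/-- The system of restrictions of elements of `Aut⁰_F(S)`. -/
def FB [Finite S] (F : FusionSystem S) (p : ℕ) : FusionSystem S :=
  resSystem (aut0 F p) (conj_mem_aut0 F p)

theorem FB_autGroup [Finite S] (F : FusionSystem S) (p : ℕ) : (FB F p).autGroup S = aut0 F p :=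
  resSystem_autGroup _ _

theorem invCond_E0_FB [Finite S] (F : FusionSystem S) (p : ℕ) : InvCond (E0 F p) (FB F p) := by
  intro P hPT φ hφ α hα
  rw [FB_autGroup] at hα
  exact invCond_E0 F p P hPT φ hφ α (aut0_le F p hα)

/-- The candidate for `O^{p'}(F)`: the maps `γ ∘ ε` with `γ ∈ Aut⁰_F(S)` and `ε` a map of `E₀`. -/
def EE [Finite S] (F : FusionSystem S) (p : ℕ) : FusionSystem S :=
  decSystem (FB F p) (E0 F p) (invCond_E0_FB F p)

theorem mem_EE [Finite S] (F : FusionSystem S) (p : ℕ) {P : Subgroup Ω} {φ : P →* Ω} :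
    φ ∈ (EE F p).Hom P ↔ P ≤ S ∧ ∃ γ ∈ aut0 F p, ∃ ε ∈ (E0 F p).Hom P,
      ∀ (x : P) (hx : ε x ∈ S), φ x = ((γ ⟨ε x, hx⟩ : S) : Ω) := by
  show (P ≤ S ∧ ∃ α ∈ (FB F p).autGroup S, ∃ φ₀ ∈ (E0 F p).Hom P, _) ↔ _
  rw [FB_autGroup]

end Cfsg.Agent.Helper16.PR
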