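import Mathlib
import Cfsg.Agent.Helper16.PRDefs
import Cfsg.Agent.Helper26.FusionCentric

set_option autoImplicit false

/-! Basic facts on the candidate `EE F p` for `O^{p'}(F)` (S5140). -/

namespace Cfsg.Agent.Helper16.PR

open Cfsg Cfsg.FusionSystem Cfsg.Agent.Helper25 Cfsg.Agent.Helper26

variable {Ω : Type*} [Group Ω] {S : Subgroup Ω}

/-- A map `γ ∘ ε` with `γ ∈ Aut_D(S)` and `ε` a map of `D` is a map of `D`. -/
theorem comp_aut_mem (D : FusionSystem S) {γ : MulAut S} (hγ : γ ∈ D.autGroup S)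
    {P : Subgroup Ω} {ε : P →* Ω} (hε : ε ∈ D.Hom P) {φ : P →* Ω}
    (h : ∀ (x : P) (hx : ε x ∈ S), φ x = ((γ ⟨ε x, hx⟩ : S) : Ω)) : φ ∈ D.Hom P := by
  have hεS := (D.le_of_mem hε).2
  refine comp_mem' D hε ((mem_autGroup_iff D le_rfl γ).mp hγ) hεS (fun x => ?_)
  exact h x (hεS x)

theorem autGroup_mono {D D' : FusionSystem S} (h : D ≤ D') {P : Subgroup Ω} (hPS : P ≤ S) :
    D.autGroup P ≤ D'.autGroup P := by
  intro γ hγ
  rw [mem_autGroup_iff _ hPS] at hγ ⊢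
  exact h P hγ

variable [Finite S]

theorem EE_le_of (F : FusionSystem S) (p : ℕ) (D : FusionSystem S) (h0 : E0 F p ≤ D)
    (h1 : aut0 F p ≤ D.autGroup S) : EE F p ≤ D := by
  intro P φ hφ
  obtain ⟨-, γ, hγ, ε, hε, h⟩ := (mem_EE F p).mp hφ
  exact comp_aut_mem D (h1 hγ) (h0 P hε) h

theorem EE_le (F : FusionSystem S) (p : ℕ) : (EE F p).IsSubsystemOf F :=
  EE_le_of F p F (E0_le F p) (aut0_le F p)

theorem E0_le_EE (F : FusionSystem S) (p : ℕ) : E0 F p ≤ EE F p := by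
  intro P φ hφ
  exact (mem_EE F p).mpr ⟨((E0 F p).le_of_mem hφ).1, 1, Subgroup.one_mem _, φ, hφ, fun x hx => rfl⟩

theorem aut0_le_autGroup_EE (F : FusionSystem S) (p : ℕ) : aut0 F p ≤ (EE F p).autGroup S := by
  intro γ hγ
  rw [mem_autGroup_iff _ le_rfl]
  exact (mem_EE F p).mpr ⟨le_rfl, γ, hγ, S.subtype, subtype_mem _ le_rfl, fun x hx => rfl⟩

theorem hasGen_EE (F : FusionSystem S) (p : ℕ) : HasGen F p (EE F p) :=
  fun P hP => (hasGen_E0 F p P hP).trans (autGroup_mono (E0_le_EE F p) hP.1)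

theorem index_EE (p : ℕ) [Fact p.Prime] (hS : IsPGroup p S) (F : FusionSystem S)
    (hF : F.IsSaturated p) : (EE F p).HasPrimeToPIndexIn F p :=
  ⟨EE_le F p, fun _ hPS => pGenAut_le_of_centric p hS F hF (EE F p) (hasGen_EE F p) hPS⟩

theorem centric_EE (p : ℕ) [Fact p.Prime] (hS : IsPGroup p S) (F : FusionSystem S)
    (hF : F.IsSaturated p) (P : Subgroup Ω) : (EE F p).IsCentric P ↔ F.IsCentric P :=
  isCentric_iff_of_centric p hS F hF (EE F p) (EE_le F p) (hasGen_EE F p) P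

/-- Frattini factorization of the maps of `F` through `E₀`. -/
theorem frattini_E0 (p : ℕ) [Fact p.Prime] (hS : IsPGroup p S) (F : FusionSystem S)
    (hF : F.IsSaturated p) {P : Subgroup Ω} {φ : P →* Ω} (hφ : φ ∈ F.Hom P) :
    ∃ α ∈ F.autGroup S, ∃ φ₀ ∈ (E0 F p).Hom P, ∀ (x : P) (hx : φ₀ x ∈ S),
      φ x = ((α ⟨φ₀ x, hx⟩ : S) : Ω) :=
  exists_aut_comp p hS F hF (E0 F p) (hasGen_E0 F p) hφ

/-- LEAST: `EE F p` lies in every saturated subsystem of index prime to `p`. -/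
theorem least_EE (p : ℕ) [Fact p.Prime] (hS : IsPGroup p S) (F : FusionSystem S)
    (hF : F.IsSaturated p) (D : FusionSystem S) (hD : D.IsSaturated p)
    (hDF : D.HasPrimeToPIndexIn F p) : (EE F p).IsSubsystemOf D := by
  have hle : D ≤ F := hDF.1
  have hmem : D ∈ genFam F p := ⟨hle, fun P hP => hDF.2 P hP.1⟩
  have h0 : E0 F p ≤ D := E0_le_of_mem F p hmem
  refine EE_le_of F p D h0 ?_
  unfold aut0
  rw [Subgroup.closure_le]
  rintro β ⟨hβ, A, hAS, hA, hres⟩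
  rw [SetLike.mem_coe, mem_autGroup_iff D le_rfl]
  exact mem_of_restrict_centric p hS F hF D hD hle ((mem_autGroup_iff F le_rfl β).mp hβ) hAS hA
    (h0 A hres)

end Cfsg.Agent.Helper16.PR
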