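import Mathlib
import Cfsg.Agent.Helper26.PRRECEPT
import Cfsg.Agent.Helper23.PRFATRANS
import Cfsg.Agent.Helper25.FusionKNormSys

set_option autoImplicit false

/-! S5140, piece HSAT. -/

namespace Cfsg.Agent.Helper16.PR

open Cfsg Cfsg.FusionSystem Cfsg.Agent.Helper25 Cfsg.Agent.Helper26

variable {Ω : Type*} [Group Ω] {S : Subgroup Ω} [Finite S]

theorem hsat_EE (p : ℕ) [Fact p.Prime] (hS : IsPGroup p S) (F : FusionSystem S)
    (hF : F.IsSaturated p) {P : Subgroup Ω} (hP : F.IsCentric P) :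
    ∃ Q, (EE F p).IsConj P Q ∧ (EE F p).IsFullyAutomized p Q ∧ (EE F p).IsReceptive Q := by
  obtain ⟨P', ⟨φ, hφ, hr⟩, hFA, -⟩ := hF P hP.1
  obtain ⟨α, hα, φ₀, hφ₀, he⟩ := frattini_E0 p hS F hF hφ
  have hφ₀S := ((E0 F p).le_of_mem hφ₀).2
  have hQS : φ₀.range ≤ S := by
    rintro _ ⟨x, rfl⟩
    exact hφ₀S x
  have hconjF : F.IsConj P φ₀.range := ⟨φ₀, E0_le F p P hφ₀, rfl⟩
  have hQc : F.IsCentric φ₀.range := isCentric_of_isConj F hP hconjF
  refine ⟨φ₀.range, ⟨φ₀, E0_le_EE F p P hφ₀, rfl⟩, ?_, receptive_EE p hS F hF hQc⟩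
  -- `P' = α(Q)`
  have hP' : P' = imgAut α φ₀.range := by
    rw [← hr]
    ext y
    constructor
    · rintro ⟨x, rfl⟩
      rw [he x (hφ₀S x)]
      exact apply_mem_imgAut α hQS ⟨φ₀ x, ⟨x, rfl⟩⟩
    · intro hy
      obtain ⟨⟨_, x, rfl⟩, rfl⟩ := exists_of_mem_imgAut α hQS hy
      exact ⟨x, he x (hφ₀S x)⟩
  have hfinQ : Finite φ₀.range := finite_of_le hQS
  have hfinA : Finite (MulAut φ₀.range) :=
    Finite.of_injective (fun e : MulAut φ₀.range => (e : φ₀.range → φ₀.range))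
      (fun a b h => DFunLike.coe_injective h)
  rw [isFullyAutomized_iff_card (EE F p) p hQS]
  apply le_antisymm (card_autInducedBy_le (EE F p) p hS hQS)
  have h1 : Nat.card ((EE F p).autGroup φ₀.range) ∣ Nat.card (F.autGroup φ₀.range) :=
    Subgroup.card_dvd_of_le (autGroup_mono (EE_le F p) hQS)
  have h2 : pPart p (Nat.card ((EE F p).autGroup φ₀.range)) ≤
      pPart p (Nat.card (F.autGroup φ₀.range)) :=
    pPart_le_of_dvd p Nat.card_pos.ne' Nat.card_pos.ne' h1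
  refine h2.trans ?_
  have hconj' : F.IsConj φ₀.range P' := isConj_trans F (isConj_symm F hconjF) ⟨φ, hφ, hr⟩
  rw [card_autGroup_eq_of_isConj F hconj', ← (isFullyAutomized_iff_card F p hFA.1).mp hFA, hP',
    card_autInducedBy_imgAut α hQS]

end Cfsg.Agent.Helper16.PR
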