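import Mathlib
import Cfsg.Agent.Helper16.PRHSAT
import Cfsg.Agent.Helper26.PRHGEN
import Cfsg.Agent.Helper16.BCMain

set_option autoImplicit false

/-! S5140: existence of the `p'`-residual subsystem `O^{p'}(F)`. -/

namespace Cfsg.Agent.Helper16.PR

open Cfsg Cfsg.FusionSystem Cfsg.Agent.Helper25 Cfsg.Agent.Helper26

variable {Ω : Type*} [Group Ω] {S : Subgroup Ω} [Finite S]

theorem saturated_EE (p : ℕ) [Fact p.Prime] (hS : IsPGroup p S) (F : FusionSystem S)
    (hF : F.IsSaturated p) : (EE F p).IsSaturated p := by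
  apply Cfsg.Agent.Helper16.BC.bcglo p hS (EE F p) {P | F.IsCentric P}
  · refine ⟨fun P hP => hP.1, ?_, fun P hP => hsat_EE p hS F hF hP, fun D hD => hgen_EE F p D hD⟩
    rintro P hP Q ⟨φ, hφ, hr⟩
    exact isCentric_of_isConj F hP ⟨φ, EE_le F p P hφ, hr⟩
  · intro P hc hP
    exact absurd ((centric_EE p hS F hF P).mp hc) hP

theorem isPPrimeResidual_EE (p : ℕ) [Fact p.Prime] (hS : IsPGroup p S) (F : FusionSystem S)
    (hF : F.IsSaturated p) : F.IsPPrimeResidual p (EE F p) :=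
  ⟨saturated_EE p hS F hF, index_EE p hS F hF, fun D hD hDF => least_EE p hS F hF D hD hDF⟩

end Cfsg.Agent.Helper16.PR
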