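import Mathlib
import Cfsg.Prelude.Def_CaseTheorems
import Cfsg.Agent.Helper1.UniqueOrderP
import Cfsg.Agent.Helper3.KleinFour
import Cfsg.Agent.Helper9.QuatSylowSL23
import Cfsg.Agent.Helper16.AutTwoGroup

set_option autoImplicit false

/-! `2`-groups of `2`-rank at most one: a unique involution, and the automorphism group is a
`2`-group unless the group is `Q₈`. -/

namespace Cfsg.Agent.Helper16.RankOne

open Cfsg.Agent.Helper1 Cfsg.Agent.Helper3

theorem eq_of_card_two {P : Type*} [Group P] (H : Subgroup P) (hH : Nat.card H = 2) :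
    ∃ s : P, s ≠ 1 ∧ s * s = 1 ∧ ∀ x, x ∈ H ↔ x = 1 ∨ x = s := by
  classical
  have : Finite H := Nat.finite_of_card_ne_zero (by rw [hH]; norm_num)
  have hne : Nontrivial H := by
    rw [← Finite.one_lt_card_iff_nontrivial, hH]; norm_num
  obtain ⟨s, hs⟩ := exists_ne (1 : H)
  have hord : orderOf s = 2 := by
    have h1 : orderOf s ∣ 2 := by rw [← hH]; exact orderOf_dvd_natCard s
    rcases (Nat.dvd_prime Nat.prime_two).mp h1 with h | h
    · exact absurd (orderOf_eq_one_iff.mp h) hs
    · exact h
  have hss : s * s = 1 := by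
    rw [← pow_two, ← hord]; exact pow_orderOf_eq_one s
  refine ⟨s, fun h => hs (Subtype.ext h), congrArg Subtype.val hss, ?_⟩
  intro x
  constructor
  · intro hx
    by_contra hcon
    push Not at hcon
    have h3 : 3 ≤ Nat.card H := by
      have : Fintype H := Fintype.ofFinite H
      rw [Nat.card_eq_fintype_card]
      have hsub : ({1, s, ⟨x, hx⟩} : Finset H).card = 3 := by
        rw [Finset.card_insert_of_notMem, Finset.card_insert_of_notMem, Finset.card_singleton]
        · simp only [Finset.mem_singleton]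
          intro h; exact hcon.2 (congrArg Subtype.val h).symm
        · simp only [Finset.mem_insert, Finset.mem_singleton, not_or]
          exact ⟨fun h => hs h.symm, fun h => hcon.1 (congrArg Subtype.val h).symm⟩
      rw [← hsub]; exact Finset.card_le_univ _
    omega
  · rintro (rfl | rfl)
    · exact H.one_mem
    · exact s.2

theorem uniqP_of_pRankLE {P : Type*} [Group P] [Finite P] (hP : IsPGroup 2 P)
    (h : Cfsg.PRankLE 2 1 P) : UniqP 2 P := by
  have : Fact (Nat.Prime 2) := ⟨Nat.prime_two⟩
  intro H K hH hK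
  have hnt : Nontrivial P := by
    obtain ⟨s, hs1, -, -⟩ := eq_of_card_two H hH
    exact ⟨⟨s, 1, hs1⟩⟩
  have hcnt : Nontrivial (Subgroup.center P) := hP.center_nontrivial
  have hdvd : 2 ∣ Nat.card (Subgroup.center P) := by
    obtain ⟨n, hn⟩ := (hP.to_subgroup (Subgroup.center P)).exists_card_eq
    rcases n with _ | n
    · rw [pow_zero] at hn
      have := Finite.one_lt_card_iff_nontrivial.mpr hcnt
      omega
    · rw [hn, pow_succ]; exact dvd_mul_left _ _
  obtain ⟨z, hz⟩ := exists_prime_orderOf_dvd_card' 2 hdvd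
  have hz1 : (z : P) ≠ 1 := by
    intro h0
    have : z = 1 := Subtype.ext h0
    rw [this, orderOf_one] at hz; omega
  have hzz : (z : P) * z = 1 := by
    have : z ^ 2 = 1 := by rw [← hz]; exact pow_orderOf_eq_one z
    rw [pow_two] at this
    exact congrArg Subtype.val this
  have key : ∀ s : P, s ≠ 1 → s * s = 1 → s = z := by
    intro s hs1 hss
    by_contra hne
    have hsz : s * (z : P) = z * s := Subgroup.mem_center_iff.mp z.2 s
    have h1 := h (kleinOf s (z : P) hss hzz hsz)
      ⟨⟨fun a b => Subtype.ext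
        ((commute_of_mem_kleinOf (commute_of_mem_kleinOf (Commute.refl s) hsz a.2).symm
          (commute_of_mem_kleinOf (c := (z : P)) hsz.symm (Commute.refl _) a.2).symm b.2).eq)⟩⟩
      (fun a ha => by rw [pow_two]; exact sq_eq_one_of_mem_kleinOf ha)
    rw [card_kleinOf hs1 hz1 hne] at h1
    norm_num at h1
  obtain ⟨s, hs1, hss, hsH⟩ := eq_of_card_two H hH
  obtain ⟨t, ht1, htt, htK⟩ := eq_of_card_two K hK
  ext x
  rw [hsH, htK, key s hs1 hss, key t ht1 htt]

theorem aut_cases {P : Type*} [Group P] [Finite P] (hP : IsPGroup 2 P) (h : UniqP 2 P) :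
    IsPGroup 2 (MulAut P) ∨ Nonempty (P ≃* QuaternionGroup 2) := by
  have : Fact (Nat.Prime 2) := ⟨Nat.prime_two⟩
  rcases UniqP.two_case hP h with hc | ⟨n, ⟨e⟩⟩
  · obtain ⟨k, hk⟩ := hP.exists_card_eq
    exact Or.inl (Cfsg.Agent.Helper16.isPGroup_mulAut_of_isCyclic k hk)
  · rcases n with _ | _ | n
    · left
      rw [pow_zero] at e
      have hq := QuaternionGroup.quaternionGroup_one_isCyclic
      have hc : IsCyclic P := isCyclic_of_surjective e.symm e.symm.surjective
      obtain ⟨k, hk⟩ := hP.exists_card_eq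
      exact Cfsg.Agent.Helper16.isPGroup_mulAut_of_isCyclic k hk
    · right
      rw [zero_add, pow_one] at e
      exact ⟨e⟩
    · left
      exact (Cfsg.Agent.Helper9.isPGroup_mulAut_quaternion (n + 1 + 1) (by omega)).of_equiv
        (MulAut.congr e).symm

end Cfsg.Agent.Helper16.RankOne
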