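import Mathlib
import Cfsg.Agent.Helper16.CentSub
import Cfsg.Agent.Helper16.AutOdd
import Cfsg.Agent.Helper16.AutTwoGroup
import Cfsg.Agent.Helper7.PConstrained
import Cfsg.Agent.Helper7.FStar
import Cfsg.Agent.Helper7.SL23
import Cfsg.Agent.Helper14.PCore
import Cfsg.Agent.Helper18.DihSylow
import Cfsg.Agent.Helper18.QD7
import Cfsg.Agent.Helper18.AutQ8
import Cfsg.Agent.Helper9.QuatSylowSL23
import Cfsg.Agent.Helper9.SL23Recog

set_option autoImplicit false

/-! Solvable groups with `O(G) = 1` and dihedral or quasi-dihedral Sylow 2-subgroup `T` with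
`Z(T)` normal: a normal `SL(2,3)` (S2879). -/

namespace Cfsg.Agent.Helper16.SolvDih

open Cfsg Cfsg.Agent.Helper16.CentSub

variable {G : Type*} [Group G] [Finite G]

theorem centralizer_pCore_le (hsol : Group.IsSolvable G) (hO : Cfsg.oddCore G = ⊥) :
    Subgroup.centralizer (Cfsg.pCore 2 G : Set G) ≤ Cfsg.pCore 2 G := by
  have : Fact (Nat.Prime 2) := ⟨Nat.prime_two⟩
  have h1 : Cfsg.fittingSubgroup G = Cfsg.pCore 2 G :=
    Cfsg.Agent.Helper7.fittingSubgroup_eq_pCore_of_pPrimeCore_eq_bot hO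
  have h2 := (Cfsg.Agent.Helper7.centralizer_fitting_le_iff_layer_eq_bot (G := G)).mpr
    Cfsg.Agent.Helper7.layer_eq_bot_of_isSolvable
  rw [h1] at h2; exact h2

/-- an element of odd prime order outside `O₂(G)` when `G` is not a 2-group -/
theorem exists_odd_prime_order (T : Sylow 2 G) (hne : (T : Subgroup G) ≠ ⊤) :
    ∃ (r : ℕ) (g : G), r.Prime ∧ r ≠ 2 ∧ orderOf g = r ∧ g ∉ Cfsg.pCore 2 G := by
  have hp2 : Fact (Nat.Prime 2) := ⟨Nat.prime_two⟩
  have hidx : (T : Subgroup G).index ≠ 1 := fun h => hne (Subgroup.index_eq_one.mp h)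
  obtain ⟨r, hr⟩ : ∃ r, r = Nat.minFac (T : Subgroup G).index := ⟨_, rfl⟩
  have hrp : r.Prime := by rw [hr]; exact Nat.minFac_prime hidx
  have hrd : r ∣ (T : Subgroup G).index := by rw [hr]; exact Nat.minFac_dvd _
  have hr2 : r ≠ 2 := by
    intro h
    rw [h] at hrd
    exact T.not_dvd_index hrd
  have hrG : r ∣ Nat.card G := hrd.trans (Subgroup.index_dvd_card _)
  have : Fact r.Prime := ⟨hrp⟩
  obtain ⟨g, hg⟩ := exists_prime_orderOf_dvd_card' r hrG
  refine ⟨r, g, hrp, hr2, hg, ?_⟩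
  intro hgP
  obtain ⟨k, hk⟩ := (Cfsg.Agent.Helper14.pCore_isPGroup (G := G) 2) ⟨g, hgP⟩
  have h1 : g ^ 2 ^ k = 1 := by
    have := congrArg Subtype.val hk
    simpa using this
  have h2 : r ∣ 2 ^ k := by rw [← hg]; exact orderOf_dvd_of_pow_eq_one h1
  have h3 := (Nat.prime_dvd_prime_iff_eq hrp Nat.prime_two).mp (hrp.dvd_of_dvd_pow h2)
  exact hr2 h3

/-- the Klein four case is impossible -/
theorem klein_contra
    (hCP : Subgroup.centralizer (Cfsg.pCore 2 G : Set G) ≤ Cfsg.pCore 2 G)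
    (hPK : IsKleinFour (Cfsg.pCore 2 G)) (T : Sylow 2 G) (hT8 : 8 ≤ Nat.card T)
    (hZ : ((T : Subgroup G) ⊓ Subgroup.centralizer ((T : Subgroup G) : Set G)).Normal)
    (g : G) (hodd : Odd (orderOf g)) (hgP : g ∉ Cfsg.pCore 2 G) : False := by
  have hp2 : Fact (Nat.Prime 2) := ⟨Nat.prime_two⟩
  obtain ⟨P, hPdef⟩ : ∃ P : Subgroup G, P = Cfsg.pCore 2 G := ⟨_, rfl⟩
  obtain ⟨Z, hZdef⟩ : ∃ Z : Subgroup G,
    Z = (T : Subgroup G) ⊓ Subgroup.centralizer ((T : Subgroup G) : Set G) := ⟨_, rfl⟩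
  rw [← hPdef] at hCP hPK hgP
  rw [← hZdef] at hZ
  have hPn : P.Normal := by rw [hPdef]; infer_instance
  have hPT : P ≤ T := by rw [hPdef]; exact Cfsg.Agent.Helper14.pCore_le_sylow 2 T
  have hZT : Z ≤ T := by rw [hZdef]; exact inf_le_left
  have hZ2 : IsPGroup 2 Z := T.isPGroup'.to_le hZT
  have hZP : Z ≤ P := by rw [hPdef]; exact Cfsg.Agent.Helper14.le_pCore 2 hZ hZ2
  have hcardP : Nat.card P = 4 := hPK.card_four
  have hsqP : ∀ x ∈ P, x * x = 1 := by
    intro x hx
    exact congrArg Subtype.val (IsKleinFour.mul_self (⟨x, hx⟩ : P))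
  -- `Z ≠ ⊥`
  have hZne : Z ≠ ⊥ := by
    have hTnt : Nontrivial (T : Subgroup G) := by
      apply (Finite.one_lt_card_iff_nontrivial).mp
      omega
    have hcn := IsPGroup.center_nontrivial T.isPGroup'
    obtain ⟨c, hc1⟩ := exists_ne (1 : Subgroup.center (T : Subgroup G))
    intro hbot
    have hcZ : ((c : (T : Subgroup G)) : G) ∈ Z := by
      rw [hZdef]
      refine ⟨(c : (T : Subgroup G)).2, ?_⟩
      show ((c : (T : Subgroup G)) : G) ∈ Subgroup.centralizer ((T : Subgroup G) : Set G)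
      rw [Subgroup.mem_centralizer_iff]
      intro t ht
      have h1 := Subgroup.mem_center_iff.mp c.2 ⟨t, ht⟩
      exact congrArg Subtype.val h1
    rw [hbot, Subgroup.mem_bot] at hcZ
    apply hc1
    apply Subtype.ext
    apply Subtype.ext
    exact hcZ
  -- `Z ≠ P`
  have hZneP : Z ≠ P := by
    intro h
    have hTC : (T : Subgroup G) ≤ Subgroup.centralizer (P : Set G) := by
      intro t ht
      rw [Subgroup.mem_centralizer_iff]
      intro y hy
      have hy' : y ∈ Z := by rw [h]; exact hy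
      rw [hZdef] at hy'
      exact (Subgroup.mem_centralizer_iff.mp hy'.2 t ht).symm
    have := Subgroup.card_le_of_le (hTC.trans hCP)
    omega
  have hcardZ : Nat.card Z = 2 := by
    have hd : Nat.card Z ∣ 4 := hcardP ▸ Subgroup.card_dvd_of_le hZP
    have h1 : Nat.card Z ≠ 1 := fun h => hZne (Subgroup.card_eq_one.mp h)
    have h4 : Nat.card Z ≠ 4 :=
      fun h => hZneP (Subgroup.eq_of_le_of_card_ge hZP (by rw [h, hcardP]))
    have hle : Nat.card Z ≤ 4 := Nat.le_of_dvd (by norm_num) hd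
    obtain ⟨k, hk⟩ : ∃ k, k = Nat.card Z := ⟨_, rfl⟩
    rw [← hk] at hd h1 h4 hle ⊢
    interval_cases k <;> omega
  -- `g` centralizes `Z`
  have hcop : Nat.Coprime (orderOf g) 2 := Nat.Coprime.symm (Nat.coprime_two_left.mpr hodd)
  have hgCZ : g ∈ Subgroup.centralizer (Z : Set G) := by
    have hcyc : IsCyclic Z := isCyclic_of_prime_card hcardZ
    have hA : IsPGroup 2 (MulAut Z) :=
      Cfsg.Agent.Helper16.isPGroup_mulAut_of_isCyclic 1 (by rw [hcardZ]; norm_num)
    apply Cfsg.Agent.Helper18.DihSylow.mem_centralizer_of_aut_pgroup Z hA g _ hcop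
    rw [Subgroup.normalizer_eq_top]; exact Subgroup.mem_top g
  have hgZ : ∀ c ∈ Z, g * c * g⁻¹ = c := by
    intro c hc
    have := Subgroup.mem_centralizer_iff.mp hgCZ c hc
    rw [← this, mul_inv_cancel_right]
  have hidx2 : (Z.subgroupOf P).index = 2 := by
    have h1 := (Z.subgroupOf P).card_mul_index
    rw [Nat.card_congr (Subgroup.subgroupOfEquivOfLe hZP).toEquiv, hcardZ, hcardP] at h1
    omega
  have hodd' : Odd (orderOf (MulAut.conj g)) :=
    Odd.of_dvd_nat hodd (orderOf_map_dvd (MulAut.conj : G →* MulAut G) g)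
  -- `g` centralizes `P`
  have hgCP : g ∈ Subgroup.centralizer (P : Set G) := by
    rw [Subgroup.mem_centralizer_iff]
    intro x hx
    have hy : g * x * g⁻¹ ∈ P := hPn.conj_mem x hx g
    have key : g * x * g⁻¹ = x := by
      by_cases hxZ : x ∈ Z
      · exact hgZ x hxZ
      · have hyZ : g * x * g⁻¹ ∉ Z := by
          intro h
          apply hxZ
          have := hZ.conj_mem _ h g⁻¹
          have e : g⁻¹ * (g * x * g⁻¹) * g⁻¹⁻¹ = x := by group
          rw [e] at this; exact this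
        have hcZ : x⁻¹ * (g * x * g⁻¹) ∈ Z := by
          have h1 := Subgroup.mul_mem_iff_of_index_two hidx2
            (a := (⟨x⁻¹, P.inv_mem hx⟩ : P)) (b := (⟨g * x * g⁻¹, hy⟩ : P))
          have h2 : ((⟨x⁻¹, P.inv_mem hx⟩ : P) ∈ Z.subgroupOf P ↔
              (⟨g * x * g⁻¹, hy⟩ : P) ∈ Z.subgroupOf P) := by
            rw [Subgroup.mem_subgroupOf, Subgroup.mem_subgroupOf]
            constructor
            · intro h; exact absurd ((Subgroup.inv_mem_iff Z).mp h) hxZ
            · intro h; exact absurd h hyZ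
          have h3 := h1.mpr h2
          rw [Subgroup.mem_subgroupOf] at h3
          exact h3
        have h1 : (MulAut.conj g) x = x * (x⁻¹ * (g * x * g⁻¹)) := by
          rw [MulAut.conj_apply]; group
        have h2 : (MulAut.conj g) (x⁻¹ * (g * x * g⁻¹)) = x⁻¹ * (g * x * g⁻¹) := by
          rw [MulAut.conj_apply]; exact hgZ _ hcZ
        have h3 : (x⁻¹ * (g * x * g⁻¹)) ^ 2 ^ 1 = 1 := by
          rw [pow_one, pow_two]
          exact hsqP _ (P.mul_mem (P.inv_mem hx) hy)
        have h4 := Cfsg.Agent.Helper16.AutOdd.fix_of_stab (MulAut.conj g) hodd' x _ h1 h2 1 h3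
        rw [MulAut.conj_apply] at h4
        exact h4
    calc x * g = g * x * g⁻¹ * g := by rw [key]
      _ = g * x := by group
  exact hgP (hCP hgCP)

theorem q8_central : ∀ q : QuaternionGroup 2, (∀ q' : QuaternionGroup 2, q * q' = q' * q) →
    q = 1 ∨ q = QuaternionGroup.a 2 := by decide

/-- the quaternion case -/
theorem q8_case
    (hCP : Subgroup.centralizer (Cfsg.pCore 2 G : Set G) ≤ Cfsg.pCore 2 G)
    (eP : (Cfsg.pCore 2 G : Subgroup G) ≃* QuaternionGroup 2)
    (r : ℕ) (hr : r.Prime) (hr2 : r ≠ 2) (g : G) (hg : orderOf g = r)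
    (hgP : g ∉ Cfsg.pCore 2 G) :
    ∃ U : Subgroup G, U.Normal ∧
      Nonempty (↥U ≃* Matrix.SpecialLinearGroup (Fin 2) (ZMod 3)) := by
  obtain ⟨P, hPdef⟩ : ∃ P : Subgroup G, P = Cfsg.pCore 2 G := ⟨_, rfl⟩
  rw [← hPdef] at hCP hgP
  obtain ⟨eP', -⟩ : ∃ e : P ≃* QuaternionGroup 2, True :=
    ⟨(MulEquiv.subgroupCongr hPdef).trans eP, trivial⟩
  clear eP
  have hPn : P.Normal := by rw [hPdef]; infer_instance
  have hcardP : Nat.card P = 8 := by
    rw [Nat.card_congr eP'.toEquiv, Nat.card_eq_fintype_card, QuaternionGroup.card]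
  have hgCP : g ∉ Subgroup.centralizer (P : Set G) := fun h => hgP (hCP h)
  -- `|C(P)| ≤ 2`
  obtain ⟨z₀, hz₀⟩ : ∃ z₀ : G, z₀ = ((eP'.symm (QuaternionGroup.a 2) : P) : G) := ⟨_, rfl⟩
  have hsub : ((Subgroup.centralizer (P : Set G) : Subgroup G) : Set G) ⊆ {1, z₀} := by
    intro c hc
    have hc' : c ∈ Subgroup.centralizer (P : Set G) := hc
    have hcP : c ∈ P := hCP hc'
    have hcen : ∀ q' : QuaternionGroup 2, eP' ⟨c, hcP⟩ * q' = q' * eP' ⟨c, hcP⟩ := by
      intro q'
      obtain ⟨p, rfl⟩ := eP'.surjective q'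
      rw [← map_mul, ← map_mul]
      congr 1
      apply Subtype.ext
      exact (Subgroup.mem_centralizer_iff.mp hc' p p.2).symm
    rcases q8_central _ hcen with h | h
    · left
      have h1 : (⟨c, hcP⟩ : P) = 1 := eP'.injective (h.trans (map_one eP').symm)
      exact congrArg Subtype.val h1
    · right
      have h1 : (⟨c, hcP⟩ : P) = eP'.symm (QuaternionGroup.a 2) := by
        rw [← h, MulEquiv.symm_apply_apply]
      rw [Set.mem_singleton_iff, hz₀, ← h1]
  have hcardC : Nat.card (Subgroup.centralizer (P : Set G)) ≤ 2 := by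
    have h0 : ((Subgroup.centralizer (P : Set G) : Subgroup G) : Set G).ncard =
        Nat.card (Subgroup.centralizer (P : Set G)) := by
      rw [← Nat.card_coe_set_eq]; rfl
    rw [← h0]
    have h1 := Set.ncard_le_ncard hsub (Set.toFinite _)
    have h2 := Set.ncard_insert_le (1 : G) ({z₀} : Set G)
    rw [Set.ncard_singleton] at h2
    omega
  have hcardC0 : 0 < Nat.card (Subgroup.centralizer (P : Set G)) := Nat.card_pos
  -- `|G : C(P)|` divides 24
  have hidx : (Subgroup.centralizer (P : Set G)).index ∣ 24 := by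
    have h1 : (Subgroup.centralizer (P : Set G)).index = Nat.card P.normalizerMonoidHom.range := by
      rw [← Subgroup.index_ker, Subgroup.normalizerMonoidHom_ker]
      show _ = (Subgroup.centralizer (P : Set G)).relIndex (Subgroup.normalizer (P : Set G))
      rw [Subgroup.normalizer_eq_top, Subgroup.relIndex_top_right]
    obtain ⟨e⟩ := Cfsg.Agent.Helper18.AutQ8.main
    have h2 : Nat.card (MulAut P) = 24 := by
      rw [Nat.card_congr (MulAut.congr eP').toEquiv, Nat.card_congr e.toEquiv,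
        Nat.card_eq_fintype_card, Fintype.card_perm, Fintype.card_fin]
      rfl
    rw [h1, ← h2]
    exact Subgroup.card_subgroup_dvd_card _
  have hcardG := (Subgroup.centralizer (P : Set G)).card_mul_index
  have hidx24 : (Subgroup.centralizer (P : Set G)).index ≤ 24 := Nat.le_of_dvd (by norm_num) hidx
  -- `r = 3`
  have hr3 : r = 3 := by
    have h1 : r ∣ Nat.card G := hg ▸ orderOf_dvd_natCard g
    rw [← hcardG] at h1
    rcases (Nat.Prime.dvd_mul hr).mp h1 with h | h
    · exfalso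
      have := Nat.le_of_dvd hcardC0 h
      have := hr.two_le
      omega
    · have h24 : r ∣ 8 * 3 := h.trans hidx
      rcases (Nat.Prime.dvd_mul hr).mp h24 with h | h
      · exfalso
        have h8 : r ∣ 2 ^ 3 := h
        exact hr2 ((Nat.prime_dvd_prime_iff_eq hr Nat.prime_two).mp (hr.dvd_of_dvd_pow h8))
      · exact (Nat.prime_dvd_prime_iff_eq hr Nat.prime_three).mp h
  subst hr3
  have hcardg : Nat.card (Subgroup.zpowers g) = 3 := by rw [Nat.card_zpowers, hg]
  have hcop : Nat.Coprime (orderOf g) 2 := by rw [hg]; norm_num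
  -- `U`
  obtain ⟨U, hUdef⟩ : ∃ U : Subgroup G, U = P ⊔ Subgroup.zpowers g := ⟨_, rfl⟩
  have hPU : P ≤ U := by rw [hUdef]; exact le_sup_left
  have hgU : g ∈ U := by rw [hUdef]; exact Subgroup.mem_sup_right (Subgroup.mem_zpowers g)
  have hdisj : P ⊓ Subgroup.zpowers g = ⊥ := by
    apply (Subgroup.disjoint_of_coprime_natCard ?_).eq_bot
    rw [hcardP, hcardg]; norm_num
  have hcardU : Nat.card U = 24 := by
    have h1 : P.relIndex U = 3 := by
      rw [hUdef, Subgroup.relIndex_sup_left, ← Subgroup.inf_relIndex_right, hdisj,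
        Subgroup.relIndex_bot_left, hcardg]
    have h2 := (P.subgroupOf U).card_mul_index
    rw [Nat.card_congr (Subgroup.subgroupOfEquivOfLe hPU).toEquiv, hcardP] at h2
    have h3 : (P.subgroupOf U).index = 3 := h1
    rw [h3] at h2
    omega
  have hUn : U.Normal := by
    have h1 := U.card_mul_index
    rw [hcardU] at h1
    have h2 : U.index ≤ 2 := by
      have : Nat.card G ≤ 48 := by
        rw [← hcardG]
        calc Nat.card (Subgroup.centralizer (P : Set G)) * (Subgroup.centralizer (P : Set G)).index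
            ≤ 2 * 24 := Nat.mul_le_mul hcardC hidx24
          _ = 48 := by norm_num
      omega
    have h3 : U.index ≠ 0 := by
      intro h
      rw [h, mul_zero] at h1
      have : 0 < Nat.card G := Nat.card_pos
      omega
    obtain ⟨k, hk⟩ : ∃ k, k = U.index := ⟨_, rfl⟩
    rw [← hk] at h2 h3
    interval_cases k
    · exact absurd rfl h3
    · rw [Subgroup.index_eq_one.mp hk.symm]; infer_instance
    · exact Subgroup.normal_of_index_eq_two hk.symm
  refine ⟨U, hUn, ?_⟩
  -- the isomorphism, inside `U`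
  have hQn : (P.subgroupOf U).Normal := inferInstance
  have eQ : P.subgroupOf U ≃* QuaternionGroup 2 := (Subgroup.subgroupOfEquivOfLe hPU).trans eP'
  have hg'N : (⟨g, hgU⟩ : U) ∈ Subgroup.normalizer ((P.subgroupOf U : Subgroup U) : Set U) := by
    rw [Subgroup.normalizer_eq_top]; exact Subgroup.mem_top _
  have hg'o : Nat.Coprime (orderOf (⟨g, hgU⟩ : U)) 2 := by
    rw [Subgroup.orderOf_mk]; exact hcop
  have hg'C : (⟨g, hgU⟩ : U) ∉ Subgroup.centralizer ((P.subgroupOf U : Subgroup U) : Set U) := by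
    rw [centralizer_subgroupOf P U hPU, Subgroup.mem_subgroupOf]
    exact hgCP
  obtain ⟨H, K, hK, ⟨e⟩⟩ := Cfsg.Agent.Helper9.exists_section_q8c3 (P.subgroupOf U) eQ
    ⟨g, hgU⟩ hg'N hg'o hg'C
  have hq : Nat.card (↥H ⧸ K.subgroupOf H) = 24 := by
    rw [← Nat.card_congr e.toEquiv]; exact Cfsg.Agent.Helper9.card_Q8C3
  have h1 := (K.subgroupOf H).card_mul_index
  rw [Subgroup.index_eq_card, hq] at h1
  have h2 : Nat.card H ≤ 24 := by
    have := Subgroup.card_le_card_group (H := H)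
    rw [hcardU] at this; exact this
  have h3 : 0 < Nat.card (K.subgroupOf H) := Nat.card_pos
  have hK1 : Nat.card (K.subgroupOf H) = 1 := by
    rcases Nat.lt_or_ge (Nat.card (K.subgroupOf H)) 2 with h | h
    · omega
    · exfalso
      have : 2 * 24 ≤ Nat.card (K.subgroupOf H) * 24 := Nat.mul_le_mul_right 24 h
      omega
  have hKbot : K.subgroupOf H = ⊥ := Subgroup.card_eq_one.mp hK1
  have hH24 : Nat.card H = 24 := by rw [← h1, hK1]
  have hHtop : H = ⊤ := Subgroup.eq_top_of_card_eq H (by rw [hH24, hcardU])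
  have hbij : Function.Bijective (QuotientGroup.mk' (K.subgroupOf H)) := by
    refine ⟨?_, QuotientGroup.mk'_surjective _⟩
    rw [← MonoidHom.ker_eq_bot_iff, QuotientGroup.ker_mk', hKbot]
  have e1 : ↥H ≃* (↥H ⧸ K.subgroupOf H) := MulEquiv.ofBijective _ hbij
  have e2 : ↥U ≃* ↥H := Subgroup.topEquiv.symm.trans (MulEquiv.subgroupCongr hHtop.symm)
  obtain ⟨e3⟩ := Cfsg.Agent.Helper9.nonempty_mulEquiv_q8c3_G3
  exact ⟨e2.trans (e1.trans (e.symm.trans e3))⟩

/-- S2879 -/
theorem main (hsol : Group.IsSolvable G) (hO : Cfsg.oddCore G = ⊥) (T : Sylow 2 G)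
    (hT : (∃ n : ℕ, 4 ≤ n ∧ Nonempty (↥(T : Subgroup G) ≃* DihedralGroup n)) ∨
      Cfsg.IsQuasiDihedral ↥(T : Subgroup G))
    (hne : (T : Subgroup G) ≠ ⊤)
    (hZ : ((T : Subgroup G) ⊓ Subgroup.centralizer ((T : Subgroup G) : Set G)).Normal) :
    ∃ U : Subgroup G, U.Normal ∧
      Nonempty (↥U ≃* Matrix.SpecialLinearGroup (Fin 2) (ZMod 3)) := by
  have hp2 : Fact (Nat.Prime 2) := ⟨Nat.prime_two⟩
  have hCP := centralizer_pCore_le hsol hO
  obtain ⟨r, g, hr, hr2, hg, hgP⟩ := exists_odd_prime_order T hne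
  have hodd : Odd (orderOf g) := by rw [hg]; exact hr.odd_of_ne_two hr2
  have hcop : Nat.Coprime (orderOf g) 2 := Nat.Coprime.symm (Nat.coprime_two_left.mpr hodd)
  have hPT : Cfsg.pCore 2 G ≤ T := Cfsg.Agent.Helper14.pCore_le_sylow 2 T
  have hnotA : ¬ IsPGroup 2 (MulAut (Cfsg.pCore 2 G : Subgroup G)) := by
    intro hA
    apply hgP
    apply hCP
    apply Cfsg.Agent.Helper18.DihSylow.mem_centralizer_of_aut_pgroup _ hA g _ hcop
    rw [Subgroup.normalizer_eq_top]; exact Subgroup.mem_top g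
  rcases hT with ⟨n, hn, ⟨eT⟩⟩ | hQD
  · exfalso
    have hcardT : Nat.card (T : Subgroup G) = 2 * n := by
      rw [Nat.card_congr eT.toEquiv, DihedralGroup.nat_card]
    obtain ⟨a, ha⟩ : ∃ a, Nat.card (T : Subgroup G) = 2 ^ a := ⟨_, T.card_eq_multiplicity⟩
    rcases Cfsg.Agent.Helper18.DihSylow.subgroup_dichotomy (T : Subgroup G) n eT a ha
      (Cfsg.pCore 2 G) hPT with h | h
    · exact hnotA h
    · exact klein_contra hCP h T (by omega) hZ g hodd hgP
  · obtain ⟨D⟩ := Cfsg.Agent.Helper18.QD.exists_qdData hQD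
    have hcardT : 8 ≤ Nat.card (T : Subgroup G) := by
      rw [D.card]
      calc 8 = 2 ^ 3 := by norm_num
        _ ≤ 2 ^ (D.n + 1) := Nat.pow_le_pow_right (by norm_num) (by have := D.hn; omega)
    have eS := Subgroup.subgroupOfEquivOfLe hPT
    rcases D.subgroup_aut ((Cfsg.pCore 2 G).subgroupOf (T : Subgroup G)) with h | h | ⟨⟨e⟩⟩
    · exact absurd (h.of_equiv (MulAut.congr eS)) hnotA
    · exfalso
      exact klein_contra hCP (isKleinFour_of_equiv eS h) T hcardT hZ g hodd hgP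
    · exact q8_case hCP (eS.symm.trans e) r hr hr2 g hg hgP

end Cfsg.Agent.Helper16.SolvDih
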