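import Mathlib
import Cfsg.Agent.Helper16.Q8S3
import Cfsg.Agent.Helper16.GL23
import Cfsg.Agent.Helper16.RankOne
import Cfsg.Agent.Helper16.SolvDih
import Cfsg.Agent.Helper14.PCore
import Cfsg.Agent.Helper7.PPrimeCore

set_option autoImplicit false

/-! Solvable groups `X` with `O(X) = 1` and `O₂(X)` of `2`-rank one: `X` is `2`-closed, or
`X ≅ GL(2,3)`, or `X` is the binary octahedral group. -/

namespace Cfsg.Agent.Helper16.RankOneSolv

open Cfsg Cfsg.Agent.Helper16.Q8S3 Cfsg.Agent.Helper1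

theorem central_Q8 : ∀ q : Q8, (∀ r : Q8, q * r = r * q) → q = 1 ∨ q = QuaternionGroup.a 2 := by
  decide

theorem Q8_not_comm : (QuaternionGroup.a 1 : Q8) * QuaternionGroup.xa 0 ≠
    QuaternionGroup.xa 0 * QuaternionGroup.a 1 := by
  decide

set_option maxRecDepth 100000 in
set_option synthInstance.maxSize 1000 in
set_option synthInstance.maxHeartbeats 400000 in
theorem V4_mul : ∀ σ τ : Equiv.Perm (Fin 4), σ * σ = 1 → Equiv.Perm.sign σ = 1 → τ * τ = 1 →
    Equiv.Perm.sign τ = 1 → (σ * τ) * (σ * τ) = 1 := by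
  decide +kernel

set_option maxRecDepth 100000 in
set_option synthInstance.maxSize 1000 in
set_option synthInstance.maxHeartbeats 400000 in
theorem transp_inverts : ∀ τ : Equiv.Perm (Fin 4), τ * τ = 1 → ¬ (Equiv.Perm.sign τ = 1) →
    ∃ c : Equiv.Perm (Fin 4), c ^ 3 = 1 ∧ c ≠ 1 ∧ τ * c * τ = c⁻¹ := by
  decide +kernel

/-- the normal four-subgroup of `S₄` -/
def V4 : Subgroup (Equiv.Perm (Fin 4)) where
  carrier := {σ | σ * σ = 1 ∧ Equiv.Perm.sign σ = 1}
  mul_mem' := by
    rintro σ τ ⟨h1, h2⟩ ⟨h3, h4⟩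
    exact ⟨V4_mul σ τ h1 h2 h3 h4, by rw [map_mul, h2, h4, mul_one]⟩
  one_mem' := ⟨mul_one 1, map_one _⟩
  inv_mem' := by
    rintro σ ⟨h1, h2⟩
    refine ⟨?_, by rw [map_inv, h2, inv_one]⟩
    rw [← mul_inv_rev, h1, inv_one]

theorem mem_V4 {σ : Equiv.Perm (Fin 4)} : σ ∈ V4 ↔ σ * σ = 1 ∧ Equiv.Perm.sign σ = 1 := Iff.rfl

instance V4_normal : V4.Normal := by
  constructor
  rintro σ ⟨h1, h2⟩ g
  refine ⟨?_, ?_⟩
  · calc g * σ * g⁻¹ * (g * σ * g⁻¹) = g * (σ * σ) * g⁻¹ := by group
      _ = 1 := by rw [h1]; group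
  · rw [map_mul, map_mul, map_inv, mul_comm, ← mul_assoc, inv_mul_cancel, one_mul, h2]

variable {X : Type*} [Group X] [Finite X]

/-- the action of `X` on a normal quaternion subgroup, as a permutation representation of degree
four -/
theorem exists_hom (P : Subgroup X) [hPn : P.Normal] (e : P ≃* Q8)
    (hc : Subgroup.centralizer (P : Set X) ≤ P) :
    ∃ f : X →* Equiv.Perm (Fin 4), f.ker = Subgroup.centralizer (P : Set X) ∧
      Nat.card f.ker ≤ 2 := by
  obtain ⟨Θ⟩ := Cfsg.Agent.Helper18.AutQ8.main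
  obtain ⟨f, hf⟩ : ∃ f : X →* Equiv.Perm (Fin 4),
      f = Θ.toMonoidHom.comp ((MulAut.congr e).toMonoidHom.comp MulAut.conjNormal) := ⟨_, rfl⟩
  have hker : f.ker = Subgroup.centralizer (P : Set X) := by
    ext x
    rw [MonoidHom.mem_ker, hf]
    simp only [MonoidHom.comp_apply, MulEquiv.coe_toMonoidHom, EmbeddingLike.map_eq_one_iff]
    rw [Subgroup.mem_centralizer_iff]
    constructor
    · intro hx p hp
      have h1 := congrArg (fun g : MulAut P => ((g ⟨p, hp⟩ : P) : X)) hx
      simp only [MulAut.conjNormal_apply, MulAut.one_apply] at h1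
      calc p * x = (x * p * x⁻¹) * x := by rw [h1]
        _ = x * p := by group
    · intro hx
      apply MulEquiv.ext
      intro p
      apply Subtype.ext
      rw [MulAut.conjNormal_apply, MulAut.one_apply, ← hx p p.2]
      group
  refine ⟨f, hker, ?_⟩
  rw [hker]
  apply Cfsg.Agent.Helper3.card_le_two_of_forall _ ((e.symm (QuaternionGroup.a 2) : P) : X)
  intro x hx
  have hxP : x ∈ P := hc hx
  have h1 : ∀ r : Q8, e ⟨x, hxP⟩ * r = r * e ⟨x, hxP⟩ := by
    intro r
    obtain ⟨p, rfl⟩ := e.surjective r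
    rw [← map_mul, ← map_mul]
    congr 1
    apply Subtype.ext
    exact ((Subgroup.mem_centralizer_iff.mp hx) p p.2).symm
  rcases central_Q8 _ h1 with h2 | h2
  · left
    rw [EmbeddingLike.map_eq_one_iff] at h2
    exact congrArg Subtype.val h2
  · right
    rw [← h2, MulEquiv.symm_apply_apply]

/-- a `2`-group has a normal Sylow `2`-subgroup -/
theorem exists_normal_sylow_of_isPGroup (hX : IsPGroup 2 X) :
    ∃ T : Sylow 2 X, (T : Subgroup X).Normal := by
  have : Fact (Nat.Prime 2) := ⟨Nat.prime_two⟩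
  obtain ⟨T⟩ : Nonempty (Sylow 2 X) := inferInstance
  refine ⟨T, ?_⟩
  have h1 : (⊤ : Subgroup X) = T := T.3 (hX.to_subgroup ⊤) le_top
  rw [← h1]
  infer_instance

theorem analysis (hsol : Group.IsSolvable X) (hO : Cfsg.oddCore X = ⊥)
    (hR : Cfsg.PRankLE 2 1 ↥(Cfsg.pCore 2 X)) :
    (∃ P : Sylow 2 X, (P : Subgroup X).Normal) ∨ Nonempty (X ≃* GL (Fin 2) (ZMod 3)) ∨
    (Nat.card X = 48 ∧ Nat.card ↥(Subgroup.center X) = 2 ∧
      Nonempty (X ⧸ Subgroup.center X ≃* Equiv.Perm (Fin 4)) ∧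
      ∀ P : Sylow 2 X, Nonempty (↥(P : Subgroup X) ≃* QuaternionGroup 4)) := by
  have : Fact (Nat.Prime 2) := ⟨Nat.prime_two⟩
  obtain ⟨P, hPdef⟩ : ∃ P : Subgroup X, P = Cfsg.pCore 2 X := ⟨_, rfl⟩
  have hPn : P.Normal := by rw [hPdef]; exact Cfsg.Agent.Helper14.pCore_normal 2
  have hPp : IsPGroup 2 P := by rw [hPdef]; exact Cfsg.Agent.Helper14.pCore_isPGroup 2
  have hPc : Subgroup.centralizer (P : Set X) ≤ P := by
    rw [hPdef]; exact SolvDih.centralizer_pCore_le hsol hO
  have hU : UniqP 2 P := RankOne.uniqP_of_pRankLE hPp (by rw [hPdef]; exact hR)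
  rcases RankOne.aut_cases hPp hU with hA | he
  · -- `X` is a `2`-group
    left
    apply exists_normal_sylow_of_isPGroup
    intro x
    obtain ⟨k, hk⟩ := hA (MulAut.conjNormal x : MulAut P)
    rw [← map_pow] at hk
    have h1 : x ^ 2 ^ k ∈ P := by
      apply hPc
      rw [Subgroup.mem_centralizer_iff]
      intro p hp
      have h2 := congrArg (fun g : MulAut P => ((g ⟨p, hp⟩ : P) : X)) hk
      simp only [MulAut.conjNormal_apply, MulAut.one_apply] at h2
      calc p * x ^ 2 ^ k = (x ^ 2 ^ k * p * (x ^ 2 ^ k)⁻¹) * x ^ 2 ^ k := by rw [h2]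
        _ = x ^ 2 ^ k * p := by group
    obtain ⟨m, hm⟩ := hPp ⟨_, h1⟩
    refine ⟨k + m, ?_⟩
    rw [pow_add, pow_mul]
    have := congrArg Subtype.val hm
    rwa [Subgroup.coe_pow] at this
  -- `P` is a quaternion group of order eight
  obtain ⟨e⟩ := he
  obtain ⟨f, hfker, hfcard⟩ := exists_hom P e hPc
  have hPcard : Nat.card P = 8 := by
    rw [Nat.card_congr e.toEquiv, Nat.card_eq_fintype_card, QuaternionGroup.card]
  obtain ⟨T⟩ : Nonempty (Sylow 2 X) := inferInstance
  have hPT : P ≤ T := by rw [hPdef]; exact Cfsg.Agent.Helper14.pCore_le_sylow 2 T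
  by_cases hTP : (T : Subgroup X) = P
  · left
    exact ⟨T, by rw [hTP]; exact hPn⟩
  have h16 : 16 ∣ Nat.card T := by
    obtain ⟨k, hk⟩ := T.2.exists_card_eq
    have h1 : Nat.card P ∣ Nat.card T := Subgroup.card_dvd_of_le hPT
    have h2 : Nat.card P ≠ Nat.card T := by
      intro h
      exact hTP (Subgroup.eq_of_le_of_card_ge hPT (by rw [h])).symm
    rw [hPcard, hk] at h1 h2
    have h4 : 4 ≤ k := by
      by_contra hcon
      have : k ≤ 3 := by omega
      interval_cases k <;> omega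
    rw [hk]
    exact pow_dvd_pow 2 h4
  have h16X : 16 ∣ Nat.card X := h16.trans (Subgroup.card_subgroup_dvd_card _)
  have hcardX : Nat.card X = Nat.card f.range * Nat.card f.ker := by
    rw [Subgroup.card_eq_card_quotient_mul_card_subgroup f.ker,
      Nat.card_congr (QuotientGroup.quotientKerEquivRange f).toEquiv]
  have hrange : Nat.card f.range ∣ 24 := by
    have := Subgroup.card_subgroup_dvd_card f.range
    rwa [Nat.card_eq_fintype_card (α := Equiv.Perm (Fin 4)), Fintype.card_perm,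
      Fintype.card_fin] at this
  have hkpos : 0 < Nat.card f.ker := Nat.card_pos
  obtain ⟨a, ha⟩ : ∃ a, a = Nat.card f.ker := ⟨_, rfl⟩
  obtain ⟨b, hb⟩ : ∃ b, b = Nat.card f.range := ⟨_, rfl⟩
  rw [← ha] at hfcard hkpos
  rw [← ha, ← hb] at hcardX
  rw [← hb] at hrange
  rw [hcardX] at h16X
  have hab : a = 2 ∧ (b = 8 ∨ b = 24) := by
    have hb24 : b ≤ 24 := Nat.le_of_dvd (by norm_num) hrange
    have ha2 : a = 1 ∨ a = 2 := by omega
    rcases ha2 with rfl | rfl
    · exfalso
      interval_cases b <;> omega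
    · refine ⟨rfl, ?_⟩
      interval_cases b <;> omega
  obtain ⟨ha2, hb8⟩ := hab
  rcases hb8 with hb8 | hb24
  · -- `|X| = 16`
    left
    refine ⟨T, ?_⟩
    have h1 : Nat.card X = 16 := by rw [hcardX, ha2, hb8]
    have h2 : Nat.card T = Nat.card X := by
      have h3 : Nat.card T ∣ 16 := by rw [← h1]; exact Subgroup.card_subgroup_dvd_card _
      rw [h1]
      exact Nat.dvd_antisymm h3 h16
    rw [Subgroup.eq_top_of_card_eq _ h2]
    infer_instance
  have hX48 : Nat.card X = 48 := by rw [hcardX, ha2, hb24]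
  have hk2 : Nat.card f.ker = 2 := by rw [← ha, ha2]
  have hsurj : Function.Surjective f := by
    rw [← MonoidHom.range_eq_top]
    apply Subgroup.eq_top_of_card_eq
    rw [← hb, hb24, Nat.card_eq_fintype_card, Fintype.card_perm, Fintype.card_fin]
    rfl
  obtain ⟨z, hz1, hzz, hzmem⟩ := RankOne.eq_of_card_two f.ker hk2
  have hzcen : z ∈ Subgroup.center X := by
    rw [Subgroup.mem_center_iff]
    intro g
    have h1 : g * z * g⁻¹ ∈ f.ker :=
      (MonoidHom.normal_ker f).conj_mem z ((hzmem z).mpr (Or.inr rfl)) g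
    rcases (hzmem _).mp h1 with h2 | h2
    · exfalso
      apply hz1
      calc z = g⁻¹ * (g * z * g⁻¹) * g := by group
        _ = 1 := by rw [h2]; group
    · calc g * z = (g * z * g⁻¹) * g := by group
        _ = z * g := by rw [h2]
  have hcen : Subgroup.center X = f.ker := by
    apply le_antisymm
    · rw [hfker]; exact Subgroup.center_le_centralizer _
    · intro x hx
      rcases (hzmem x).mp hx with rfl | rfl
      · exact Subgroup.one_mem _
      · exact hzcen
  have hcencard : Nat.card (Subgroup.center X) = 2 := by rw [hcen]; exact hk2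
  have hquot : Nonempty (X ⧸ Subgroup.center X ≃* Equiv.Perm (Fin 4)) :=
    ⟨(QuotientGroup.quotientMulEquivOfEq hcen).trans
      (QuotientGroup.quotientKerEquivOfSurjective f hsurj)⟩
  have hkerP : ∀ x, f x = 1 → x ∈ P := by
    intro x hx
    apply hPc
    rw [← hfker]; exact hx
  by_cases hinv : ∀ t : X, t * t = 1 → t ∈ P
  · -- a unique involution: generalized quaternion Sylow subgroups
    right; right
    refine ⟨hX48, hcencard, hquot, ?_⟩
    have hUX : UniqP 2 X := by
      intro H K hH hK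
      have hle : ∀ H : Subgroup X, Nat.card H = 2 → H ≤ P := by
        intro H hH
        obtain ⟨s, hs1, hss, hsH⟩ := RankOne.eq_of_card_two H hH
        intro x hx
        rcases (hsH x).mp hx with rfl | rfl
        · exact P.one_mem
        · exact hinv _ hss
      have h1 := hU (H.subgroupOf P) (K.subgroupOf P)
        (by rw [Nat.card_congr (Subgroup.subgroupOfEquivOfLe (hle H hH)).toEquiv]; exact hH)
        (by rw [Nat.card_congr (Subgroup.subgroupOfEquivOfLe (hle K hK)).toEquiv]; exact hK)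
      rw [Subgroup.subgroupOf_inj, inf_of_le_left (hle H hH), inf_of_le_left (hle K hK)] at h1
      exact h1
    intro T'
    have hT'16 : Nat.card T' = 16 := by
      obtain ⟨k, hk⟩ := T'.2.exists_card_eq
      have h1 : Nat.card T' * (T' : Subgroup X).index = 48 := by
        rw [← hX48]; exact Subgroup.card_mul_index _
      have h2 : ¬ 2 ∣ (T' : Subgroup X).index := T'.not_dvd_index
      rw [hk] at h1 ⊢
      have h3 : 2 ^ k ∣ 48 := Dvd.intro _ h1
      have h4 : 2 ^ k ≤ 48 := Nat.le_of_dvd (by norm_num) h3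
      have h5 : k < 6 := by
        by_contra hcon
        have : 2 ^ 6 ≤ 2 ^ k := Nat.pow_le_pow_right (by norm_num) (by omega)
        omega
      interval_cases k <;> omega
    rcases UniqP.two_case T'.2 (hUX.subgroup T') with hcyc | ⟨n, ⟨eT⟩⟩
    · exfalso
      have hPT' : P ≤ T' := by rw [hPdef]; exact Cfsg.Agent.Helper14.pCore_le_sylow 2 T'
      apply Q8_not_comm
      have h1 := hcyc.isMulCommutative.is_comm.comm
        (⟨_, hPT' (e.symm (QuaternionGroup.a 1)).2⟩ : T')
        (⟨_, hPT' (e.symm (QuaternionGroup.xa 0)).2⟩ : T')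
      have h2 : e.symm (QuaternionGroup.a 1) * e.symm (QuaternionGroup.xa 0) =
          e.symm (QuaternionGroup.xa 0) * e.symm (QuaternionGroup.a 1) := by
        apply Subtype.ext
        exact congrArg (fun z : ↥(T' : Subgroup X) => (z : X)) h1
      rw [← map_mul, ← map_mul] at h2
      exact e.symm.injective h2
    · have hn : 2 ^ n = 4 := by
        have : NeZero (2 ^ n) := ⟨by positivity⟩
        have h1 := Nat.card_congr eT.toEquiv
        rw [hT'16, Nat.card_eq_fintype_card, QuaternionGroup.card] at h1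
        omega
      rw [hn] at eT
      exact ⟨eT⟩
  · -- an involution outside `P`: `GL(2,3)`
    right; left
    push Not at hinv
    obtain ⟨t, htt, htP⟩ := hinv
    have hkercen : ∀ x, f x = 1 → x ∈ Subgroup.center X ∧ x * x = 1 := by
      intro x hx
      rcases (hzmem x).mp hx with rfl | rfl
      · exact ⟨Subgroup.one_mem _, mul_one 1⟩
      · exact ⟨hzcen, hzz⟩
    have hτ : f t * f t = 1 := by rw [← map_mul, htt, map_one]
    have hτV : f t ∉ V4 := by
      intro hV
      apply htP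
      have hN : V4.comap f ≤ Cfsg.pCore 2 X := by
        apply Cfsg.Agent.Helper14.le_pCore 2 (V4_normal.comap f)
        intro x
        have h1 : f (x : X) * f (x : X) = 1 := (mem_V4.mp x.2).1
        have h2 : (x : X) * x ∈ P := hkerP _ (by rw [map_mul]; exact h1)
        obtain ⟨m, hm⟩ := hPp ⟨_, h2⟩
        refine ⟨m + 1, ?_⟩
        apply Subtype.ext
        rw [Subgroup.coe_pow, pow_succ', pow_mul, pow_two]
        have := congrArg Subtype.val hm
        rwa [Subgroup.coe_pow] at this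
      rw [hPdef]
      exact hN hV
    have hsign : ¬ (Equiv.Perm.sign (f t) = 1) := fun h => hτV (mem_V4.mpr ⟨hτ, h⟩)
    obtain ⟨c, hc3, hc1, hτc⟩ := transp_inverts (f t) hτ hsign
    obtain ⟨d₀, hd₀⟩ := hsurj c
    obtain ⟨d, hd⟩ : ∃ d : X, d = d₀ ^ 4 := ⟨_, rfl⟩
    have hd₀6 : d₀ ^ 6 = 1 := by
      have h1 := (hkercen (d₀ ^ 3) (by rw [map_pow, hd₀, hc3])).2
      rw [← pow_add] at h1
      exact h1
    have hd3 : d ^ 3 = 1 := by
      rw [hd, ← pow_mul]
      have : 4 * 3 = 6 * 2 := by norm_num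
      rw [this, pow_mul, hd₀6, one_pow]
    have hfd : f d = c := by
      rw [hd, map_pow, hd₀, pow_succ c 3, hc3, one_mul]
    have hd1 : d ≠ 1 := by
      intro h
      rw [h, map_one] at hfd
      exact hc1 hfd.symm
    obtain ⟨ε, hε⟩ : ∃ ε : X, ε = (t * d * t) * d := ⟨_, rfl⟩
    have hfε : f ε = 1 := by
      rw [hε, map_mul, map_mul, map_mul, hfd, hτc, inv_mul_cancel]
    obtain ⟨hεcen, hεε⟩ := hkercen ε hfε
    have hddd : d * d * d = 1 := by rw [pow_succ, pow_two] at hd3; exact hd3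
    have h3 : (t * d * t) * (t * d * t) * (t * d * t) = 1 := by
      calc (t * d * t) * (t * d * t) * (t * d * t)
          = t * d * (t * t) * d * (t * t) * d * t := by group
        _ = t * (d * d * d) * t := by rw [htt]; group
        _ = 1 := by rw [hddd, mul_one, htt]
    have htdt : t * d * t = ε * d⁻¹ := by rw [hε]; group
    have hεd : ∀ y : X, y * ε = ε * y := fun y => (Subgroup.mem_center_iff.mp hεcen y)
    have hε1 : ε = 1 := by
      rw [htdt] at h3
      have h4 : ε * d⁻¹ * (ε * d⁻¹) * (ε * d⁻¹) = (ε * ε) * ε * (d * d * d)⁻¹ := by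
        calc ε * d⁻¹ * (ε * d⁻¹) * (ε * d⁻¹) = ε * (d⁻¹ * ε) * (d⁻¹ * ε) * d⁻¹ := by group
          _ = ε * (ε * d⁻¹) * (ε * d⁻¹) * d⁻¹ := by rw [hεd d⁻¹]
          _ = ε * ε * (d⁻¹ * ε) * d⁻¹ * d⁻¹ := by group
          _ = ε * ε * (ε * d⁻¹) * d⁻¹ * d⁻¹ := by rw [hεd d⁻¹]
          _ = (ε * ε) * ε * (d * d * d)⁻¹ := by group
      rw [h4, hεε, hddd, one_mul, inv_one, mul_one] at h3
      exact h3
    have hdt : t * d * t = d⁻¹ := by rw [htdt, hε1, one_mul]
    exact Q8S3.nonempty_mulEquiv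
      (⟨P, hPn, e, hPc, d, t, hd3, hd1, htt, htP, hdt, hX48⟩ : Q8S3.Data X)
      Cfsg.Agent.Helper16.GL23.dataGL

end Cfsg.Agent.Helper16.RankOneSolv
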