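import Mathlib

/-!
# Piece P8 of helper6's small Ree cluster: the 3-singular elements

Abstract setting: a finite group `G` with a TI Sylow 3-subgroup `U` of order `q³`, `N(U) = U ⋊ H`,
`H` abelian of order `q - 1` with a unique involution `j`, acting freely on `U` apart from `j`.
Mathlib only.
-/

set_option autoImplicit false
set_option linter.unusedSectionVars false
set_option linter.style.haveILetI false

namespace Cfsg.Agent.Helper16.ReeP8

variable {G : Type*} [Group G]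

/-! ### Counting the union of the `A`-conjugates of a TI subset -/

/-- The union of the `A`-conjugates of a subset `Y`, where `N ≤ A` normalises `Y` and `Y` is "TI"
with respect to `N` inside `A`. -/
theorem card_conj_union [Finite G] (A N : Subgroup G) (Y : Set G) (hNA : N ≤ A)
    (hN : ∀ g ∈ N, ∀ y ∈ Y, g * y * g⁻¹ ∈ Y)
    (hTI : ∀ g ∈ A, ∀ y ∈ Y, g * y * g⁻¹ ∈ Y → g ∈ N) :
    Nat.card {z : G // ∃ g ∈ A, ∃ y ∈ Y, z = g * y * g⁻¹} * Nat.card N =
      Nat.card A * Nat.card Y := by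
  classical
  rw [← Nat.card_prod, ← Nat.card_prod]
  -- choice of representatives
  have hch : ∀ z : {z : G // ∃ g ∈ A, ∃ y ∈ Y, z = g * y * g⁻¹},
      ∃ p : G × G, p.1 ∈ A ∧ p.2 ∈ Y ∧ (z : G) = p.1 * p.2 * p.1⁻¹ := by
    rintro ⟨z, g, hg, y, hy, rfl⟩
    exact ⟨(g, y), hg, hy, rfl⟩
  choose rep hrepA hrepY hrep using hch
  refine Nat.card_congr (Equiv.ofBijective
    (fun p : {z : G // ∃ g ∈ A, ∃ y ∈ Y, z = g * y * g⁻¹} × N =>
      ((⟨(rep p.1).1 * (p.2 : G), A.mul_mem (hrepA p.1) (hNA p.2.2)⟩ : A),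
       (⟨(p.2 : G)⁻¹ * (rep p.1).2 * (p.2 : G), by
          have := hN _ (N.inv_mem p.2.2) _ (hrepY p.1)
          simpa using this⟩ : Y))) ⟨?_, ?_⟩)
  · rintro ⟨z, n⟩ ⟨z', n'⟩ h
    simp only [Prod.mk.injEq, Subtype.mk.injEq] at h
    obtain ⟨h1, h2⟩ := h
    have hz : (z : G) = (z' : G) := by
      rw [hrep z, hrep z']
      have e1 : (rep z).1 = (rep z').1 * (n' : G) * (n : G)⁻¹ := by
        rw [← h1]; group
      have e2 : (rep z).2 = (n : G) * ((n' : G)⁻¹ * (rep z').2 * (n' : G)) * (n : G)⁻¹ := by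
        rw [← h2]; group
      rw [e1, e2]; group
    have hzz : z = z' := Subtype.ext hz
    subst hzz
    have hn : (n : G) = (n' : G) := mul_left_cancel h1
    rw [Subtype.ext hn]
  · rintro ⟨⟨a, ha⟩, ⟨y, hy⟩⟩
    let z : {z : G // ∃ g ∈ A, ∃ y ∈ Y, z = g * y * g⁻¹} := ⟨a * y * a⁻¹, a, ha, y, hy, rfl⟩
    have hzrep : a * y * a⁻¹ = (rep z).1 * (rep z).2 * (rep z).1⁻¹ := hrep z
    have hmemN : (rep z).1⁻¹ * a ∈ N := by
      apply hTI _ (A.mul_mem (A.inv_mem (hrepA z)) ha) y hy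
      have : (rep z).1⁻¹ * a * y * ((rep z).1⁻¹ * a)⁻¹ = (rep z).2 := by
        have : (rep z).1⁻¹ * a * y * ((rep z).1⁻¹ * a)⁻¹ =
            (rep z).1⁻¹ * (a * y * a⁻¹) * (rep z).1 := by group
        rw [this, hzrep]; group
      rw [this]; exact hrepY z
    refine ⟨(z, ⟨(rep z).1⁻¹ * a, hmemN⟩), ?_⟩
    simp only [Prod.mk.injEq, Subtype.mk.injEq]
    refine ⟨by group, ?_⟩
    have : ((rep z).1⁻¹ * a)⁻¹ * (rep z).2 * ((rep z).1⁻¹ * a) =
        a⁻¹ * ((rep z).1 * (rep z).2 * (rep z).1⁻¹) * a := by group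
    rw [this, ← hzrep]; group


/-! ### The setting -/

/-- The hypotheses of P8, bundled. -/
structure Setup (G : Type*) [Group G] (q : ℕ) (U H : Subgroup G) (j : G) : Prop where
  hq : ∃ n : ℕ, 0 < n ∧ q = 3 ^ n
  hU : Nat.card U = q ^ 3
  hTI : ∀ g : G, ∀ y ∈ U, y ≠ 1 → g * y * g⁻¹ ∈ U → g ∈ U ⊔ H
  hHU : ∀ h ∈ H, ∀ u ∈ U, h * u * h⁻¹ ∈ U
  hH : Nat.card H = q - 1
  hj : j ∈ H
  hj2 : orderOf j = 2
  hinv : ∀ h ∈ H, h * h = 1 → h = 1 ∨ h = j
  hfree : ∀ h ∈ H, h * h ≠ 1 → ∀ u ∈ U, Commute h u → u = 1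
  hCj : Nat.card {u : U // Commute (u : G) j} = q
  hCj3 : ∀ u ∈ U, Commute u j → u ^ 3 = 1
  hU9 : ∀ u ∈ U, u ^ 9 = 1
  hU3 : Nat.card {u : U // (u : G) ^ 3 = 1} = q ^ 2
  hG : Nat.card G = q ^ 3 * (q - 1) * (q ^ 3 + 1)

namespace Setup

variable {q : ℕ} {U H : Subgroup G} {j : G}

theorem three_dvd_q (S : Setup G q U H j) : 3 ∣ q := by
  obtain ⟨n, hn, rfl⟩ := S.hq
  exact dvd_pow_self 3 hn.ne'

theorem q_pos (S : Setup G q U H j) : 0 < q := by
  obtain ⟨n, hn, rfl⟩ := S.hq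
  positivity

theorem three_le_q (S : Setup G q U H j) : 3 ≤ q :=
  Nat.le_of_dvd S.q_pos S.three_dvd_q

theorem not_three_dvd_pred (S : Setup G q U H j) : ¬ 3 ∣ q - 1 := by
  obtain ⟨k, hk⟩ := S.three_dvd_q
  have := S.q_pos
  rintro ⟨m, hm⟩
  omega

theorem not_three_dvd_cube_succ (S : Setup G q U H j) : ¬ 3 ∣ q ^ 3 + 1 := by
  have h : 3 ∣ q ^ 3 := dvd_pow S.three_dvd_q (by norm_num)
  obtain ⟨k, hk⟩ := h
  rintro ⟨m, hm⟩
  omega

theorem coprime_three_pred (S : Setup G q U H j) : Nat.Coprime 3 (q - 1) :=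
  (Nat.Prime.coprime_iff_not_dvd Nat.prime_three).mpr S.not_three_dvd_pred

theorem jj (S : Setup G q U H j) : j * j = 1 := by
  have := pow_orderOf_eq_one j
  rw [S.hj2, pow_two] at this; exact this

theorem j_inv (S : Setup G q U H j) : j⁻¹ = j := by
  rw [inv_eq_iff_mul_eq_one, S.jj]

theorem j_ne_one (S : Setup G q U H j) : j ≠ 1 := by
  intro h
  have := S.hj2
  rw [h, orderOf_one] at this
  omega

/-- `U ∩ H = 1` -/
theorem inf_eq_bot (S : Setup G q U H j) : U ⊓ H = ⊥ := by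
  rw [← disjoint_iff]
  apply Subgroup.disjoint_of_coprime_natCard
  rw [S.hU, S.hH]
  obtain ⟨n, hn, rfl⟩ := S.hq
  rw [← pow_mul]
  exact Nat.Coprime.pow_left _ S.coprime_three_pred

theorem eq_one_of_mem_of_mem (S : Setup G q U H j) {x : G} (hU : x ∈ U) (hH : x ∈ H) : x = 1 := by
  have : x ∈ U ⊓ H := ⟨hU, hH⟩
  rw [S.inf_eq_bot] at this
  exact this

theorem j_not_mem (S : Setup G q U H j) : j ∉ U := fun h =>
  S.j_ne_one (S.eq_one_of_mem_of_mem h S.hj)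

/-- elements of `U ⊔ H` are products `u h` -/
theorem exists_of_mem_sup (S : Setup G q U H j) {x : G} (hx : x ∈ U ⊔ H) :
    ∃ u ∈ U, ∃ h ∈ H, x = u * h := by
  rw [Subgroup.sup_eq_closure] at hx
  induction hx using Subgroup.closure_induction with
  | mem x hx =>
    rcases hx with hx | hx
    · exact ⟨x, hx, 1, H.one_mem, by simp⟩
    · exact ⟨1, U.one_mem, x, hx, by simp⟩
  | one => exact ⟨1, U.one_mem, 1, H.one_mem, by simp⟩
  | mul x y _ _ hx hy =>
    obtain ⟨u, hu, h, hh, rfl⟩ := hx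
    obtain ⟨u', hu', h', hh', rfl⟩ := hy
    refine ⟨u * (h * u' * h⁻¹), U.mul_mem hu (S.hHU h hh u' hu'), h * h', H.mul_mem hh hh', ?_⟩
    group
  | inv x _ hx =>
    obtain ⟨u, hu, h, hh, rfl⟩ := hx
    refine ⟨h⁻¹ * u⁻¹ * (h⁻¹)⁻¹, S.hHU _ (H.inv_mem hh) _ (U.inv_mem hu), h⁻¹, H.inv_mem hh, ?_⟩
    group

/-- `U ⊔ H` normalises `U` -/
theorem conj_mem_of_mem_sup (S : Setup G q U H j) {b : G} (hb : b ∈ U ⊔ H) {u : G} (hu : u ∈ U) :
    b * u * b⁻¹ ∈ U := by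
  obtain ⟨u0, hu0, h, hh, rfl⟩ := S.exists_of_mem_sup hb
  have : u0 * h * u * (u0 * h)⁻¹ = u0 * (h * u * h⁻¹) * u0⁻¹ := by group
  rw [this]
  exact U.mul_mem (U.mul_mem hu0 (S.hHU h hh u hu)) (U.inv_mem hu0)

variable [Finite G]

/-- `|U ⊔ H| = q³ (q - 1)` -/
theorem card_sup (S : Setup G q U H j) : Nat.card (U ⊔ H : Subgroup G) = q ^ 3 * (q - 1) := by
  rw [← S.hU, ← S.hH, ← Nat.card_prod]
  symm
  refine Nat.card_congr (Equiv.ofBijective
    (fun p : U × H => (⟨(p.1 : G) * (p.2 : G),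
      Subgroup.mul_mem _ (Subgroup.mem_sup_left p.1.2) (Subgroup.mem_sup_right p.2.2)⟩ :
        (U ⊔ H : Subgroup G))) ⟨?_, ?_⟩)
  · rintro ⟨⟨u, hu⟩, ⟨h, hh⟩⟩ ⟨⟨u', hu'⟩, ⟨h', hh'⟩⟩ he
    simp only [Subtype.mk.injEq] at he
    have h1 : u'⁻¹ * u = h' * h⁻¹ := by
      have : u'⁻¹ * (u * h) * h⁻¹ = u'⁻¹ * (u' * h') * h⁻¹ := by rw [he]
      simpa [mul_assoc] using this
    have h2 : u'⁻¹ * u = 1 :=
      S.eq_one_of_mem_of_mem (U.mul_mem (U.inv_mem hu') hu)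
        (h1 ▸ H.mul_mem hh' (H.inv_mem hh))
    have h3 : h' * h⁻¹ = 1 := h1 ▸ h2
    have e1 : u = u' := by
      have := inv_mul_eq_one.mp h2; exact this.symm
    have e2 : h = h' := by
      have := mul_inv_eq_one.mp h3; exact this.symm
    subst e1; subst e2; rfl
  · rintro ⟨x, hx⟩
    obtain ⟨u, hu, h, hh, rfl⟩ := S.exists_of_mem_sup hx
    exact ⟨(⟨u, hu⟩, ⟨h, hh⟩), rfl⟩

/-- `U` as a Sylow 3-subgroup -/
theorem card_U_eq (S : Setup G q U H j) :
    Nat.card U = 3 ^ (Nat.card G).factorization 3 := by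
  obtain ⟨n, hn, hqn⟩ := S.hq
  have hq3 : q ^ 3 = 3 ^ (3 * n) := by rw [hqn, ← pow_mul, mul_comm]
  have h1 : q ^ 3 ≠ 0 := pow_ne_zero _ S.q_pos.ne'
  have h2 : q - 1 ≠ 0 := by have := S.three_le_q; omega
  have h3 : q ^ 3 + 1 ≠ 0 := by positivity
  rw [S.hU, S.hG, Nat.factorization_mul (mul_ne_zero h1 h2) h3, Nat.factorization_mul h1 h2]
  simp only [Finsupp.coe_add, Pi.add_apply]
  rw [Nat.factorization_eq_zero_of_not_dvd S.not_three_dvd_pred,
    Nat.factorization_eq_zero_of_not_dvd S.not_three_dvd_cube_succ, hq3,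
    Nat.Prime.factorization_pow Nat.prime_three]
  simp

/-- every `3`-element is conjugate into `U` -/
theorem exists_conj_mem (S : Setup G q U H j) {g : G} {k : ℕ} (hg : orderOf g = 3 ^ k) :
    ∃ x : G, x * g * x⁻¹ ∈ U := by
  haveI : Fact (Nat.Prime 3) := ⟨Nat.prime_three⟩
  let P : Sylow 3 G := Sylow.ofCard U S.card_U_eq
  have hPG : IsPGroup 3 (Subgroup.zpowers g) :=
    IsPGroup.of_card (n := k) (by rw [Nat.card_zpowers, hg])
  obtain ⟨Q, hQ⟩ := hPG.exists_le_sylow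
  obtain ⟨x, hx⟩ := MulAction.exists_smul_eq G Q P
  refine ⟨x, ?_⟩
  have h1 : g ∈ (Q : Subgroup G) := hQ (Subgroup.mem_zpowers g)
  have h2 : x * g * x⁻¹ ∈ ((x • Q : Sylow 3 G) : Subgroup G) := by
    rw [Sylow.coe_subgroup_smul]
    exact ⟨g, h1, rfl⟩
  rw [hx] at h2
  exact h2

/-- an involution in the coset `U j` is `U`-conjugate to `j` -/
theorem exists_conj_of_sq_eq_one (S : Setup G q U H j) {u1 : G} (hu1 : u1 ∈ U)
    (hs : (u1 * j) * (u1 * j) = 1) : ∃ t ∈ U, u1 * j = t * j * t⁻¹ := by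
  have h9 := S.hU9 u1 hu1
  have hinv : j * u1 * j = u1⁻¹ := by
    have : u1 * (j * u1 * j) = 1 := by simpa [mul_assoc] using hs
    exact eq_inv_of_mul_eq_one_right this
  refine ⟨u1 ^ 5, U.pow_mem hu1 5, ?_⟩
  have h1 : j * u1 ^ 5 * j = (u1 ^ 5)⁻¹ := by
    have : j * u1 ^ 5 * j⁻¹ = (j * u1 * j⁻¹) ^ 5 := (conj_pow).symm
    rw [S.j_inv] at this
    rw [this, hinv, inv_pow]
  -- j t⁻¹ = t j
  have h2 : j * (u1 ^ 5)⁻¹ = u1 ^ 5 * j := by
    have : j * (u1 ^ 5)⁻¹ = j * (j * u1 ^ 5 * j) := by rw [h1]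
    rw [this, ← mul_assoc, ← mul_assoc, S.jj, one_mul]
  rw [mul_assoc, h2, ← mul_assoc, ← pow_add]
  have : u1 ^ (5 + 5) = u1 := by
    rw [show 5 + 5 = 9 + 1 by norm_num, pow_add, h9, one_mul, pow_one]
  rw [this]

/-- for `h₀ ∈ H` with `h₀² ≠ 1`, every element of `U h₀` is `U`-conjugate to `h₀` -/
theorem exists_conj_of_sq_ne_one (S : Setup G q U H j) {u0 h0 : G} (hu0 : u0 ∈ U) (hh0 : h0 ∈ H)
    (hne : h0 * h0 ≠ 1) : ∃ u ∈ U, u0 * h0 = u * h0 * u⁻¹ := by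
  let φ : U → U := fun u => ⟨(u : G) * h0 * (u : G)⁻¹ * h0⁻¹, by
    have : (u : G) * h0 * (u : G)⁻¹ * h0⁻¹ = (u : G) * (h0 * (u : G)⁻¹ * h0⁻¹) := by group
    rw [this]
    exact U.mul_mem u.2 (S.hHU h0 hh0 _ (U.inv_mem u.2))⟩
  have hinj : Function.Injective φ := by
    rintro ⟨u, hu⟩ ⟨u', hu'⟩ he
    simp only [φ, Subtype.mk.injEq] at he
    have h1 : u * h0 * u⁻¹ = u' * h0 * u'⁻¹ := mul_right_cancel he
    have hc : Commute h0 (u'⁻¹ * u) := by
      show h0 * (u'⁻¹ * u) = (u'⁻¹ * u) * h0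
      have : u'⁻¹ * (u * h0 * u⁻¹) * u = u'⁻¹ * (u' * h0 * u'⁻¹) * u := by rw [h1]
      have e1 : u'⁻¹ * (u * h0 * u⁻¹) * u = (u'⁻¹ * u) * h0 := by group
      have e2 : u'⁻¹ * (u' * h0 * u'⁻¹) * u = h0 * (u'⁻¹ * u) := by group
      rw [e1, e2] at this
      exact this.symm
    have := S.hfree h0 hh0 hne _ (U.mul_mem (U.inv_mem hu') hu) hc
    have : u = u' := (inv_mul_eq_one.mp this).symm
    subst this; rfl
  obtain ⟨u, hu⟩ := (Finite.injective_iff_surjective.mp hinj) ⟨u0, hu0⟩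
  refine ⟨u, u.2, ?_⟩
  have := congrArg Subtype.val hu
  simp only [φ] at this
  rw [← this]; group

/-- **Structure of the centraliser of a nontrivial element of `U`.** -/
theorem structure_of_commute (S : Setup G q U H j) {g w : G} (hw : w ∈ U) (hw1 : w ≠ 1)
    (hgw : Commute g w) :
    g ∈ U ∨ ∃ t ∈ U, ∃ c ∈ U, Commute c j ∧ g = t * (j * c) * t⁻¹ := by
  have hgB : g ∈ U ⊔ H := by
    apply S.hTI g w hw hw1
    have : g * w * g⁻¹ = w := by rw [hgw.eq, mul_inv_cancel_right]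
    rw [this]; exact hw
  obtain ⟨u0, hu0, h0, hh0, rfl⟩ := S.exists_of_mem_sup hgB
  by_cases hsq : h0 * h0 = 1
  · rcases S.hinv h0 hh0 hsq with rfl | rfl
    · left; simpa using hu0
    · right
      -- g = u0 j
      obtain ⟨g, hg⟩ : ∃ g, g = u0 * h0 := ⟨_, rfl⟩
      rw [← hg] at hgw ⊢
      have hv : g * g ∈ U := by
        have : g * g = u0 * (h0 * u0 * h0⁻¹) * (h0 * h0) := by rw [hg]; group
        rw [this, S.jj, mul_one]
        exact U.mul_mem hu0 (S.hHU h0 hh0 u0 hu0)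
      have hv9 : (g * g) ^ 9 = 1 := S.hU9 _ hv
      have hgv : Commute g (g * g) := (Commute.refl g).mul_right (Commute.refl g)
      -- s = g v⁴ = u1 j
      have hs_mem : g * (g * g) ^ 4 * h0⁻¹ ∈ U := by
        have : g * (g * g) ^ 4 * h0⁻¹ = u0 * (h0 * (g * g) ^ 4 * h0⁻¹) := by rw [hg]; group
        rw [this]
        exact U.mul_mem hu0 (S.hHU h0 hh0 _ (U.pow_mem hv 4))
      have hs_eq : g * (g * g) ^ 4 = (g * (g * g) ^ 4 * h0⁻¹) * h0 := by group
      have hs_sq : (g * (g * g) ^ 4) * (g * (g * g) ^ 4) = 1 := by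
        have : (g * (g * g) ^ 4) * (g * (g * g) ^ 4) = (g * g) ^ 9 := by
          have e : g * g = g ^ 2 := (pow_two g).symm
          rw [e, ← pow_mul, ← pow_mul]; group
        rw [this, hv9]
      rw [hs_eq] at hs_sq
      obtain ⟨t, ht, hst⟩ := S.exists_conj_of_sq_eq_one hs_mem hs_sq
      rw [← hs_eq] at hst
      -- c = t⁻¹ v⁵ t
      refine ⟨t, ht, t⁻¹ * (g * g) ^ 5 * t, ?_, ?_, ?_⟩
      · exact U.mul_mem (U.mul_mem (U.inv_mem ht) (U.pow_mem hv 5)) ht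
      · -- Commute c j
        have hc : Commute ((g * g) ^ 5) (g * (g * g) ^ 4) := by
          have h1 : Commute (g * g) (g * (g * g) ^ 4) :=
            (hgv.symm).mul_right ((Commute.refl _).pow_right 4)
          exact h1.pow_left 5
        rw [hst] at hc
        show t⁻¹ * (g * g) ^ 5 * t * h0 = h0 * (t⁻¹ * (g * g) ^ 5 * t)
        have := hc.eq
        have e : t⁻¹ * ((g * g) ^ 5 * (t * h0 * t⁻¹)) * t = t⁻¹ * (t * h0 * t⁻¹ * (g * g) ^ 5) * t := by
          rw [this]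
        have e1 : t⁻¹ * ((g * g) ^ 5 * (t * h0 * t⁻¹)) * t = t⁻¹ * (g * g) ^ 5 * t * h0 := by group
        have e2 : t⁻¹ * (t * h0 * t⁻¹ * (g * g) ^ 5) * t = h0 * (t⁻¹ * (g * g) ^ 5 * t) := by group
        rw [e1, e2] at e
        exact e
      · -- g = t (j c) t⁻¹ = s v⁵
        have : t * (h0 * (t⁻¹ * (g * g) ^ 5 * t)) * t⁻¹ = (t * h0 * t⁻¹) * (g * g) ^ 5 := by group
        rw [this, ← hst]
        have : g * (g * g) ^ 4 * (g * g) ^ 5 = g * (g * g) ^ 9 := by group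
        rw [this, hv9, mul_one]
  · exfalso
    obtain ⟨u, hu, he⟩ := S.exists_conj_of_sq_ne_one hu0 hh0 hsq
    rw [he] at hgw
    have hc : Commute h0 (u⁻¹ * w * u) := by
      show h0 * (u⁻¹ * w * u) = u⁻¹ * w * u * h0
      have := hgw.eq
      have e : u⁻¹ * (u * h0 * u⁻¹ * w) * u = u⁻¹ * (w * (u * h0 * u⁻¹)) * u := by rw [this]
      have e1 : u⁻¹ * (u * h0 * u⁻¹ * w) * u = h0 * (u⁻¹ * w * u) := by group
      have e2 : u⁻¹ * (w * (u * h0 * u⁻¹)) * u = u⁻¹ * w * u * h0 := by group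
      rw [e1, e2] at e
      exact e
    have h1 := S.hfree h0 hh0 hsq _ (U.mul_mem (U.mul_mem (U.inv_mem hu) hw) hu) hc
    apply hw1
    have : w = u * (u⁻¹ * w * u) * u⁻¹ := by group
    rw [this, h1]; group

omit [Finite G] in
theorem orderOf_conj_eq (x g : G) : orderOf (x * g * x⁻¹) = orderOf g :=
  ((SemiconjBy.conj_mk x g).orderOf_eq).symm

theorem pow_six_of_structure (S : Setup G q U H j) {g : G}
    (h : ∃ t ∈ U, ∃ c ∈ U, Commute c j ∧ g = t * (j * c) * t⁻¹) : g ^ 6 = 1 := by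
  obtain ⟨t, _, c, hc, hcj, rfl⟩ := h
  rw [conj_pow, hcj.symm.mul_pow]
  have h1 : j ^ 6 = 1 := by
    rw [show 6 = 2 * 3 by norm_num, pow_mul, pow_two, S.jj, one_pow]
  have h2 : c ^ 6 = 1 := by
    rw [show 6 = 3 * 2 by norm_num, pow_mul, S.hCj3 c hc hcj, one_pow]
  rw [h1, h2]; group

/-- **The orders of the `3`-singular elements.** -/
theorem orderOf_cases (S : Setup G q U H j) {g : G} (h3 : 3 ∣ orderOf g) :
    orderOf g = 3 ∨ orderOf g = 6 ∨ orderOf g = 9 := by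
  have hw0 : orderOf (g ^ (orderOf g / 3)) = 3 :=
    orderOf_pow_orderOf_div (orderOf_pos g).ne' h3
  obtain ⟨x, hx⟩ := S.exists_conj_mem (k := 1) (by rw [hw0, pow_one])
  have hxw : x * g ^ (orderOf g / 3) * x⁻¹ = (x * g * x⁻¹) ^ (orderOf g / 3) := (conj_pow).symm
  have hw1 : x * g ^ (orderOf g / 3) * x⁻¹ ≠ 1 := by
    intro h
    have := orderOf_conj_eq x (g ^ (orderOf g / 3))
    rw [h, orderOf_one, hw0] at this
    omega
  have hcomm : Commute (x * g * x⁻¹) (x * g ^ (orderOf g / 3) * x⁻¹) := by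
    rw [hxw]; exact (Commute.refl _).pow_right _
  rcases S.structure_of_commute hx hw1 hcomm with h | h
  · have h9 : g ^ 9 = 1 := by
      have := S.hU9 _ h
      rw [conj_pow] at this
      have e : g ^ 9 = x⁻¹ * (x * g ^ 9 * x⁻¹) * x := by group
      rw [e, this]; group
    have hd : orderOf g ∣ 3 ^ 2 := by
      rw [show (3 : ℕ) ^ 2 = 9 by norm_num]; exact orderOf_dvd_of_pow_eq_one h9
    obtain ⟨k, hk, hk'⟩ := (Nat.dvd_prime_pow Nat.prime_three).mp hd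
    interval_cases k
    · rw [hk'] at h3; norm_num at h3
    · left; rw [hk']; norm_num
    · right; right; rw [hk']; norm_num
  · have h6 : g ^ 6 = 1 := by
      have := S.pow_six_of_structure h
      rw [conj_pow] at this
      have e : g ^ 6 = x⁻¹ * (x * g ^ 6 * x⁻¹) * x := by group
      rw [e, this]; group
    have hd : orderOf g ∣ 6 := orderOf_dvd_of_pow_eq_one h6
    obtain ⟨o, ho⟩ : ∃ o, o = orderOf g := ⟨_, rfl⟩
    rw [← ho] at hd h3 ⊢
    have hle := Nat.le_of_dvd (by norm_num) hd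
    have hpos : 0 < o := ho ▸ orderOf_pos g
    interval_cases o <;> omega

/-- **Global count from the local count**: the elements of order `m` whose `k`-th power is a
nontrivial `3`-element. -/
theorem card_orderOf_eq (S : Setup G q U H j) (m k e : ℕ) (he : 0 < e)
    (hmk : ∀ g : G, orderOf g = m → orderOf (g ^ k) = 3 ^ e) :
    Nat.card {g : G // orderOf g = m} =
      (q ^ 3 + 1) * Nat.card {y : G // orderOf y = m ∧ y ^ k ∈ U} := by
  have hne : ∀ g : G, orderOf g = m → g ^ k ≠ 1 := by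
    intro g hg h
    have := hmk g hg
    rw [h, orderOf_one] at this
    have : 1 < 3 ^ e := Nat.one_lt_pow he.ne' (by norm_num)
    omega
  have key := card_conj_union (⊤ : Subgroup G) (U ⊔ H) {y : G | orderOf y = m ∧ y ^ k ∈ U} le_top
    (by
      rintro b hb y ⟨hy1, hy2⟩
      refine ⟨by rw [orderOf_conj_eq, hy1], ?_⟩
      rw [conj_pow]; exact S.conj_mem_of_mem_sup hb hy2)
    (by
      rintro x - y ⟨hy1, hy2⟩ ⟨_, hx2⟩
      rw [conj_pow] at hx2
      exact S.hTI x _ hy2 (hne y hy1) hx2)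
  have hZ : Nat.card {z : G // ∃ g ∈ (⊤ : Subgroup G), ∃ y ∈ {y : G | orderOf y = m ∧ y ^ k ∈ U},
      z = g * y * g⁻¹} = Nat.card {g : G // orderOf g = m} := by
    apply Nat.card_congr
    apply Equiv.subtypeEquivRight
    intro z
    constructor
    · rintro ⟨g, -, y, ⟨hy1, _⟩, rfl⟩
      rw [orderOf_conj_eq, hy1]
    · intro hz
      obtain ⟨x, hx⟩ := S.exists_conj_mem (hmk z hz)
      refine ⟨x⁻¹, Subgroup.mem_top _, x * z * x⁻¹, ⟨by rw [orderOf_conj_eq, hz], ?_⟩, by group⟩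
      rw [conj_pow]; exact hx
  rw [hZ, S.card_sup, Subgroup.card_top, S.hG] at key
  have hpos : 0 < q ^ 3 * (q - 1) := by
    have := S.three_le_q
    have h1 : 0 < q ^ 3 := by positivity
    have h2 : 0 < q - 1 := by omega
    positivity
  have : Nat.card {g : G // orderOf g = m} * (q ^ 3 * (q - 1)) =
      ((q ^ 3 + 1) * Nat.card {y : G // orderOf y = m ∧ y ^ k ∈ U}) * (q ^ 3 * (q - 1)) := by
    rw [key]
    show q ^ 3 * (q - 1) * (q ^ 3 + 1) * Nat.card {y : G // orderOf y = m ∧ y ^ k ∈ U} = _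
    ring
  exact Nat.eq_of_mul_eq_mul_right hpos this

/-! ### Local counts -/

theorem ncard_pow_three (S : Setup G q U H j) :
    Set.ncard {y : G | y ∈ U ∧ y ^ 3 = 1} = q ^ 2 := by
  rw [← S.hU3, ← _root_.Nat.card_coe_set_eq]
  exact Nat.card_congr (Equiv.subtypeSubtypeEquivSubtypeInter (fun y : G => y ∈ U)
    (fun y : G => y ^ 3 = 1)).symm

theorem card_local_three (S : Setup G q U H j) :
    Nat.card {y : G // orderOf y = 3 ∧ y ^ 1 ∈ U} = q ^ 2 - 1 := by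
  have hins : {y : G | y ∈ U ∧ y ^ 3 = 1} = insert 1 {y : G | orderOf y = 3 ∧ y ^ 1 ∈ U} := by
    ext y
    simp only [Set.mem_ofPred_eq, Set.mem_insert_iff, pow_one]
    constructor
    · rintro ⟨hy, h3⟩
      have hd : orderOf y ∣ 3 := orderOf_dvd_of_pow_eq_one h3
      rcases (Nat.dvd_prime Nat.prime_three).mp hd with h | h
      · left; exact orderOf_eq_one_iff.mp h
      · right; exact ⟨h, hy⟩
    · rintro (rfl | ⟨h, hy⟩)
      · exact ⟨U.one_mem, one_pow 3⟩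
      · exact ⟨hy, by rw [← h, pow_orderOf_eq_one]⟩
  have h1 : (1 : G) ∉ {y : G | orderOf y = 3 ∧ y ^ 1 ∈ U} := by
    simp only [Set.mem_ofPred_eq, not_and]
    intro h; rw [orderOf_one] at h; omega
  have := S.ncard_pow_three
  rw [hins, Set.ncard_insert_of_notMem h1 (Set.toFinite _)] at this
  have e : Nat.card {y : G // orderOf y = 3 ∧ y ^ 1 ∈ U} =
      Set.ncard {y : G | orderOf y = 3 ∧ y ^ 1 ∈ U} := _root_.Nat.card_coe_set_eq _
  rw [e]; omega

theorem card_local_nine (S : Setup G q U H j) :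
    Nat.card {y : G // orderOf y = 9 ∧ y ^ 1 ∈ U} = q ^ 3 - q ^ 2 := by
  have hun : (U : Set G) = {y : G | y ∈ U ∧ y ^ 3 = 1} ∪ {y : G | orderOf y = 9 ∧ y ^ 1 ∈ U} := by
    ext y
    simp only [SetLike.mem_coe, Set.mem_union, Set.mem_ofPred_eq, pow_one]
    constructor
    · intro hy
      have hd : orderOf y ∣ 3 ^ 2 := by
        rw [show (3 : ℕ) ^ 2 = 9 by norm_num]; exact orderOf_dvd_of_pow_eq_one (S.hU9 y hy)
      obtain ⟨k, hk, hk'⟩ := (Nat.dvd_prime_pow Nat.prime_three).mp hd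
      interval_cases k
      · left; refine ⟨hy, ?_⟩
        rw [pow_zero] at hk'; rw [orderOf_eq_one_iff.mp hk', one_pow]
      · left; refine ⟨hy, ?_⟩
        rw [pow_one] at hk'; rw [← hk', pow_orderOf_eq_one]
      · right; exact ⟨by rw [hk']; norm_num, hy⟩
    · rintro (⟨hy, _⟩ | ⟨_, hy⟩) <;> exact hy
  have hdisj : Disjoint {y : G | y ∈ U ∧ y ^ 3 = 1} {y : G | orderOf y = 9 ∧ y ^ 1 ∈ U} := by
    rw [Set.disjoint_left]
    rintro y ⟨_, h3⟩ ⟨h9, _⟩
    have := orderOf_dvd_of_pow_eq_one h3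
    rw [h9] at this; omega
  have hU : Set.ncard (U : Set G) = q ^ 3 := by
    rw [← S.hU]; exact (_root_.Nat.card_coe_set_eq (U : Set G)).symm
  rw [hun, Set.ncard_union_eq hdisj (Set.toFinite _) (Set.toFinite _), S.ncard_pow_three] at hU
  have e : Nat.card {y : G // orderOf y = 9 ∧ y ^ 1 ∈ U} =
      Set.ncard {y : G | orderOf y = 9 ∧ y ^ 1 ∈ U} := _root_.Nat.card_coe_set_eq _
  rw [e]; omega

omit [Finite G] in
/-- `C_U(j)` as a subgroup of `G` -/
def CU (U : Subgroup G) (j : G) : Subgroup G where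
  carrier := {u | u ∈ U ∧ Commute u j}
  mul_mem' := fun ha hb => ⟨U.mul_mem ha.1 hb.1, ha.2.mul_left hb.2⟩
  one_mem' := ⟨U.one_mem, Commute.one_left j⟩
  inv_mem' := fun ha => ⟨U.inv_mem ha.1, ha.2.inv_left⟩

omit [Finite G] in
theorem mem_CU {u : G} : u ∈ CU U j ↔ u ∈ U ∧ Commute u j := Iff.rfl

omit [Finite G] in
theorem card_CU (S : Setup G q U H j) : Nat.card (CU U j) = q := by
  rw [← S.hCj]
  exact Nat.card_congr (Equiv.subtypeSubtypeEquivSubtypeInter (fun y : G => y ∈ U)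
    (fun y : G => Commute y j)).symm

theorem orderOf_of_mem_CU (S : Setup G q U H j) {c : G} (hc : c ∈ U) (hcj : Commute c j)
    (hc1 : c ≠ 1) : orderOf c = 3 := by
  have hd : orderOf c ∣ 3 := orderOf_dvd_of_pow_eq_one (S.hCj3 c hc hcj)
  rcases (Nat.dvd_prime Nat.prime_three).mp hd with h | h
  · exact absurd (orderOf_eq_one_iff.mp h) hc1
  · exact h

theorem card_Yj (S : Setup G q U H j) :
    Nat.card {y : G // ∃ c ∈ U, Commute c j ∧ c ≠ 1 ∧ y = j * c} = q - 1 := by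
  have h1 : {y : G | ∃ c ∈ U, Commute c j ∧ c ≠ 1 ∧ y = j * c} =
      (fun c => j * c) '' (((CU U j : Subgroup G) : Set G) \ {1}) := by
    ext y
    simp only [Set.mem_ofPred_eq, Set.mem_image, Set.mem_sdiff, SetLike.mem_coe,
      Set.mem_singleton_iff]
    constructor
    · rintro ⟨c, hc, hcj, hc1, rfl⟩
      exact ⟨c, ⟨⟨hc, hcj⟩, hc1⟩, rfl⟩
    · rintro ⟨c, ⟨⟨hc, hcj⟩, hc1⟩, rfl⟩
      exact ⟨c, hc, hcj, hc1, rfl⟩
  have e : Nat.card {y : G // ∃ c ∈ U, Commute c j ∧ c ≠ 1 ∧ y = j * c} =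
      Set.ncard {y : G | ∃ c ∈ U, Commute c j ∧ c ≠ 1 ∧ y = j * c} :=
    _root_.Nat.card_coe_set_eq _
  rw [e, h1, Set.ncard_image_of_injective _ (mul_right_injective j),
    Set.ncard_sdiff_singleton_of_mem (Subgroup.one_mem _)]
  have : Set.ncard ((CU U j : Subgroup G) : Set G) = q := by
    rw [← S.card_CU]; exact (_root_.Nat.card_coe_set_eq _).symm
  rw [this]

theorem pow_four_jc (S : Setup G q U H j) {c : G} (hc : c ∈ U) (hcj : Commute c j) :
    (j * c) ^ 4 = c := by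
  rw [hcj.symm.mul_pow]
  have h1 : j ^ 4 = 1 := by
    have hj : j ^ 2 = 1 := by rw [pow_two, S.jj]
    rw [show 4 = 2 * 2 by norm_num, pow_mul, hj, one_pow]
  have h2 : c ^ 4 = c := by
    rw [show 4 = 3 + 1 by norm_num, pow_add, S.hCj3 c hc hcj, one_mul, pow_one]
  rw [h1, h2, one_mul]

theorem pow_three_jc (S : Setup G q U H j) {c : G} (hc : c ∈ U) (hcj : Commute c j) :
    (j * c) ^ 3 = j := by
  rw [hcj.symm.mul_pow, S.hCj3 c hc hcj, mul_one]
  rw [show 3 = 2 + 1 by norm_num, pow_add, pow_two, S.jj, one_mul, pow_one]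

theorem card_local_six (S : Setup G q U H j) :
    Nat.card {y : G // orderOf y = 6 ∧ y ^ 4 ∈ U} = q ^ 2 * (q - 1) := by
  have key := card_conj_union U (CU U j) {y : G | ∃ c ∈ U, Commute c j ∧ c ≠ 1 ∧ y = j * c}
    (fun x hx => hx.1)
    (by
      rintro n ⟨hn, hnj⟩ y ⟨c, hc, hcj, hc1, rfl⟩
      refine ⟨n * c * n⁻¹, U.mul_mem (U.mul_mem hn hc) (U.inv_mem hn),
        (hnj.mul_left hcj).mul_left hnj.inv_left, ?_, ?_⟩
      · intro h
        apply hc1
        have : c = n⁻¹ * (n * c * n⁻¹) * n := by group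
        rw [this, h]; group
      · have : n * (j * c) * n⁻¹ = (n * j) * c * n⁻¹ := by group
        rw [this, hnj.eq]; group)
    (by
      rintro a ha y ⟨c, hc, hcj, _, rfl⟩ ⟨c', hc', hcj', _, he⟩
      refine ⟨ha, ?_⟩
      have h3 : a * j * a⁻¹ = j := by
        have : (a * (j * c) * a⁻¹) ^ 3 = (j * c') ^ 3 := by rw [he]
        rw [conj_pow, S.pow_three_jc hc hcj, S.pow_three_jc hc' hcj'] at this
        exact this
      show a * j = j * a
      have : a * j = (a * j * a⁻¹) * a := by group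
      rw [this, h3])
  have hZ : Nat.card {z : G // ∃ g ∈ U, ∃ y ∈ {y : G | ∃ c ∈ U, Commute c j ∧ c ≠ 1 ∧ y = j * c},
      z = g * y * g⁻¹} = Nat.card {y : G // orderOf y = 6 ∧ y ^ 4 ∈ U} := by
    apply Nat.card_congr
    apply Equiv.subtypeEquivRight
    intro z
    constructor
    · rintro ⟨a, ha, y, ⟨c, hc, hcj, hc1, rfl⟩, rfl⟩
      constructor
      · rw [orderOf_conj_eq, hcj.symm.orderOf_mul_eq_mul_orderOf_of_coprime, S.hj2,
          S.orderOf_of_mem_CU hc hcj hc1]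
        rw [S.hj2, S.orderOf_of_mem_CU hc hcj hc1]; norm_num
      · rw [conj_pow, S.pow_four_jc hc hcj]
        exact U.mul_mem (U.mul_mem ha hc) (U.inv_mem ha)
    · rintro ⟨h6, h4⟩
      have hw1 : z ^ 4 ≠ 1 := by
        intro h
        have := orderOf_dvd_of_pow_eq_one h
        rw [h6] at this; omega
      rcases S.structure_of_commute h4 hw1 ((Commute.refl z).pow_right 4) with h | h
      · exfalso
        have := orderOf_dvd_of_pow_eq_one (S.hU9 z h)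
        rw [h6] at this; omega
      · obtain ⟨t, ht, c, hc, hcj, rfl⟩ := h
        refine ⟨t, ht, j * c, ⟨c, hc, hcj, ?_, rfl⟩, rfl⟩
        rintro rfl
        rw [mul_one, orderOf_conj_eq, S.hj2] at h6
        omega
  have hY : Nat.card ({y : G | ∃ c ∈ U, Commute c j ∧ c ≠ 1 ∧ y = j * c} : Set G) = q - 1 :=
    S.card_Yj
  rw [hZ, S.card_CU, S.hU, hY] at key
  have hq := S.q_pos
  have : Nat.card {y : G // orderOf y = 6 ∧ y ^ 4 ∈ U} * q = (q ^ 2 * (q - 1)) * q := by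
    rw [key]; ring
  exact Nat.eq_of_mul_eq_mul_right hq this

end Setup

set_option linter.unusedVariables false in
/-- **P8**: the 3-singular elements of a group with a TI Sylow 3-subgroup `U` of order `q³`,
`N(U) = U ⋊ H`, `H` abelian of order `q - 1` with a unique involution `j`, acting freely on `U`
apart from `j`. -/
theorem P8_three_singular {G : Type*} [Group G] [Finite G] (q : ℕ) (hq : ∃ n : ℕ, 0 < n ∧ q = 3 ^ n)
    (U H : Subgroup G) (j : G)
    (hU : Nat.card U = q ^ 3)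
    (hTI : ∀ g : G, ∀ y ∈ U, y ≠ 1 → g * y * g⁻¹ ∈ U → g ∈ U ⊔ H)
    (hHU : ∀ h ∈ H, ∀ u ∈ U, h * u * h⁻¹ ∈ U)
    (hH : Nat.card H = q - 1) (hHcomm : ∀ a ∈ H, ∀ b ∈ H, Commute a b)
    (hj : j ∈ H) (hj2 : orderOf j = 2)
    (hinv : ∀ h ∈ H, h * h = 1 → h = 1 ∨ h = j)
    (hfree : ∀ h ∈ H, h * h ≠ 1 → ∀ u ∈ U, Commute h u → u = 1)
    (hCj : Nat.card {u : U // Commute (u : G) j} = q)
    (hCj3 : ∀ u ∈ U, Commute u j → u ^ 3 = 1)
    (hU9 : ∀ u ∈ U, u ^ 9 = 1)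
    (hU3 : Nat.card {u : U // (u : G) ^ 3 = 1} = q ^ 2)
    (hG : Nat.card G = q ^ 3 * (q - 1) * (q ^ 3 + 1)) :
    (∀ g : G, 3 ∣ orderOf g → orderOf g = 3 ∨ orderOf g = 6 ∨ orderOf g = 9) ∧
    Nat.card {g : G // orderOf g = 3} = (q ^ 2 - 1) * (q ^ 3 + 1) ∧
    Nat.card {g : G // orderOf g = 9} = q ^ 2 * (q - 1) * (q ^ 3 + 1) ∧
    Nat.card {g : G // orderOf g = 6} = q ^ 2 * (q - 1) * (q ^ 3 + 1) := by
  have S : Setup G q U H j :=
    ⟨hq, hU, hTI, hHU, hH, hj, hj2, hinv, hfree, hCj, hCj3, hU9, hU3, hG⟩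
  refine ⟨fun g h3 => S.orderOf_cases h3, ?_, ?_, ?_⟩
  · rw [S.card_orderOf_eq 3 1 1 one_pos (fun g hg => by rw [pow_one, pow_one, hg]),
      S.card_local_three, mul_comm]
  · rw [S.card_orderOf_eq 9 1 2 (by norm_num) (fun g hg => by rw [pow_one, hg]; norm_num),
      S.card_local_nine]
    have h1 : q ^ 2 ≤ q ^ 3 := Nat.pow_le_pow_right S.q_pos (by norm_num)
    have h2 : q ^ 3 - q ^ 2 = q ^ 2 * (q - 1) := by
      rw [Nat.mul_sub, mul_one, ← pow_succ]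
    rw [h2, mul_comm]
  · rw [S.card_orderOf_eq 6 4 1 one_pos (fun g hg => by
        rw [orderOf_pow, hg, pow_one]; norm_num),
      S.card_local_six, mul_comm]

end Cfsg.Agent.Helper16.ReeP8
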