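import Mathlib
import Cfsg.Agent.Helper6.ReeLoc.Hyp
import Cfsg.Agent.Helper23.ReeP3

/-!
# Piece R2 of helper6's small Ree cluster (round 2): the class equation

The classification of the non-trivial elements of a group of Ree type into five types and the
number of `π`-elements, `π` the set of primes dividing `q² - q + 1`.
-/

set_option autoImplicit false
set_option linter.unusedSectionVars false
set_option linter.unusedVariables false

open Cfsg.Agent.Helper6.ReeLoc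

namespace Cfsg.Agent.Helper16.ReeR2

variable {G : Type*} [Group G]

/-! ### generic group lemmas -/

theorem orderOf_conj_eq (a g : G) : orderOf (a * g * a⁻¹) = orderOf g :=
  ((SemiconjBy.conj_mk a g).orderOf_eq).symm

theorem conj_mul_self (a g : G) : (a * g * a⁻¹) * (a * g * a⁻¹) = a * (g * g) * a⁻¹ := by group

theorem conj_mul_self_ne_one {a g : G} (h : g * g ≠ 1) : (a * g * a⁻¹) * (a * g * a⁻¹) ≠ 1 := by
  rw [conj_mul_self]
  intro e
  apply h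
  have : g * g = a⁻¹ * (a * (g * g) * a⁻¹) * a := by group
  rw [this, e]; group

theorem orderOf_dvd_of_conj_mem [Finite G] {Z : Subgroup G} {a g : G} (h : a * g * a⁻¹ ∈ Z) :
    orderOf g ∣ Nat.card Z := by
  rw [← orderOf_conj_eq a g]
  exact Subgroup.orderOf_dvd_natCard Z h

theorem mul_self_eq_one_of_orderOf_dvd_two {g : G} (h : orderOf g ∣ 2) : g * g = 1 := by
  rw [← pow_two]
  exact orderOf_dvd_iff_pow_eq_one.1 h

/-- if all conjugates `g z g⁻¹`, `z ∈ Z`, lie in `Z` then `g` normalises `Z` -/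
theorem mem_normalizer_of_cj_le [Finite G] {Z : Subgroup G} {g : G} (h : cj g Z ≤ Z) :
    g ∈ Subgroup.normalizer (Z : Set G) := by
  rw [Subgroup.mem_normalizer_iff_map_conj_eq]
  exact Subgroup.eq_of_le_of_card_ge h (card_cj g Z).ge

/-- an element of order divisible by a prime dividing `|A|` is conjugate into `Z` -/
theorem exists_conj_mem_of_prime_dvd [Finite G] {A Z : Subgroup G} (hsc : SC A Z) (g : G) (p : ℕ)
    (hp : p.Prime) (hpo : p ∣ orderOf g) (hpA : p ∣ Nat.card A) : ∃ a : G, a * g * a⁻¹ ∈ Z := by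
  have hpos : orderOf g ≠ 0 := (orderOf_pos g).ne'
  set g' := g ^ (orderOf g / p) with hg'
  have hg'ord : orderOf g' = p := orderOf_pow_orderOf_div hpos hpo
  have hXc : ∀ x ∈ Subgroup.zpowers g', ∀ y ∈ Subgroup.zpowers g', Commute x y := by
    intro x hx y hy
    obtain ⟨i, rfl⟩ := Subgroup.mem_zpowers_iff.1 hx
    obtain ⟨j, rfl⟩ := Subgroup.mem_zpowers_iff.1 hy
    exact (Commute.refl g').zpow_zpow i j
  have hcard : Nat.card (Subgroup.zpowers g') ∣ Nat.card A := by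
    rw [Nat.card_zpowers, hg'ord]; exact hpA
  obtain ⟨a, ha⟩ := hsc.exists_conj_le (Subgroup.zpowers g') hXc hcard
  refine ⟨a, ?_⟩
  have h1 : a * g' * a⁻¹ ∈ A := ha (conj_mem_cj (Subgroup.mem_zpowers g'))
  have h2 : a * g' * a⁻¹ ≠ 1 := by
    intro e
    have : orderOf (a * g' * a⁻¹) = 1 := by rw [e, orderOf_one]
    rw [orderOf_conj_eq, hg'ord] at this
    exact hp.one_lt.ne' this
  apply hsc.cent _ h1 h2
  have hc : Commute g g' := (Commute.refl g).pow_right _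
  have e1 : a * g * a⁻¹ * (a * g' * a⁻¹) = a * (g * g') * a⁻¹ := by group
  have e2 : a * g' * a⁻¹ * (a * g * a⁻¹) = a * (g' * g) * a⁻¹ := by group
  rw [Commute, SemiconjBy, e1, e2, hc.eq]

/-! ### arithmetic of `q = 3^(2m+1)` -/

section arith

variable {q : ℕ}

theorem M_eq (hq : 1 ≤ q) : q ^ 2 - q + 1 = q * (q - 1) + 1 := by
  rw [Nat.mul_sub_one, pow_two]

theorem dvd_one_of_dvd_pred {p : ℕ} (h1 : p ∣ q - 1) (h2 : p ∣ q * (q - 1) + 1) : p ∣ 1 :=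
  (Nat.dvd_add_right (dvd_mul_of_dvd_right h1 q)).1 h2

theorem dvd_one_of_dvd_self {p : ℕ} (h1 : p ∣ q) (h2 : p ∣ q * (q - 1) + 1) : p ∣ 1 :=
  (Nat.dvd_add_right (dvd_mul_of_dvd_left h1 (q - 1))).1 h2

theorem false_of_dvd_succ (hq3 : 3 ∣ q) (hq : 2 ≤ q) {p : ℕ} (hp : p.Prime) (h1 : p ∣ q + 1)
    (h2 : p ∣ q * (q - 1) + 1) : False := by
  obtain ⟨k, rfl⟩ : ∃ k, q = k + 2 := ⟨q - 2, by omega⟩
  have e : (k + 2) * (k + 2 - 1) + 1 = (k + 2 + 1) * k + 3 := by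
    have : k + 2 - 1 = k + 1 := by omega
    rw [this]; ring
  rw [e] at h2
  have h3 : p ∣ 3 := (Nat.dvd_add_right (dvd_mul_of_dvd_left h1 k)).1 h2
  have h4 : p = 3 := (Nat.prime_dvd_prime_iff_eq hp Nat.prime_three).1 h3
  subst h4
  omega

theorem M_odd : ¬ 2 ∣ q * (q - 1) + 1 := by
  have h := Nat.even_mul_pred_self q
  rw [even_iff_two_dvd] at h
  omega

theorem M_not_three (hq3 : 3 ∣ q) : ¬ 3 ∣ q * (q - 1) + 1 := by
  intro h
  have := dvd_one_of_dvd_self hq3 h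
  omega

theorem cube_succ (hq : 1 ≤ q) : q ^ 3 + 1 = (q + 1) * (q * (q - 1) + 1) := by
  obtain ⟨k, rfl⟩ : ∃ k, q = k + 1 := ⟨q - 1, by omega⟩
  have : k + 1 - 1 = k := by omega
  rw [this]; ring

theorem sq_pred (hq : 1 ≤ q) : q ^ 2 - 1 = (q - 1) * (q + 1) := by
  obtain ⟨k, rfl⟩ : ∃ k, q = k + 1 := ⟨q - 1, by omega⟩
  have : k + 1 - 1 = k := by omega
  rw [this]
  apply Nat.sub_eq_of_eq_add
  ring

/-- a prime `≠ 3` dividing `|G|` divides `q - 1`, `q + 1` or `M` -/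
theorem prime_cases (hq : 1 ≤ q) (hq3 : ∀ p : ℕ, p.Prime → p ∣ q → p = 3) {p : ℕ} (hp : p.Prime)
    (hp3 : p ≠ 3) (h : p ∣ q ^ 3 * (q - 1) * (q ^ 3 + 1)) :
    p ∣ q - 1 ∨ p ∣ q + 1 ∨ p ∣ q * (q - 1) + 1 := by
  rw [cube_succ hq] at h
  rcases (Nat.Prime.dvd_mul hp).1 h with h | h
  · rcases (Nat.Prime.dvd_mul hp).1 h with h | h
    · exact absurd (hq3 p hp (hp.dvd_of_dvd_pow h)) hp3
    · exact Or.inl h
  · rcases (Nat.Prime.dvd_mul hp).1 h with h | h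
    · exact Or.inr (Or.inl h)
    · exact Or.inr (Or.inr h)

theorem odd_prime_dvd_half (hq8 : q % 8 = 3) {p : ℕ} (hp : p.Prime) (hp2 : p ≠ 2)
    (h : p ∣ q - 1) : p ∣ (q - 1) / 2 := by
  have e : q - 1 = 2 * ((q - 1) / 2) := by omega
  rw [e] at h
  rcases (Nat.Prime.dvd_mul hp).1 h with h | h
  · exact absurd ((Nat.prime_dvd_prime_iff_eq hp Nat.prime_two).1 h) hp2
  · exact h

theorem odd_prime_dvd_quarter (hq8 : q % 8 = 3) {p : ℕ} (hp : p.Prime) (hp2 : p ≠ 2)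
    (h : p ∣ q + 1) : p ∣ (q + 1) / 4 := by
  have e : q + 1 = 2 * (2 * ((q + 1) / 4)) := by omega
  rw [e] at h
  rcases (Nat.Prime.dvd_mul hp).1 h with h | h
  · exact absurd ((Nat.prime_dvd_prime_iff_eq hp Nat.prime_two).1 h) hp2
  · rcases (Nat.Prime.dvd_mul hp).1 h with h | h
    · exact absurd ((Nat.prime_dvd_prime_iff_eq hp Nat.prime_two).1 h) hp2
    · exact h

theorem q_facts (m : ℕ) (hm : 1 ≤ m) :
    3 ∣ 3 ^ (2 * m + 1) ∧ 3 ^ (2 * m + 1) % 8 = 3 ∧ 27 ≤ 3 ^ (2 * m + 1) ∧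
      ∀ p : ℕ, p.Prime → p ∣ 3 ^ (2 * m + 1) → p = 3 := by
  refine ⟨dvd_pow_self 3 (by omega), ?_, ?_, ?_⟩
  · rw [pow_succ, pow_mul, Nat.mul_mod, Nat.pow_mod]
    norm_num
  · calc 27 = 3 ^ 3 := by norm_num
      _ ≤ 3 ^ (2 * m + 1) := Nat.pow_le_pow_right (by norm_num) (by omega)
  · intro p hp h
    exact (Nat.prime_dvd_prime_iff_eq hp Nat.prime_three).1 (hp.dvd_of_dvd_pow h)

end arith

/-! ### counting tools -/

section count

variable [Finite G]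

/-- the elements of a commutative subgroup squaring to `1` -/
def sqKer (Z : Subgroup G) (hcomm : ∀ a ∈ Z, ∀ b ∈ Z, Commute a b) : Subgroup G where
  carrier := {y | y ∈ Z ∧ y * y = 1}
  one_mem' := ⟨Z.one_mem, by simp⟩
  mul_mem' := by
    rintro a b ⟨ha, ha'⟩ ⟨hb, hb'⟩
    refine ⟨Z.mul_mem ha hb, ?_⟩
    have hc := (hcomm a ha b hb).eq
    calc a * b * (a * b) = a * (b * a) * b := by group
      _ = a * (a * b) * b := by rw [hc]
      _ = (a * a) * (b * b) := by group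
      _ = 1 := by rw [ha', hb', one_mul]
  inv_mem' := by
    rintro a ⟨ha, ha'⟩
    refine ⟨Z.inv_mem ha, ?_⟩
    rw [← mul_inv_rev, ha', inv_one]

theorem mem_sqKer {Z : Subgroup G} {hcomm : ∀ a ∈ Z, ∀ b ∈ Z, Commute a b} {y : G} :
    y ∈ sqKer Z hcomm ↔ y ∈ Z ∧ y * y = 1 := Iff.rfl

theorem sqKer_le (Z : Subgroup G) (hcomm : ∀ a ∈ Z, ∀ b ∈ Z, Commute a b) : sqKer Z hcomm ≤ Z :=
  fun y hy => hy.1

theorem card_sqKer (Z : Subgroup G) (hcomm : ∀ a ∈ Z, ∀ b ∈ Z, Commute a b) :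
    Nat.card {y : G // y ∈ Z ∧ y * y = 1} = Nat.card (sqKer Z hcomm) := rfl

/-- splitting a subgroup into the elements with `y² = 1` and the others -/
theorem card_split (Z : Subgroup G) :
    Nat.card {y : G // y ∈ Z ∧ y * y ≠ 1} + Nat.card {y : G // y ∈ Z ∧ y * y = 1} =
      Nat.card Z := by
  classical
  have e1 := Nat.card_congr (Equiv.sumCompl (fun z : Z => (z : G) * z = 1))
  rw [Nat.card_sum] at e1
  have e2 : Nat.card {z : Z // (z : G) * z = 1} = Nat.card {y : G // y ∈ Z ∧ y * y = 1} :=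
    Nat.card_congr (Equiv.subtypeSubtypeEquivSubtypeInter (fun y => y ∈ Z) (fun y => y * y = 1))
  have e3 : Nat.card {z : Z // ¬ (z : G) * z = 1} = Nat.card {y : G // y ∈ Z ∧ y * y ≠ 1} :=
    Nat.card_congr (Equiv.subtypeSubtypeEquivSubtypeInter (fun y => y ∈ Z) (fun y => y * y ≠ 1))
  omega

/-- a cyclic subgroup of even order has exactly two elements squaring to `1` -/
theorem card_sq_eq_one_cyclic (Z : Subgroup G) (hZ : IsCyclic Z) (h2 : 2 ∣ Nat.card Z) :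
    Nat.card {y : G // y ∈ Z ∧ y * y = 1} = 2 := by
  have hcomm : ∀ a ∈ Z, ∀ b ∈ Z, Commute a b := by
    intro a ha b hb
    have h2 := (IsCyclic.commGroup (α := Z)).mul_comm ⟨a, ha⟩ ⟨b, hb⟩
    exact congrArg Subtype.val h2
  rw [card_sqKer Z hcomm]
  have hcyc : IsCyclic (sqKer Z hcomm) := Subgroup.isCyclic_of_le (sqKer_le Z hcomm)
  obtain ⟨r, hr⟩ := hcyc.exists_generator
  have hord : orderOf r = Nat.card (sqKer Z hcomm) := orderOf_eq_card_of_forall_mem_zpowers hr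
  have hr2 : orderOf r ∣ 2 := by
    apply orderOf_dvd_of_pow_eq_one
    apply Subtype.ext
    rw [pow_two]
    exact r.2.2
  rw [hord] at hr2
  have : Fact (Nat.Prime 2) := ⟨Nat.prime_two⟩
  obtain ⟨t, ht⟩ := exists_prime_orderOf_dvd_card' (G := Z) 2 h2
  have htmem : (t : G) ∈ sqKer Z hcomm := by
    refine ⟨t.2, ?_⟩
    have := pow_orderOf_eq_one t
    rw [ht, pow_two] at this
    exact congrArg Subtype.val this
  have hne : Nat.card (sqKer Z hcomm) ≠ 1 := by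
    intro h1
    have hbot := Subgroup.card_eq_one.1 h1
    rw [hbot, Subgroup.mem_bot] at htmem
    have : t = 1 := Subtype.ext htmem
    rw [this, orderOf_one] at ht
    omega
  rcases (Nat.dvd_prime Nat.prime_two).1 hr2 with h | h
  · exact absurd h hne
  · exact h

/-- counting the conjugates of the elements of `Z` with `y² ≠ 1`, for an `SC`-pair `(A, Z)` in which
a fixed power of every such element is a non-trivial element of `A` -/
theorem card_family {A Z : Subgroup G} (hsc : SC A Z) (e : ℕ)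
    (hpow : ∀ y ∈ Z, y * y ≠ 1 → y ^ e ∈ A ∧ y ^ e ≠ 1) :
    Nat.card {g : G // ∃ a : G, a * g * a⁻¹ ∈ Z ∧ g * g ≠ 1} *
        Nat.card (Subgroup.normalizer (Z : Set G)) =
      Nat.card G * Nat.card {y : G // y ∈ Z ∧ y * y ≠ 1} := by
  have key := Cfsg.Agent.Helper23.ReeP3.P3_card_conj_union (Subgroup.normalizer (Z : Set G))
    {y : G | y ∈ Z ∧ y * y ≠ 1} ?_ ?_
  · have e1 : Nat.card {z : G // ∃ g : G, ∃ y ∈ {y : G | y ∈ Z ∧ y * y ≠ 1}, z = g * y * g⁻¹} =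
        Nat.card {g : G // ∃ a : G, a * g * a⁻¹ ∈ Z ∧ g * g ≠ 1} := by
      apply Nat.card_congr
      apply Equiv.subtypeEquivRight
      intro z
      constructor
      · rintro ⟨g, y, ⟨hyZ, hy2⟩, rfl⟩
        refine ⟨g⁻¹, ?_, conj_mul_self_ne_one hy2⟩
        have : g⁻¹ * (g * y * g⁻¹) * g⁻¹⁻¹ = y := by group
        rw [this]; exact hyZ
      · rintro ⟨a, ha, hz2⟩
        exact ⟨a⁻¹, a * z * a⁻¹, ⟨ha, conj_mul_self_ne_one hz2⟩, by group⟩
    rw [e1] at key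
    exact key
  · intro n hn y hy
    obtain ⟨hyZ, hy2⟩ := hy
    exact ⟨(Subgroup.mem_normalizer_iff.1 hn y).1 hyZ, conj_mul_self_ne_one hy2⟩
  · intro g y hy hgy
    obtain ⟨hyZ, hy2⟩ := hy
    obtain ⟨hgyZ, hgy2⟩ := hgy
    apply mem_normalizer_of_cj_le
    intro z' hz'
    rw [mem_cj] at hz'
    obtain ⟨hA, hne⟩ := hpow _ hgyZ hgy2
    apply hsc.cent _ hA hne
    apply Commute.pow_right
    have hc := (hsc.comm _ hz' _ hyZ).eq
    have e1 : z' * (g * y * g⁻¹) = g * (g⁻¹ * z' * g * y) * g⁻¹ := by group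
    have e2 : g * y * g⁻¹ * z' = g * (y * (g⁻¹ * z' * g)) * g⁻¹ := by group
    rw [Commute, SemiconjBy, e1, e2, hc]

end count

/-! ### groups of Ree type -/

section ree

variable [Finite G] {m : ℕ}

/-- `2`-elements square to `1` -/
theorem sq_eq_one_of_two_pow (h : ReeHyp G m) (g : G) (n : ℕ) (hg : g ^ (2 ^ n) = 1) :
    g * g = 1 := by
  have hdvd : orderOf g ∣ 2 ^ n := orderOf_dvd_of_pow_eq_one hg
  obtain ⟨k, hk, hk2⟩ := (Nat.dvd_prime_pow Nat.prime_two).1 hdvd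
  have : Fact (Nat.Prime 2) := ⟨Nat.prime_two⟩
  have hpg : IsPGroup 2 (Subgroup.zpowers g) := by
    apply IsPGroup.of_card (n := k)
    rw [Nat.card_zpowers, hk2]
  obtain ⟨P, hP⟩ := hpg.exists_le_sylow
  obtain ⟨a, ha⟩ := MulAction.exists_smul_eq G P h.S2
  have hmem : a * g * a⁻¹ ∈ (h.S2 : Subgroup G) := by
    rw [← ha, Sylow.coe_subgroup_smul, Subgroup.mem_pointwise_smul_iff_inv_smul_mem,
      MulAut.smul_def, MulAut.conj_inv_apply]
    have := hP (Subgroup.mem_zpowers g)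
    have e : a⁻¹ * (a * g * a⁻¹) * a = g := by group
    rwa [e]
  have h1 := h.S2_exp _ hmem
  rw [conj_mul_self] at h1
  have : g * g = a⁻¹ * (a * (g * g) * a⁻¹) * a := by group
  rw [this, h1]; group

/-- the classification of the non-trivial elements -/
theorem classify (h : ReeHyp G m) (g : G) (hg : g ≠ 1) :
    3 ∣ orderOf g ∨ orderOf g = 2 ∨
      (∃ a : G, a * g * a⁻¹ ∈ h.ZH ∧ g * g ≠ 1) ∨ (∃ a : G, a * g * a⁻¹ ∈ h.T ∧ g * g ≠ 1) ∨
      (∀ p : ℕ, p.Prime → p ∣ orderOf g →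
        p ∣ (3 ^ (2 * m + 1)) ^ 2 - 3 ^ (2 * m + 1) + 1) := by
  obtain ⟨hq3, hq8, hq27, hqp⟩ := q_facts m h.hm
  have hcard := h.card
  have hAH := h.cardAH
  have hA1 := h.cardA1
  have hcent2 := h.cent2
  generalize 3 ^ (2 * m + 1) = q at *
  rw [M_eq (by omega)]
  by_cases h3 : 3 ∣ orderOf g
  · exact Or.inl h3
  right
  have hdvdG : orderOf g ∣ q ^ 3 * (q - 1) * (q ^ 3 + 1) := hcard ▸ orderOf_dvd_natCard g
  have hprime : ∀ p : ℕ, p.Prime → p ∣ orderOf g →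
      p ∣ q - 1 ∨ p ∣ q + 1 ∨ p ∣ q * (q - 1) + 1 := by
    intro p hp hpo
    apply prime_cases (by omega) hqp hp _ (hpo.trans hdvdG)
    rintro rfl
    exact h3 hpo
  have hsq : ∀ p : ℕ, p.Prime → p ≠ 2 → p ∣ orderOf g → g * g ≠ 1 := by
    intro p hp hp2 hpo e
    have : orderOf g ∣ 2 := orderOf_dvd_of_pow_eq_one (by rw [pow_two]; exact e)
    exact hp2 ((Nat.prime_dvd_prime_iff_eq hp Nat.prime_two).1 (hpo.trans this))
  by_cases hH : ∃ p : ℕ, p.Prime ∧ p ≠ 2 ∧ p ∣ orderOf g ∧ p ∣ q - 1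
  · obtain ⟨p, hp, hp2, hpo, hpq⟩ := hH
    right; left
    obtain ⟨a, ha⟩ := exists_conj_mem_of_prime_dvd h.scH g p hp hpo
      (by rw [hAH]; exact odd_prime_dvd_half hq8 hp hp2 hpq)
    exact ⟨a, ha, hsq p hp hp2 hpo⟩
  by_cases hT : ∃ p : ℕ, p.Prime ∧ p ≠ 2 ∧ p ∣ orderOf g ∧ p ∣ q + 1
  · obtain ⟨p, hp, hp2, hpo, hpq⟩ := hT
    right; right; left
    obtain ⟨a, ha⟩ := exists_conj_mem_of_prime_dvd h.scT g p hp hpo
      (by rw [hA1]; exact odd_prime_dvd_quarter hq8 hp hp2 hpq)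
    exact ⟨a, ha, hsq p hp hp2 hpo⟩
  have hoddM : ∀ p : ℕ, p.Prime → p ≠ 2 → p ∣ orderOf g → p ∣ q * (q - 1) + 1 := by
    intro p hp hp2 hpo
    rcases hprime p hp hpo with h1 | h1 | h1
    · exact absurd ⟨p, hp, hp2, hpo, h1⟩ hH
    · exact absurd ⟨p, hp, hp2, hpo, h1⟩ hT
    · exact h1
  by_cases h2 : 2 ∣ orderOf g
  · by_cases hex : ∃ p : ℕ, p.Prime ∧ p ≠ 2 ∧ p ∣ orderOf g
    · exfalso
      obtain ⟨p, hp, hp2, hpo⟩ := hex
      have hpM := hoddM p hp hp2 hpo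
      have hpos : orderOf g ≠ 0 := (orderOf_pos g).ne'
      have ho2 : orderOf (g ^ (orderOf g / 2)) = 2 := orderOf_pow_orderOf_div hpos h2
      have hc : Commute g (g ^ (orderOf g / 2)) := (Commute.refl g).pow_right _
      have h5 := hcent2 _ g ho2 hc
      have h6 : orderOf g ∣ q * (q ^ 2 - 1) := orderOf_dvd_of_pow_eq_one h5
      have h7 : p ∣ q * (q ^ 2 - 1) := hpo.trans h6
      rw [sq_pred (by omega)] at h7
      rcases (Nat.Prime.dvd_mul hp).1 h7 with h8 | h8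
      · have := dvd_one_of_dvd_self h8 hpM
        exact hp.one_lt.ne' (Nat.dvd_one.1 this)
      · rcases (Nat.Prime.dvd_mul hp).1 h8 with h9 | h9
        · have := dvd_one_of_dvd_pred h9 hpM
          exact hp.one_lt.ne' (Nat.dvd_one.1 this)
        · exact false_of_dvd_succ hq3 (by omega) hp h9 hpM
    · left
      have hpow : orderOf g = 2 ^ (orderOf g).primeFactorsList.length :=
        Nat.eq_prime_pow_of_unique_prime_dvd (orderOf_pos g).ne' (fun {r} hr hrd => by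
          by_contra hr2
          exact hex ⟨r, hr, hr2, hrd⟩)
      have h4 : g * g = 1 :=
        sq_eq_one_of_two_pow h g _ (by rw [← hpow]; exact pow_orderOf_eq_one g)
      have h5 : orderOf g ∣ 2 := orderOf_dvd_of_pow_eq_one (by rw [pow_two]; exact h4)
      rcases (Nat.dvd_prime Nat.prime_two).1 h5 with h6 | h6
      · exact absurd (orderOf_eq_one_iff.1 h6) hg
      · exact h6
  · right; right; right
    intro p hp hpo
    apply hoddM p hp _ hpo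
    rintro rfl
    exact h2 hpo

/-! #### exclusions -/

theorem not_three_of_H (h : ReeHyp G m) {g a : G} (ha : a * g * a⁻¹ ∈ h.ZH) :
    ¬ 3 ∣ orderOf g := by
  obtain ⟨hq3, hq8, hq27, hqp⟩ := q_facts m h.hm
  have h1 := orderOf_dvd_of_conj_mem ha
  rw [h.cardZH] at h1
  generalize 3 ^ (2 * m + 1) = q at *
  intro h3
  have := h3.trans h1
  omega

theorem not_three_of_T (h : ReeHyp G m) {g a : G} (ha : a * g * a⁻¹ ∈ h.T) :
    ¬ 3 ∣ orderOf g := by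
  obtain ⟨hq3, hq8, hq27, hqp⟩ := q_facts m h.hm
  have h1 := orderOf_dvd_of_conj_mem ha
  rw [h.cardT] at h1
  generalize 3 ^ (2 * m + 1) = q at *
  intro h3
  have := h3.trans h1
  omega

theorem not_three_of_pi (h : ReeHyp G m) {g : G}
    (hπ : ∀ p : ℕ, p.Prime → p ∣ orderOf g →
      p ∣ (3 ^ (2 * m + 1)) ^ 2 - 3 ^ (2 * m + 1) + 1) : ¬ 3 ∣ orderOf g := by
  obtain ⟨hq3, hq8, hq27, hqp⟩ := q_facts m h.hm
  generalize 3 ^ (2 * m + 1) = q at *
  intro h3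
  have := hπ 3 Nat.prime_three h3
  rw [M_eq (by omega)] at this
  exact M_not_three hq3 this

theorem not_two_of_pi (h : ReeHyp G m) {g : G}
    (hπ : ∀ p : ℕ, p.Prime → p ∣ orderOf g →
      p ∣ (3 ^ (2 * m + 1)) ^ 2 - 3 ^ (2 * m + 1) + 1) : ¬ 2 ∣ orderOf g := by
  obtain ⟨hq3, hq8, hq27, hqp⟩ := q_facts m h.hm
  generalize 3 ^ (2 * m + 1) = q at *
  intro h3
  have := hπ 2 Nat.prime_two h3
  rw [M_eq (by omega)] at this
  exact M_odd this

theorem sq_of_H_T (h : ReeHyp G m) {g a b : G} (ha : a * g * a⁻¹ ∈ h.ZH)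
    (hb : b * g * b⁻¹ ∈ h.T) : g * g = 1 := by
  obtain ⟨hq3, hq8, hq27, hqp⟩ := q_facts m h.hm
  have h1 := orderOf_dvd_of_conj_mem ha
  have h2 := orderOf_dvd_of_conj_mem hb
  rw [h.cardZH] at h1
  rw [h.cardT] at h2
  generalize 3 ^ (2 * m + 1) = q at *
  apply mul_self_eq_one_of_orderOf_dvd_two
  have := Nat.dvd_sub h2 h1
  have e : q + 1 - (q - 1) = 2 := by omega
  rwa [e] at this

theorem eq_one_of_H_pi (h : ReeHyp G m) {g a : G} (ha : a * g * a⁻¹ ∈ h.ZH)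
    (hπ : ∀ p : ℕ, p.Prime → p ∣ orderOf g →
      p ∣ (3 ^ (2 * m + 1)) ^ 2 - 3 ^ (2 * m + 1) + 1) : g = 1 := by
  obtain ⟨hq3, hq8, hq27, hqp⟩ := q_facts m h.hm
  have h1 := orderOf_dvd_of_conj_mem ha
  rw [h.cardZH] at h1
  generalize 3 ^ (2 * m + 1) = q at *
  by_contra hg
  have hne : orderOf g ≠ 1 := fun e => hg (orderOf_eq_one_iff.1 e)
  obtain ⟨p, hp, hpo⟩ := Nat.exists_prime_and_dvd hne
  have h2 := hπ p hp hpo
  rw [M_eq (by omega)] at h2
  have := dvd_one_of_dvd_pred (hpo.trans h1) h2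
  exact hp.one_lt.ne' (Nat.dvd_one.1 this)

theorem eq_one_of_T_pi (h : ReeHyp G m) {g a : G} (ha : a * g * a⁻¹ ∈ h.T)
    (hπ : ∀ p : ℕ, p.Prime → p ∣ orderOf g →
      p ∣ (3 ^ (2 * m + 1)) ^ 2 - 3 ^ (2 * m + 1) + 1) : g = 1 := by
  obtain ⟨hq3, hq8, hq27, hqp⟩ := q_facts m h.hm
  have h1 := orderOf_dvd_of_conj_mem ha
  rw [h.cardT] at h1
  generalize 3 ^ (2 * m + 1) = q at *
  by_contra hg
  have hne : orderOf g ≠ 1 := fun e => hg (orderOf_eq_one_iff.1 e)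
  obtain ⟨p, hp, hpo⟩ := Nat.exists_prime_and_dvd hne
  have h2 := hπ p hp hpo
  rw [M_eq (by omega)] at h2
  exact false_of_dvd_succ hq3 (by omega) hp (hpo.trans h1) h2

/-! #### the two families -/

theorem hpow_H (h : ReeHyp G m) : ∀ y ∈ h.ZH, y * y ≠ 1 → y ^ 2 ∈ h.AH ∧ y ^ 2 ≠ 1 := by
  intro y hy hy2
  refine ⟨?_, by rwa [pow_two]⟩
  have hle : Subgroup.zpowers (y ^ 2) ≤ h.AH := by
    apply h.scH.uniq
    · rw [Subgroup.zpowers_le]
      exact h.ZH.pow_mem hy 2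
    · rw [Nat.card_zpowers, h.cardAH]
      apply orderOf_dvd_of_pow_eq_one
      rw [← pow_mul]
      have e : 2 * ((3 ^ (2 * m + 1) - 1) / 2) = Nat.card h.ZH := by
        rw [h.cardZH]
        obtain ⟨hq3, hq8, hq27, hqp⟩ := q_facts m h.hm
        generalize 3 ^ (2 * m + 1) = q at *
        omega
      rw [e]
      have := pow_card_eq_one' (G := h.ZH) (x := ⟨y, hy⟩)
      exact congrArg Subtype.val this
  exact hle (Subgroup.mem_zpowers _)

theorem hpow_T (h : ReeHyp G m) : ∀ y ∈ h.T, y * y ≠ 1 → y ^ 4 ∈ h.A1 ∧ y ^ 4 ≠ 1 := by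
  intro y hy hy2
  refine ⟨?_, ?_⟩
  · have hle : Subgroup.zpowers (y ^ 4) ≤ h.A1 := by
      apply h.scT.uniq
      · rw [Subgroup.zpowers_le]
        exact h.T.pow_mem hy 4
      · rw [Nat.card_zpowers, h.cardA1]
        apply orderOf_dvd_of_pow_eq_one
        rw [← pow_mul]
        have e : 4 * ((3 ^ (2 * m + 1) + 1) / 4) = Nat.card h.T := by
          rw [h.cardT]
          obtain ⟨hq3, hq8, hq27, hqp⟩ := q_facts m h.hm
          generalize 3 ^ (2 * m + 1) = q at *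
          omega
        rw [e]
        have := pow_card_eq_one' (G := h.T) (x := ⟨y, hy⟩)
        exact congrArg Subtype.val this
    exact hle (Subgroup.mem_zpowers _)
  · intro e
    exact hy2 (sq_eq_one_of_two_pow h y 2 (by norm_num; exact e))

theorem card_YH (h : ReeHyp G m) :
    Nat.card {y : G // y ∈ h.ZH ∧ y * y ≠ 1} = 3 ^ (2 * m + 1) - 3 := by
  have h1 := card_split h.ZH
  have h2 : Nat.card {y : G // y ∈ h.ZH ∧ y * y = 1} = 2 := by
    apply card_sq_eq_one_cyclic h.ZH h.cycZH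
    rw [h.cardZH]
    obtain ⟨hq3, hq8, hq27, hqp⟩ := q_facts m h.hm
    generalize 3 ^ (2 * m + 1) = q at *
    omega
  rw [h2, h.cardZH] at h1
  omega

theorem card_YT (h : ReeHyp G m) :
    Nat.card {y : G // y ∈ h.T ∧ y * y ≠ 1} = 3 ^ (2 * m + 1) - 3 := by
  have h1 := card_split h.T
  have h2 : Nat.card {y : G // y ∈ h.T ∧ y * y = 1} = 4 := by
    rw [card_sqKer h.T h.scT.comm]
    have hpg : IsPGroup 2 (sqKer h.T h.scT.comm) := by
      intro r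
      refine ⟨1, ?_⟩
      apply Subtype.ext
      rw [pow_one, pow_two]
      exact r.2.2
    have : Fact (Nat.Prime 2) := ⟨Nat.prime_two⟩
    obtain ⟨a, ha⟩ := IsPGroup.iff_card.1 hpg
    have hdvd : Nat.card (sqKer h.T h.scT.comm) ∣ Nat.card h.T :=
      Subgroup.card_dvd_of_le (sqKer_le _ _)
    have hV : h.V ≤ sqKer h.T h.scT.comm := by
      intro v hv
      refine ⟨h.V_le hv, ?_⟩
      apply sq_eq_one_of_two_pow h v 2
      have := pow_card_eq_one' (G := h.V) (x := ⟨v, hv⟩)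
      rw [h.cardV] at this
      have := congrArg Subtype.val this
      simpa using this
    have h4 : 4 ∣ Nat.card (sqKer h.T h.scT.comm) := by
      rw [← h.cardV]
      exact Subgroup.card_dvd_of_le hV
    rw [ha] at hdvd h4 ⊢
    rw [h.cardT] at hdvd
    obtain ⟨hq3, hq8, hq27, hqp⟩ := q_facts m h.hm
    generalize 3 ^ (2 * m + 1) = q at *
    have ha2 : a ≤ 2 := by
      by_contra hcon
      have h8 : 2 ^ 3 ∣ 2 ^ a := pow_dvd_pow 2 (by omega)
      have := h8.trans hdvd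
      omega
    interval_cases a
    · omega
    · omega
    · rfl
  rw [h2, h.cardT] at h1
  omega

theorem card_eq_sum_ite [Fintype G] (P : G → Prop) [DecidablePred P] :
    Nat.card {g : G // P g} = ∑ g : G, if P g then 1 else 0 := by
  rw [Nat.card_eq_fintype_card, Fintype.card_subtype, Finset.card_filter]

/-- the five types partition the non-trivial elements -/
theorem key_partition (h : ReeHyp G m) [DecidableEq G] (g : G)
    [Decidable (∃ a : G, a * g * a⁻¹ ∈ h.ZH ∧ g * g ≠ 1)]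
    [Decidable (∃ a : G, a * g * a⁻¹ ∈ h.T ∧ g * g ≠ 1)]
    [Decidable (g ≠ 1 ∧ ∀ p : ℕ, p.Prime → p ∣ orderOf g →
      p ∣ (3 ^ (2 * m + 1)) ^ 2 - 3 ^ (2 * m + 1) + 1)] :
    (if g = 1 then 1 else 0) + (if orderOf g = 3 then 1 else 0) +
      (if orderOf g = 6 then 1 else 0) + (if orderOf g = 9 then 1 else 0) +
      (if orderOf g = 2 then 1 else 0) +
      (if (∃ a : G, a * g * a⁻¹ ∈ h.ZH ∧ g * g ≠ 1) then 1 else 0) +
      (if (∃ a : G, a * g * a⁻¹ ∈ h.T ∧ g * g ≠ 1) then 1 else 0) +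
      (if (g ≠ 1 ∧ ∀ p : ℕ, p.Prime → p ∣ orderOf g →
        p ∣ (3 ^ (2 * m + 1)) ^ 2 - 3 ^ (2 * m + 1) + 1) then 1 else 0) = 1 := by
  by_cases hg : g = 1
  · subst hg
    have h1 : ¬ ∃ a : G, a * (1 : G) * a⁻¹ ∈ h.ZH ∧ (1 : G) * 1 ≠ 1 := by
      rintro ⟨a, _, h2⟩; exact h2 (one_mul 1)
    have h2 : ¬ ∃ a : G, a * (1 : G) * a⁻¹ ∈ h.T ∧ (1 : G) * 1 ≠ 1 := by
      rintro ⟨a, _, h2⟩; exact h2 (one_mul 1)
    rw [if_neg h1, if_neg h2]
    simp [orderOf_one]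
  · have hnot3 : ¬ 3 ∣ orderOf g → orderOf g ≠ 3 ∧ orderOf g ≠ 6 ∧ orderOf g ≠ 9 := by
      intro h3
      refine ⟨?_, ?_, ?_⟩ <;> intro e <;> rw [e] at h3 <;> omega
    have hsq2 : g * g ≠ 1 → orderOf g ≠ 2 := by
      intro h2 e
      apply h2
      rw [← pow_two, ← e]
      exact pow_orderOf_eq_one g
    rcases classify h g hg with h3 | h2 | hH | hT | hπ
    · have hnH : ¬ ∃ a : G, a * g * a⁻¹ ∈ h.ZH ∧ g * g ≠ 1 := by
        rintro ⟨a, ha, _⟩; exact not_three_of_H h ha h3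
      have hnT : ¬ ∃ a : G, a * g * a⁻¹ ∈ h.T ∧ g * g ≠ 1 := by
        rintro ⟨a, ha, _⟩; exact not_three_of_T h ha h3
      have hnπ : ¬ (g ≠ 1 ∧ ∀ p : ℕ, p.Prime → p ∣ orderOf g →
          p ∣ (3 ^ (2 * m + 1)) ^ 2 - 3 ^ (2 * m + 1) + 1) := by
        rintro ⟨_, hπ⟩; exact not_three_of_pi h hπ h3
      rw [if_neg hg, if_neg hnH, if_neg hnT, if_neg hnπ]
      rcases h.three_orders g h3 with e | e | e <;> rw [e] <;> simp
    · have hgg : g * g = 1 := by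
        rw [← pow_two, ← h2]; exact pow_orderOf_eq_one g
      have hnH : ¬ ∃ a : G, a * g * a⁻¹ ∈ h.ZH ∧ g * g ≠ 1 := by
        rintro ⟨a, _, h4⟩; exact h4 hgg
      have hnT : ¬ ∃ a : G, a * g * a⁻¹ ∈ h.T ∧ g * g ≠ 1 := by
        rintro ⟨a, _, h4⟩; exact h4 hgg
      have hnπ : ¬ (g ≠ 1 ∧ ∀ p : ℕ, p.Prime → p ∣ orderOf g →
          p ∣ (3 ^ (2 * m + 1)) ^ 2 - 3 ^ (2 * m + 1) + 1) := by
        rintro ⟨_, hπ⟩; exact not_two_of_pi h hπ (h2 ▸ dvd_rfl)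
      rw [if_neg hg, if_neg hnH, if_neg hnT, if_neg hnπ, h2]
      simp
    · obtain ⟨a, ha, hgg⟩ := hH
      obtain ⟨n3, n6, n9⟩ := hnot3 (not_three_of_H h ha)
      have hnT : ¬ ∃ a : G, a * g * a⁻¹ ∈ h.T ∧ g * g ≠ 1 := by
        rintro ⟨b, hb, _⟩; exact hgg (sq_of_H_T h ha hb)
      have hnπ : ¬ (g ≠ 1 ∧ ∀ p : ℕ, p.Prime → p ∣ orderOf g →
          p ∣ (3 ^ (2 * m + 1)) ^ 2 - 3 ^ (2 * m + 1) + 1) := by
        rintro ⟨_, hπ⟩; exact hg (eq_one_of_H_pi h ha hπ)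
      rw [if_neg hg, if_neg n3, if_neg n6, if_neg n9, if_neg (hsq2 hgg), if_pos ⟨a, ha, hgg⟩,
        if_neg hnT, if_neg hnπ]
    · obtain ⟨a, ha, hgg⟩ := hT
      obtain ⟨n3, n6, n9⟩ := hnot3 (not_three_of_T h ha)
      have hnH : ¬ ∃ a : G, a * g * a⁻¹ ∈ h.ZH ∧ g * g ≠ 1 := by
        rintro ⟨b, hb, _⟩; exact hgg (sq_of_H_T h hb ha)
      have hnπ : ¬ (g ≠ 1 ∧ ∀ p : ℕ, p.Prime → p ∣ orderOf g →
          p ∣ (3 ^ (2 * m + 1)) ^ 2 - 3 ^ (2 * m + 1) + 1) := by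
        rintro ⟨_, hπ⟩; exact hg (eq_one_of_T_pi h ha hπ)
      rw [if_neg hg, if_neg n3, if_neg n6, if_neg n9, if_neg (hsq2 hgg), if_neg hnH,
        if_pos ⟨a, ha, hgg⟩, if_neg hnπ]
    · obtain ⟨n3, n6, n9⟩ := hnot3 (not_three_of_pi h hπ)
      have n2 : orderOf g ≠ 2 := fun e => not_two_of_pi h hπ (e ▸ dvd_rfl)
      have hnH : ¬ ∃ a : G, a * g * a⁻¹ ∈ h.ZH ∧ g * g ≠ 1 := by
        rintro ⟨b, hb, _⟩; exact hg (eq_one_of_H_pi h hb hπ)
      have hnT : ¬ ∃ a : G, a * g * a⁻¹ ∈ h.T ∧ g * g ≠ 1 := by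
        rintro ⟨b, hb, _⟩; exact hg (eq_one_of_T_pi h hb hπ)
      rw [if_neg hg, if_neg n3, if_neg n6, if_neg n9, if_neg n2, if_neg hnH, if_neg hnT,
        if_pos ⟨hg, hπ⟩]

end ree

/-- R2: the classification of the elements and the number of `π`-elements,
`π` the set of primes dividing `q² - q + 1` -/
theorem R2_class_equation {G : Type*} [Group G] [Finite G] {m : ℕ} (h : ReeHyp G m) :
    (∀ g : G, g ≠ 1 → 3 ∣ orderOf g ∨ orderOf g = 2 ∨
      (∃ a : G, a * g * a⁻¹ ∈ h.ZH ∧ g * g ≠ 1) ∨ (∃ a : G, a * g * a⁻¹ ∈ h.T ∧ g * g ≠ 1) ∨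
      (∀ p : ℕ, p.Prime → p ∣ orderOf g → p ∣ (3 ^ (2 * m + 1)) ^ 2 - 3 ^ (2 * m + 1) + 1)) ∧
    3 * Nat.card {g : G // g ≠ 1 ∧
        ∀ p : ℕ, p.Prime → p ∣ orderOf g → p ∣ (3 ^ (2 * m + 1)) ^ 2 - 3 ^ (2 * m + 1) + 1} =
      (3 ^ (2 * m + 1)) ^ 4 * (3 ^ (2 * m + 1) - 2) * ((3 ^ (2 * m + 1)) ^ 2 - 1) := by
  refine ⟨fun g hg => classify h g hg, ?_⟩
  classical
  have : Fintype G := Fintype.ofFinite G
  have htot : Nat.card G = Nat.card {g : G // g = 1} + Nat.card {g : G // orderOf g = 3} +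
      Nat.card {g : G // orderOf g = 6} + Nat.card {g : G // orderOf g = 9} +
      Nat.card {g : G // orderOf g = 2} +
      Nat.card {g : G // ∃ a : G, a * g * a⁻¹ ∈ h.ZH ∧ g * g ≠ 1} +
      Nat.card {g : G // ∃ a : G, a * g * a⁻¹ ∈ h.T ∧ g * g ≠ 1} +
      Nat.card {g : G // g ≠ 1 ∧ ∀ p : ℕ, p.Prime → p ∣ orderOf g →
        p ∣ (3 ^ (2 * m + 1)) ^ 2 - 3 ^ (2 * m + 1) + 1} := by
    simp only [card_eq_sum_ite]
    simp only [← Finset.sum_add_distrib]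
    rw [Nat.card_eq_fintype_card, ← Finset.card_univ, Finset.card_eq_sum_ones]
    exact Finset.sum_congr rfl (fun g _ => (key_partition h g).symm)
  have hc1 : Nat.card {g : G // g = 1} = 1 := by
    rw [Nat.card_eq_fintype_card, Fintype.card_subtype_eq]
  have hNH := card_family h.scH 2 (hpow_H h)
  have hNT := card_family h.scT 4 (hpow_T h)
  rw [card_YH h, h.normZH] at hNH
  rw [card_YT h, h.normT] at hNT
  rw [hc1, h.card3, h.card6, h.card9, h.card2] at htot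
  rw [h.card] at htot hNH hNT
  obtain ⟨hq3, hq8, hq27, hqp⟩ := q_facts m h.hm
  generalize Nat.card {g : G // ∃ a : G, a * g * a⁻¹ ∈ h.ZH ∧ g * g ≠ 1} = NH at *
  generalize Nat.card {g : G // ∃ a : G, a * g * a⁻¹ ∈ h.T ∧ g * g ≠ 1} = NT at *
  generalize Nat.card {g : G // g ≠ 1 ∧ ∀ p : ℕ, p.Prime → p ∣ orderOf g →
        p ∣ (3 ^ (2 * m + 1)) ^ 2 - 3 ^ (2 * m + 1) + 1} = Nπ at *
  generalize 3 ^ (2 * m + 1) = q at *
  obtain ⟨k, rfl⟩ : ∃ k, q = k + 3 := ⟨q - 3, by omega⟩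
  have e1 : k + 3 - 1 = k + 2 := by omega
  have e2 : k + 3 - 2 = k + 1 := by omega
  have e3 : k + 3 - 3 = k := by omega
  have e4 : (k + 3) ^ 2 - 1 = k ^ 2 + 6 * k + 8 := by
    apply Nat.sub_eq_of_eq_add; ring
  have e5 : (k + 3) ^ 2 - (k + 3) + 1 = k ^ 2 + 5 * k + 7 := by
    have : (k + 3) ^ 2 - (k + 3) = k ^ 2 + 5 * k + 6 := by
      apply Nat.sub_eq_of_eq_add; ring
    rw [this]
  rw [e1, e3] at hNH
  rw [e1, e3] at hNT
  rw [e1, e4, e5] at htot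
  rw [e2, e4]
  -- cancel
  have hNH' : NH * 2 = (k + 3) ^ 3 * ((k + 3) ^ 3 + 1) * k := by
    have : NH * 2 * (k + 2) = (k + 3) ^ 3 * ((k + 3) ^ 3 + 1) * k * (k + 2) := by
      linarith
    exact Nat.eq_of_mul_eq_mul_right (by omega) this
  have hNT' : NT * 6 = (k + 3) ^ 3 * (k + 2) * (k ^ 2 + 5 * k + 7) * k := by
    have : NT * 6 * (k + 3 + 1) =
        (k + 3) ^ 3 * (k + 2) * (k ^ 2 + 5 * k + 7) * k * (k + 3 + 1) := by
      have e6 : (k + 3) ^ 3 + 1 = (k + 3 + 1) * (k ^ 2 + 5 * k + 7) := by ring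
      rw [e6] at hNT
      linarith
    exact Nat.eq_of_mul_eq_mul_right (by omega) this
  nlinarith [hNH', hNT', htot]

end Cfsg.Agent.Helper16.ReeR2
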