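import Mathlib
import Cfsg.Agent.Helper6.ReeLoc.Hyp
import Cfsg.Agent.Helper23.ReeP3
import Cfsg.Agent.Helper23.ReeP6
import Cfsg.Agent.Helper16.ReeR2

/-!
# Piece R3 of helper6's small Ree cluster (round 2): the two families of order `q ± r + 1`
-/

set_option autoImplicit false
set_option linter.unusedSectionVars false
set_option linter.unusedVariables false

open Cfsg.Agent.Helper6.ReeLoc
open Cfsg.Agent.Helper16.ReeR2

namespace Cfsg.Agent.Helper16.ReeR3

variable {G : Type*} [Group G] [Finite G]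

/-- `M = q² - q + 1` -/
abbrev Mq (m : ℕ) : ℕ := (3 ^ (2 * m + 1)) ^ 2 - 3 ^ (2 * m + 1) + 1

/-- the non-trivial elements conjugate into `B` -/
def U (B : Subgroup G) : Set G := {g | g ≠ 1 ∧ ∃ a : G, a * g * a⁻¹ ∈ B}

theorem conj_ne_one {a z : G} (hz : z ≠ 1) : a * z * a⁻¹ ≠ 1 := by
  intro e
  apply hz
  have : z = a⁻¹ * (a * z * a⁻¹) * a := by group
  rw [this, e]; group

/-- counting the union of the conjugates of `B` for a self-centralising `SC`-subgroup -/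
theorem card_U_mul {B : Subgroup G} (hsc : SC B B) :
    (U B).ncard * Nat.card (Subgroup.normalizer (B : Set G)) =
      Nat.card G * (Nat.card B - 1) := by
  have key := Cfsg.Agent.Helper23.ReeP3.P3_card_conj_union (Subgroup.normalizer (B : Set G))
    ((B : Set G) \ {1}) ?_ ?_
  · have e1 : Nat.card {z : G // ∃ g : G, ∃ y ∈ ((B : Set G) \ {1}), z = g * y * g⁻¹} =
        (U B).ncard := by
      rw [← _root_.Nat.card_coe_set_eq]
      apply Nat.card_congr
      apply Equiv.subtypeEquivRight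
      intro z
      constructor
      · rintro ⟨g, y, ⟨hyB, hy1⟩, rfl⟩
        refine ⟨conj_ne_one (fun e => hy1 (Set.mem_singleton_iff.2 e)), g⁻¹, ?_⟩
        have : g⁻¹ * (g * y * g⁻¹) * g⁻¹⁻¹ = y := by group
        rw [this]; exact hyB
      · rintro ⟨hz1, a, ha⟩
        refine ⟨a⁻¹, a * z * a⁻¹, ⟨ha, ?_⟩, by group⟩
        intro e
        exact conj_ne_one hz1 (Set.mem_singleton_iff.1 e)
    have e2 : Nat.card ↥((B : Set G) \ {1}) = Nat.card B - 1 := by
      rw [_root_.Nat.card_coe_set_eq, Set.ncard_sdiff_singleton_of_mem (by exact B.one_mem),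
        ← _root_.Nat.card_coe_set_eq]
      rfl
    rw [e1, e2] at key
    exact key
  · rintro n hn y ⟨hyB, hy1⟩
    refine ⟨(Subgroup.mem_normalizer_iff.1 hn y).1 hyB, ?_⟩
    intro e
    exact conj_ne_one (fun e' => hy1 (Set.mem_singleton_iff.2 e')) (Set.mem_singleton_iff.1 e)
  · rintro g y ⟨hyB, hy1⟩ ⟨hgyB, hgy1⟩
    apply mem_normalizer_of_cj_le
    intro z' hz'
    rw [mem_cj] at hz'
    apply hsc.cent _ hgyB (fun e => hgy1 (Set.mem_singleton_iff.2 e))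
    have hc := (hsc.comm _ hz' _ hyB).eq
    have e1 : z' * (g * y * g⁻¹) = g * (g⁻¹ * z' * g * y) * g⁻¹ := by group
    have e2 : g * y * g⁻¹ * z' = g * (y * (g⁻¹ * z' * g)) * g⁻¹ := by group
    rw [Commute, SemiconjBy, e1, e2, hc]

/-- the centraliser of a non-trivial element conjugate into `B` is a conjugate of `B` -/
theorem cj_eq_centralizer {B : Subgroup G} (hsc : SC B B) {z a : G} (hz : z ≠ 1)
    (ha : a * z * a⁻¹ ∈ B) : cj a⁻¹ B = Subgroup.centralizer ({z} : Set G) := by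
  ext x
  rw [mem_cj, inv_inv, Subgroup.mem_centralizer_iff]
  constructor
  · intro hx w hw
    rw [Set.mem_singleton_iff] at hw
    subst hw
    have hc := (hsc.comm _ hx _ ha).eq
    have e1 : w * x = a⁻¹ * (a * w * a⁻¹ * (a * x * a⁻¹)) * a := by group
    have e2 : x * w = a⁻¹ * (a * x * a⁻¹ * (a * w * a⁻¹)) * a := by group
    rw [e1, e2, hc]
  · intro hx
    apply hsc.cent _ ha (conj_ne_one hz)
    have hc := hx z (Set.mem_singleton z)
    have e1 : a * x * a⁻¹ * (a * z * a⁻¹) = a * (x * z) * a⁻¹ := by group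
    have e2 : a * z * a⁻¹ * (a * x * a⁻¹) = a * (z * x) * a⁻¹ := by group
    rw [Commute, SemiconjBy, e1, e2, hc]

/-- two `SC`-subgroups with a common non-trivial conjugate element have the same order -/
theorem card_eq_of_common {B B' : Subgroup G} (hsc : SC B B) (hsc' : SC B' B') {z a b : G}
    (hz : z ≠ 1) (ha : a * z * a⁻¹ ∈ B) (hb : b * z * b⁻¹ ∈ B') :
    Nat.card B = Nat.card B' := by
  rw [← card_cj a⁻¹ B, ← card_cj b⁻¹ B', cj_eq_centralizer hsc hz ha,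
    cj_eq_centralizer hsc' hz hb]

theorem disjoint_U {B B' : Subgroup G} (hsc : SC B B) (hsc' : SC B' B')
    (hne : Nat.card B ≠ Nat.card B') : Disjoint (U B) (U B') := by
  rw [Set.disjoint_left]
  rintro z ⟨hz, a, ha⟩ ⟨_, b, hb⟩
  exact hne (card_eq_of_common hsc hsc' hz ha hb)

/-- a common prime divisor of the orders forces equal orders -/
theorem card_eq_of_prime_dvd {B B' : Subgroup G} (hsc : SC B B) (hsc' : SC B' B') {p : ℕ}
    (hp : p.Prime) (h1 : p ∣ Nat.card B) (h2 : p ∣ Nat.card B') :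
    Nat.card B = Nat.card B' := by
  have : Fact p.Prime := ⟨hp⟩
  obtain ⟨y, hy⟩ := exists_prime_orderOf_dvd_card' (G := B') p h2
  have hy1 : (y : G) ≠ 1 := by
    intro e
    have : y = 1 := Subtype.ext e
    rw [this, orderOf_one] at hy
    exact hp.one_lt.ne hy
  have hyo : orderOf (y : G) = p := by rw [Subgroup.orderOf_coe, hy]
  obtain ⟨a, ha⟩ := exists_conj_mem_of_prime_dvd hsc (y : G) p hp (by rw [hyo]) h1
  have hb : (1 : G) * (y : G) * (1 : G)⁻¹ ∈ B' := by simp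
  exact card_eq_of_common hsc hsc' hy1 ha hb

/-- Hall property: a prime dividing `|B|` does not divide `M / |B|` -/
theorem not_dvd_div {B : Subgroup G} (hsc : SC B B) {M : ℕ} (hM0 : M ≠ 0)
    (hMG : M ∣ Nat.card G) (hBM : Nat.card B ∣ M) {p : ℕ} (hp : p.Prime)
    (h1 : p ∣ Nat.card B) : ¬ p ∣ M / Nat.card B := by
  have : Fact p.Prime := ⟨hp⟩
  obtain ⟨P, hP⟩ := hsc.hall p hp h1
  have hPc : Nat.card P = p ^ (Nat.card G).factorization p := P.card_eq_multiplicity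
  have hB0 : Nat.card B ≠ 0 := Nat.card_pos.ne'
  have hG0 : Nat.card G ≠ 0 := Nat.card_pos.ne'
  have h2 : p ^ (Nat.card G).factorization p ∣ Nat.card B := by
    rw [← hPc]; exact Subgroup.card_dvd_of_le hP
  have h3 : (Nat.card G).factorization p ≤ (Nat.card B).factorization p :=
    (hp.pow_dvd_iff_le_factorization hB0).1 h2
  have h4 : M.factorization p ≤ (Nat.card G).factorization p :=
    (Nat.factorization_le_iff_dvd hM0 hG0).2 hMG p
  have h5 : (M / Nat.card B).factorization p = 0 := by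
    rw [Nat.factorization_div hBM]
    simp only [Finsupp.coe_tsub, Pi.sub_apply]
    omega
  intro h6
  have hne : M / Nat.card B ≠ 0 := by
    intro e
    rw [e] at h6
    have := Nat.div_mul_cancel hBM
    rw [e, zero_mul] at this
    exact hM0 this.symm
  have := hp.factorization_pos_of_dvd hne h6
  omega

theorem Mq_facts (m : ℕ) (hm : 1 ≤ m) :
    1 < Mq m ∧ ¬ 2 ∣ Mq m ∧ ¬ 3 ∣ Mq m ∧
      Mq m ∣ (3 ^ (2 * m + 1)) ^ 3 * (3 ^ (2 * m + 1) - 1) * ((3 ^ (2 * m + 1)) ^ 3 + 1) ∧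
      Mq m - 1 = (3 ^ (2 * m + 1)) ^ 2 - 3 ^ (2 * m + 1) := by
  obtain ⟨hq3, hq8, hq27, hqp⟩ := q_facts m hm
  unfold Mq
  generalize 3 ^ (2 * m + 1) = q at *
  refine ⟨?_, ?_, ?_, ?_, ?_⟩
  · rw [M_eq (by omega)]
    have : 0 < q * (q - 1) := Nat.mul_pos (by omega) (by omega)
    omega
  · rw [M_eq (by omega)]; exact M_odd
  · rw [M_eq (by omega)]; exact M_not_three hq3
  · rw [cube_succ (by omega), M_eq (by omega)]
    exact ⟨q ^ 3 * (q - 1) * (q + 1), by ring⟩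
  · exact Nat.add_sub_cancel _ _

theorem five_le_of_dvd (m : ℕ) (hm : 1 ≤ m) {a : ℕ} (ha : a ∣ Mq m) (ha1 : a ≠ 1) : 5 ≤ a := by
  obtain ⟨hM1, hM2, hM3, _, _⟩ := Mq_facts m hm
  obtain ⟨p, hp, hpa⟩ := Nat.exists_prime_and_dvd ha1
  have hpM := hpa.trans ha
  have h2 : p ≠ 2 := by rintro rfl; exact hM2 hpM
  have h3 : p ≠ 3 := by rintro rfl; exact hM3 hpM
  have h5 : 5 ≤ p := by
    by_contra hlt
    have hp2 := hp.two_le
    have : p = 4 := by omega
    subst this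
    norm_num at hp
  have ha0 : 0 < a := by
    apply Nat.pos_of_ne_zero
    rintro rfl
    rw [zero_dvd_iff] at ha
    omega
  exact h5.trans (Nat.le_of_dvd ha0 hpa)

/-- "good" subgroups: self-centralising `SC`-subgroups of order dividing `M` with normaliser of
index dividing `6` -/
structure Good (m : ℕ) (B : Subgroup G) : Prop where
  sc : SC B B
  dvd : Nat.card B ∣ Mq m
  norm : ∃ e : ℕ, e ∣ 6 ∧ Nat.card (Subgroup.normalizer (B : Set G)) = e * Nat.card B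

theorem U_sub_pi {m : ℕ} {B : Subgroup G} (hB : Good m B) :
    U B ⊆ {g : G | g ≠ 1 ∧ ∀ p : ℕ, p.Prime → p ∣ orderOf g → p ∣ Mq m} := by
  rintro g ⟨hg1, a, ha⟩
  refine ⟨hg1, fun p hp hpo => ?_⟩
  exact (hpo.trans (orderOf_dvd_of_conj_mem ha)).trans hB.dvd

theorem cover {m : ℕ} {B : Subgroup G} (hB : Good m B) {g : G} (hg : g ≠ 1) {p : ℕ}
    (hp : p.Prime) (hpo : p ∣ orderOf g) (hpB : p ∣ Nat.card B) : g ∈ U B :=
  ⟨hg, exists_conj_mem_of_prime_dvd hB.sc g p hp hpo hpB⟩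

theorem exists_good {m : ℕ} (h : ReeHyp G m)
    (hR1 : ∀ p : ℕ, p.Prime → p ∣ (3 ^ (2 * m + 1)) ^ 2 - 3 ^ (2 * m + 1) + 1 → ∀ x : G,
      orderOf x = p →
      SC (Subgroup.centralizer ({x} : Set G)) (Subgroup.centralizer ({x} : Set G)) ∧
      Nat.card (Subgroup.centralizer ({x} : Set G)) ∣
        (3 ^ (2 * m + 1)) ^ 2 - 3 ^ (2 * m + 1) + 1 ∧
      ∃ e : ℕ, e ∣ 6 ∧
        Nat.card (Subgroup.normalizer ((Subgroup.centralizer ({x} : Set G) : Subgroup G) : Set G)) =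
          e * Nat.card (Subgroup.centralizer ({x} : Set G)))
    {p : ℕ} (hp : p.Prime) (hpM : p ∣ Mq m) : ∃ B : Subgroup G, Good m B ∧ p ∣ Nat.card B := by
  obtain ⟨_, _, _, hMG, _⟩ := Mq_facts m h.hm
  have : Fact p.Prime := ⟨hp⟩
  have hpG : p ∣ Nat.card G := by rw [h.card]; exact hpM.trans hMG
  obtain ⟨x, hx⟩ := exists_prime_orderOf_dvd_card' (G := G) p hpG
  obtain ⟨h1, h2, h3⟩ := hR1 p hp hpM x hx
  refine ⟨Subgroup.centralizer ({x} : Set G), ⟨h1, h2, h3⟩, ?_⟩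
  rw [← hx]
  apply Subgroup.orderOf_dvd_natCard
  rw [Subgroup.mem_centralizer_iff]
  intro w hw
  rw [Set.mem_singleton_iff] at hw
  rw [hw]

theorem coprime_of_card_ne {B B' : Subgroup G} (hsc : SC B B) (hsc' : SC B' B')
    (hne : Nat.card B ≠ Nat.card B') : Nat.Coprime (Nat.card B) (Nat.card B') := by
  by_contra hcon
  obtain ⟨p, hp, h1, h2⟩ := Nat.Prime.not_coprime_iff_dvd.1 hcon
  exact hne (card_eq_of_prime_dvd hsc hsc' hp h1 h2)

/-- a prime divisor of `M / d`, `d ∣ M` a proper divisor -/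
theorem exists_prime_dvd_div {M d : ℕ} (hM0 : M ≠ 0) (hd : d ∣ M) (hne : d ≠ M) :
    ∃ p : ℕ, p.Prime ∧ p ∣ M / d := by
  apply Nat.exists_prime_and_dvd
  intro e
  have := Nat.div_mul_cancel hd
  rw [e, one_mul] at this
  exact hne this

end Cfsg.Agent.Helper16.ReeR3

namespace Cfsg.Agent.Helper16.ReeR3

open Cfsg.Agent.Helper23.ReeP6

/-- R3: the two families of order `q ± r + 1`, from R1 and R2 (given as hypotheses) and P6 -/
theorem R3_exists_full {G : Type*} [Group G] [Finite G] {m : ℕ} (h : ReeHyp G m)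
    (hR1 : ∀ p : ℕ, p.Prime → p ∣ (3 ^ (2 * m + 1)) ^ 2 - 3 ^ (2 * m + 1) + 1 → ∀ x : G,
      orderOf x = p →
      SC (Subgroup.centralizer ({x} : Set G)) (Subgroup.centralizer ({x} : Set G)) ∧
      Nat.card (Subgroup.centralizer ({x} : Set G)) ∣
        (3 ^ (2 * m + 1)) ^ 2 - 3 ^ (2 * m + 1) + 1 ∧
      ∃ e : ℕ, e ∣ 6 ∧
        Nat.card (Subgroup.normalizer ((Subgroup.centralizer ({x} : Set G) : Subgroup G) : Set G)) =
          e * Nat.card (Subgroup.centralizer ({x} : Set G)))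
    (hR2a : ∀ g : G, g ≠ 1 → 3 ∣ orderOf g ∨ orderOf g = 2 ∨
      (∃ a : G, a * g * a⁻¹ ∈ h.ZH ∧ g * g ≠ 1) ∨ (∃ a : G, a * g * a⁻¹ ∈ h.T ∧ g * g ≠ 1) ∨
      (∀ p : ℕ, p.Prime → p ∣ orderOf g → p ∣ (3 ^ (2 * m + 1)) ^ 2 - 3 ^ (2 * m + 1) + 1))
    (hR2b : 3 * Nat.card {g : G // g ≠ 1 ∧
        ∀ p : ℕ, p.Prime → p ∣ orderOf g → p ∣ (3 ^ (2 * m + 1)) ^ 2 - 3 ^ (2 * m + 1) + 1} =
      (3 ^ (2 * m + 1)) ^ 4 * (3 ^ (2 * m + 1) - 2) * ((3 ^ (2 * m + 1)) ^ 2 - 1)) :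
    ∃ F : ReeFull G m, F.toReeHyp = h := by
  classical
  have hm := h.hm
  obtain ⟨hM1, hM2, hM3, hMG', hMsub⟩ := Mq_facts m hm
  have hM0 : Mq m ≠ 0 := by omega
  have hMG : Mq m ∣ Nat.card G := by rw [h.card]; exact hMG'
  set Pi : Set G := {g : G | g ≠ 1 ∧ ∀ p : ℕ, p.Prime → p ∣ orderOf g → p ∣ Mq m} with hPi
  have hNπ : 3 * Pi.ncard =
      (3 ^ (2 * m + 1)) ^ 4 * (3 ^ (2 * m + 1) - 2) * ((3 ^ (2 * m + 1)) ^ 2 - 1) := by
    rw [← _root_.Nat.card_coe_set_eq]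
    exact hR2b
  -- a prime divisor of the order of a non-trivial element
  have hprime : ∀ g : G, g ≠ 1 → ∃ p : ℕ, p.Prime ∧ p ∣ orderOf g := by
    intro g hg
    exact Nat.exists_prime_and_dvd (fun e => hg (orderOf_eq_one_iff.1 e))
  -- the counting identity in the form of P6
  have hcount : ∀ (B : Subgroup G) (e : ℕ), SC B B →
      Nat.card (Subgroup.normalizer (B : Set G)) = e * Nat.card B →
      (U B).ncard * e * Nat.card B =
        (3 ^ (2 * m + 1)) ^ 3 * (3 ^ (2 * m + 1) - 1) * ((3 ^ (2 * m + 1)) ^ 3 + 1) *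
          (Nat.card B - 1) := by
    intro B e hsc hn
    have := card_U_mul hsc
    rw [hn, h.card, ← mul_assoc] at this
    exact this
  have hge5 : ∀ B : Subgroup G, Good m B → ∀ p : ℕ, p.Prime → p ∣ Nat.card B →
      5 ≤ Nat.card B := by
    intro B hB p hp hpB
    apply five_le_of_dvd m hm hB.dvd
    intro e
    rw [e] at hpB
    exact hp.one_lt.ne' (Nat.dvd_one.1 hpB)
  -- first family
  obtain ⟨p1, hp1, hp1M⟩ := Nat.exists_prime_and_dvd hM1.ne'
  obtain ⟨B1, hB1, hp1B⟩ := exists_good h hR1 hp1 hp1M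
  obtain ⟨e1, he1, hn1⟩ := hB1.norm
  have hc1 := hcount B1 e1 hB1.sc hn1
  by_cases ha1 : Nat.card B1 = Mq m
  · exfalso
    have hPi1 : Pi = U B1 := by
      apply Set.Subset.antisymm
      · rintro g ⟨hg1, hgπ⟩
        obtain ⟨p, hp, hpo⟩ := hprime g hg1
        exact cover hB1 hg1 hp hpo (ha1 ▸ hgπ p hp hpo)
      · exact U_sub_pi hB1
    rw [hPi1] at hNπ
    rw [ha1, hMsub] at hc1
    exact P6a_one_class m hm e1 (U B1).ncard he1 hc1 hNπ
  -- second family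
  obtain ⟨p2, hp2, hp2d⟩ := exists_prime_dvd_div hM0 hB1.dvd ha1
  have hp2M : p2 ∣ Mq m := hp2d.trans (Nat.div_dvd_of_dvd hB1.dvd)
  have hp2a1 : ¬ p2 ∣ Nat.card B1 := fun hcon =>
    not_dvd_div hB1.sc hM0 hMG hB1.dvd hp2 hcon hp2d
  obtain ⟨B2, hB2, hp2B⟩ := exists_good h hR1 hp2 hp2M
  have hne12 : Nat.card B1 ≠ Nat.card B2 := fun e => hp2a1 (e ▸ hp2B)
  have hcop12 := coprime_of_card_ne hB1.sc hB2.sc hne12
  have hmul12 : Nat.card B1 * Nat.card B2 ∣ Mq m :=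
    hcop12.mul_dvd_of_dvd_of_dvd hB1.dvd hB2.dvd
  obtain ⟨e2, he2, hn2⟩ := hB2.norm
  have hc2 := hcount B2 e2 hB2.sc hn2
  have hdisj12 := disjoint_U hB1.sc hB2.sc hne12
  have h5a1 := hge5 B1 hB1 p1 hp1 hp1B
  have h5a2 := hge5 B2 hB2 p2 hp2 hp2B
  by_cases ha12 : Nat.card B1 * Nat.card B2 = Mq m
  · have hPi12 : Pi = U B1 ∪ U B2 := by
      apply Set.Subset.antisymm
      · rintro g ⟨hg1, hgπ⟩
        obtain ⟨p, hp, hpo⟩ := hprime g hg1
        have hpM := hgπ p hp hpo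
        rw [← ha12] at hpM
        rcases (Nat.Prime.dvd_mul hp).1 hpM with hpa | hpa
        · exact Or.inl (cover hB1 hg1 hp hpo hpa)
        · exact Or.inr (cover hB2 hg1 hp hpo hpa)
      · exact Set.union_subset (U_sub_pi hB1) (U_sub_pi hB2)
    have hsum : Pi.ncard = (U B1).ncard + (U B2).ncard := by
      rw [hPi12, Set.ncard_union_eq hdisj12 (Set.toFinite _) (Set.toFinite _)]
    rw [hsum] at hNπ
    obtain ⟨he1', he2', hcases⟩ := P6b_two_classes m hm (Nat.card B1) (Nat.card B2) e1 e2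
      (U B1).ncard (U B2).ncard he1 he2 h5a1 h5a2 ha12 hc1 hc2 hNπ
    have hclass : ∀ g : G, g ≠ 1 → 3 ∣ orderOf g ∨ orderOf g = 2 ∨
        (∃ a : G, a * g * a⁻¹ ∈ h.ZH ∧ g * g ≠ 1) ∨ (∃ a : G, a * g * a⁻¹ ∈ h.T ∧ g * g ≠ 1) ∨
        (∃ a : G, a * g * a⁻¹ ∈ B1) ∨ (∃ a : G, a * g * a⁻¹ ∈ B2) := by
      intro g hg
      rcases hR2a g hg with h3 | h2 | hH | hT | hπ
      · exact Or.inl h3
      · exact Or.inr (Or.inl h2)
      · exact Or.inr (Or.inr (Or.inl hH))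
      · exact Or.inr (Or.inr (Or.inr (Or.inl hT)))
      · have hgPi : g ∈ Pi := ⟨hg, hπ⟩
        rw [hPi12] at hgPi
        rcases hgPi with hg1 | hg2
        · exact Or.inr (Or.inr (Or.inr (Or.inr (Or.inl hg1.2))))
        · exact Or.inr (Or.inr (Or.inr (Or.inr (Or.inr hg2.2))))
    rcases hcases with ⟨h1, h2⟩ | ⟨h1, h2⟩
    · refine ⟨{ toReeHyp := h, Ap := B2, Am := B1, scP := hB2.sc, scM := hB1.sc,
                cardAp := h2, cardAm := h1,
                normAp := by rw [hn2, he2', h2],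
                normAm := by rw [hn1, he1', h1],
                classify := ?_ }, rfl⟩
      intro g hg
      rcases hclass g hg with h3 | h2 | hH | hT | hb1 | hb2
      · exact Or.inl h3
      · exact Or.inr (Or.inl h2)
      · exact Or.inr (Or.inr (Or.inl hH))
      · exact Or.inr (Or.inr (Or.inr (Or.inl hT)))
      · exact Or.inr (Or.inr (Or.inr (Or.inr (Or.inr hb1))))
      · exact Or.inr (Or.inr (Or.inr (Or.inr (Or.inl hb2))))
    · refine ⟨{ toReeHyp := h, Ap := B1, Am := B2, scP := hB1.sc, scM := hB2.sc,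
                cardAp := h1, cardAm := h2,
                normAp := by rw [hn1, he1', h1],
                normAm := by rw [hn2, he2', h2],
                classify := ?_ }, rfl⟩
      intro g hg
      exact hclass g hg
  -- third family: contradiction
  exfalso
  obtain ⟨p3, hp3, hp3d⟩ := exists_prime_dvd_div hM0 hmul12 ha12
  have hp3M : p3 ∣ Mq m := hp3d.trans (Nat.div_dvd_of_dvd hmul12)
  have hdd1 : Mq m / (Nat.card B1 * Nat.card B2) ∣ Mq m / Nat.card B1 := by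
    rw [← Nat.div_div_eq_div_mul]
    apply Nat.div_dvd_of_dvd
    exact Nat.dvd_div_of_mul_dvd hmul12
  have hdd2 : Mq m / (Nat.card B1 * Nat.card B2) ∣ Mq m / Nat.card B2 := by
    rw [mul_comm, ← Nat.div_div_eq_div_mul]
    apply Nat.div_dvd_of_dvd
    apply Nat.dvd_div_of_mul_dvd
    rw [mul_comm]; exact hmul12
  have hp3a1 : ¬ p3 ∣ Nat.card B1 := fun hcon =>
    not_dvd_div hB1.sc hM0 hMG hB1.dvd hp3 hcon (hp3d.trans hdd1)
  have hp3a2 : ¬ p3 ∣ Nat.card B2 := fun hcon =>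
    not_dvd_div hB2.sc hM0 hMG hB2.dvd hp3 hcon (hp3d.trans hdd2)
  obtain ⟨B3, hB3, hp3B⟩ := exists_good h hR1 hp3 hp3M
  have hne13 : Nat.card B1 ≠ Nat.card B3 := fun e => hp3a1 (e ▸ hp3B)
  have hne23 : Nat.card B2 ≠ Nat.card B3 := fun e => hp3a2 (e ▸ hp3B)
  obtain ⟨e3, he3, hn3⟩ := hB3.norm
  have hc3 := hcount B3 e3 hB3.sc hn3
  have hdisj13 := disjoint_U hB1.sc hB3.sc hne13
  have hdisj23 := disjoint_U hB2.sc hB3.sc hne23
  have h5a3 := hge5 B3 hB3 p3 hp3 hp3B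
  have hsub : U B1 ∪ U B2 ∪ U B3 ⊆ Pi :=
    Set.union_subset (Set.union_subset (U_sub_pi hB1) (U_sub_pi hB2)) (U_sub_pi hB3)
  have hle : (U B1).ncard + (U B2).ncard + (U B3).ncard ≤ Pi.ncard := by
    have hd : Disjoint (U B1 ∪ U B2) (U B3) := Set.disjoint_union_left.2 ⟨hdisj13, hdisj23⟩
    rw [← Set.ncard_union_eq hdisj12 (Set.toFinite _) (Set.toFinite _),
      ← Set.ncard_union_eq hd (Set.toFinite _) (Set.toFinite _)]
    exact Set.ncard_le_ncard hsub (Set.toFinite _)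
  apply P6c_three_classes m hm (Nat.card B1) (Nat.card B2) (Nat.card B3) e1 e2 e3
    (U B1).ncard (U B2).ncard (U B3).ncard he1 he2 he3 h5a1 h5a2 h5a3 hc1 hc2 hc3
  rw [← hNπ]
  omega

end Cfsg.Agent.Helper16.ReeR3
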