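import Mathlib
import Cfsg.Agent.S0713
import Cfsg.Agent.Helper5.S0679ORD

set_option autoImplicit false
set_option linter.unusedSectionVars false
set_option linter.unusedVariables false

/-! # S0679 (driver helper13, chapter (6) designer helper18): piece SYL (helper16). -/

namespace Cfsg.Agent.S0679P

open Equiv MulAction

variable {α : Type*} [Fintype α] [DecidableEq α] {G : Subgroup (Equiv.Perm α)}

theorem SYL.fact72 : (72 : ℕ).factorization 3 = 2 := by
  have h : (72 : ℕ) = 3 ^ 2 * 8 := by norm_num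
  rw [h, Nat.factorization_mul (by norm_num) (by norm_num),
    Nat.Prime.factorization_pow Nat.prime_three]
  simp [Nat.factorization_eq_zero_of_not_dvd]

/-- SYL (M): an element of order 3 fixing `u ≠ v` lies in a subgroup of order 9 of `G` fixing `u, v`. -/
theorem SYL (h11 : Fintype.card α = 11) (h2 : IsMultiplyPretransitive G α 2)
    (hord : Nat.card G = 7920) {g : Perm α} (hg : g ∈ G) (h3 : orderOf g = 3) {u v : α} (huv : u ≠ v)
    (hu : g u = u) (hv : g v = v) :
    ∃ T : Subgroup (Perm α), T ≤ G ∧ Nat.card T = 9 ∧ g ∈ T ∧ (∀ t ∈ T, t u = u) ∧ ∀ t ∈ T, t v = v := by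
  classical
  -- the pair
  have hinj : Function.Injective (![u, v] : Fin 2 → α) := by
    intro i j hij
    fin_cases i <;> fin_cases j <;> simp_all
  obtain ⟨x, hx⟩ : ∃ x : Fin 2 ↪ α, x = ⟨![u, v], hinj⟩ := ⟨_, rfl⟩
  have hx0 : x 0 = u := by rw [hx]; rfl
  have hx1 : x 1 = v := by rw [hx]; rfl
  have hS : Nat.card (stabilizer G x) = 72 := ORD2 h11 h2 hord x
  -- membership in the stabiliser
  have hmem : ∀ k : G, k ∈ stabilizer G x ↔ ((k : Perm α) u = u ∧ (k : Perm α) v = v) := by
    intro k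
    rw [mem_stabilizer_iff]
    constructor
    · intro h
      have h0 := DFunLike.congr_fun h 0
      have h1 := DFunLike.congr_fun h 1
      change k • x 0 = x 0 at h0
      change k • x 1 = x 1 at h1
      rw [hx0] at h0
      rw [hx1] at h1
      exact ⟨h0, h1⟩
    · rintro ⟨h0, h1⟩
      ext i
      fin_cases i
      · change k • x 0 = x 0
        rw [hx0]; exact h0
      · change k • x 1 = x 1
        rw [hx1]; exact h1
  have hgS : (⟨g, hg⟩ : G) ∈ stabilizer G x := (hmem _).mpr ⟨hu, hv⟩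
  obtain ⟨gS, hgSdef⟩ : ∃ gS : stabilizer G x, gS = ⟨⟨g, hg⟩, hgS⟩ := ⟨_, rfl⟩
  have hordS : orderOf gS = 3 := by
    have h1 : orderOf (gS : G) = orderOf gS := Subgroup.orderOf_coe gS
    have h2' : orderOf (((gS : G) : Perm α)) = orderOf (gS : G) := Subgroup.orderOf_coe (gS : G)
    rw [← h1, ← h2', hgSdef]
    exact h3
  have : Fact (Nat.Prime 3) := ⟨Nat.prime_three⟩
  have : Finite G := Nat.finite_of_card_ne_zero (by rw [hord]; norm_num)
  have hp : IsPGroup 3 (Subgroup.zpowers gS) := by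
    apply IsPGroup.of_card (n := 1)
    rw [Nat.card_zpowers, hordS, pow_one]
  obtain ⟨Q, hQ⟩ := hp.exists_le_sylow
  have hQc : Nat.card Q = 9 := by
    rw [Sylow.card_eq_multiplicity, hS, SYL.fact72]
    norm_num
  refine ⟨((Q : Subgroup (stabilizer G x)).map (stabilizer G x).subtype).map G.subtype,
    ?_, ?_, ?_, ?_, ?_⟩
  · rintro t ⟨k, _, rfl⟩
    exact k.2
  · rw [Subgroup.card_map_of_injective (Subgroup.subtype_injective _),
      Subgroup.card_map_of_injective (Subgroup.subtype_injective _)]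
    exact hQc
  · refine ⟨⟨g, hg⟩, ⟨gS, hQ (Subgroup.mem_zpowers gS), ?_⟩, rfl⟩
    rw [hgSdef]; rfl
  · rintro t ⟨k, ⟨s, _, rfl⟩, rfl⟩
    exact ((hmem _).mp s.2).1
  · rintro t ⟨k, ⟨s, _, rfl⟩, rfl⟩
    exact ((hmem _).mp s.2).2

end Cfsg.Agent.S0679P
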