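import Mathlib
import Cfsg.Agent.Helper18.S0679BR
import Cfsg.Agent.Helper4.S0679J
import Cfsg.Agent.Helper16.S0679FIXONLY

set_option autoImplicit false
set_option linter.unusedSectionVars false
set_option linter.unusedVariables false

/-! # S0679 (driver helper13, chapter (4) designer helper18): piece 4-X33 (helper16). -/

namespace Cfsg.Agent.S0679P

open Equiv MulAction

variable {α : Type*} [Fintype α] [DecidableEq α] {G : Subgroup (Equiv.Perm α)}

/-- 4-X33 (S-M): every triple is fixed by an element of type `3² 1⁵`. -/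
theorem FOUR.X33 (h11 : Fintype.card α = 11) (h3 : IsMultiplyPretransitive G α 3)
    (h2 : IsMultiplyPretransitive G α 2) (hA : ¬ alternatingGroup α ≤ G) (hord : Nat.card G = 95040)
    (x : Fin 3 ↪ α) :
    ∃ g : Perm α, g ∈ G ∧ g.cycleType = {3, 3} ∧ ∀ i, g (x i) = x i := by
  classical
  have hc := BR.card_stab h3 x
  rw [h11, hord] at hc
  have hd : (11 : ℕ).descFactorial 3 = 990 := by decide
  rw [hd] at hc
  have h96 : Nat.card (stabilizer G x) = 96 := by omega
  have : Finite G := Nat.finite_of_card_ne_zero (by rw [hord]; norm_num)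
  have : Fact (Nat.Prime 3) := ⟨Nat.prime_three⟩
  obtain ⟨k, hk⟩ := exists_prime_orderOf_dvd_card' (G := stabilizer G x) 3
    (by rw [h96]; norm_num)
  have hfix : ∀ i, ((k : G) : Perm α) (x i) = x i := (BR.mem_stab (k : G) x).mp k.2
  have hord3 : orderOf (((k : G) : Perm α)) = 3 := by
    rw [Subgroup.orderOf_coe, Subgroup.orderOf_coe]
    exact hk
  obtain ⟨g, hgdef⟩ : ∃ g : Perm α, g = ((k : G) : Perm α) := ⟨_, rfl⟩
  rw [← hgdef] at hfix hord3
  have hgG : g ∈ G := by rw [hgdef]; exact (k : G).2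
  have hg1 : g ≠ 1 := by
    intro h
    rw [h, orderOf_one] at hord3
    omega
  have h01 : x 0 ≠ x 1 := fun h => by simpa using x.injective h
  have h02 : x 0 ≠ x 2 := fun h => by simpa using x.injective h
  have h12 : x 1 ≠ x 2 := fun h => by simpa using x.injective h
  have hs6 : g.support.card = 6 :=
    FIXONLY.supp6 h11 h2 hA hgG (by rw [hord3]; norm_num) hg1 h01 h02 h12 (hfix 0) (hfix 1) (hfix 2)
  refine ⟨g, hgG, ?_, hfix⟩
  obtain ⟨n, hn⟩ := Equiv.Perm.cycleType_prime_order (σ := g) (by rw [hord3]; exact Nat.prime_three)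
  rw [hord3] at hn
  have hsum := Equiv.Perm.sum_cycleType g
  rw [hn, Multiset.sum_replicate, hs6, smul_eq_mul] at hsum
  have hn1 : n = 1 := by omega
  rw [hn, hn1]
  rfl

end Cfsg.Agent.S0679P
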