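import Cfsg.Agent.Helper16.S0745NUMcore
import Cfsg.Agent.Helper3.S0745CARDL
import Cfsg.Agent.Helper27.S0745CARDM

/-! # Board `s0745pieces`, rows NUM1, NUM2 -/

set_option autoImplicit false

namespace Cfsg.Agent.S0745P

open Equiv

variable {α : Type*} [Fintype α] [DecidableEq α]

/-- NUM2 -/
theorem num2 {G : Subgroup (Perm α)} {c r : ℕ} (h : Hyp G 2 c r) (hc : Odd c) :
    (r = 2 ∧ c = 1) ∨ (r = 3 ∧ c = 1) ∨ (r = 3 ∧ c = 3) :=
  num2_aux_core h hc (fun Δ hΔ => card_L h Δ hΔ) (fun S hS => card_M h S hS)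

/-- NUM1 -/
theorem num1 {G : Subgroup (Perm α)} {c r : ℕ} (h : Hyp G 1 c r) (hc : Odd c) :
    r = 2 ∧ c = 1 :=
  num1_aux_core h hc (fun Δ hΔ => card_L h Δ hΔ) (fun S hS => card_M h S hS)

end Cfsg.Agent.S0745P
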