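import Cfsg.Agent.Helper27.S0745Defs

/-! # Board `s0745pieces`, rows NUM1, NUM2: cores (CARDL, CARDM enter as hypotheses) -/

set_option autoImplicit false

namespace Cfsg.Agent.S0745P

open Equiv

variable {α : Type*} [Fintype α] [DecidableEq α]

/-- the two divisibilities `r ∣ (t+1)!`, `r (rc - 1) ∣ (t+2)!` -/
theorem num_aux_dvd {G : Subgroup (Perm α)} {t c r : ℕ} (h : Hyp G t c r) (hc : 1 ≤ c)
    (hL : ∀ Δ : Finset α, Δ.card = t + 1 → Nat.card (SS G Δ) * r = (t + 1).factorial)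
    (hM : ∀ S : Finset α, S.card = t + 2 → Nat.card (SS G S) * (r * (r * c - 1)) = (t + 2).factorial) :
    r ∣ (t + 1).factorial ∧ r * (r * c - 1) ∣ (t + 2).factorial := by
  have h2 := h.two_le
  have hdeg : t + 2 ≤ (Finset.univ : Finset α).card := by
    rw [Finset.card_univ, h.deg]
    nlinarith
  obtain ⟨S, -, hS⟩ := Finset.exists_subset_card_eq hdeg
  obtain ⟨Δ, -, hΔ⟩ := Finset.exists_subset_card_eq (show t + 1 ≤ S.card by omega)
  exact ⟨Dvd.intro_left _ (hL Δ hΔ), Dvd.intro_left _ (hM S hS)⟩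

theorem num1_aux_core {G : Subgroup (Perm α)} {c r : ℕ} (h : Hyp G 1 c r) (hc : Odd c)
    (hL : ∀ Δ : Finset α, Δ.card = 1 + 1 → Nat.card (SS G Δ) * r = (1 + 1).factorial)
    (hM : ∀ S : Finset α, S.card = 1 + 2 → Nat.card (SS G S) * (r * (r * c - 1)) = (1 + 2).factorial) :
    r = 2 ∧ c = 1 := by
  have hc1 : 1 ≤ c := hc.pos
  obtain ⟨h1, h2⟩ := num_aux_dvd h hc1 hL hM
  have hr2 := h.two_le
  have hr : r ≤ 2 := Nat.le_of_dvd (by norm_num) h1
  have hr' : r = 2 := le_antisymm hr hr2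
  subst hr'
  have h3 : 2 * (2 * c - 1) ≤ 6 := Nat.le_of_dvd (by norm_num) h2
  have hc2 : c ≤ 2 := by omega
  obtain ⟨k, hk⟩ := hc
  refine ⟨rfl, ?_⟩
  omega

theorem num2_aux_core {G : Subgroup (Perm α)} {c r : ℕ} (h : Hyp G 2 c r) (hc : Odd c)
    (hL : ∀ Δ : Finset α, Δ.card = 2 + 1 → Nat.card (SS G Δ) * r = (2 + 1).factorial)
    (hM : ∀ S : Finset α, S.card = 2 + 2 → Nat.card (SS G S) * (r * (r * c - 1)) = (2 + 2).factorial) :
    (r = 2 ∧ c = 1) ∨ (r = 3 ∧ c = 1) ∨ (r = 3 ∧ c = 3) := by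
  have hc1 : 1 ≤ c := hc.pos
  obtain ⟨h1, h2⟩ := num_aux_dvd h hc1 hL hM
  have hr2 := h.two_le
  have hr : r ≤ 6 := Nat.le_of_dvd (by norm_num) h1
  have h3 : r * (r * c - 1) ≤ 24 := Nat.le_of_dvd (by norm_num) h2
  have hc6 : c ≤ 6 := by
    by_contra hcon
    push Not at hcon
    have h4 : 2 * 7 ≤ r * c := Nat.mul_le_mul hr2 hcon
    have h5 : 2 * 13 ≤ r * (r * c - 1) := Nat.mul_le_mul hr2 (by omega)
    omega
  obtain ⟨k, hk⟩ := hc
  have hf2 : (2 + 1).factorial = 6 := by decide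
  have hf3 : (2 + 2).factorial = 24 := by decide
  rw [hf2] at h1
  rw [hf3] at h2
  interval_cases r <;> interval_cases c <;> omega

end Cfsg.Agent.S0745P
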