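import Cfsg.Agent.Helper27.S0745Defs

/-! # Board `s0745pieces`, row RESINJ -/

set_option autoImplicit false

namespace Cfsg.Agent.S0745P

open Equiv

variable {α : Type*} [Fintype α] [DecidableEq α]

/-- RESINJ -/
theorem resHom_injective {G : Subgroup (Perm α)} {t c r : ℕ} (h : Hyp G t c r) (s : Finset α)
    (hs : t + 1 ≤ s.card) : Function.Injective (resHom G s) := by
  rw [injective_iff_map_eq_one]
  intro g hg
  obtain ⟨s', hs's, hs'c⟩ := Finset.exists_subset_card_eq hs
  have hfix : ∀ x ∈ s, (g : Perm α) x = x := by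
    intro x hx
    have := congrArg (fun σ : Perm {x // x ∈ s} => ((σ ⟨x, hx⟩ : {x // x ∈ s}) : α)) hg
    simpa using this
  have h1 : (g : Perm α) = 1 := h.semireg _ g.2.1 s' hs'c (fun x hx => hfix x (hs's hx))
  exact Subtype.ext h1

end Cfsg.Agent.S0745P
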