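import Mathlib
import Cfsg.Prelude.Def_Transfer
import Cfsg.Agent.Helper8.S1904Defs
import Cfsg.Agent.Helper15.S1904WCARD

/-! Board `s1904pieces`, row B7b (core): if `T/B` has no `A`-fixed coset and `T` centralises `U = Ω₂(B)` then `T = B`.
The rows B1, B2, B3, B4 and INJ enter as hypotheses. -/

set_option autoImplicit false
set_option linter.unusedVariables false
set_option linter.unusedSectionVars false

namespace Cfsg.Agent.S1904P

variable {X : Type*} [Group X] [Finite X] {A : Subgroup (MulAut X)} {B : Subgroup X}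

/-- `T` is closed under inverses -/
theorem B7b_aux_inT_inv (hn : B.Normal) {t : X} (ht : InT B t) : InT B t⁻¹ := by
  obtain ⟨h1, h2⟩ := ht
  refine ⟨?_, fun g => ?_⟩
  · have : t⁻¹ * t⁻¹ = (t * t)⁻¹ := by group
    rw [this]; exact B.inv_mem h1
  · have h3 := B.inv_mem (h2 g)
    have h4 := hn.conj_mem _ h3 t⁻¹
    have e : t⁻¹ * (t * g * t⁻¹ * g⁻¹)⁻¹ * t⁻¹⁻¹ = t⁻¹ * g * t⁻¹⁻¹ * g⁻¹ := by group
    rwa [e] at h4

/-- `T` is closed under products -/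
theorem B7b_aux_inT_mul (hn : B.Normal) {t s : X} (ht : InT B t) (hs : InT B s) : InT B (t * s) := by
  obtain ⟨h1, h2⟩ := ht
  obtain ⟨h3, h4⟩ := hs
  refine ⟨?_, fun g => ?_⟩
  · have h5 := hn.conj_mem _ (h4 t) t
    have e : t * s * (t * s) = (t * (s * t * s⁻¹ * t⁻¹) * t⁻¹) * (t * t) * (s * s) := by group
    rw [e]
    exact B.mul_mem (B.mul_mem h5 h1) h3
  · have h5 := hn.conj_mem _ (h4 g) t
    have e : t * s * g * (t * s)⁻¹ * g⁻¹ = (t * (s * g * s⁻¹ * g⁻¹) * t⁻¹) * (t * g * t⁻¹ * g⁻¹) := by group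
    rw [e]
    exact B.mul_mem h5 (h2 g)

/-- `B ≤ T` -/
theorem B7b_aux_inT_of_mem (hn : B.Normal) {b : X} (hb : b ∈ B) : InT B b := by
  refine ⟨B.mul_mem hb hb, fun g => ?_⟩
  have h1 := hn.conj_mem _ (B.inv_mem hb) g
  have e : b * g * b⁻¹ * g⁻¹ = b * (g * b⁻¹ * g⁻¹) := by group
  rw [e]
  exact B.mul_mem hb h1

/-- `T` is `A`-invariant -/
theorem B7b_aux_inT_aut (hI : Inv A B) {t : X} (ht : InT B t) {φ : MulAut X} (hφ : φ ∈ A) : InT B (φ t) := by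
  obtain ⟨h1, h2⟩ := ht
  refine ⟨?_, fun g => ?_⟩
  · have := hI φ hφ _ h1
    rwa [map_mul] at this
  · have := hI φ hφ _ (h2 (φ⁻¹ g))
    rw [map_mul, map_mul, map_mul, map_inv, map_inv] at this
    have e : φ (φ⁻¹ g) = g := by
      change (φ * φ⁻¹) g = g
      rw [mul_inv_cancel]; rfl
    rwa [e] at this

/-- conjugation commutes with powers -/
theorem B7b_aux_conj_pow (t m : X) (n : ℕ) : t⁻¹ * m ^ n * t = (t⁻¹ * m * t) ^ n := by
  induction n with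
  | zero => simp
  | succ k ih =>
    rw [pow_succ, pow_succ, ← ih]; group

/-- an element of `B` inverted by an element of `T` lies in `W` -/
theorem B7b_aux_inverted (h2 : IsPGroup 2 X)
    (hΩ : ∀ b ∈ B, b * b = 1 → b ∈ WW X)
    (hTU : ∀ t : X, InT B t → ∀ u ∈ B, u ^ 4 = 1 → t * u = u * t)
    {t m : X} (ht : InT B t) (hm : m ∈ B) (hinv : t⁻¹ * m * t = m⁻¹) : m ∈ WW X := by
  apply hΩ m hm
  have : Fact (Nat.Prime 2) := ⟨Nat.prime_two⟩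
  obtain ⟨k, hk⟩ := (IsPGroup.iff_orderOf.mp h2) m
  rcases k with _ | _ | k
  · rw [pow_zero, orderOf_eq_one_iff] at hk
    rw [hk, mul_one]
  · rw [zero_add, pow_one] at hk
    rw [← pow_two, ← hk]; exact pow_orderOf_eq_one m
  · exfalso
    -- m' = m ^ (2 ^ k) has order 4
    have hm'B : m ^ (2 ^ k) ∈ B := B.pow_mem hm _
    have h4 : (m ^ (2 ^ k)) ^ 4 = 1 := by
      rw [← pow_mul]
      have : 2 ^ k * 4 = 2 ^ (k + 1 + 1) := by ring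
      rw [this, ← hk]; exact pow_orderOf_eq_one m
    have hc := hTU t ht _ hm'B h4
    have h5 : t⁻¹ * m ^ (2 ^ k) * t = (m ^ (2 ^ k))⁻¹ := by
      rw [B7b_aux_conj_pow, hinv, inv_pow]
    have h6 : t⁻¹ * m ^ (2 ^ k) * t = m ^ (2 ^ k) := by
      calc t⁻¹ * m ^ (2 ^ k) * t = t⁻¹ * (m ^ (2 ^ k) * t) := by group
        _ = t⁻¹ * (t * m ^ (2 ^ k)) := by rw [hc]
        _ = m ^ (2 ^ k) := by group
    have h7 : m ^ (2 ^ k) * m ^ (2 ^ k) = 1 := by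
      have : m ^ (2 ^ k) = (m ^ (2 ^ k))⁻¹ := h6.symm.trans h5
      calc m ^ (2 ^ k) * m ^ (2 ^ k) = m ^ (2 ^ k) * (m ^ (2 ^ k))⁻¹ := by rw [← this]
        _ = 1 := mul_inv_cancel _
    rw [← pow_add] at h7
    have h8 := orderOf_dvd_of_pow_eq_one h7
    rw [hk] at h8
    have h9 : 2 ^ k + 2 ^ k = 2 ^ (k + 1) := by ring
    rw [h9] at h8
    have h10 := Nat.le_of_dvd (by positivity) h8
    have h11 : 2 ^ (k + 1) < 2 ^ (k + 1 + 1) := Nat.pow_lt_pow_right (by norm_num) (by omega)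
    omega

/-- `λ_t(b) = b⁻¹ b^t ∈ W` for `t ∈ T`, `b ∈ B` -/
theorem B7b_aux_lam_mem (h2 : IsPGroup 2 X) (hn : B.Normal) (hc : ∀ a ∈ B, ∀ b ∈ B, a * b = b * a)
    (hΩ : ∀ b ∈ B, b * b = 1 → b ∈ WW X)
    (hTU : ∀ t : X, InT B t → ∀ u ∈ B, u ^ 4 = 1 → t * u = u * t)
    {t b : X} (ht : InT B t) (hb : b ∈ B) : b⁻¹ * (t⁻¹ * b * t) ∈ WW X := by
  have hbt : t⁻¹ * b * t ∈ B := by
    have := hn.conj_mem _ hb t⁻¹
    simpa using this
  have hmB : b⁻¹ * (t⁻¹ * b * t) ∈ B := B.mul_mem (B.inv_mem hb) hbt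
  refine B7b_aux_inverted h2 hΩ hTU ht hmB ?_
  have htt : (t * t) * b = b * (t * t) := hc _ ht.1 _ hb
  have e1 : t⁻¹ * (t⁻¹ * b * t) * t = b := by
    calc t⁻¹ * (t⁻¹ * b * t) * t = (t * t)⁻¹ * (b * (t * t)) := by group
      _ = (t * t)⁻¹ * ((t * t) * b) := by rw [htt]
      _ = b := by group
  calc t⁻¹ * (b⁻¹ * (t⁻¹ * b * t)) * t = (t⁻¹ * b * t)⁻¹ * (t⁻¹ * (t⁻¹ * b * t) * t) := by group
    _ = (t⁻¹ * b * t)⁻¹ * b := by rw [e1]
    _ = (b⁻¹ * (t⁻¹ * b * t))⁻¹ := by group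

/-- a group of order three: its elements are `1, α, α²`, and `α³ = 1` -/
theorem B7b_aux_three (hA3 : Nat.card ↥A = 3) {α : MulAut X} (hα : α ∈ A) (hα1 : α ≠ 1) :
    α * α * α = 1 ∧ ∀ φ ∈ A, φ = 1 ∨ φ = α ∨ φ = α * α := by
  classical
  have h3 : α ^ 3 = 1 := by
    have := pow_card_eq_one' (G := ↥A) (x := ⟨α, hα⟩)
    rw [hA3] at this
    exact congrArg Subtype.val this
  have h3' : α * α * α = 1 := by rw [← h3, pow_succ, pow_two]
  refine ⟨h3', ?_⟩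
  intro φ hφ
  by_contra hcon
  push Not at hcon
  obtain ⟨c1, c2, c3⟩ := hcon
  have hαα1 : α * α ≠ 1 := by
    intro h
    apply hα1
    calc α = (α * α) * α := by rw [h, one_mul]
      _ = 1 := h3'
  have hααα : α * α ≠ α := by
    intro h
    apply hα1
    have : α * α = α * 1 := by rw [mul_one]; exact h
    exact mul_left_cancel this
  have hsub : (({φ, 1, α, α * α} : Finset (MulAut X)) : Set (MulAut X)) ⊆ (A : Set (MulAut X)) := by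
    intro y hy
    simp only [Finset.coe_insert, Finset.coe_singleton, Set.mem_insert_iff, Set.mem_singleton_iff] at hy
    rcases hy with rfl | rfl | rfl | rfl
    · exact hφ
    · exact A.one_mem
    · exact hα
    · exact A.mul_mem hα hα
  have h4 : ({φ, 1, α, α * α} : Finset (MulAut X)).card = 4 := by
    rw [Finset.card_insert_of_notMem, Finset.card_insert_of_notMem, Finset.card_insert_of_notMem,
      Finset.card_singleton]
    · simp only [Finset.mem_singleton]; exact fun h => hααα h.symm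
    · simp only [Finset.mem_insert, Finset.mem_singleton, not_or]
      exact ⟨fun h => hα1 h.symm, fun h => hαα1 h.symm⟩
    · simp only [Finset.mem_insert, Finset.mem_singleton, not_or]; exact ⟨c1, c2, c3⟩
  have := Set.ncard_le_ncard hsub (Set.toFinite _)
  rw [Set.ncard_coe_finset, h4] at this
  have h6 : (A : Set (MulAut X)).ncard = Nat.card ↥A := (Nat.card_coe_set_eq (A : Set (MulAut X))).symm
  omega

/-- B7b, core. -/
theorem B7b_aux_core (H : Hyp A) (hB : MaxAb A B)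
    (hB1 : Nat.card (WW X) = 4 ∧ WW X ≤ B ∧ (∀ b ∈ B, b * b = 1 → b ∈ WW X) ∧
      (∀ b ∈ B, (∀ φ ∈ A, φ b = b) → b = 1) ∧ ¬ (∀ φ ∈ A, ∀ w ∈ WW X, φ w = w))
    (hB2 : (∀ w ∈ WW X, ∃ u ∈ B, u * u = w) ∧
      (∀ u ∈ B, u ^ 4 = 1 → ∀ x : X, u * x * u⁻¹ * x⁻¹ ∈ WW X) ∧
      (∀ u ∈ B, u ^ 4 = 1 → (∀ φ ∈ A, u⁻¹ * φ u ∈ WW X) → u ∈ WW X) ∧
      (∀ c ∈ Sq B, ∃ b ∈ B, c = b * b) ∧
      (∀ b ∈ B, (∀ φ ∈ A, b⁻¹ * φ b ∈ Sq B) → b ∈ Sq B) ∧
      Nat.card (Sq B) * 4 = Nat.card B)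
    (hB3 : ∀ x : X, (∀ b ∈ B, x * b = b * x) → x ∈ B)
    (hB4 : Nat.card A = 3)
    (hINJ : ∀ (P P₀ : Subgroup X), P₀ ≤ P → (∀ a ∈ P, ∀ b ∈ P, a * b = b * a) → Inv A P → Inv A P₀ →
      Nat.card P₀ * 4 = Nat.card P → (∀ p ∈ P, (∀ φ ∈ A, p⁻¹ * φ p ∈ P₀) → p ∈ P₀) →
      ∀ lam : X → X, (∀ p ∈ P, ∀ q ∈ P, lam (p * q) = lam p * lam q) → (∀ p ∈ P, lam p ∈ WW X) →
      (∀ p ∈ P₀, lam p = 1) →
      (∀ α ∈ A, α ≠ 1 → ∀ p ∈ P, lam p * α (lam (α⁻¹ p)) * (α * α) (lam ((α * α)⁻¹ p)) = 1) →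
      ∀ p ∈ P, lam p = 1 → p ∈ P₀ ∨ ∀ q ∈ P, lam q = 1)
    (hNF : ∀ t : X, InT B t → (∀ φ ∈ A, t⁻¹ * φ t ∈ B) → t ∈ B)
    (hTU : ∀ t : X, InT B t → ∀ u ∈ B, u ^ 4 = 1 → t * u = u * t) :
    ∀ t : X, InT B t → t ∈ B := by
  intro x hxT
  by_contra hxB
  obtain ⟨hW4, hWB, hΩ, hfixB, -⟩ := hB1
  obtain ⟨hsqW, -, -, hSqsq, hSqnf, hSqidx⟩ := hB2
  have hn := hB.normal
  have hc := hB.comm
  have h2 := H.pX
  have hWc : ∀ w ∈ WW X, ∀ g : X, g * w = w * g := fun w hw g => (Subgroup.mem_center_iff.mp hw.1) g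
  have hWe : ∀ w ∈ WW X, w * w = 1 := fun w hw => hw.2
  have hconjB : ∀ (t : X) (b : X), b ∈ B → t⁻¹ * b * t ∈ B := by
    intro t b hb
    have := hn.conj_mem _ hb t⁻¹
    simpa using this
  have hlam := fun {t b : X} (ht : InT B t) (hb : b ∈ B) => B7b_aux_lam_mem h2 hn hc hΩ hTU ht hb
  -- `λ_{t s} = λ_s λ_t`
  have hlam_mul : ∀ t s p : X, InT B t → p ∈ B →
      p⁻¹ * ((t * s)⁻¹ * p * (t * s)) = (p⁻¹ * (s⁻¹ * p * s)) * (p⁻¹ * (t⁻¹ * p * t)) := by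
    intro t s p ht hp
    have hw := hlam ht hp
    have hcen := hWc _ hw s
    calc p⁻¹ * ((t * s)⁻¹ * p * (t * s)) = p⁻¹ * s⁻¹ * p * ((p⁻¹ * (t⁻¹ * p * t)) * s) := by group
      _ = p⁻¹ * s⁻¹ * p * (s * (p⁻¹ * (t⁻¹ * p * t))) := by rw [hcen]
      _ = (p⁻¹ * (s⁻¹ * p * s)) * (p⁻¹ * (t⁻¹ * p * t)) := by group
  -- INJ for `λ_x`
  have hSqB : Sq B ≤ B := by
    unfold Sq
    rw [Subgroup.closure_le]
    rintro _ ⟨b, hb, rfl⟩
    exact B.mul_mem hb hb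
  have hSqI : Inv A (Sq B) := by
    intro φ hφ c hcS
    obtain ⟨b, hb, rfl⟩ := hSqsq c hcS
    rw [map_mul]
    exact Subgroup.subset_closure ⟨φ b, hB.inv φ hφ b hb, rfl⟩
  have hfixW : ∀ w ∈ WW X, (∀ φ ∈ A, φ w = w) → w = 1 := fun w hw h => hfixB w (hWB hw) h
  have hmulx : ∀ p ∈ B, ∀ q ∈ B,
      (p * q)⁻¹ * (x⁻¹ * (p * q) * x) = (p⁻¹ * (x⁻¹ * p * x)) * (q⁻¹ * (x⁻¹ * q * x)) := by
    intro p hp q hq
    have h1 := hc _ (B.inv_mem hq) _ (B.mul_mem (B.inv_mem hp) (hconjB x p hp))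
    calc (p * q)⁻¹ * (x⁻¹ * (p * q) * x) = (q⁻¹ * (p⁻¹ * (x⁻¹ * p * x))) * (x⁻¹ * q * x) := by group
      _ = ((p⁻¹ * (x⁻¹ * p * x)) * q⁻¹) * (x⁻¹ * q * x) := by rw [h1]
      _ = (p⁻¹ * (x⁻¹ * p * x)) * (q⁻¹ * (x⁻¹ * q * x)) := by group
  have h0x : ∀ p ∈ Sq B, p⁻¹ * (x⁻¹ * p * x) = 1 := by
    intro p hp
    obtain ⟨b, hb, rfl⟩ := hSqsq p hp
    rw [hmulx b hb b hb]
    exact hWe _ (hlam hxT hb)
  have hnormx : ∀ α ∈ A, α ≠ 1 → ∀ p ∈ B,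
      (p⁻¹ * (x⁻¹ * p * x)) * α ((α⁻¹ p)⁻¹ * (x⁻¹ * (α⁻¹ p) * x)) *
        (α * α) (((α * α)⁻¹ p)⁻¹ * (x⁻¹ * ((α * α)⁻¹ p) * x)) = 1 := by
    intro α hα hα1 p hp
    obtain ⟨hα3, hAall⟩ := B7b_aux_three hB4 hα hα1
    have e1 : α ((α⁻¹ p)⁻¹ * (x⁻¹ * (α⁻¹ p) * x)) = p⁻¹ * ((α x)⁻¹ * p * (α x)) := by
      have e : α (α⁻¹ p) = p := by
        change (α * α⁻¹) p = p
        rw [mul_inv_cancel]; rfl
      rw [map_mul, map_mul, map_mul, map_inv, map_inv, e]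
    have e2 : (α * α) (((α * α)⁻¹ p)⁻¹ * (x⁻¹ * ((α * α)⁻¹ p) * x)) =
        p⁻¹ * (((α * α) x)⁻¹ * p * ((α * α) x)) := by
      have e : (α * α) ((α * α)⁻¹ p) = p := by
        change ((α * α) * (α * α)⁻¹) p = p
        rw [mul_inv_cancel]; rfl
      rw [map_mul, map_mul, map_mul, map_inv, map_inv, e]
    rw [e1, e2]
    have hax : InT B (α x) := B7b_aux_inT_aut hB.inv hxT hα
    have haax : InT B ((α * α) x) := B7b_aux_inT_aut hB.inv hxT (A.mul_mem hα hα)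
    -- n = (α² x) (α x) x
    have hnT : InT B ((α * α) x * (α x * x)) := B7b_aux_inT_mul hn haax (B7b_aux_inT_mul hn hax hxT)
    have hl1 := hlam_mul (α x) x p hax hp
    have hl2 := hlam_mul ((α * α) x) (α x * x) p haax hp
    have hprod : (p⁻¹ * (x⁻¹ * p * x)) * (p⁻¹ * ((α x)⁻¹ * p * (α x))) *
        (p⁻¹ * (((α * α) x)⁻¹ * p * ((α * α) x))) =
        p⁻¹ * (((α * α) x * (α x * x))⁻¹ * p * ((α * α) x * (α x * x))) := by
      rw [hl2, hl1]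
    rw [hprod]
    -- n ∈ B
    have hnB : (α * α) x * (α x * x) ∈ B := by
      apply hNF _ hnT
      intro φ hφ
      have hαα_x : (α * α) x = α (α x) := rfl
      have hααα_x : α (α (α x)) = x := by
        change (α * α * α) x = x
        rw [hα3]; rfl
      -- abbreviations: a = x, b = α x, c = α² x
      have hTa := hxT
      have hTb := hax
      have hTc := haax
      rcases hAall φ hφ with rfl | rfl | rfl
      · have : ((α * α) x * (α x * x))⁻¹ * (1 : MulAut X) ((α * α) x * (α x * x)) = 1 := by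
          change ((α * α) x * (α x * x))⁻¹ * ((α * α) x * (α x * x)) = 1
          group
        rw [this]; exact B.one_mem
      · -- φ = α : n ↦ x * (α² x * α x)   (using α³ = 1)
        have himg : φ ((φ * φ) x * (φ x * x)) = x * ((φ * φ) x * φ x) := by
          rw [map_mul, map_mul, hαα_x, hααα_x]
        rw [himg]
        -- (c b a)⁻¹ a c b = a⁻¹ (c b)⁻¹ a (c b)
        have k1 := (B7b_aux_inT_inv hn hTa).2 ((φ * φ) x * φ x)⁻¹
        have e : ((φ * φ) x * (φ x * x))⁻¹ * (x * ((φ * φ) x * φ x)) =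
            x⁻¹ * ((φ * φ) x * φ x)⁻¹ * x⁻¹⁻¹ * (((φ * φ) x * φ x)⁻¹)⁻¹ := by group
        rw [e]; exact k1
      · -- φ = α² : n ↦ α x * (x * α² x)
        have hφφ : ∀ y : X, (α * α) y = α (α y) := fun y => rfl
        have i1 : (α * α) ((α * α) x) = α x := by
          change α (α (α (α x))) = α x
          rw [hααα_x]
        have i2 : (α * α) (α x) = x := hααα_x
        have himg : (α * α) ((α * α) x * (α x * x)) = α x * (x * (α * α) x) := by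
          rw [map_mul, map_mul, i1, i2]
        rw [himg]
        -- (c b a)⁻¹ b a c = a⁻¹ b⁻¹ c⁻¹ b a c ; c⁻¹ (b a) c (b a)⁻¹ ∈ B
        have k1 := (B7b_aux_inT_inv hn hTc).2 (α x * x)
        have k2 := hn.conj_mem _ k1 (α x * x)⁻¹
        have e : ((α * α) x * (α x * x))⁻¹ * (α x * (x * (α * α) x)) =
            (α x * x)⁻¹ * (((α * α) x)⁻¹ * (α x * x) * ((α * α) x)⁻¹⁻¹ * (α x * x)⁻¹) * (α x * x)⁻¹⁻¹ := by
          group
        rw [e]; exact k2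
    have := hc _ hnB _ hp
    calc p⁻¹ * (((α * α) x * (α x * x))⁻¹ * p * ((α * α) x * (α x * x)))
        = p⁻¹ * ((α * α) x * (α x * x))⁻¹ * (p * ((α * α) x * (α x * x))) := by group
      _ = p⁻¹ * ((α * α) x * (α x * x))⁻¹ * (((α * α) x * (α x * x)) * p) := by rw [this]
      _ = 1 := by group
  have hinj := hINJ B (Sq B) hSqB hc hB.inv hSqI hSqidx hSqnf (fun p => p⁻¹ * (x⁻¹ * p * x)) hmulx
    (fun p hp => hlam hxT hp) h0x hnormx
  -- `x` does not centralise `B`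
  have hnotall : ¬ ∀ q ∈ B, q⁻¹ * (x⁻¹ * q * x) = 1 := by
    intro hall
    apply hxB
    apply hB3
    intro b hb
    have := hall b hb
    calc x * b = x * b * (b⁻¹ * (x⁻¹ * b * x)) := by rw [this, mul_one]
      _ = b * x := by group
  -- `x² ∈ Sq B`
  have hx2 : x * x ∈ Sq B := by
    have h1 : (x * x)⁻¹ * (x⁻¹ * (x * x) * x) = 1 := by group
    rcases hinj (x * x) hxT.1 h1 with h | h
    · exact h
    · exact absurd h hnotall
  obtain ⟨e', he'B, he'⟩ := hSqsq _ hx2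
  -- e = e'⁻¹, w = λ_x(e), f² = w
  have heB : e'⁻¹ ∈ B := B.inv_mem he'B
  have hwW : (e'⁻¹)⁻¹ * (x⁻¹ * e'⁻¹ * x) ∈ WW X := hlam hxT heB
  obtain ⟨f, hfB, hff⟩ := hsqW _ hwW
  have hf4 : f ^ 4 = 1 := by
    have : f ^ 4 = (f * f) * (f * f) := by
      calc f ^ 4 = f ^ (2 + 2) := rfl
        _ = f ^ 2 * f ^ 2 := pow_add f 2 2
        _ = (f * f) * (f * f) := by rw [pow_two]
    rw [this, hff]; exact hWe _ hwW
  have hfx : x * f = f * x := hTU x hxT f hfB hf4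
  set w := (e'⁻¹)⁻¹ * (x⁻¹ * e'⁻¹ * x) with hw
  have hwc : ∀ g : X, g * w = w * g := hWc w hwW
  have hww : w * w = 1 := hWe w hwW
  -- y = x e f is an involution
  have hex : e'⁻¹ * x = x * e'⁻¹ * w := by rw [hw]; group
  have hef : f * e'⁻¹ = e'⁻¹ * f := hc _ hfB _ heB
  have hyy : (x * e'⁻¹ * f) * (x * e'⁻¹ * f) = 1 := by
    calc (x * e'⁻¹ * f) * (x * e'⁻¹ * f) = x * e'⁻¹ * (f * x) * e'⁻¹ * f := by group
      _ = x * e'⁻¹ * (x * f) * e'⁻¹ * f := by rw [hfx]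
      _ = x * (e'⁻¹ * x) * (f * e'⁻¹) * f := by group
      _ = x * (x * e'⁻¹ * w) * (e'⁻¹ * f) * f := by rw [hex, hef]
      _ = x * x * e'⁻¹ * (w * e'⁻¹) * (f * f) := by group
      _ = x * x * e'⁻¹ * (e'⁻¹ * w) * (f * f) := by rw [hwc e'⁻¹]
      _ = (e' * e') * e'⁻¹ * (e'⁻¹ * w) * w := by rw [he', hff]
      _ = w * w := by group
      _ = 1 := hww
  have hyT : InT B (x * e'⁻¹ * f) := by
    have h1 : InT B (e'⁻¹ * f) := B7b_aux_inT_of_mem hn (B.mul_mem heB hfB)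
    have := B7b_aux_inT_mul hn hxT h1
    have e : x * (e'⁻¹ * f) = x * e'⁻¹ * f := by group
    rwa [e] at this
  have hyB : x * e'⁻¹ * f ∉ B := by
    intro h
    apply hxB
    have := B.mul_mem h (B.inv_mem (B.mul_mem heB hfB))
    have e : x * e'⁻¹ * f * (e'⁻¹ * f)⁻¹ = x := by group
    rwa [e] at this
  -- all commutators `[y, g]` lie in `W`
  have hyW : ∀ g : X, (x * e'⁻¹ * f) * g * (x * e'⁻¹ * f)⁻¹ * g⁻¹ ∈ WW X := by
    intro g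
    set y := x * e'⁻¹ * f with hy
    have hcB : y * g * y⁻¹ * g⁻¹ ∈ B := hyT.2 g
    have hyinv : y⁻¹ = y := by
      calc y⁻¹ = y⁻¹ * (y * y) := by rw [hyy, mul_one]
        _ = y := by group
    -- (g y g⁻¹)² = 1
    have h1 : (g * y * g⁻¹) * (g * y * g⁻¹) = 1 := by
      calc (g * y * g⁻¹) * (g * y * g⁻¹) = g * (y * y) * g⁻¹ := by group
        _ = 1 := by rw [hyy]; group
    -- g y g⁻¹ = c⁻¹ y
    have h2' : g * y * g⁻¹ = (y * g * y⁻¹ * g⁻¹)⁻¹ * y := by group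
    rw [h2'] at h1
    -- y⁻¹ c⁻¹ y = c
    have h3 : y⁻¹ * (y * g * y⁻¹ * g⁻¹)⁻¹ * y = ((y * g * y⁻¹ * g⁻¹)⁻¹)⁻¹ := by
      have : y * (y * g * y⁻¹ * g⁻¹)⁻¹ * y = ((y * g * y⁻¹ * g⁻¹)⁻¹)⁻¹ := by
        calc y * (y * g * y⁻¹ * g⁻¹)⁻¹ * y
            = ((y * g * y⁻¹ * g⁻¹)⁻¹)⁻¹ * (((y * g * y⁻¹ * g⁻¹)⁻¹ * y) * ((y * g * y⁻¹ * g⁻¹)⁻¹ * y)) := by group
          _ = ((y * g * y⁻¹ * g⁻¹)⁻¹)⁻¹ := by rw [h1, mul_one]
      exact (congrArg (fun z => z * (y * g * y⁻¹ * g⁻¹)⁻¹ * y) hyinv).trans this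
    have h4 := B7b_aux_inverted h2 hΩ hTU hyT (B.inv_mem hcB) h3
    have := (WW X).inv_mem h4
    rwa [inv_inv] at this
  have hyWW := INV H hW4 _ hyy hyW
  exact hyB (hWB hyWW)

end Cfsg.Agent.S1904P
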