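import Mathlib
import Cfsg.Prelude.Def_Transfer
import Cfsg.Agent.Helper8.S1904Defs
import Cfsg.Agent.Helper16.S1904B7bcore
import Cfsg.Agent.Helper24.S1904B1
import Cfsg.Agent.Helper1.S1904B2
import Cfsg.Agent.Helper17.S1904B3
import Cfsg.Agent.Helper8.S1904B4
import Cfsg.Agent.Helper22.S1904INJ

/-! Board `s1904pieces`, row B7b. -/

set_option autoImplicit false
set_option linter.unusedVariables false
set_option linter.unusedSectionVars false

namespace Cfsg.Agent.S1904P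

variable {X : Type*} [Group X] [Finite X] {A : Subgroup (MulAut X)} {B : Subgroup X}

/-- B7b: if `T/B` has no fixed coset and `T` centralizes `U = Ω₂(B)` then `T = B`. -/
theorem B7b (H : Hyp A) (hB : MaxAb A B)
    (hNF : ∀ t : X, InT B t → (∀ φ ∈ A, t⁻¹ * φ t ∈ B) → t ∈ B)
    (hTU : ∀ t : X, InT B t → ∀ u ∈ B, u ^ 4 = 1 → t * u = u * t) :
    ∀ t : X, InT B t → t ∈ B := by
  have hB1 := B1 H hB
  refine B7b_aux_core H hB hB1 (B2 H hB) (B3 H hB) (B4 H hB) ?_ hNF hTU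
  intro P P₀ h1 h2 h3 h4 h5 h6 lam h7 h8 h9 h10
  exact INJ H (B4 H hB) (fun w hw h => hB1.2.2.2.1 w (hB1.2.1 hw) h) P P₀ h1 h2 h3 h4 h5 h6 lam h7 h8 h9 h10

end Cfsg.Agent.S1904P
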