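import Mathlib
import Cfsg.Prelude.Def_Transfer
import Cfsg.Agent.Helper8.S1904Defs
import Cfsg.Agent.Helper1.PGroup

/-! Board `s1904pieces`, row E4b (core) : an extraspecial group of order 32 without normal `E₈` has 11 involutions. -/

set_option autoImplicit false
set_option linter.unusedVariables false
set_option linter.unusedSectionVars false

namespace Cfsg.Agent.S1904P

open scoped commutatorElement

variable {X : Type*} [Group X] [Finite X] {A : Subgroup (MulAut X)} {B : Subgroup X}

/-- a group of order two -/
theorem E4b_aux_two (Z : Subgroup X) (hZ : Nat.card ↥Z = 2) :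
    ∃ ζ ∈ Z, ζ ≠ 1 ∧ ζ * ζ = 1 ∧ ∀ z ∈ Z, z = 1 ∨ z = ζ := by
  classical
  have hnt : Z ≠ ⊥ := by
    rintro rfl
    simp at hZ
  obtain ⟨ζ, hζ1⟩ := (Subgroup.ne_bot_iff_exists_ne_one.mp hnt)
  have hζ1' : (ζ : X) ≠ 1 := fun h => hζ1 (Subtype.ext h)
  have hall : ∀ z ∈ Z, z = 1 ∨ z = (ζ : X) := by
    intro z hz
    by_contra hcon
    push Not at hcon
    have hsub : (({1, (ζ : X), z} : Finset X) : Set X) ⊆ (Z : Set X) := by
      intro y hy
      simp only [Finset.coe_insert, Finset.coe_singleton, Set.mem_insert_iff, Set.mem_singleton_iff] at hy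
      rcases hy with rfl | rfl | rfl
      · exact Z.one_mem
      · exact ζ.2
      · exact hz
    have h3 : ({1, (ζ : X), z} : Finset X).card = 3 := by
      rw [Finset.card_insert_of_notMem, Finset.card_insert_of_notMem, Finset.card_singleton]
      · simp only [Finset.mem_singleton]; exact fun h => hcon.2 h.symm
      · simp only [Finset.mem_insert, Finset.mem_singleton, not_or]
        exact ⟨fun h => hζ1' h.symm, fun h => hcon.1 h.symm⟩
    have := Set.ncard_le_ncard hsub (Set.toFinite _)
    rw [Set.ncard_coe_finset, h3] at this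
    have h4 : (Z : Set X).ncard = Nat.card ↥Z := (Nat.card_coe_set_eq (Z : Set X)).symm
    omega
  refine ⟨ζ, ζ.2, hζ1', ?_, hall⟩
  rcases hall _ (Z.mul_mem ζ.2 ζ.2) with h | h
  · exact h
  · exfalso
    apply hζ1'
    have : (ζ : X) * ζ = ζ * 1 := by rw [mul_one]; exact h
    exact mul_left_cancel this

/-- a subgroup of order at most `4` containing four distinct elements has no others -/
theorem E4b_aux_mem (E : Subgroup X) (hE : Nat.card ↥E ≤ 4) {a b c d x : X} (ha : a ∈ E) (hb : b ∈ E) (hc : c ∈ E)
    (hd : d ∈ E) (hx : x ∈ E) (hab : a ≠ b) (hac : a ≠ c) (had : a ≠ d) (hbc : b ≠ c) (hbd : b ≠ d) (hcd : c ≠ d) :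
    x = a ∨ x = b ∨ x = c ∨ x = d := by
  classical
  by_contra hcon
  push Not at hcon
  obtain ⟨h1, h2, h3, h4⟩ := hcon
  have hsub : (({x, a, b, c, d} : Finset X) : Set X) ⊆ (E : Set X) := by
    intro y hy
    simp only [Finset.coe_insert, Finset.coe_singleton, Set.mem_insert_iff, Set.mem_singleton_iff] at hy
    rcases hy with rfl | rfl | rfl | rfl | rfl <;> assumption
  have h5 : ({x, a, b, c, d} : Finset X).card = 5 := by
    rw [Finset.card_insert_of_notMem, Finset.card_insert_of_notMem, Finset.card_insert_of_notMem,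
      Finset.card_insert_of_notMem, Finset.card_singleton]
    · simp only [Finset.mem_singleton]; exact hcd
    · simp only [Finset.mem_insert, Finset.mem_singleton, not_or]; exact ⟨hbc, hbd⟩
    · simp only [Finset.mem_insert, Finset.mem_singleton, not_or]; exact ⟨hab, hac, had⟩
    · simp only [Finset.mem_insert, Finset.mem_singleton, not_or]; exact ⟨h1, h2, h3, h4⟩
  have := Set.ncard_le_ncard hsub (Set.toFinite _)
  rw [Set.ncard_coe_finset, h5] at this
  have h6 : (E : Set X).ncard = Nat.card ↥E := (Nat.card_coe_set_eq (E : Set X)).symm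
  omega

/-- three pairwise commuting involutions, one of them `z` generating a group containing all commutators, generate a normal
elementary abelian subgroup -/
theorem E4b_aux_E8 (H : Hyp A) {t z x : X} (htt : t * t = 1) (hzz : z * z = 1) (hxx : x * x = 1)
    (hzc : ∀ y : X, y * z = z * y) (htx : x * t = t * x)
    (hcomm : ∀ a b : X, a * b * a⁻¹ * b⁻¹ = 1 ∨ a * b * a⁻¹ * b⁻¹ = z)
    (htz : t ≠ z) (ht1 : t ≠ 1) (hz1 : z ≠ 1) :
    x = 1 ∨ x = t ∨ x = z ∨ x = t * z := by
  classical
  set k : Set X := {t, z, x} with hk
  have hkc : ∀ a ∈ k, ∀ b ∈ k, a * b = b * a := by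
    intro a ha b hb
    simp only [hk, Set.mem_insert_iff, Set.mem_singleton_iff] at ha hb
    rcases ha with rfl | rfl | rfl <;> rcases hb with rfl | rfl | rfl
    · rfl
    · exact hzc _
    · exact htx.symm
    · exact (hzc _).symm
    · rfl
    · exact (hzc _).symm
    · exact htx
    · exact hzc _
    · rfl
  have hEc : ∀ a ∈ Subgroup.closure k, ∀ b ∈ Subgroup.closure k, a * b = b * a := by
    intro a ha b hb
    have := (Subgroup.isMulCommutative_closure hkc).is_comm.comm ⟨a, ha⟩ ⟨b, hb⟩
    exact congrArg Subtype.val this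
  have hEs : ∀ a ∈ Subgroup.closure k, a * a = 1 := by
    intro a ha
    induction ha using Subgroup.closure_induction with
    | mem y hy =>
      simp only [hk, Set.mem_insert_iff, Set.mem_singleton_iff] at hy
      rcases hy with rfl | rfl | rfl <;> assumption
    | one => simp
    | mul a b ha hb iha ihb =>
      have := hEc a ha b hb
      calc a * b * (a * b) = a * (b * a) * b := by group
        _ = a * (a * b) * b := by rw [this]
        _ = (a * a) * (b * b) := by group
        _ = 1 := by rw [iha, ihb, one_mul]
    | inv a ha iha =>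
      have : a⁻¹ = a := by
        calc a⁻¹ = a⁻¹ * (a * a) := by rw [iha, mul_one]
          _ = a := by group
      rw [this, iha]
  have htE : t ∈ Subgroup.closure k := Subgroup.subset_closure (by simp [hk])
  have hzE : z ∈ Subgroup.closure k := Subgroup.subset_closure (by simp [hk])
  have hxE : x ∈ Subgroup.closure k := Subgroup.subset_closure (by simp [hk])
  have hEn : (Subgroup.closure k).Normal := by
    constructor
    intro a ha g
    have e : g * a * g⁻¹ = (g * a * g⁻¹ * a⁻¹) * a := by group
    rw [e]
    rcases hcomm g a with h | h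
    · rw [h, one_mul]; exact ha
    · rw [h]; exact (Subgroup.closure k).mul_mem hzE ha
  have hcard := H.noE8 (Subgroup.closure k) hEn hEc hEs
  have h1E : (1 : X) ∈ Subgroup.closure k := Subgroup.one_mem _
  have htzE : t * z ∈ Subgroup.closure k := Subgroup.mul_mem _ htE hzE
  refine E4b_aux_mem (Subgroup.closure k) hcard h1E htE hzE htzE hxE (Ne.symm ht1) (Ne.symm hz1) ?_ htz ?_ ?_
  · intro h
    apply htz
    calc t = t * (z * z) := by rw [hzz, mul_one]
      _ = (t * z) * z := by group
      _ = z := by rw [← h, one_mul]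
  · intro h
    apply hz1
    have : t * 1 = t * z := by rw [mul_one]; exact h
    exact (mul_left_cancel this).symm
  · intro h
    apply ht1
    have : 1 * z = t * z := by rw [one_mul]; exact h
    exact (mul_right_cancel this).symm

/-- E4b, core: order 32 gives 11 involutions, given a noncentral involution (row E1). -/
theorem E4b_aux_core (H : Hyp A) (hes : Cfsg.IsExtraspecial 2 X) (h32 : Nat.card X = 32)
    (hE1 : ∃ t : X, t ∉ Subgroup.center X ∧ t * t = 1) :
    Nat.card {x : X // orderOf x = 2} = 11 := by
  classical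
  have hes' := hes
  obtain ⟨⟨hp, hfr, hder⟩, hZ2⟩ := hes
  obtain ⟨z, hzZ, hz1, hzz, hZall⟩ := E4b_aux_two (Subgroup.center X) hZ2
  have hzc : ∀ x : X, x * z = z * x := fun x => (Subgroup.mem_center_iff.mp hzZ) x
  have hcomm : ∀ x y : X, x * y * x⁻¹ * y⁻¹ = 1 ∨ x * y * x⁻¹ * y⁻¹ = z := by
    intro x y
    apply hZall
    rw [← hder]
    have : ⁅x, y⁆ ∈ commutator X :=
      Subgroup.commutator_mem_commutator (Subgroup.mem_top x) (Subgroup.mem_top y)
    rwa [commutatorElement_def] at this
  have hsq : ∀ x : X, x * x = 1 ∨ x * x = z := by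
    intro x
    apply hZall
    rw [← hfr]
    have : Fact (Nat.Prime 2) := ⟨Nat.prime_two⟩
    have := Cfsg.Agent.Helper1.IsPGroup.pow_mem_frattini hp x
    rwa [pow_two] at this
  -- a noncentral involution
  obtain ⟨t, htZ, htt⟩ := hE1
  have ht1 : t ≠ 1 := by rintro rfl; exact htZ (Subgroup.one_mem _)
  have htz : t ≠ z := by rintro rfl; exact htZ hzZ
  -- conjugation of `t` by a non-commuting element
  have hconj : ∀ y : X, ¬ y * t = t * y → y⁻¹ * t * y = t * z := by
    intro y hy
    rcases hcomm y⁻¹ t with h | h
    · exfalso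
      apply hy
      have e : y⁻¹ * t * y⁻¹⁻¹ * t⁻¹ = y⁻¹ * t * y * t⁻¹ := by group
      rw [e] at h
      calc y * t = y * ((y⁻¹ * t * y * t⁻¹) * t) := by rw [h, one_mul]
        _ = t * y := by group
    · have e : y⁻¹ * t * y⁻¹⁻¹ * t⁻¹ = y⁻¹ * t * y * t⁻¹ := by group
      rw [e] at h
      calc y⁻¹ * t * y = (y⁻¹ * t * y * t⁻¹) * t := by group
        _ = t * z := by rw [h, hzc]
  -- the centraliser of `t` has index two
  have hidx : (Subgroup.centralizer ({t} : Set X)).index = 2 := by
    have hex : ∃ g : X, ¬ g * t = t * g := by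
      by_contra hno
      push Not at hno
      exact htZ (Subgroup.mem_center_iff.mpr hno)
    obtain ⟨g, hg⟩ := hex
    rw [Subgroup.index_eq_two_iff]
    refine ⟨g, fun b => ?_⟩
    have hmem : ∀ y : X, y ∈ Subgroup.centralizer ({t} : Set X) ↔ y * t = t * y := by
      intro y
      rw [Subgroup.mem_centralizer_iff]
      constructor
      · intro h; exact (h t rfl).symm
      · intro h u hu
        rw [Set.mem_singleton_iff] at hu
        subst hu; exact h.symm
    rw [hmem, hmem]
    by_cases hb : b * t = t * b
    · refine Or.inr ⟨hb, ?_⟩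
      intro h
      apply hg
      calc g * t = b⁻¹ * ((b * g) * t) := by group
        _ = b⁻¹ * (t * (b * g)) := by rw [h]
        _ = b⁻¹ * (t * b) * g := by group
        _ = b⁻¹ * (b * t) * g := by rw [hb]
        _ = t * g := by group
    · refine Or.inl ⟨?_, hb⟩
      have h1 := hconj b hb
      have h2 := hconj g hg
      calc b * g * t = b * g * ((g⁻¹ * t * g) * z) := by rw [h2, mul_assoc t z z, hzz, mul_one]
        _ = b * (t * g) * z := by group
        _ = b * (t * z) * g := by rw [mul_assoc b (t * g) z, mul_assoc t g z, hzc g, ← mul_assoc t z g,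
            ← mul_assoc b (t * z) g]
        _ = b * (b⁻¹ * t * b) * g := by rw [h1]
        _ = t * (b * g) := by group
  have hCcard : Nat.card ↥(Subgroup.centralizer ({t} : Set X)) = 16 := by
    have := Subgroup.card_mul_index (Subgroup.centralizer ({t} : Set X))
    rw [hidx, h32] at this
    omega
  -- the sets
  set D : Set X := {x | ¬ x * t = t * x} with hD
  set D1 : Set X := {x | ¬ x * t = t * x ∧ x * x = 1} with hD1
  set Dz : Set X := {x | ¬ x * t = t * x ∧ x * x = z} with hDz
  have hDcard : D.ncard = 16 := by
    have hcompl : D = ((Subgroup.centralizer ({t} : Set X) : Set X))ᶜ := by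
      ext y
      simp only [hD, Set.mem_ofPred_eq, Set.mem_compl_iff, SetLike.mem_coe, Subgroup.mem_centralizer_iff,
        Set.mem_singleton_iff, forall_eq]
      constructor
      · intro h h'; exact h h'.symm
      · intro h h'; exact h h'.symm
    rw [hcompl, Set.ncard_compl]
    have h6 : ((Subgroup.centralizer ({t} : Set X) : Set X)).ncard = 16 := by
      rw [← hCcard]; exact (Nat.card_coe_set_eq _).symm
    rw [h6, h32]
  have hDunion : D = D1 ∪ Dz := by
    ext y
    simp only [hD, hD1, hDz, Set.mem_ofPred_eq, Set.mem_union]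
    constructor
    · intro h
      rcases hsq y with h' | h'
      · exact Or.inl ⟨h, h'⟩
      · exact Or.inr ⟨h, h'⟩
    · rintro (h | h) <;> exact h.1
  have hDdisj : Disjoint D1 Dz := by
    rw [Set.disjoint_left]
    intro y hy hy'
    exact hz1 (hy'.2.symm.trans hy.2)
  have hsqt : ∀ y : X, ¬ y * t = t * y → (y * t) * (y * t) = (y * y) * z := by
    intro y hy
    have h1 := hconj y hy
    have e2 : t * z * t = z := by rw [mul_assoc, ← hzc t, ← mul_assoc, htt, one_mul]
    calc (y * t) * (y * t) = y * y * ((y⁻¹ * t * y) * t) := by group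
      _ = y * y * (t * z * t) := by rw [h1]
      _ = (y * y) * z := by rw [e2]
  have hnct : ∀ y : X, ¬ y * t = t * y → ¬ (y * t) * t = t * (y * t) := by
    intro y hy h
    apply hy
    have : y * t * t = t * y * t := by rw [h]; group
    exact mul_right_cancel this
  have himg : (fun y => y * t) '' D1 = Dz := by
    ext y
    simp only [hD1, hDz, Set.mem_image, Set.mem_ofPred_eq]
    constructor
    · rintro ⟨w, ⟨hw, hw2⟩, rfl⟩
      exact ⟨hnct w hw, by rw [hsqt w hw, hw2, one_mul]⟩
    · rintro ⟨hy, hy2⟩
      refine ⟨y * t, ⟨hnct y hy, ?_⟩, ?_⟩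
      · rw [hsqt y hy, hy2, hzz]
      · rw [mul_assoc, htt, mul_one]
  have hD1card : D1.ncard = 8 := by
    have h1 : Dz.ncard = D1.ncard := by
      rw [← himg]
      exact Set.ncard_image_of_injective _ (mul_left_injective t)
    have h2 : D.ncard = D1.ncard + Dz.ncard := by
      rw [hDunion]
      exact Set.ncard_union_eq hDdisj (Set.toFinite _) (Set.toFinite _)
    omega
  -- the involutions
  have hI : {x : X | orderOf x = 2} = ((({t, z, t * z} : Finset X)) : Set X) ∪ D1 := by
    ext y
    have : Fact (Nat.Prime 2) := ⟨Nat.prime_two⟩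
    simp only [Set.mem_ofPred_eq, Set.mem_union, Finset.coe_insert, Finset.coe_singleton, Set.mem_insert_iff,
      Set.mem_singleton_iff, hD1]
    rw [orderOf_eq_prime_iff, pow_two]
    constructor
    · rintro ⟨hy2, hy1⟩
      by_cases hyt : y * t = t * y
      · left
        rcases E4b_aux_E8 H htt hzz hy2 hzc hyt hcomm htz ht1 hz1 with h | h | h | h
        · exact absurd h hy1
        · exact Or.inl h
        · exact Or.inr (Or.inl h)
        · exact Or.inr (Or.inr h)
      · exact Or.inr ⟨hyt, hy2⟩
    · rintro ((rfl | rfl | rfl) | ⟨hyt, hy2⟩)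
      · exact ⟨htt, ht1⟩
      · exact ⟨hzz, hz1⟩
      · refine ⟨?_, ?_⟩
        · calc t * z * (t * z) = t * (z * t) * z := by group
            _ = t * (t * z) * z := by rw [hzc t]
            _ = (t * t) * (z * z) := by group
            _ = 1 := by rw [htt, hzz, one_mul]
        · intro h
          apply htz
          calc t = t * (z * z) := by rw [hzz, mul_one]
            _ = (t * z) * z := by group
            _ = z := by rw [h, one_mul]
      · refine ⟨hy2, ?_⟩
        rintro rfl
        exact hyt (by rw [one_mul, mul_one])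
  have hdisj : Disjoint ((({t, z, t * z} : Finset X)) : Set X) D1 := by
    rw [Set.disjoint_left]
    intro y hy hy'
    simp only [Finset.coe_insert, Finset.coe_singleton, Set.mem_insert_iff, Set.mem_singleton_iff] at hy
    apply hy'.1
    rcases hy with rfl | rfl | rfl
    · rfl
    · exact (hzc t).symm
    · calc t * z * t = t * (z * t) := by group
        _ = t * (t * z) := by rw [hzc t]
  have h3 : ({t, z, t * z} : Finset X).card = 3 := by
    rw [Finset.card_insert_of_notMem, Finset.card_insert_of_notMem, Finset.card_singleton]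
    · simp only [Finset.mem_singleton]
      intro h
      apply ht1
      have : 1 * z = t * z := by rw [one_mul]; exact h
      exact (mul_right_cancel this).symm
    · simp only [Finset.mem_insert, Finset.mem_singleton, not_or]
      refine ⟨htz, ?_⟩
      intro h
      apply hz1
      have : t * 1 = t * z := by rw [mul_one]; exact h
      exact (mul_left_cancel this).symm
  calc Nat.card {x : X // orderOf x = 2} = ({x : X | orderOf x = 2}).ncard := (Nat.card_coe_set_eq _)
    _ = ((({t, z, t * z} : Finset X)) : Set X).ncard + D1.ncard := by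
        rw [hI]; exact Set.ncard_union_eq hdisj (Set.toFinite _) (Set.toFinite _)
    _ = 11 := by rw [Set.ncard_coe_finset, h3, hD1card]

end Cfsg.Agent.S1904P
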