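import Mathlib
import Cfsg.Prelude.Def_Transfer
import Cfsg.Agent.Helper8.S1904Defs
import Cfsg.Agent.Helper16.S1904E4bcore
import Cfsg.Agent.Helper2.S1904E1

/-! Board `s1904pieces`, row E4b : an extraspecial group of order 32 without normal `E₈` has 11 involutions. -/

set_option autoImplicit false
set_option linter.unusedVariables false
set_option linter.unusedSectionVars false

namespace Cfsg.Agent.S1904P

variable {X : Type*} [Group X] [Finite X] {A : Subgroup (MulAut X)} {B : Subgroup X}

/-- E4b: order 32 gives 11 involutions. -/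
theorem E4b (H : Hyp A) (hes : Cfsg.IsExtraspecial 2 X) (h32 : Nat.card X = 32) :
    Nat.card {x : X // orderOf x = 2} = 11 := by
  refine E4b_aux_core H hes h32 ?_
  obtain ⟨t, -, htZ, htt⟩ := E1 hes ⊤ (Subgroup.center X) le_top le_rfl
    (by rw [hes.2, Subgroup.card_top, h32]; norm_num)
  exact ⟨t, htZ, htt⟩

end Cfsg.Agent.S1904P
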