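import Mathlib
import Cfsg.Agent.Helper2.S2094.DefsR
import Cfsg.Agent.Helper9.S2094BLOCKD
import Cfsg.Agent.Helper22.S2094DTRANS
import Cfsg.Agent.Helper20.S2096HALFSL
import Cfsg.Agent.Helper5.S2096TXID
import Cfsg.Agent.Helper25.S2096WXID
import Cfsg.Agent.Helper20.S2094HKERD
import Cfsg.Agent.Helper26.S2094HLONG

set_option autoImplicit false
set_option linter.unusedSectionVars false
set_option linter.unusedVariables false

/-! S2094 chapter Z (driver helper2), piece HKERB: an element of the torus `HhB` with trivial matrix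
is `1` or `tY (e_o) (-1)`. -/

namespace Cfsg.Agent.S2094P

open Matrix Cfsg.Agent.S3352P Cfsg.Agent.S3351P Cfsg.Agent.S2096P Cfsg.Agent.S2086P Cfsg.Agent.RGD

variable {n : ℕ} {F : Type*} [Field F] [Fintype F] {M : Type*} [Group M]
  {X : J n → J n → F → M} {Ys : J n → F → M}

namespace HKERB

theorem exists_isRoot (hn : 3 ≤ n) (b : J n) : ∃ a : J n, IsRoot a b := by
  have : Nontrivial (Fin n) := Fin.nontrivial_iff_two_le.2 (by omega)
  cases b with
  | inl i =>
    obtain ⟨j, hj⟩ := exists_ne i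
    refine ⟨Sum.inl j, ?_, ?_⟩
    · intro h
      exact hj (Sum.inl_injective h)
    · intro h
      simp at h
  | inr i =>
    obtain ⟨j, hj⟩ := exists_ne i
    refine ⟨Sum.inl j, ?_, ?_⟩
    · intro h
      simp at h
    · intro h
      simp only [ng_inr] at h
      exact hj (Sum.inl_injective h)

/-- the torus elements of the short roots lie in the torus of the long roots -/
theorem tY_mem_Hh (π : M →* Matrix (I n) (I n) F)
    (hπX : ∀ a b, IsRoot a b → ∀ t : F, π (X a b t) = xmB a b t)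
    (hπY : ∀ a, ∀ t : F, π (Ys a t) = ymB a t) (hn : 3 ≤ n) (h2 : (2 : F) ≠ 0) (hB : BRel X Ys)
    (b : J n) {t : F} (ht : t ≠ 0) : tY Ys b t ∈ Hh X := by
  obtain ⟨a, hab⟩ := exists_isRoot hn b
  have h := tX_ng_eq π hπX hπY hn h2 hB hab ht
  have h' : tY Ys b t = tX X a (ng b) t * (tX X a b t)⁻¹ := by
    rw [h, mul_inv_cancel_right]
  rw [h']
  apply mul_mem
  · exact Subgroup.subset_closure ⟨a, ng b, t, isRoot_ng_right' hab, ht, rfl⟩
  · exact inv_mem (Subgroup.subset_closure ⟨a, b, t, hab, ht, rfl⟩)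

theorem HhB_le_Hh (π : M →* Matrix (I n) (I n) F)
    (hπX : ∀ a b, IsRoot a b → ∀ t : F, π (X a b t) = xmB a b t)
    (hπY : ∀ a, ∀ t : F, π (Ys a t) = ymB a t) (hn : 3 ≤ n) (h2 : (2 : F) ≠ 0) (hB : BRel X Ys) :
    HhB X Ys ≤ Hh X := by
  unfold HhB
  rw [Subgroup.closure_le]
  rintro g (⟨a, b, t, hab, ht, rfl⟩ | ⟨a, t, ht, rfl⟩)
  · exact Subgroup.subset_closure ⟨a, b, t, hab, ht, rfl⟩
  · exact tY_mem_Hh π hπX hπY hn h2 hB a ht

theorem blkB_injective : Function.Injective (blkB : Matrix (J n) (J n) F → Matrix (I n) (I n) F) := by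
  intro A B h
  have := congrArg Matrix.toBlocks₂₂ h
  rwa [BLOCKD.toBlocks₂₂_blkB, BLOCKD.toBlocks₂₂_blkB] at this

end HKERB

open HKERB

/-- HKERB: an element of the torus with trivial matrix is `1` or `tY (e_o) (-1)` -/
theorem eq_one_or_eq_tY (π : M →* Matrix (I n) (I n) F)
    (hπX : ∀ a b, IsRoot a b → ∀ t : F, π (X a b t) = xmB a b t)
    (hπY : ∀ a, ∀ t : F, π (Ys a t) = ymB a t) (hn : 3 ≤ n) (h2 : (2 : F) ≠ 0) (hB : BRel X Ys)
    (o : Fin n) {h : M} (hh : h ∈ HhB X Ys) (hπh : π h = 1) :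
    h = 1 ∨ h = tY Ys (Sum.inl o) (-1) := by
  have hX : DRel X := hB.dX
  have hhD : h ∈ Hh X := HhB_le_Hh π hπX hπY hn h2 hB hh
  obtain ⟨πD, hπD, hblk⟩ := exists_piD (X := X) π hπX
  rw [← map_Hh_XD] at hhD
  obtain ⟨k, hk, rfl⟩ := hhD
  have hπk : πD k = 1 := by
    apply blkB_injective
    rw [← hblk, BLOCKD.blkB_one]
    exact hπh
  obtain ⟨Θ, hΘ⟩ := exists_half_sl (G := ↥(MD X)) hn (dRel_XD hX) (∅ : Finset (Fin n))
  have hΘ' : ∀ (i j : Fin n) (hij : i ≠ j) (t : F),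
      Θ (Matrix.SpecialLinearGroup.transvection hij t) = XD X (Sum.inl i) (Sum.inl j) t := by
    intro i j hij t
    rw [hΘ i j hij t]
    simp [half]
  have : Nontrivial (Fin n) := Fin.nontrivial_iff_two_le.2 (by omega)
  obtain ⟨o', ho'⟩ := exists_ne o
  rcases eq_one_or_eq_zc πD hπD Θ hΘ' hn (dRel_XD hX) ho' hk hπk with h1 | h1
  · left
    rw [h1]
    rfl
  · right
    have hr1 : IsRoot (Sum.inl o' : J n) (Sum.inl o) :=
      ⟨fun h => ho' (Sum.inl_injective h), fun h => by simp at h⟩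
    have hr2 : IsRoot (Sum.inl o' : J n) (Sum.inr o) :=
      ⟨fun h => by simp at h, fun h => by
        simp only [ng_inr] at h
        exact ho' (Sum.inl_injective h)⟩
    have hm1 : (-1 : F) ≠ 0 := neg_ne_zero.mpr one_ne_zero
    rw [h1]
    show ((zc (XD X) o' o : ↥(MD X)) : M) = _
    unfold zc
    rw [Subgroup.coe_mul, coe_tX_XD hr1, coe_tX_XD hr2]
    have hl := tX_ng_eq π hπX hπY hn h2 hB hr1 hm1
    rw [ng_inl] at hl
    rw [hl, ← mul_assoc]
    have hc := Hh_comm_B π hπX hn hX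
      (Subgroup.subset_closure ⟨_, _, (-1 : F), hr1, hm1, rfl⟩ : tX X (Sum.inl o') (Sum.inl o) (-1) ∈ Hh X)
      (tY_mem_Hh π hπX hπY hn h2 hB (Sum.inl o) hm1)
    rw [hc, mul_assoc, ← tX_mul hn hX hr1 hm1 hm1]
    have : ((-1 : F) * -1) = 1 := by ring
    rw [this, tX_one hX hr1, mul_one]

end Cfsg.Agent.S2094P
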