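import Mathlib
import Cfsg.Agent.Helper2.S2094.DefsR
import Cfsg.Agent.Helper18.S2094NACONJB

set_option autoImplicit false
set_option linter.unusedSectionVars false
set_option linter.unusedVariables false

/-! S2094 chapter N (driver helper2), piece NGENB: every element of `N̂` is a product of an element
of `NA X` and an element of `CSB Ys ⊔ HhB X Ys`. -/

namespace Cfsg.Agent.S2094P

open Matrix Cfsg.Agent.S3352P Cfsg.Agent.S3351P Cfsg.Agent.S2096P Cfsg.Agent.S2086P Cfsg.Agent.RGD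

variable {n : ℕ} {F : Type*} [Field F] {M : Type*} [Group M] {X : J n → J n → F → M}
  {Ys : J n → F → M}

namespace NGENB

theorem wY_inv_eq (hB : BRel X Ys) (a : J n) (t : F) : (wY Ys a t)⁻¹ = wY Ys a (-t) := by
  unfold wY
  rw [_root_.mul_inv_rev, _root_.mul_inv_rev, Ys_inv hB, Ys_inv hB, inv_neg, mul_assoc]

theorem wY_eq_tY_mul_cB (hB : BRel X Ys) (j : Fin n) (t : F) :
    wY Ys (Sum.inl j) t = tY Ys (Sum.inl j) t * cB Ys j := by
  unfold tY cB
  rw [mul_assoc, ← wY_inv_eq hB, inv_mul_cancel, mul_one]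

end NGENB

open NGENB

/-- NGENB -/
theorem exists_of_mem_NhB [Fintype F] (π : M →* Matrix (I n) (I n) F)
    (hπX : ∀ a b, IsRoot a b → ∀ t : F, π (X a b t) = xmB a b t) (hn : 3 ≤ n) (hB : BRel X Ys)
    {m : M} (hm : m ∈ (datumB X Ys).Nh) :
    ∃ ν ∈ NA X, ∃ y ∈ CSB Ys ⊔ HhB X Ys, m = ν * y := by
  unfold Datum.Nh at hm
  induction hm using Subgroup.closure_induction with
  | mem g hg =>
    rcases hg with hg | ⟨s, hs, hg⟩
    · exact ⟨1, one_mem _, g, Subgroup.mem_sup_right hg, (one_mul g).symm⟩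
    · obtain ⟨r, hr⟩ := s
      cases r with
      | lg a b =>
        obtain ⟨i, j, hij, rfl, rfl⟩ := hs
        obtain ⟨t, ht, rfl⟩ := hg
        refine ⟨_, Subgroup.subset_closure ⟨i, j, t, ?_, ht, rfl⟩, 1, one_mem _, (mul_one _).symm⟩
        intro h
        rw [h] at hij
        omega
      | sh a =>
        obtain ⟨j, hj, rfl⟩ := hs
        obtain ⟨t, ht, rfl⟩ := hg
        refine ⟨1, one_mem _, _, ?_, (one_mul _).symm⟩
        show wY Ys (Sum.inl j) t ∈ _
        rw [wY_eq_tY_mul_cB hB]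
        apply mul_mem
        · apply Subgroup.mem_sup_right
          exact Subgroup.subset_closure (Or.inr ⟨_, t, ht, rfl⟩)
        · apply Subgroup.mem_sup_left
          exact Subgroup.subset_closure ⟨j, rfl⟩
  | one => exact ⟨1, one_mem _, 1, one_mem _, (one_mul 1).symm⟩
  | mul g k _ _ hg hk =>
    obtain ⟨ν₁, hν₁, y₁, hy₁, rfl⟩ := hg
    obtain ⟨ν₂, hν₂, y₂, hy₂, rfl⟩ := hk
    have hc := NA_conj_mem_B π hπX hn hB (inv_mem hν₂) hy₁
    rw [inv_inv] at hc
    refine ⟨ν₁ * ν₂, mul_mem hν₁ hν₂, ν₂⁻¹ * y₁ * ν₂ * y₂, mul_mem hc hy₂, ?_⟩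
    group
  | inv g _ hg =>
    obtain ⟨ν, hν, y, hy, rfl⟩ := hg
    have hc := NA_conj_mem_B π hπX hn hB hν (inv_mem hy)
    refine ⟨ν⁻¹, inv_mem hν, ν * y⁻¹ * ν⁻¹, hc, ?_⟩
    group

end Cfsg.Agent.S2094P
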