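import Mathlib
import Cfsg.Agent.Helper4.S2522.Defs

set_option autoImplicit false

/-! S2522 piece COMPRESS (driver helper4; helper16): the compression lemma. -/

namespace Cfsg.Agent.S2522P

open Module

namespace COMPRESS
variable {K : Type*} [Field K] {V : Type*} [AddCommGroup V] [Module K V]

/-- the projection onto `ker φ` along `e` -/
def pr (e : V) (φ : Module.Dual K V) (h1 : φ e = 1) : V →ₗ[K] LinearMap.ker φ where
  toFun v := ⟨v - φ v • e, by simp [LinearMap.mem_ker, h1]⟩
  map_add' a b := by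
    apply Subtype.ext
    simp only [map_add, add_smul, Submodule.coe_add]
    abel
  map_smul' c a := by
    apply Subtype.ext
    simp only [map_smul, smul_eq_mul, RingHom.id_apply, Submodule.coe_smul, smul_sub, mul_smul]

theorem pr_coe (e : V) (φ : Module.Dual K V) (h1 : φ e = 1) (v : V) :
    ((pr e φ h1 v : LinearMap.ker φ) : V) = v - φ v • e := rfl

theorem pr_e (e : V) (φ : Module.Dual K V) (h1 : φ e = 1) : pr e φ h1 e = 0 := by
  apply Subtype.ext
  rw [pr_coe, h1, one_smul, sub_self]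
  rfl

theorem pr_ker (e : V) (φ : Module.Dual K V) (h1 : φ e = 1) (w : LinearMap.ker φ) :
    pr e φ h1 (w : V) = w := by
  apply Subtype.ext
  have : φ (w : V) = 0 := w.2
  rw [pr_coe, this, zero_smul, sub_zero]

theorem decomp (e : V) (φ : Module.Dual K V) (h1 : φ e = 1) (v : V) :
    v = φ v • e + ((pr e φ h1 v : LinearMap.ker φ) : V) := by
  rw [pr_coe]; abel

/-- the first lifted factor -/
def U1 (g : Module.End K V) (e : V) (φ : Module.Dual K V) (h1 : φ e = 1)
    (u : Module.End K (LinearMap.ker φ)) : Module.End K V :=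
  φ.smulRight (g e) + (LinearMap.ker φ).subtype.comp (u.comp (pr e φ h1))

/-- the second lifted factor -/
def U2 (g : Module.End K V) (e : V) (φ : Module.Dual K V) (h1 : φ e = 1)
    (u : Module.End K (LinearMap.ker φ)) : Module.End K V :=
  (φ + (φ.comp g).comp ((LinearMap.ker φ).subtype.comp (pr e φ h1))).smulRight e
    + (LinearMap.ker φ).subtype.comp (u.comp (pr e φ h1))

theorem U1_apply (g : Module.End K V) (e : V) (φ : Module.Dual K V) (h1 : φ e = 1)
    (u : Module.End K (LinearMap.ker φ)) (v : V) :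
    U1 g e φ h1 u v = φ v • g e + ((u (pr e φ h1 v) : LinearMap.ker φ) : V) := rfl

theorem U2_apply (g : Module.End K V) (e : V) (φ : Module.Dual K V) (h1 : φ e = 1)
    (u : Module.End K (LinearMap.ker φ)) (v : V) :
    U2 g e φ h1 u v = (φ v + φ (g ((pr e φ h1 v : LinearMap.ker φ) : V))) • e
      + ((u (pr e φ h1 v) : LinearMap.ker φ) : V) := rfl

theorem U1_sub_one (g : Module.End K V) (e : V) (φ : Module.Dual K V) (h1 : φ e = 1)
    (u : Module.End K (LinearMap.ker φ)) (v : V) :
    (U1 g e φ h1 u - 1) v = φ v • (g e - e) + (((u - 1) (pr e φ h1 v) : LinearMap.ker φ) : V) := by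
  rw [LinearMap.sub_apply, U1_apply, Module.End.one_apply, LinearMap.sub_apply,
    Module.End.one_apply, Submodule.coe_sub, pr_coe, smul_sub]
  abel

theorem U2_sub_one (g : Module.End K V) (e : V) (φ : Module.Dual K V) (h1 : φ e = 1)
    (u : Module.End K (LinearMap.ker φ)) (v : V) :
    (U2 g e φ h1 u - 1) v = xiv g φ (pr e φ h1 v) • e
      + (((u - 1) (pr e φ h1 v) : LinearMap.ker φ) : V) := by
  rw [LinearMap.sub_apply, U2_apply, Module.End.one_apply, LinearMap.sub_apply,
    Module.End.one_apply, Submodule.coe_sub, xiv_apply, add_smul]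
  nth_rewrite 3 [pr_coe]
  abel

theorem U1_sub_one_mem (g : Module.End K V) (e : V) (φ : Module.Dual K V) (h1 : φ e = 1)
    (h : φ (g e) = 1) (u : Module.End K (LinearMap.ker φ)) (v : V) :
    (U1 g e φ h1 u - 1) v ∈ LinearMap.ker φ := by
  rw [U1_sub_one, LinearMap.mem_ker, map_add, map_smul, map_sub, h, h1, sub_self, smul_zero,
    zero_add]
  exact (((u - 1) (pr e φ h1 v) : LinearMap.ker φ)).2

theorem U1_sub_one_ker (g : Module.End K V) (e : V) (φ : Module.Dual K V) (h1 : φ e = 1)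
    (u : Module.End K (LinearMap.ker φ)) (w : LinearMap.ker φ) :
    (U1 g e φ h1 u - 1) (w : V) = (((u - 1) w : LinearMap.ker φ) : V) := by
  have : φ (w : V) = 0 := w.2
  rw [U1_sub_one, pr_ker, this, zero_smul, zero_add]

theorem U1_pow (g : Module.End K V) (e : V) (φ : Module.Dual K V) (h1 : φ e = 1)
    (h : φ (g e) = 1) (u : Module.End K (LinearMap.ker φ)) (k : ℕ) (v : V) :
    ((U1 g e φ h1 u - 1) ^ (k + 1)) v =
      ((((u - 1) ^ k) ⟨(U1 g e φ h1 u - 1) v, U1_sub_one_mem g e φ h1 h u v⟩ :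
        LinearMap.ker φ) : V) := by
  induction k with
  | zero => simp
  | succ k ih =>
    rw [pow_succ', Module.End.mul_apply, ih, U1_sub_one_ker, pow_succ' (u - 1) k,
      Module.End.mul_apply]

theorem U2_pow (g : Module.End K V) (e : V) (φ : Module.Dual K V) (h1 : φ e = 1)
    (u : Module.End K (LinearMap.ker φ)) (k : ℕ) (v : V) :
    ((U2 g e φ h1 u - 1) ^ (k + 1)) v =
      xiv g φ (((u - 1) ^ k) (pr e φ h1 v)) • e
        + ((((u - 1) ^ (k + 1)) (pr e φ h1 v) : LinearMap.ker φ) : V) := by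
  induction k with
  | zero =>
    rw [zero_add, pow_one, pow_zero, pow_one, Module.End.one_apply, U2_sub_one]
  | succ k ih =>
    rw [pow_succ', Module.End.mul_apply, ih, map_add, map_smul, U2_sub_one g e φ h1 u e, pr_e,
      map_zero, map_zero, Submodule.coe_zero, zero_smul, add_zero, smul_zero, zero_add,
      U2_sub_one, pr_ker, pow_succ' (u - 1) (k + 1), Module.End.mul_apply]

theorem good_of_comp [FiniteDimensional K V] (g : Module.End K V) (e : V) (φ : Module.Dual K V)
    (h1 : φ e = 1) (h : φ (g e) = 1) (hG : Good (comp g e φ h) (yv g e φ h1 h) (xiv g φ))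
    (y₀ : V) (ξ₀ : Module.Dual K V) (hy : φ y₀ ≠ 0) (hξ : ξ₀ e ≠ 0) : Good g y₀ ξ₀ := by
  obtain ⟨u₁, u₂, ⟨hn1, hk1⟩, ⟨hn2, hk2⟩, hgu, hyr, v0, hv0, hxv0⟩ := hG
  have he0 : e ≠ 0 := by
    intro h0
    rw [h0, map_zero] at h1
    exact zero_ne_one h1
  refine ⟨U1 g e φ h1 u₁, U2 g e φ h1 u₂, ⟨?_, ?_⟩, ⟨?_, ?_⟩, ?_, ?_, e, ?_, hξ⟩
  · -- nilpotent
    obtain ⟨m, hm⟩ := hn1
    refine ⟨m + 1, ?_⟩
    apply LinearMap.ext
    intro v
    rw [U1_pow g e φ h1 h, hm]
    rfl
  · -- kernel of `U1 - 1`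
    obtain ⟨w0, hw0, hw0span⟩ := finrank_eq_one_iff'.mp hk1
    have hkey : ∀ v : V, (U1 g e φ h1 u₁ - 1) v = 0 →
        φ v = 0 ∧ (u₁ - 1) (pr e φ h1 v) = 0 := by
      intro v hv
      rw [U1_sub_one] at hv
      by_cases hφ : φ v = 0
      · refine ⟨hφ, ?_⟩
        rw [hφ, zero_smul, zero_add] at hv
        exact Subtype.ext hv
      · exfalso
        apply hyr
        refine ⟨(-(φ v)⁻¹) • pr e φ h1 v, ?_⟩
        apply Subtype.ext
        rw [map_smul, Submodule.coe_smul, yv_coe]
        have : (((u₁ - 1) (pr e φ h1 v) : LinearMap.ker φ) : V) = -(φ v • (g e - e)) :=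
          eq_neg_of_add_eq_zero_right hv
        rw [this, neg_smul, smul_neg, neg_neg, smul_smul, inv_mul_cancel₀ hφ, one_smul]
    have hw0mem : (U1 g e φ h1 u₁ - 1) ((w0 : LinearMap.ker φ) : V) = 0 := by
      rw [U1_sub_one_ker]
      have : (u₁ - 1) (w0 : LinearMap.ker φ) = 0 := w0.2
      rw [this]; rfl
    refine finrank_eq_one_iff'.mpr ⟨⟨((w0 : LinearMap.ker φ) : V), hw0mem⟩, ?_, ?_⟩
    · intro h0
      apply hw0
      have h0' : (((w0 : LinearMap.ker φ)) : V) = 0 := congrArg Subtype.val h0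
      apply Subtype.ext
      apply Subtype.ext
      exact h0'
    · intro x
      obtain ⟨hφx, hx⟩ := hkey x.1 x.2
      have hxW : pr e φ h1 (x : V) = ⟨(x : V), hφx⟩ := pr_ker e φ h1 ⟨(x : V), hφx⟩
      rw [hxW] at hx
      obtain ⟨c, hc⟩ := hw0span ⟨⟨(x : V), hφx⟩, hx⟩
      refine ⟨c, ?_⟩
      apply Subtype.ext
      have := congrArg (fun z : LinearMap.ker (u₁ - 1) => (((z : LinearMap.ker φ)) : V)) hc
      simpa using this
  · -- nilpotent
    obtain ⟨m, hm⟩ := hn2
    refine ⟨m + 1, ?_⟩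
    apply LinearMap.ext
    intro v
    rw [U2_pow g e φ h1, hm, pow_succ, hm, zero_mul]
    simp
  · -- kernel of `U2 - 1`
    have hemem : (U2 g e φ h1 u₂ - 1) e = 0 := by
      rw [U2_sub_one, pr_e, map_zero, map_zero, zero_smul, zero_add]; rfl
    obtain ⟨w0, hw0, hw0span⟩ := finrank_eq_one_iff'.mp hk2
    refine finrank_eq_one_iff'.mpr ⟨⟨e, hemem⟩, ?_, ?_⟩
    · intro h0
      exact he0 (congrArg Subtype.val h0)
    · intro x
      have hx := x.2
      rw [LinearMap.mem_ker, U2_sub_one] at hx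
      have hφ := congrArg φ hx
      rw [map_add, map_smul, h1, smul_eq_mul, mul_one, map_zero] at hφ
      have hz : φ ((((u₂ - 1) (pr e φ h1 (x : V)) : LinearMap.ker φ)) : V) = 0 :=
        (((u₂ - 1) (pr e φ h1 (x : V)) : LinearMap.ker φ)).2
      rw [hz, add_zero] at hφ
      rw [hφ, zero_smul, zero_add] at hx
      have hx' : (u₂ - 1) (pr e φ h1 (x : V)) = 0 := Subtype.ext hx
      obtain ⟨c, hc⟩ := hw0span ⟨pr e φ h1 (x : V), hx'⟩
      obtain ⟨c0, hc0⟩ := hw0span ⟨v0, hv0⟩
      have hc' : c • (w0 : LinearMap.ker φ) = pr e φ h1 (x : V) := by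
        have := congrArg Subtype.val hc
        simpa using this
      have hc0' : c0 • (w0 : LinearMap.ker φ) = v0 := by
        have := congrArg Subtype.val hc0
        simpa using this
      have hxw0 : xiv g φ (w0 : LinearMap.ker φ) ≠ 0 := by
        intro h0
        apply hxv0
        rw [← hc0', map_smul, h0, smul_zero]
      have hc00 : c = 0 := by
        rw [← hc', map_smul, smul_eq_mul] at hφ
        rcases mul_eq_zero.mp hφ with h | h
        · exact h
        · exact absurd h hxw0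
      rw [hc00, zero_smul] at hc'
      refine ⟨φ (x : V), ?_⟩
      apply Subtype.ext
      have hd := decomp e φ h1 (x : V)
      rw [← hc', Submodule.coe_zero, add_zero] at hd
      simpa using hd.symm
  · -- product
    apply LinearMap.ext
    intro v
    rw [Module.End.mul_apply, U1_apply]
    have hφ2 : φ (U2 g e φ h1 u₂ v) = φ v + φ (g ((pr e φ h1 v : LinearMap.ker φ) : V)) := by
      rw [U2_apply, map_add, map_smul, h1, smul_eq_mul, mul_one]
      have : φ (((u₂ (pr e φ h1 v) : LinearMap.ker φ)) : V) = 0 := (u₂ (pr e φ h1 v)).2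
      rw [this, add_zero]
    have hp2 : pr e φ h1 (U2 g e φ h1 u₂ v) = u₂ (pr e φ h1 v) := by
      apply Subtype.ext
      rw [pr_coe, hφ2, U2_apply]; abel
    rw [hφ2, hp2]
    have hcomp : ((u₁ (u₂ (pr e φ h1 v)) : LinearMap.ker φ) : V) =
        g ((pr e φ h1 v : LinearMap.ker φ) : V)
          - φ (g ((pr e φ h1 v : LinearMap.ker φ) : V)) • g e := by
      rw [← comp_coe g e φ h, hgu]; rfl
    rw [hcomp]
    nth_rewrite 1 [decomp e φ h1 v]
    rw [map_add, map_smul, add_smul]; abel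
  · -- `y₀ ∉ range (U1 - 1)`
    rintro ⟨v, hv⟩
    apply hy
    have := U1_sub_one_mem g e φ h1 h u₁ v
    rw [hv] at this
    exact this
  · exact LinearMap.mem_ker.mpr (by
      rw [U2_sub_one, pr_e, map_zero, map_zero, zero_smul, zero_add]; rfl)

end COMPRESS

end Cfsg.Agent.S2522P
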