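import Mathlib
import Cfsg.Agent.Helper4.S2522.Defs

set_option autoImplicit false

/-! S2522 piece TRANSV (driver helper4; helper16): a transvection (in dimension at least three)
is a product of two regular unipotents. -/

namespace Cfsg.Agent.S2522P

open Module

namespace TRANSV

/-! ### abstract lemma: the inverse of `1 + M` -/
section Abstract
variable {K : Type*} [Field K] {V : Type*} [AddCommGroup V] [Module K V]

theorem regUnip_inv (M u : Module.End K V) (hM : IsNilpotent M)
    (hk : Module.finrank K (LinearMap.ker M) = 1) (h1 : u * (1 + M) = 1) (h2 : (1 + M) * u = 1) :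
    RegUnip u := by
  have e1 : u - 1 = -(M * u) := by
    have : u + M * u = 1 := by rw [← h2, add_mul, one_mul]
    rw [← this]; abel
  have e2 : u * M = M * u := by
    have a1 : u + u * M = 1 := by rw [← h1, mul_add, mul_one]
    have a2 : u + M * u = 1 := by rw [← h2, add_mul, one_mul]
    have : u + u * M = u + M * u := by rw [a1, a2]
    exact add_left_cancel this
  refine ⟨?_, ?_⟩
  · rw [e1]
    apply IsNilpotent.neg
    exact Commute.isNilpotent_mul_right (show Commute M u from e2.symm) hM
  · have hker : LinearMap.ker (u - 1) = LinearMap.ker M := by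
      ext x
      rw [LinearMap.mem_ker, LinearMap.mem_ker]
      constructor
      · intro hx
        have hux : u x = x := by
          rw [LinearMap.sub_apply, Module.End.one_apply, sub_eq_zero] at hx
          exact hx
        rw [e1, LinearMap.neg_apply, Module.End.mul_apply, hux, neg_eq_zero] at hx
        exact hx
      · intro hx
        have h3 : (1 + M) x = x := by
          rw [LinearMap.add_apply, Module.End.one_apply, hx, add_zero]
        have h4 : u x = x := by
          have := congrArg (fun f : Module.End K V => f x) h1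
          simp only [Module.End.mul_apply, h3, Module.End.one_apply] at this
          exact this
        rw [LinearMap.sub_apply, Module.End.one_apply, h4, sub_self]
    rw [hker, hk]

end Abstract

/-! ### conjugation invariance -/
section Conj
variable {K : Type*} [Field K] {V : Type*} [AddCommGroup V] [Module K V]
  {E : Type*} [AddCommGroup E] [Module K E]

/-- transport of an endomorphism along a linear equivalence -/
def cj (T : V ≃ₗ[K] E) (u : Module.End K E) : Module.End K V :=
  (T.symm : E →ₗ[K] V).comp (u.comp (T : V →ₗ[K] E))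

theorem cj_apply (T : V ≃ₗ[K] E) (u : Module.End K E) (v : V) : cj T u v = T.symm (u (T v)) := rfl

theorem cj_mul (T : V ≃ₗ[K] E) (u w : Module.End K E) : cj T (u * w) = cj T u * cj T w := by
  apply LinearMap.ext
  intro v
  simp [cj_apply, Module.End.mul_apply]

theorem cj_one (T : V ≃ₗ[K] E) : cj T (1 : Module.End K E) = 1 := by
  apply LinearMap.ext
  intro v
  simp [cj_apply]

theorem cj_sub (T : V ≃ₗ[K] E) (u w : Module.End K E) : cj T (u - w) = cj T u - cj T w := by
  apply LinearMap.ext
  intro v
  simp [cj_apply]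

theorem cj_pow (T : V ≃ₗ[K] E) (u : Module.End K E) (k : ℕ) : cj T (u ^ k) = cj T u ^ k := by
  induction k with
  | zero => rw [pow_zero, pow_zero, cj_one]
  | succ k ih => rw [pow_succ, pow_succ, cj_mul, ih]

theorem cj_zero (T : V ≃ₗ[K] E) : cj T (0 : Module.End K E) = 0 := by
  apply LinearMap.ext
  intro v
  simp [cj_apply]

theorem regUnip_cj (T : V ≃ₗ[K] E) (u : Module.End K E) (h : RegUnip u) : RegUnip (cj T u) := by
  obtain ⟨⟨k, hk⟩, hf⟩ := h
  refine ⟨⟨k, ?_⟩, ?_⟩
  · rw [← cj_one T, ← cj_sub, ← cj_pow, hk, cj_zero]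
  · have hker : LinearMap.ker (cj T u - 1) =
        (LinearMap.ker (u - 1)).map (T.symm : E →ₗ[K] V) := by
      ext x
      rw [Submodule.mem_map_equiv, LinearMap.mem_ker, LinearMap.mem_ker, ← cj_one T, ← cj_sub,
        cj_apply, LinearEquiv.symm_symm]
      exact T.symm.map_eq_zero_iff
    rw [hker, LinearEquiv.finrank_map_eq, hf]

end Conj

/-! ### the coordinate model -/
section Model
variable {K : Type*} [Field K] {m : ℕ}

/-- the shift `e_i ↦ e_{i+1}`, `e_m ↦ 0` -/
def sh (K : Type*) [Field K] (m : ℕ) : Module.End K (Fin (m + 1) → K) where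
  toFun x := Fin.cons 0 (fun i => x i.castSucc)
  map_add' x y := by
    funext j
    refine Fin.cases ?_ (fun i => ?_) j <;> simp
  map_smul' c x := by
    funext j
    refine Fin.cases ?_ (fun i => ?_) j <;> simp

theorem sh_zero (x : Fin (m + 1) → K) : sh K m x 0 = 0 := rfl

theorem sh_succ (x : Fin (m + 1) → K) (i : Fin m) : sh K m x i.succ = x i.castSucc := by
  show (Fin.cons 0 (fun i => x i.castSucc) : Fin (m + 1) → K) i.succ = _
  rw [Fin.cons_succ]

/-- the rank one part `x ↦ x 0 • e_m` -/
def rk (K : Type*) [Field K] (m : ℕ) : Module.End K (Fin (m + 1) → K) :=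
  (LinearMap.proj 0 : (Fin (m + 1) → K) →ₗ[K] K).smulRight (Pi.single (Fin.last m) (1 : K))

theorem rk_apply (x : Fin (m + 1) → K) (j : Fin (m + 1)) :
    rk K m x j = if j = Fin.last m then x 0 else 0 := by
  show (x 0 • (Pi.single (Fin.last m) (1 : K) : Fin (m + 1) → K)) j = _
  rw [Pi.smul_apply, Pi.single_apply, smul_eq_mul]
  split_ifs <;> simp

/-- vanishing of the first `k` coordinates -/
def Low (k : ℕ) (x : Fin (m + 1) → K) : Prop := ∀ j : Fin (m + 1), (j : ℕ) < k → x j = 0

theorem nilp_of_low (f : Module.End K (Fin (m + 1) → K))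
    (hf : ∀ (k : ℕ) (x : Fin (m + 1) → K), Low k x → Low (k + 1) (f x)) : f ^ (m + 1) = 0 := by
  have key : ∀ (k : ℕ) (x : Fin (m + 1) → K), Low k ((f ^ k) x) := by
    intro k
    induction k with
    | zero => intro x j hj; exact absurd hj (Nat.not_lt_zero _)
    | succ k ih =>
      intro x
      rw [pow_succ', Module.End.mul_apply]
      exact hf k _ (ih x)
  apply LinearMap.ext
  intro x
  funext j
  exact key (m + 1) x j j.2

theorem low_sh (k : ℕ) (x : Fin (m + 1) → K) (hx : Low k x) : Low (k + 1) (sh K m x) := by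
  intro j
  refine Fin.cases ?_ (fun i => ?_) j
  · intro _; rfl
  · intro hi
    rw [sh_succ]
    apply hx
    rw [Fin.val_succ] at hi
    rw [Fin.val_castSucc]
    omega

theorem low_sh_add_rk (hm : 1 ≤ m) (k : ℕ) (x : Fin (m + 1) → K) (hx : Low k x) :
    Low (k + 1) ((sh K m + rk K m) x) := by
  intro j hj
  rw [LinearMap.add_apply, Pi.add_apply, low_sh k x hx j hj, zero_add, rk_apply]
  split_ifs with hjl
  · rcases Nat.eq_zero_or_pos k with hk | hk
    · exfalso
      rw [hjl, Fin.val_last] at hj
      omega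
    · exact hx 0 (by simpa using hk)
  · rfl

theorem sh_nilp : IsNilpotent (sh K m) := ⟨m + 1, nilp_of_low _ low_sh⟩

theorem sh_add_rk_nilp (hm : 1 ≤ m) : IsNilpotent (sh K m + rk K m) :=
  ⟨m + 1, nilp_of_low _ (low_sh_add_rk hm)⟩

theorem eq_smul_single_of_castSucc (x : Fin (m + 1) → K) (hx : ∀ i : Fin m, x i.castSucc = 0) :
    x (Fin.last m) • (Pi.single (Fin.last m) (1 : K) : Fin (m + 1) → K) = x := by
  funext j
  rw [Pi.smul_apply, Pi.single_apply, smul_eq_mul]
  refine Fin.lastCases ?_ (fun i => ?_) j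
  · rw [if_pos rfl, mul_one]
  · rw [if_neg (Fin.castSucc_lt_last i).ne, mul_zero, hx]

theorem finrank_ker_of (f : Module.End K (Fin (m + 1) → K))
    (h1 : f (Pi.single (Fin.last m) (1 : K)) = 0)
    (h2 : ∀ x, f x = 0 → ∀ i : Fin m, x i.castSucc = 0) :
    Module.finrank K (LinearMap.ker f) = 1 := by
  refine finrank_eq_one_iff'.mpr ⟨⟨Pi.single (Fin.last m) (1 : K), h1⟩, ?_, ?_⟩
  · intro h0
    have := congrFun (congrArg Subtype.val h0) (Fin.last m)
    simp at this
  · intro w
    refine ⟨(w : Fin (m + 1) → K) (Fin.last m), ?_⟩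
    apply Subtype.ext
    exact eq_smul_single_of_castSucc _ (h2 _ w.2)

theorem sh_single_last : sh K m (Pi.single (Fin.last m) (1 : K)) = 0 := by
  funext j
  refine Fin.cases ?_ (fun i => ?_) j
  · rfl
  · rw [sh_succ, Pi.single_apply, if_neg (Fin.castSucc_lt_last i).ne]; rfl

theorem finrank_ker_sh : Module.finrank K (LinearMap.ker (sh K m)) = 1 := by
  apply finrank_ker_of _ sh_single_last
  intro x hx i
  have := congrFun hx i.succ
  rw [sh_succ] at this
  exact this

theorem rk_single_last (hm : 1 ≤ m) : rk K m (Pi.single (Fin.last m) (1 : K)) = 0 := by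
  have h0 : (Pi.single (Fin.last m) (1 : K) : Fin (m + 1) → K) 0 = 0 := by
    rw [Pi.single_apply, if_neg]
    intro h
    have := congrArg Fin.val h
    rw [Fin.val_last, Fin.val_zero] at this
    omega
  funext j
  rw [rk_apply, h0, ite_self]
  rfl

theorem finrank_ker_sh_add_rk (hm : 2 ≤ m) :
    Module.finrank K (LinearMap.ker (sh K m + rk K m)) = 1 := by
  apply finrank_ker_of
  · rw [LinearMap.add_apply, sh_single_last, rk_single_last (by omega), add_zero]
  · intro x hx
    have hval : ∀ i : Fin m, x i.castSucc + (if i.succ = Fin.last m then x 0 else 0) = 0 := by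
      intro i
      have := congrFun hx i.succ
      rw [LinearMap.add_apply, Pi.add_apply, sh_succ, rk_apply] at this
      exact this
    -- the coordinate `x 0`
    have h0 : x 0 = 0 := by
      have := hval ⟨0, by omega⟩
      rw [if_neg] at this
      · simpa using this
      · intro h
        have := congrArg Fin.val h
        rw [Fin.val_last, Fin.val_succ] at this
        simp at this
        omega
    intro i
    have := hval i
    rw [h0] at this
    simpa using this

/-- the standard transvection -/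
theorem model (hm : 2 ≤ m) :
    ∃ u₁ u₂ : Module.End K (Fin (m + 1) → K), RegUnip u₁ ∧ RegUnip u₂ ∧ 1 + rk K m = u₁ * u₂ := by
  have hu : IsUnit (1 + sh K m) := (sh_nilp (K := K) (m := m)).isUnit_one_add
  obtain ⟨w, hw⟩ := hu
  have hw1 : (↑w⁻¹ : Module.End K (Fin (m + 1) → K)) * (1 + sh K m) = 1 := by
    rw [← hw]; exact w.inv_mul
  have hw2 : (1 + sh K m) * (↑w⁻¹ : Module.End K (Fin (m + 1) → K)) = 1 := by
    rw [← hw]; exact w.mul_inv
  have hsr : sh K m * rk K m = 0 := by
    apply LinearMap.ext
    intro x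
    show sh K m (x 0 • (Pi.single (Fin.last m) (1 : K) : Fin (m + 1) → K)) = 0
    rw [map_smul, sh_single_last, smul_zero]
  have hprod : (1 + sh K m) * (1 + rk K m) = 1 + (sh K m + rk K m) := by
    rw [add_mul, one_mul, mul_add, mul_one, hsr, add_zero]; abel
  refine ⟨(↑w⁻¹ : Module.End K (Fin (m + 1) → K)), (1 + sh K m) * (1 + rk K m),
    regUnip_inv (sh K m) _ sh_nilp finrank_ker_sh hw1 hw2, ?_, ?_⟩
  · rw [hprod]
    refine ⟨?_, ?_⟩
    · rw [add_sub_cancel_left]; exact sh_add_rk_nilp (by omega)
    · rw [add_sub_cancel_left]; exact finrank_ker_sh_add_rk hm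
  · rw [← mul_assoc, hw1, one_mul]

end Model

/-! ### the general case -/
section Main
variable {K : Type*} [Field K] {V : Type*} [AddCommGroup V] [Module K V]

theorem exists_smulRight [FiniteDimensional K V] (R : Module.End K V)
    (hr : Module.finrank K (LinearMap.range R) = 1) :
    ∃ (a : V) (β : Module.Dual K V) (c : V), a ≠ 0 ∧ β c = 1 ∧ ∀ v, R v = β v • a := by
  let B : Basis (Fin 1) K (LinearMap.range R) := Module.basisUnique (Fin 1) hr
  have hR : ∀ v, R v = ((B.coord 0).comp R.rangeRestrict) v • ((B 0 : LinearMap.range R) : V) := by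
    intro v
    have h1 := B.sum_repr (R.rangeRestrict v)
    rw [Fin.sum_univ_one] at h1
    have h2 := congrArg Subtype.val h1
    rw [Submodule.coe_smul] at h2
    rw [LinearMap.comp_apply, Basis.coord_apply, h2]
    rfl
  have ha : ((B 0 : LinearMap.range R) : V) ≠ 0 := by
    intro h0
    exact B.ne_zero 0 (Subtype.ext h0)
  obtain ⟨c, hc⟩ := (B 0 : LinearMap.range R).2
  refine ⟨((B 0 : LinearMap.range R) : V), (B.coord 0).comp R.rangeRestrict, c, ha, ?_, hR⟩
  have h3 := hR c
  rw [hc] at h3
  have h4 : (((B.coord 0).comp R.rangeRestrict) c - 1) • ((B 0 : LinearMap.range R) : V) = 0 := by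
    rw [sub_smul, one_smul, ← h3, sub_self]
  rcases smul_eq_zero.mp h4 with h | h
  · exact sub_eq_zero.mp h
  · exact absurd h ha

theorem exists_adapted [FiniteDimensional K V] (a c : V) (β : Module.Dual K V) (ha : a ≠ 0)
    (hβa : β a = 0) (hc : β c = 1) :
    ∃ (k : ℕ) (T : V ≃ₗ[K] (Fin (k + 1 + 1) → K)), Module.finrank K V = k + 1 + 1 ∧
      (∀ v, T v 0 = β v) ∧ T.symm (Pi.single (Fin.last (k + 1)) (1 : K)) = a := by
  classical
  let W : Submodule K V := LinearMap.ker β
  let aW : W := ⟨a, hβa⟩
  have haW : aW ≠ 0 := by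
    intro h0
    exact ha (congrArg Subtype.val h0)
  have hs : LinearIndepOn K id ({aW} : Set W) := LinearIndepOn.singleton (v := id) haW
  let b0 := Basis.extend hs
  let _ : Fintype (hs.extend (Set.subset_univ _)) := FiniteDimensional.fintypeBasisIndex b0
  let sa : hs.extend (Set.subset_univ _) := ⟨aW, Basis.subset_extend hs (Set.mem_singleton aW)⟩
  have : Nonempty (hs.extend (Set.subset_univ _)) := ⟨sa⟩
  have hne : Fintype.card (hs.extend (Set.subset_univ _)) ≠ 0 := Fintype.card_ne_zero
  obtain ⟨k, hk⟩ := Nat.exists_eq_succ_of_ne_zero hne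
  let e0 := Fintype.equivFinOfCardEq hk
  let e := e0.trans (Equiv.swap (e0 sa) (Fin.last k))
  have he : e sa = Fin.last k := by
    show (Equiv.swap (e0 sa) (Fin.last k)) (e0 sa) = Fin.last k
    exact Equiv.swap_apply_left _ _
  let bW : Basis (Fin (k + 1)) K W := b0.reindex e
  have hbW : bW (Fin.last k) = aW := by
    show (b0.reindex e) (Fin.last k) = aW
    rw [Basis.reindex_apply, ← he, Equiv.symm_apply_apply]
    exact Basis.extend_apply_self hs sa
  have hli : ∀ (r : K), ∀ x ∈ W, r • c + x = 0 → r = 0 := by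
    intro r x hx h0
    have := congrArg β h0
    rw [map_add, map_smul, hc, LinearMap.mem_ker.mp hx, map_zero, add_zero, smul_eq_mul,
      mul_one] at this
    exact this
  have hsp : ∀ z : V, ∃ r : K, z + r • c ∈ W := by
    intro z
    refine ⟨-β z, ?_⟩
    show β (z + (-β z) • c) = 0
    rw [map_add, map_smul, hc, smul_eq_mul, mul_one, add_neg_cancel]
  let B : Basis (Fin (k + 1 + 1)) K V := Basis.mkFinCons c bW hli hsp
  have hB0 : B 0 = c := by
    show (Basis.mkFinCons c bW hli hsp) 0 = c
    rw [Basis.coe_mkFinCons, Fin.cons_zero]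
  have hBs : ∀ j : Fin (k + 1), B j.succ = ((bW j : W) : V) := by
    intro j
    show (Basis.mkFinCons c bW hli hsp) j.succ = _
    rw [Basis.coe_mkFinCons, Fin.cons_succ]
    rfl
  have hBl : B (Fin.last (k + 1)) = a := by
    rw [← Fin.succ_last, hBs, hbW]
  refine ⟨k, B.equivFun, ?_, ?_, ?_⟩
  · rw [Module.finrank_eq_card_basis B, Fintype.card_fin]
  · have hβ : β = B.coord 0 := by
      apply B.ext
      intro i
      rw [Basis.coord_apply, Basis.repr_self]
      refine Fin.cases ?_ (fun j => ?_) i
      · rw [hB0, hc, Finsupp.single_eq_same]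
      · rw [hBs, Finsupp.single_eq_of_ne (Fin.succ_ne_zero j).symm]
        exact (bW j : W).2
    intro v
    rw [hβ, Basis.equivFun_apply, Basis.coord_apply]
  · rw [LinearEquiv.symm_apply_eq, ← hBl]
    funext j
    rw [Basis.equivFun_self, Pi.single_apply]
    by_cases hj : j = Fin.last (k + 1)
    · rw [if_pos hj, if_pos hj.symm]
    · rw [if_neg hj, if_neg (Ne.symm hj)]

theorem transvection_factor [FiniteDimensional K V] (hn : 3 ≤ Module.finrank K V)
    (g : Module.End K V) (hdet : LinearMap.det g = 1)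
    (hr : Module.finrank K (LinearMap.range (g - 1)) = 1) :
    ∃ u₁ u₂ : Module.End K V, RegUnip u₁ ∧ RegUnip u₂ ∧ g = u₁ * u₂ := by
  obtain ⟨a, β, c, ha, hc, hR⟩ := exists_smulRight (g - 1) hr
  have hg : g = LinearMap.transvection β a := by
    apply LinearMap.ext
    intro v
    rw [LinearMap.transvection.apply, ← hR, LinearMap.sub_apply, Module.End.one_apply]
    abel
  have hβa : β a = 0 := by
    have := LinearMap.transvection.det β a
    rw [← hg, hdet] at this
    exact (left_eq_add.mp this)
  obtain ⟨k, T, hfin, hT0, hTa⟩ := exists_adapted a c β ha hβa hc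
  have hk : 2 ≤ k + 1 := by omega
  obtain ⟨u₁, u₂, h1, h2, h12⟩ := model (K := K) hk
  refine ⟨cj T u₁, cj T u₂, regUnip_cj T u₁ h1, regUnip_cj T u₂ h2, ?_⟩
  rw [← cj_mul, ← h12]
  apply LinearMap.ext
  intro v
  rw [cj_apply, LinearMap.add_apply, Module.End.one_apply, map_add, LinearEquiv.symm_apply_apply]
  show g v = v + T.symm ((T v 0) • (Pi.single (Fin.last (k + 1)) (1 : K) : Fin (k + 1 + 1) → K))
  rw [map_smul, hTa, hT0, hg, LinearMap.transvection.apply]

end Main

end TRANSV

end Cfsg.Agent.S2522P
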