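import Mathlib
import Cfsg.Prelude.Def_Classical
import Cfsg.Agent.Helper8.MatBNDefs
import Cfsg.Agent.Helper8.S2546Defs
import Cfsg.Agent.Helper21.S2549Defs
import Cfsg.Agent.Helper23.S2546MONALG
import Cfsg.Agent.Helper23.S2546DICH
import Cfsg.Agent.Helper17.S2546HAGen
import Cfsg.Agent.Helper18.S2549PRESJ
import Cfsg.Agent.Helper18.S2549OPPVAN
import Cfsg.Agent.Helper3.S2549XMEM

set_option autoImplicit false
open scoped Matrix

/-! S2549 piece HAL (driver helper21; helper16): `B = (B ∩ s⁻¹ B s) X` for the nodes of linear type. -/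

namespace Cfsg.Agent.S2549P

open Cfsg.Agent.MatBN

variable {F : Type*} [Field F] {a b : F} {K : Type*} [Field K]

namespace HAL

theorem mon_pMat (n : ℕ) (π : Equiv.Perm (Fin n)) :
    Mon (Cfsg.Agent.S2546P.pMat n π : Matrix (Fin n) (Fin n) K) π := by
  intro a c
  unfold Cfsg.Agent.S2546P.pMat
  rw [Matrix.of_apply]
  constructor
  · intro h
    by_contra hne
    rw [if_neg hne] at h
    exact h rfl
  · intro h
    rw [if_pos h]
    exact one_ne_zero

/-- conjugating an upper triangular matrix by a monomial one: the result is upper triangular as soon as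
the entries on the inversion set of the permutation vanish -/
theorem isTri_conj_mat {n : ℕ} {S N A : Matrix (Fin n) (Fin n) K} {π : Equiv.Perm (Fin n)}
    (hS : Mon S π) (hSN : S * N = 1) (hA : IsTri A)
    (hinv : ∀ a c : Fin n, a < c → π c < π a → A a c = 0) : IsTri (S * A * N) := by
  intro a c hca
  by_contra hne
  have h2 := (Mon.conj_apply_ne_zero_iff (A := A) hS hSN a c).mp hne
  have h3 : ¬ (π⁻¹ c < π⁻¹ a) := fun h => h2 (hA _ _ h)
  have h4 : π⁻¹ a ≠ π⁻¹ c := by
    intro h
    have : a = c := by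
      have := congrArg π h
      rwa [MONALG.apply_inv_self', MONALG.apply_inv_self'] at this
    exact absurd hca (by rw [this]; exact lt_irrefl _)
  have h5 : π⁻¹ a < π⁻¹ c := lt_of_le_of_ne (not_lt.mp h3) h4
  apply h2
  apply hinv _ _ h5
  rw [MONALG.apply_inv_self', MONALG.apply_inv_self']
  exact hca

theorem isTri_xLin (m j : ℕ) (hj : j + 1 < m) (t : K) : IsTri (xLin m j t) := by
  have : xLin m j t = 1 + (t • Cfsg.Agent.S2546P.E (2 * m + 2) j (j + 1)
      - t • Cfsg.Agent.S2546P.E (2 * m + 2) (2 * m + 2 - 2 - j) (2 * m + 2 - 1 - j)) := by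
    unfold xLin Cfsg.Agent.S2546P.xL
    rw [add_sub_assoc]
    rfl
  rw [this]
  apply (Cfsg.Agent.S2546P.JC.isUni_one_add _ _).1
  intro a c hca
  rw [Matrix.sub_apply, Matrix.smul_apply, Matrix.smul_apply,
    Cfsg.Agent.S2546P.JC.E_apply_of_le _ _ (by omega) _ _ hca,
    Cfsg.Agent.S2546P.JC.E_apply_of_le _ _ (by omega) _ _ hca]
  simp

/-- the relation of `PresJ` for a triangular matrix at an adjacent pair -/
theorem presJ_tri_adj' {n : ℕ} {B : Matrix (Fin n) (Fin n) K}
    (hP : Cfsg.Agent.S2546P.PresJ (RingHom.id K) n B) (hT : IsTri B) (a a' : Fin n)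
    (haa' : (a' : ℕ) = a + 1) :
    B a'.rev a.rev * B a' a' + B a.rev a.rev * B a a' = 0 := by
  have hne : a ≠ a' := by
    intro e
    rw [e] at haa'
    omega
  have h := hP a.rev a'
  rw [Fin.rev_rev, if_neg (fun e => hne e.symm)] at h
  rw [← h]
  symm
  have hne' : a'.rev ≠ a.rev := fun e => hne (Fin.rev_injective e).symm
  rw [Finset.sum_eq_add a'.rev a.rev hne']
  · simp only [RingHom.id_apply, Fin.rev_rev]
  · intro i _ hi
    simp only [RingHom.id_apply]
    by_cases hlt : a.rev < i
    · rw [hT i a.rev hlt, zero_mul]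
    · have hgt : i < a'.rev := by
        rw [Fin.lt_def]
        have h1 : (i : ℕ) ≠ a'.rev := fun e => hi.1 (Fin.ext e)
        have h2 : (i : ℕ) ≠ a.rev := fun e => hi.2 (Fin.ext e)
        rw [Fin.lt_def] at hlt
        rw [Fin.val_rev] at h1 h2 hlt ⊢
        have := a.2
        have := a'.2
        omega
      have : B i.rev a' = 0 := by
        apply hT
        rw [← Fin.rev_lt_rev, Fin.rev_rev]
        exact hgt
      rw [this, mul_zero]
  · intro h
    exact absurd (Finset.mem_univ _) h
  · intro h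
    exact absurd (Finset.mem_univ _) h

end HAL

open HAL

theorem ha_lin (E : QExt F a b K) (m j : ℕ) (hj : j + 1 < m)
    (M : Matrix (Fin (2 * m + 2)) (Fin (2 * m + 2)) K)
    (hP : PresQ (2 * m + 2) M) (hR : Rat E.σ m M) (hT : IsTri M)
    (N : Matrix (Fin (2 * m + 2)) (Fin (2 * m + 2)) K) (hN : sM m j * N = 1) :
    ∃ t : F, IsTri (sM m j * (M * xLin m j (-(E.inc t))) * N) := by
  have h1 : j < 2 * m + 2 := by omega
  have h2 : j + 1 < 2 * m + 2 := by omega
  set aj : Fin (2 * m + 2) := ⟨j, h1⟩ with haj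
  set aj1 : Fin (2 * m + 2) := ⟨j + 1, h2⟩ with haj1
  have hsw : ∀ x : Fin (2 * m + 2), (x : ℕ) < m → swapM m x = x := by
    intro x hx
    unfold swapM
    apply Equiv.swap_apply_of_ne_of_ne
    · intro e
      have := congrArg Fin.val e
      simp only at this
      omega
    · intro e
      have := congrArg Fin.val e
      simp only at this
      omega
  set p := M aj aj with hp
  set q := M aj aj1 with hq
  have R1 := presQ_diag m M hP hT aj
  have hp0 : p ≠ 0 := left_ne_zero_of_mul_eq_one R1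
  have hσp : E.σ p = p := by
    rw [hp, hR, hsw aj (by simp only [haj]; omega)]
  have hσq : E.σ q = q := by
    rw [hq, hR, hsw aj (by simp only [haj]; omega), hsw aj1 (by simp only [haj1]; omega)]
  obtain ⟨t, ht⟩ := E.hfix (q / p) (by rw [map_div₀, hσp, hσq])
  refine ⟨t, ?_⟩
  rw [ht]
  set A := M * xLin m j (-(q / p)) with hA
  have hσt : E.σ (-(q / p)) = -(q / p) := by rw [map_neg, map_div₀, hσp, hσq]
  have hPA : PresQ (2 * m + 2) A := presQ_mul _ _ _ hP (pres_xLin E.σ m j hj _ hσt).1
  have hTA : IsTri A := IsTri.mul hT (isTri_xLin m j hj _)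
  have hJA := presJ_of_presQ m A hPA
  -- the entry `(j, j+1)` of `A`
  have hA1 : A aj aj1 = 0 := by
    rw [hA]
    unfold xLin Cfsg.Agent.S2546P.xL
    rw [mul_sub, mul_add, mul_one, Matrix.mul_smul, Matrix.mul_smul, Matrix.sub_apply,
      Matrix.add_apply, Matrix.smul_apply, Matrix.smul_apply,
      Cfsg.Agent.S2546P.HA17.mul_E_apply M j (j + 1) h1,
      Cfsg.Agent.S2546P.HA17.mul_E_apply M (2 * m + 2 - 2 - j) (2 * m + 2 - 1 - j) (by omega),
      if_pos (by simp only [haj1]), if_neg (by simp only [haj1]; omega)]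
    rw [smul_zero, sub_zero, smul_eq_mul]
    show q + -(q / p) * p = 0
    field_simp
    ring
  have hA2 : A aj1.rev aj.rev = 0 := by
    have h3 := presJ_tri_adj' hJA hTA aj aj1 rfl
    rw [hA1, mul_zero, add_zero] at h3
    have h4 := presQ_diag m A hPA hTA aj1
    have h5 : A aj1 aj1 ≠ 0 := left_ne_zero_of_mul_eq_one h4
    rcases mul_eq_zero.mp h3 with h | h
    · exact h
    · exact absurd h h5
  -- conjugation by the permutation matrix
  have htau : tauM m j = Cfsg.Agent.S2546P.tau (2 * m + 2) j := by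
    unfold tauM
    rw [if_pos hj]
  apply isTri_conj_mat (π := tauM m j) (mon_pMat _ _) hN hTA
  intro x c hxc hinv
  rw [htau] at hinv
  rcases Cfsg.Agent.S2546P.DICH.inversions (2 * m + 2) j (by omega) x c hxc hinv with
    ⟨hx, hc, _⟩ | ⟨hx, hc, _⟩ | ⟨_, _, h6⟩ | ⟨_, _, h6, _⟩ | ⟨_, _, h6, _⟩
  · have e1 : x = aj := Fin.ext hx
    have e2 : c = aj1 := Fin.ext hc
    rw [e1, e2]
    exact hA1
  · have e1 : x = aj1.rev := by
      apply Fin.ext
      rw [hx, Fin.val_rev]
      simp only [haj1]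
      omega
    have e2 : c = aj.rev := by
      apply Fin.ext
      rw [hc, Fin.val_rev]
      simp only [haj]
      omega
    rw [e1, e2]
    exact hA2
  · omega
  · omega
  · omega

end Cfsg.Agent.S2549P
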