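import Mathlib
import Cfsg.Prelude.Def_Classical
import Cfsg.Agent.Helper8.MatBNDefs
import Cfsg.Agent.Helper8.S2546Defs
import Cfsg.Agent.Helper21.S2549Defs
import Cfsg.Agent.Helper23.S2546MONALG
import Cfsg.Agent.Helper17.S2546HAGen
import Cfsg.Agent.Helper16.S2549HAL
import Cfsg.Agent.Helper18.S2549PRESJ
import Cfsg.Agent.Helper18.S2549OPPVAN
import Cfsg.Agent.Helper3.S2549XMEM

set_option autoImplicit false
open scoped Matrix

/-! S2549 piece HALAST (driver helper21; helper16): `B = (B ∩ s⁻¹ B s) X` for the last node. -/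

namespace Cfsg.Agent.S2549P

open Cfsg.Agent.MatBN

variable {F : Type*} [Field F] {a b : F} {K : Type*} [Field K]

namespace HALAST

theorem tauLast_val (m : ℕ) (hm : 1 ≤ m) (x : Fin (2 * m + 2)) :
    (tauLast m x).val = if x.val = m - 1 then m + 2 else if x.val = m + 2 then m - 1
      else if x.val = m then m + 1 else if x.val = m + 1 then m else x.val := by
  unfold tauLast
  rw [dif_pos hm, Equiv.Perm.mul_apply, Cfsg.Agent.S2546P.TAU17.swap_val,
    Cfsg.Agent.S2546P.TAU17.swap_val]
  simp only []
  have := x.2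
  split_ifs <;> omega

theorem isTri_xLast (σ : K →+* K) (m : ℕ) (hm : 1 ≤ m) (t : K) : IsTri (xLast σ m t) := by
  have : xLast σ m t = 1 + (- (σ t • EM (2 * m + 2) (m - 1) m) - t • EM (2 * m + 2) (m - 1) (m + 1)
    + t • EM (2 * m + 2) m (m + 2) + σ t • EM (2 * m + 2) (m + 1) (m + 2)
    - (t * σ t) • EM (2 * m + 2) (m - 1) (m + 2)) := by
    unfold xLast
    abel
  rw [this]
  apply (Cfsg.Agent.S2546P.JC.isUni_one_add _ _).1
  intro x c hcx
  simp only [Matrix.sub_apply, Matrix.add_apply, Matrix.neg_apply, Matrix.smul_apply, EM]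
  rw [Cfsg.Agent.S2546P.JC.E_apply_of_le _ _ (by omega) _ _ hcx,
    Cfsg.Agent.S2546P.JC.E_apply_of_le _ _ (by omega) _ _ hcx,
    Cfsg.Agent.S2546P.JC.E_apply_of_le _ _ (by omega) _ _ hcx,
    Cfsg.Agent.S2546P.JC.E_apply_of_le _ _ (by omega) _ _ hcx,
    Cfsg.Agent.S2546P.JC.E_apply_of_le _ _ (by omega) _ _ hcx]
  simp

theorem mul_xLast_apply (σ : K →+* K) (m : ℕ) (hm : 1 ≤ m)
    (M : Matrix (Fin (2 * m + 2)) (Fin (2 * m + 2)) K) (s : K) (x c : Fin (2 * m + 2)) :
    (M * xLast σ m s) x c = M x c - (if c.val = m then σ s * M x ⟨m - 1, by omega⟩ else 0)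
      - (if c.val = m + 1 then s * M x ⟨m - 1, by omega⟩ else 0)
      + (if c.val = m + 2 then s * M x ⟨m, by omega⟩ else 0)
      + (if c.val = m + 2 then σ s * M x ⟨m + 1, by omega⟩ else 0)
      - (if c.val = m + 2 then (s * σ s) * M x ⟨m - 1, by omega⟩ else 0) := by
  unfold xLast EM
  simp only [Matrix.mul_sub, Matrix.mul_add, Matrix.mul_one, Matrix.mul_smul, Matrix.sub_apply,
    Matrix.add_apply, Matrix.smul_apply,
    Cfsg.Agent.S2546P.HA17.mul_E_apply M (m - 1) _ (by omega : m - 1 < 2 * m + 2),
    Cfsg.Agent.S2546P.HA17.mul_E_apply M m _ (by omega : m < 2 * m + 2),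
    Cfsg.Agent.S2546P.HA17.mul_E_apply M (m + 1) _ (by omega : m + 1 < 2 * m + 2),
    smul_eq_mul, mul_ite, mul_zero]

end HALAST

open HAL HALAST

theorem ha_last (E : QExt F a b K) (m : ℕ) (hm : 1 ≤ m)
    (M : Matrix (Fin (2 * m + 2)) (Fin (2 * m + 2)) K)
    (hP : PresQ (2 * m + 2) M) (hR : Rat E.σ m M) (hT : IsTri M)
    (N : Matrix (Fin (2 * m + 2)) (Fin (2 * m + 2)) K) (hN : sM m (m - 1) * N = 1) :
    ∃ t : K, IsTri (sM m (m - 1) * (M * xLast E.σ m (-t)) * N) := by
  set i0 : Fin (2 * m + 2) := ⟨m - 1, by omega⟩ with hi0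
  set i1 : Fin (2 * m + 2) := ⟨m, by omega⟩ with hi1
  set i2 : Fin (2 * m + 2) := ⟨m + 1, by omega⟩ with hi2
  set i3 : Fin (2 * m + 2) := ⟨m + 2, by omega⟩ with hi3
  have hr0 : i0.rev = i3 := by
    apply Fin.ext
    rw [Fin.val_rev]
    simp only [hi0, hi3]
    omega
  have hr1 : i1.rev = i2 := by
    apply Fin.ext
    rw [Fin.val_rev]
    simp only [hi1, hi2]
    omega
  have hr2 : i2.rev = i1 := by rw [← hr1, Fin.rev_rev]
  have hr3 : i3.rev = i0 := by rw [← hr0, Fin.rev_rev]
  have hsw0 : swapM m i0 = i0 := by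
    unfold swapM
    apply Equiv.swap_apply_of_ne_of_ne
    · intro e
      have := congrArg Fin.val e
      simp only [hi0] at this
      omega
    · intro e
      have := congrArg Fin.val e
      simp only [hi0] at this
      omega
  have hsw2 : swapM m i2 = i1 := by
    unfold swapM
    exact Equiv.swap_apply_right _ _
  set p := M i0 i0 with hp
  have R1 := presQ_diag m M hP hT i0
  have hp0 : p ≠ 0 := left_ne_zero_of_mul_eq_one R1
  have hσp : E.σ p = p := by rw [hp, hR, hsw0]
  have hσq : E.σ (M i0 i2) = M i0 i1 := by rw [hR, hsw0, hsw2]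
  set s : K := M i0 i2 / p with hs
  refine ⟨-s, ?_⟩
  rw [neg_neg]
  have hσs : E.σ s = M i0 i1 / p := by rw [hs, map_div₀, hσp, hσq]
  set A := M * xLast E.σ m s with hA
  have hPA : PresQ (2 * m + 2) A := presQ_mul _ _ _ hP (pres_xLast E.σ E.hσσ m hm s).1
  have hTA : IsTri A := IsTri.mul hT (isTri_xLast E.σ m hm s)
  have hJA := presJ_of_presQ m A hPA
  have hQA := ((presQ_iff m A).mp hPA).2
  have d1 : A i1 i1 ≠ 0 := left_ne_zero_of_mul_eq_one (presQ_diag m A hPA hTA i1)
  have d2 : A i2 i2 ≠ 0 := left_ne_zero_of_mul_eq_one (presQ_diag m A hPA hTA i2)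
  have d3 : A i3 i3 ≠ 0 := left_ne_zero_of_mul_eq_one (presQ_diag m A hPA hTA i3)
  -- the entries of the middle block
  have a01 : A i0 i1 = 0 := by
    rw [hA, mul_xLast_apply E.σ m hm M s i0 i1]
    have c1 : i1.val = m := rfl
    have c2 : ¬ (i1.val = m + 1) := by rw [c1]; omega
    have c3 : ¬ (i1.val = m + 2) := by rw [c1]; omega
    simp only [if_pos c1, if_neg c2, if_neg c3, hσs]
    show M i0 i1 - M i0 i1 / p * p - 0 + 0 + 0 - 0 = 0
    field_simp
    ring
  have a02 : A i0 i2 = 0 := by
    rw [hA, mul_xLast_apply E.σ m hm M s i0 i2]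
    have c1 : i2.val = m + 1 := rfl
    have c2 : ¬ (i2.val = m) := by rw [c1]; omega
    have c3 : ¬ (i2.val = m + 2) := by rw [c1]; omega
    simp only [if_pos c1, if_neg c2, if_neg c3]
    show M i0 i2 - 0 - M i0 i2 / p * p + 0 + 0 - 0 = 0
    field_simp
    ring
  have a12 : A i1 i2 = 0 := oppvan_tri m A hPA hTA i1 i2 rfl rfl
  have a23 : A i2 i3 = 0 := by
    have h := hJA i3 i1
    rw [hr3, if_neg (by
      intro e
      have := congrArg Fin.val e
      simp only [hi0, hi1] at this
      omega)] at h
    rw [Cfsg.Agent.S2546P.HA17.presJ_tri_sum (RingHom.id K) A hTA i3 i1 {i2, i3} (by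
      intro i h1 h2
      rw [hr1] at h1
      rw [Fin.le_def] at h1 h2
      simp only [hi2, hi3] at h1 h2
      rw [Finset.mem_insert, Finset.mem_singleton]
      rcases Nat.lt_or_ge i.val (m + 2) with h3 | h3
      · left; apply Fin.ext; simp only [hi2]; omega
      · right; apply Fin.ext; simp only [hi3]; omega)] at h
    rw [Finset.sum_pair (by
      intro e
      have := congrArg Fin.val e
      simp only [hi2, hi3] at this
      omega)] at h
    simp only [RingHom.id_apply] at h
    rw [hr2, hr3, a01, mul_zero, add_zero] at h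
    rcases mul_eq_zero.mp h with h | h
    · exact h
    · exact absurd h d1
  have a13 : A i1 i3 = 0 := by
    have h := hJA i3 i2
    rw [hr3, if_neg (by
      intro e
      have := congrArg Fin.val e
      simp only [hi0, hi2] at this
      omega)] at h
    rw [Cfsg.Agent.S2546P.HA17.presJ_tri_sum (RingHom.id K) A hTA i3 i2 {i1, i2, i3} (by
      intro i h1 h2
      rw [hr2] at h1
      rw [Fin.le_def] at h1 h2
      simp only [hi1, hi3] at h1 h2
      rw [Finset.mem_insert, Finset.mem_insert, Finset.mem_singleton]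
      rcases Nat.lt_or_ge i.val (m + 1) with h3 | h3
      · left; apply Fin.ext; simp only [hi1]; omega
      · rcases Nat.lt_or_ge i.val (m + 2) with h4 | h4
        · right; left; apply Fin.ext; simp only [hi2]; omega
        · right; right; apply Fin.ext; simp only [hi3]; omega)] at h
    rw [Finset.sum_insert (by
      rw [Finset.mem_insert, Finset.mem_singleton]
      rintro (e | e)
      · have := congrArg Fin.val e
        simp only [hi1, hi2] at this
        omega
      · have := congrArg Fin.val e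
        simp only [hi1, hi3] at this
        omega), Finset.sum_pair (by
      intro e
      have := congrArg Fin.val e
      simp only [hi2, hi3] at this
      omega)] at h
    simp only [RingHom.id_apply] at h
    rw [hr1, hr2, hr3, a12, a02, mul_zero, mul_zero, add_zero, add_zero] at h
    rcases mul_eq_zero.mp h with h | h
    · exact h
    · exact absurd h d2
  have a03 : A i0 i3 = 0 := by
    have h := hQA i3
    rw [Finset.sum_eq_add i0 i1 (by
      intro e
      have := congrArg Fin.val e
      simp only [hi0, hi1] at this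
      omega)] at h
    · rw [if_pos (by simp only [hi0]; omega), if_pos (by simp only [hi1]; omega), hr0, hr1, a13,
        zero_mul, add_zero] at h
      rcases mul_eq_zero.mp h with h | h
      · exact h
      · exact absurd h d3
    · intro i _ hi
      by_cases hlt : i.val < m + 1
      · rw [if_pos hlt]
        have : A i.rev i3 = 0 := by
          apply hTA
          rw [Fin.lt_def, Fin.val_rev]
          simp only [hi3]
          have h1 : i.val ≠ m - 1 := fun e => hi.1 (Fin.ext e)
          have h2 : i.val ≠ m := fun e => hi.2 (Fin.ext e)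
          omega
        rw [this, mul_zero]
      · rw [if_neg hlt]
    · intro h
      exact absurd (Finset.mem_univ _) h
    · intro h
      exact absurd (Finset.mem_univ _) h
  -- conjugation by the permutation matrix
  have htau : tauM m (m - 1) = tauLast m := by
    unfold tauM
    rw [if_neg (by omega)]
  apply isTri_conj_mat (π := tauM m (m - 1)) (mon_pMat _ _) hN hTA
  intro x c hxc hinv
  rw [htau, Fin.lt_def, tauLast_val m hm, tauLast_val m hm] at hinv
  rw [Fin.lt_def] at hxc
  have hx := x.2
  have hc := c.2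
  have key : (x.val = m - 1 ∨ x.val = m ∨ x.val = m + 1 ∨ x.val = m + 2) ∧
      (c.val = m - 1 ∨ c.val = m ∨ c.val = m + 1 ∨ c.val = m + 2) := by
    split_ifs at hinv <;> omega
  obtain ⟨kx, kc⟩ := key
  rcases kx with kx | kx | kx | kx <;> rcases kc with kc | kc | kc | kc <;>
    first
      | (exfalso; omega)
      | (have e1 : x = i0 := Fin.ext kx
         have e2 : c = i1 := Fin.ext kc
         rw [e1, e2]; exact a01)
      | (have e1 : x = i0 := Fin.ext kx
         have e2 : c = i2 := Fin.ext kc
         rw [e1, e2]; exact a02)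
      | (have e1 : x = i0 := Fin.ext kx
         have e2 : c = i3 := Fin.ext kc
         rw [e1, e2]; exact a03)
      | (have e1 : x = i1 := Fin.ext kx
         have e2 : c = i2 := Fin.ext kc
         rw [e1, e2]; exact a12)
      | (have e1 : x = i1 := Fin.ext kx
         have e2 : c = i3 := Fin.ext kc
         rw [e1, e2]; exact a13)
      | (have e1 : x = i2 := Fin.ext kx
         have e2 : c = i3 := Fin.ext kc
         rw [e1, e2]; exact a23)

end Cfsg.Agent.S2549P
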