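import Mathlib
import Cfsg.Prelude.Def_FusionSystem
import Cfsg.Prelude.Def_KGroupFacts
import Cfsg.Agent.Helper7.S2647.Defs
import Cfsg.Agent.Helper22.S2647REFL

/-! # S2647 piece OMIN (driver helper7): `E0 ⋊ A7 ≤ Ω`.

A homomorphism `φ` from `Od F` to a commutative group sends `dg ε` to `χ (∏ ε)` and `pm π` to `χ' (sign π)`, where `χ (-1)`,
`χ' (-1)` are the values of `φ` on the reflections in `e_{p6}` and `e_{p0} - e_{p1}`. -/

set_option autoImplicit false
set_option linter.unusedSectionVars false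
set_option linter.unusedVariables false

namespace Cfsg.Agent.S2647P

open Matrix Cfsg.Agent.Helper28.IsoTransport Cfsg.Agent.Helper28.Spin

variable {F : Type*} [Field F]

namespace OMIN

/-- the character of `ℤˣ` with value `c` at `-1` -/
def chi {A : Type*} [CommGroup A] (c : A) (hc : c * c = 1) : ℤˣ →* A where
  toFun u := if u = 1 then 1 else c
  map_one' := by simp
  map_mul' := by
    intro u v
    rcases Int.units_eq_one_or u with rfl | rfl <;> rcases Int.units_eq_one_or v with rfl | rfl <;>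
      simp [hc]

theorem chi_one {A : Type*} [CommGroup A] (c : A) (hc : c * c = 1) : chi c hc 1 = 1 := map_one _

theorem chi_neg_one {A : Type*} [CommGroup A] (c : A) (hc : c * c = 1) : chi c hc (-1) = c := by
  show (if (-1 : ℤˣ) = 1 then (1 : A) else c) = c
  rw [if_neg (by decide)]

theorem Qd_single_ne (h2 : (2 : F) ≠ 0) (j : J) : Qd F (Pi.single j 1) ≠ 0 := by
  rw [Qd_single]
  exact neg_ne_zero.mpr one_ne_zero

theorem Qd_single_sub_ne (h2 : (2 : F) ≠ 0) (i j : J) (hij : i ≠ j) :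
    Qd F (Pi.single i 1 - Pi.single j 1) ≠ 0 := by
  rw [Qd_single_sub i j hij]
  exact neg_ne_zero.mpr h2

/-- the value of `φ` on the reflection in a coordinate vector -/
noncomputable def cD {A : Type*} [CommGroup A] (φ : Od F →* A) (h2 : (2 : F) ≠ 0) : A :=
  φ (reflO (Qd F) (Pi.single p6 1) (Qd_single_ne h2 p6))

/-- the value of `φ` on the reflection in a root `e_i - e_j` -/
noncomputable def cP {A : Type*} [CommGroup A] (φ : Od F →* A) (h2 : (2 : F) ≠ 0) : A :=
  φ (reflO (Qd F) (Pi.single p0 1 - Pi.single p1 1) (Qd_single_sub_ne h2 p0 p1 (by decide)))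

theorem cD_sq {A : Type*} [CommGroup A] (φ : Od F →* A) (h2 : (2 : F) ≠ 0) : cD φ h2 * cD φ h2 = 1 :=
  hom_refl_sq (Qd F) φ _

theorem cP_sq {A : Type*} [CommGroup A] (φ : Od F →* A) (h2 : (2 : F) ≠ 0) : cP φ h2 * cP φ h2 = 1 :=
  hom_refl_sq (Qd F) φ _

theorem hom_dg_single {A : Type*} [CommGroup A] (φ : Od F →* A) (h2 : (2 : F) ≠ 0) (j : J) (u : ℤˣ) :
    φ (dg F (Pi.mulSingle j u)) = chi (cD φ h2) (cD_sq φ h2) u := by
  rcases Int.units_eq_one_or u with rfl | rfl
  · rw [Pi.mulSingle_one, map_one, map_one, map_one]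
  · rw [chi_neg_one]
    have e : (Pi.mulSingle j (-1) : J → ℤˣ) = Function.update (1 : J → ℤˣ) j (-1) := rfl
    rw [e, dg_update_eq_reflO h2 j (Qd_single_ne h2 j)]
    unfold cD
    apply hom_refl_eq (Qd F) φ h2
    rw [Qd_single, Qd_single]
    exact ⟨1, by ring⟩

/-- the value of a homomorphism on a sign-diagonal element -/
theorem hom_dg {A : Type*} [CommGroup A] (φ : Od F →* A) (h2 : (2 : F) ≠ 0) (ε : J → ℤˣ) :
    φ (dg F ε) = chi (cD φ h2) (cD_sq φ h2) (∏ j, ε j) := by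
  have h1 : φ (dg F ε) = (φ.comp (dg F)) (∏ j, Pi.mulSingle j (ε j)) := by
    rw [Finset.univ_prod_mulSingle]; rfl
  rw [h1, map_prod, map_prod]
  apply Finset.prod_congr rfl
  intro j _
  exact hom_dg_single φ h2 j (ε j)

/-- the value of a homomorphism on a permutation matrix -/
theorem hom_pm {A : Type*} [CommGroup A] (φ : Od F →* A) (h2 : (2 : F) ≠ 0) (π : Equiv.Perm J) :
    φ (pm F π) = chi (cP φ h2) (cP_sq φ h2) (Equiv.Perm.sign π) := by
  have key : φ.comp (pm F) = (chi (cP φ h2) (cP_sq φ h2)).comp (Equiv.Perm.sign (α := J)) := by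
    apply MonoidHom.eq_of_eqOn_dense (Equiv.Perm.closure_isSwap (α := J))
    rintro σ ⟨x, y, hxy, rfl⟩
    show φ (pm F (Equiv.swap x y)) = chi (cP φ h2) (cP_sq φ h2) (Equiv.Perm.sign (Equiv.swap x y))
    rw [Equiv.Perm.sign_swap hxy, chi_neg_one, pm_swap_eq_reflO h2 x y hxy (Qd_single_sub_ne h2 x y hxy)]
    unfold cP
    apply hom_refl_eq (Qd F) φ h2
    rw [Qd_single_sub x y hxy, Qd_single_sub p0 p1 (by decide)]
    exact ⟨2, by ring⟩
  exact DFunLike.congr_fun key π

end OMIN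

theorem dg_mem_Omd [Fintype F] (h2 : (2 : F) ≠ 0) (ε : J → ℤˣ) (hε : ε ∈ Ev) :
    dg F ε ∈ Omd F := by
  rw [mem_Omega_iff_abel]
  have := OMIN.hom_dg (F := F) Abelianization.of h2 ε
  rw [this, (mem_Ev ε).1 hε, map_one]

theorem pm_mem_Omd [Fintype F] (h2 : (2 : F) ≠ 0) (π : Equiv.Perm J)
    (hπ : π ∈ alternatingGroup J) : pm F π ∈ Omd F := by
  rw [mem_Omega_iff_abel]
  have := OMIN.hom_pm (F := F) Abelianization.of h2 π
  rw [this, Equiv.Perm.mem_alternatingGroup.1 hπ, map_one]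

end Cfsg.Agent.S2647P
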