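import Mathlib
import Cfsg.Prelude.Def_FusionSystem
import Cfsg.Prelude.Def_KGroupFacts
import Cfsg.Agent.Helper7.S2647.Defs
import Cfsg.Agent.Helper22.S2647REFL
import Cfsg.Agent.Helper16.S2647OMIN

/-! # S2647 piece OMOUT (driver helper7): a monomial element of `Ω` has `∏ ε = 1` and an even permutation part
(`2` is not a square): determinant and spinor sign. -/

set_option autoImplicit false
set_option linter.unusedSectionVars false
set_option linter.unusedVariables false

namespace Cfsg.Agent.S2647P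

open Matrix Cfsg.Agent.Helper28.IsoTransport Cfsg.Agent.Helper28.Spin

variable {F : Type*} [Field F]

theorem mem_Omd_of_dg_pm [Fintype F] (h2 : (2 : F) ≠ 0) (h2ns : ¬ IsSquare (2 : F))
    (ε : J → ℤˣ) (π : Equiv.Perm J) (h : dg F ε * pm F π ∈ Omd F) :
    ε ∈ Ev ∧ π ∈ alternatingGroup J := by
  -- the determinant
  have hdet := hom_eq_one_of_mem_Omega (Qd F) (detHom (Qd F)) h
  rw [map_mul, OMIN.hom_dg _ h2, OMIN.hom_pm _ h2] at hdet
  have hcD : OMIN.cD (detHom (Qd F)) h2 = -1 :=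
    detHom_reflO (Qd F) ⟨_, OMIN.Qd_single_ne h2 p6⟩
  have hcP : OMIN.cP (detHom (Qd F)) h2 = -1 :=
    detHom_reflO (Qd F) ⟨_, OMIN.Qd_single_sub_ne h2 p0 p1 (by decide)⟩
  -- the spinor sign
  have hth := hom_eq_one_of_mem_Omega (Qd F) (theta (Qd F)) h
  rw [map_mul, OMIN.hom_dg _ h2, OMIN.hom_pm _ h2] at hth
  have hab : OMIN.cD (theta (Qd F)) h2 * OMIN.cP (theta (Qd F)) h2 = -1 := by
    unfold OMIN.cD OMIN.cP
    apply theta_mul_of_not_isSquare (Qd F) h2
    rw [Qd_single, Qd_single_sub p0 p1 (by decide)]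
    have : (-1 : F) * -2 = 2 := by ring
    rw [this]
    exact h2ns
  rw [mem_Ev, Equiv.Perm.mem_alternatingGroup]
  rcases Int.units_eq_one_or (∏ j, ε j) with h1 | h1 <;>
    rcases Int.units_eq_one_or (Equiv.Perm.sign π) with h3 | h3
  · exact ⟨h1, h3⟩
  · exfalso
    rw [h1, h3, map_one, one_mul, OMIN.chi_neg_one, hcP] at hdet
    exact neg_one_units_ne h2 hdet
  · exfalso
    rw [h1, h3, map_one, mul_one, OMIN.chi_neg_one, hcD] at hdet
    exact neg_one_units_ne h2 hdet
  · exfalso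
    rw [h1, h3, OMIN.chi_neg_one, OMIN.chi_neg_one, hab] at hth
    exact absurd hth (by decide)

end Cfsg.Agent.S2647P
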