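import Mathlib
import Cfsg.Prelude.Def_PLocal
import Cfsg.Agent.Helper28.S2768Defs
import Cfsg.Agent.Helper28.S2768AF
import Cfsg.Agent.Helper14.PCore

/-! S2768 piece CASE1A (blueprint §3): if `J(S) ≤ O_p(G)` then `W = Z(J(S))` is normal in `G`,
`C_G(W)` is normal and contains `L = ⟨B^G⟩`, so `L ∩ S = B`. -/

set_option autoImplicit false
set_option linter.unusedSectionVars false
set_option linter.style.haveILetI false

namespace Cfsg.Agent.S2768P

open Subgroup

variable {G : Type*} [Group G] [Finite G] {p : ℕ} [Fact p.Prime]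

/-- `cj g N = N` for a normal subgroup. -/
theorem CASE1A_aux_cj_normal (N : Subgroup G) (hN : N.Normal) (g : G) : cj g N = N := by
  ext x
  rw [AF1_aux_mem_cj]
  constructor
  · intro h
    have := hN.conj_mem _ h g
    have e : g * (g⁻¹ * x * g) * g⁻¹ = x := by group
    rwa [e] at this
  · intro h
    have := hN.conj_mem _ h g⁻¹
    rwa [inv_inv] at this

/-- a subgroup fixed by all `cj g` is normal. -/
theorem CASE1A_aux_normal_of_cj (X : Subgroup G) (h : ∀ g : G, cj g X = X) : X.Normal := by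
  constructor
  intro n hn g
  have : g * n * g⁻¹ ∈ cj g X := by
    rw [AF1_aux_mem_cj]
    have e : g⁻¹ * (g * n * g⁻¹) * g = n := by group
    rw [e]
    exact hn
  rwa [h g] at this

/-- if `J(S) ≤ O_p(G)` then `W` is normal in `G`. -/
theorem CASE1A_aux_W_normal (S : Sylow p G) (hJ : J (S : Subgroup G) ≤ Cfsg.pCore p G) :
    (W (S : Subgroup G)).Normal := by
  apply CASE1A_aux_normal_of_cj
  intro g
  have hQS : Cfsg.pCore p G ≤ (S : Subgroup G) := Cfsg.Agent.Helper14.pCore_le_sylow p S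
  have hQn : (Cfsg.pCore p G).Normal := Cfsg.Agent.Helper14.pCore_normal p
  exact (AF3 (S : Subgroup G) (Cfsg.pCore p G) hJ hQS g (CASE1A_aux_cj_normal _ hQn g)).2.1

/-- if `J(S) ≤ O_p(G)` then `L ≤ C_G(W)`. -/
theorem CASE1A_aux_L_le (S : Sylow p G) (hJ : J (S : Subgroup G) ≤ Cfsg.pCore p G) :
    L (S : Subgroup G) ≤ centralizer (W (S : Subgroup G) : Set G) := by
  haveI := CASE1A_aux_W_normal S hJ
  haveI hCn : (centralizer (W (S : Subgroup G) : Set G)).Normal := Subgroup.normal_centralizer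
  unfold L
  apply normalClosure_le_normal
  intro x hx
  exact (show x ∈ B (S : Subgroup G) from hx).2

theorem CASE1A (S : Sylow p G) (hJ : J (S : Subgroup G) ≤ Cfsg.pCore p G) :
    L (S : Subgroup G) ⊓ (S : Subgroup G) = B (S : Subgroup G) := by
  apply le_antisymm
  · intro x hx
    exact ⟨hx.2, CASE1A_aux_L_le S hJ hx.1⟩
  · intro x hx
    exact ⟨subset_normalClosure hx, hx.1⟩

end Cfsg.Agent.S2768P
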