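import Mathlib
import Cfsg.Prelude.Def_PLocal
import Cfsg.Agent.Helper28.S2768Defs
import Cfsg.Agent.Helper28.S2768AF
import Cfsg.Agent.Helper14.PCore
import Cfsg.Agent.Helper26.GenJ2
import Cfsg.Agent.Helper16.S2768CASE1A

/-! S2768 piece CASE1B (blueprint §3): S2769 when `J(S) ≤ O_p(G)`.
`W ⊴ G`, `C = C_G(W) ⊴ G`, `B = S ∩ C`.  If `N_G(B) = G` then `B ⊴ G`.  Else `N_G(B) ≤ M`, Frattini gives
`G = N_G(B) C`, so `C S = G` (otherwise `C ≤ M`), and `[W,S] ∩ Z(S) ≤ W ∩ Z(S)` is centralised by `C` and `S`. -/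

set_option autoImplicit false
set_option linter.unusedSectionVars false
set_option linter.style.haveILetI false

namespace Cfsg.Agent.S2768P

open Subgroup

variable {G : Type*} [Group G] [Finite G] {p : ℕ} [Fact p.Prime]

theorem CASE1B (S : Sylow p G) (M : Subgroup G) (hb : Basic p S M)
    (hJ : J (S : Subgroup G) ≤ Cfsg.pCore p G) :
    (⁅W (S : Subgroup G), (S : Subgroup G)⁆ ⊓ Z (S : Subgroup G)).Normal ∨
      (B (S : Subgroup G)).Normal := by
  classical
  have hWn : (W (S : Subgroup G)).Normal := CASE1A_aux_W_normal S hJ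
  set C := centralizer (W (S : Subgroup G) : Set G) with hC
  haveI hCn : C.Normal := Subgroup.normal_centralizer
  have hBdef : B (S : Subgroup G) = (S : Subgroup G) ⊓ C := rfl
  by_cases hN : normalizer ((B (S : Subgroup G) : Subgroup G) : Set G) = ⊤
  · right
    exact normalizer_eq_top_iff.mp hN
  left
  -- `S ≤ N_G(B)`
  have hSN : (S : Subgroup G) ≤ normalizer ((B (S : Subgroup G) : Subgroup G) : Set G) := by
    intro s hs
    rw [mem_normalizer_iff]
    intro y
    have h1 := (mem_normalizer_iff.mp (le_normalizer (H := (S : Subgroup G)) hs)) y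
    have h2 : y ∈ C ↔ s * y * s⁻¹ ∈ C := by
      constructor
      · intro hy
        exact hCn.conj_mem y hy s
      · intro hy
        have := hCn.conj_mem _ hy s⁻¹
        have e : s⁻¹ * (s * y * s⁻¹) * s⁻¹⁻¹ = y := by group
        rwa [e] at this
    constructor
    · rintro ⟨hy1, hy2⟩
      exact ⟨h1.mp hy1, h2.mp hy2⟩
    · rintro ⟨hy1, hy2⟩
      exact ⟨h1.mpr hy1, h2.mpr hy2⟩
  have hNM := hb.proper_le _ hSN hN
  have hfr : normalizer ((B (S : Subgroup G) : Subgroup G) : Set G) ⊔ C = ⊤ :=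
    Cfsg.Agent.Helper26.GenJ.frattini_inf S C
  have hCS : C ⊔ (S : Subgroup G) = ⊤ := by
    by_contra hCS
    have hCSM := hb.proper_le _ le_sup_right hCS
    have : (⊤ : Subgroup G) ≤ M := by
      rw [← hfr]
      exact sup_le hNM (le_sup_left.trans hCSM)
    exact hb.M_ne_top (top_le_iff.mp this)
  -- `[W,S] ≤ W`
  have hcomm : ⁅W (S : Subgroup G), (S : Subgroup G)⁆ ≤ W (S : Subgroup G) :=
    Subgroup.commutator_le_left _ _
  apply Cfsg.Agent.Helper26.GenJ.normal_of_le_center
  intro z hz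
  have hzW : z ∈ W (S : Subgroup G) := hcomm hz.1
  have hzZ : z ∈ Z (S : Subgroup G) := hz.2
  have h1 : C ⊔ (S : Subgroup G) ≤ centralizer ({z} : Set G) := by
    apply sup_le
    · intro c hc
      apply mem_centralizer_iff.mpr
      intro y hy
      rw [Set.mem_singleton_iff] at hy
      subst hy
      exact mem_centralizer_iff.mp hc y hzW
    · intro s hs
      apply mem_centralizer_iff.mpr
      intro y hy
      rw [Set.mem_singleton_iff] at hy
      subst hy
      exact (mem_centralizer_iff.mp hzZ.2 s hs).symm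
  rw [hCS] at h1
  rw [mem_center_iff]
  intro g
  exact (mem_centralizer_iff.mp (h1 (mem_top g)) z rfl).symm

end Cfsg.Agent.S2768P
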