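import Mathlib
import Cfsg.Agent.Helper2.S3086Defs
import Cfsg.Agent.Helper2.S3086Basic

/-! S3086 board, row QUAD: `A* = C_A([V,A])` is quadratic with `A`. -/

set_option autoImplicit false

namespace Cfsg.Agent.S3086P

universe u

variable {p : ℕ} [Fact p.Prime] {V : Type u} [AddCommGroup V] [Module (ZMod p) V] [Finite V]

theorem QUAD_aux_comm {a b : GLV p V} (hab : a * b = b * a) : Nop a * Nop b = Nop b * Nop a := by
  have h1 : toE a * toE b = toE b * toE a := by rw [← toE_mul, ← toE_mul, hab]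
  unfold Nop
  rw [sub_mul, mul_sub, mul_sub, sub_mul, mul_sub, mul_sub, h1]
  simp only [mul_one, one_mul]
  abel

variable {K A : Subgroup (GLV p V)}

/-- QUAD (S/M): `A*` is quadratic with `A`. -/
theorem quad_star (H : Hyp p V K A) : ∀ a ∈ A, ∀ b ∈ Astar A, Nop a * Nop b = 0 ∧ Nop b * Nop a = 0 := by
  intro a ha b hb
  have hbA : b ∈ A := Astar_le A hb
  have hbc : b ∈ centS (comV A) := hb.2
  have hab : a * b = b * a := by
    have := H.hAel.1.is_comm.comm ⟨a, ha⟩ ⟨b, hbA⟩
    exact congrArg Subtype.val this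
  have h2 : Nop b * Nop a = 0 := by
    apply LinearMap.ext
    intro v
    show Nop b (Nop a v) = 0
    rw [Nop_apply b, Nop_apply a, sub_eq_zero]
    exact hbc _ (mem_comV ha v)
  exact ⟨(QUAD_aux_comm hab).trans h2, h2⟩

end Cfsg.Agent.S3086P
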