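import Mathlib
import Cfsg.Agent.Helper16.S64Defs
import Cfsg.Agent.Helper18.SuzU5

set_option autoImplicit false

/-! # S3161: shared definitions of the board `s3161pieces`
(blueprint: `departures/helper16_S3161_blueprint.md`).

Setting (P): a finite 2-group `T` with commuting automorphisms `α` (`α² = 1`) and `ρ`
(`ρ^(2^n-1) = 1`), `C = C_T(α)` central elementary abelian of order `2^n` with `⟨ρ⟩` transitive on
`C ∖ 1`. `ee α t = t⁻¹ α(t)`; `N = {t : ee α t ∈ C}` is the second layer. -/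

namespace Cfsg.Agent.S3161P

open scoped commutatorElement

universe u

/-- `t ↦ t⁻¹ α(t)` -/
def ee {T : Type*} [Group T] (α : MulAut T) (t : T) : T := t⁻¹ * α t

/-- The abstract setting (P). -/
structure PData {T : Type*} [Group T] (α ρ : MulAut T) (C : Subgroup T) (n : ℕ) : Prop where
  two_le : 2 ≤ n
  alpha_sq : ∀ x, α (α x) = x
  rho_pow : ∀ x, (ρ ^ (2 ^ n - 1)) x = x
  comm : ∀ x, α (ρ x) = ρ (α x)
  central : C ≤ Subgroup.center T
  card : Nat.card C = 2 ^ n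
  exp : ∀ v ∈ C, v * v = 1
  fix : ∀ x, α x = x ↔ x ∈ C
  trans : ∀ x ∈ C, ∀ y ∈ C, x ≠ 1 → y ≠ 1 → ∃ k : ℕ, (ρ ^ k) x = y

/-- type (a): abelian with all involutions in `C` -/
def TypeA (T : Type*) [Group T] (C : Subgroup T) : Prop :=
  (∀ x y : T, x * y = y * x) ∧ ∀ x : T, x * x = 1 → x ∈ C

/-- type (b): elementary abelian of order `q²` -/
def TypeB (T : Type*) [Group T] (n : ℕ) : Prop :=
  (∀ x y : T, x * y = y * x) ∧ (∀ x : T, x * x = 1) ∧ Nat.card T = 2 ^ n * 2 ^ n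

/-- type (c): non-abelian of order `q³` with all squares in `C` -/
def TypeC (T : Type*) [Group T] (C : Subgroup T) (n : ℕ) : Prop :=
  (∃ x y : T, x * y ≠ y * x) ∧ (∀ x : T, x * x ∈ C) ∧ Nat.card T = 2 ^ n * 2 ^ n * 2 ^ n

section basics

variable {T : Type*} [Group T] {α ρ : MulAut T} {C : Subgroup T} {n : ℕ}

theorem PData.normal (h : PData α ρ C n) : C.Normal := by
  refine ⟨fun v hv g => ?_⟩
  have hc := Subgroup.mem_center_iff.mp (h.central hv) g
  have : g * v * g⁻¹ = v := by rw [hc, mul_inv_cancel_right]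
  rw [this]; exact hv

theorem PData.comm_mul (h : PData α ρ C n) {c : T} (hc : c ∈ C) (g : T) : c * g = g * c :=
  (Subgroup.mem_center_iff.mp (h.central hc) g).symm

theorem PData.rho_mem (h : PData α ρ C n) {v : T} (hv : v ∈ C) : ρ v ∈ C := by
  rw [← h.fix, h.comm, (h.fix v).mpr hv]

theorem PData.rho_pow_mem (h : PData α ρ C n) {v : T} (hv : v ∈ C) (k : ℕ) : (ρ ^ k) v ∈ C := by
  induction k with
  | zero => simpa using hv
  | succ k ih =>
    rw [pow_succ', MulAut.mul_apply]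
    exact h.rho_mem ih

theorem PData.comm_pow (h : PData α ρ C n) (k : ℕ) (x : T) : α ((ρ ^ k) x) = (ρ ^ k) (α x) := by
  induction k with
  | zero => simp
  | succ k ih =>
    rw [pow_succ', MulAut.mul_apply, MulAut.mul_apply, h.comm, ih]

theorem PData.inv_eq (h : PData α ρ C n) {v : T} (hv : v ∈ C) : v⁻¹ = v :=
  inv_eq_of_mul_eq_one_left (h.exp v hv)

theorem ee_one (α : MulAut T) : ee α (1 : T) = 1 := by simp [ee]

theorem ee_eq_one_iff (h : PData α ρ C n) (x : T) : ee α x = 1 ↔ x ∈ C := by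
  rw [← h.fix, ee, inv_mul_eq_one, eq_comm]

theorem ee_rho (h : PData α ρ C n) (x : T) : ee α (ρ x) = ρ (ee α x) := by
  simp only [ee, map_mul, map_inv, h.comm]

theorem ee_rho_pow (h : PData α ρ C n) (k : ℕ) (x : T) : ee α ((ρ ^ k) x) = (ρ ^ k) (ee α x) := by
  simp only [ee, map_mul, map_inv, h.comm_pow]

/-- `α` inverts `ee α x` -/
theorem alpha_ee (h : PData α ρ C n) (x : T) : α (ee α x) = (ee α x)⁻¹ := by
  simp only [ee, map_mul, map_inv, h.alpha_sq, mul_inv_rev, inv_inv]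

/-- `ee` is multiplicative as soon as `ee α x` is central -/
theorem ee_mul_of_mem (h : PData α ρ C n) {x : T} (hx : ee α x ∈ C) (y : T) :
    ee α (x * y) = ee α x * ee α y := by
  have hc := h.comm_mul hx y⁻¹
  calc ee α (x * y) = y⁻¹ * (x⁻¹ * α x) * α y := by simp only [ee, map_mul, mul_inv_rev]; group
    _ = y⁻¹ * ee α x * α y := rfl
    _ = ee α x * y⁻¹ * α y := by rw [hc]
    _ = ee α x * ee α y := by simp only [ee]; group

theorem ee_inv_of_mem (h : PData α ρ C n) {x : T} (hx : ee α x ∈ C) : ee α x⁻¹ = (ee α x)⁻¹ := by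
  have h1 := ee_mul_of_mem h hx x⁻¹
  rw [mul_inv_cancel, ee_one] at h1
  exact eq_inv_of_mul_eq_one_right h1.symm

/-- the second layer `N = {t : t⁻¹ α(t) ∈ C}` -/
def PData.N (h : PData α ρ C n) : Subgroup T where
  carrier := {x | ee α x ∈ C}
  one_mem' := by
    show ee α 1 ∈ C
    rw [ee_one]; exact C.one_mem
  mul_mem' := by
    intro x y hx hy
    show ee α (x * y) ∈ C
    rw [ee_mul_of_mem h hx]
    exact C.mul_mem hx hy
  inv_mem' := by
    intro x hx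
    show ee α x⁻¹ ∈ C
    rw [ee_inv_of_mem h hx]
    exact C.inv_mem hx

theorem mem_N (h : PData α ρ C n) {x : T} : x ∈ h.N ↔ ee α x ∈ C := Iff.rfl

theorem C_le_N (h : PData α ρ C n) : C ≤ h.N := by
  intro x hx
  rw [mem_N, (ee_eq_one_iff h x).mpr hx]
  exact C.one_mem

theorem alpha_mem_N (h : PData α ρ C n) {x : T} (hx : x ∈ h.N) : α x ∈ h.N := by
  have : α x = x * ee α x := by simp [ee]
  rw [this]
  exact h.N.mul_mem hx (C_le_N h hx)

theorem rho_mem_N (h : PData α ρ C n) {x : T} (hx : x ∈ h.N) : ρ x ∈ h.N := by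
  rw [mem_N, ee_rho h]
  exact h.rho_mem hx

theorem rho_pow_mem_N (h : PData α ρ C n) {x : T} (hx : x ∈ h.N) (k : ℕ) : (ρ ^ k) x ∈ h.N := by
  rw [mem_N, ee_rho_pow h]
  exact h.rho_pow_mem hx k

/-- `ρ` acts transitively on `N / C ∖ 1` -/
theorem N_trans (h : PData α ρ C n) {x y : T} (hx : x ∈ h.N) (hy : y ∈ h.N) (hxC : x ∉ C)
    (hyC : y ∉ C) : ∃ k : ℕ, ∃ c ∈ C, y = (ρ ^ k) x * c := by
  have hx1 : ee α x ≠ 1 := fun h1 => hxC ((ee_eq_one_iff h x).mp h1)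
  have hy1 : ee α y ≠ 1 := fun h1 => hyC ((ee_eq_one_iff h y).mp h1)
  obtain ⟨k, hk⟩ := h.trans _ hx _ hy hx1 hy1
  refine ⟨k, ((ρ ^ k) x)⁻¹ * y, ?_, by group⟩
  have hkN : (ρ ^ k) x ∈ h.N := rho_pow_mem_N h hx k
  have hkN' : ((ρ ^ k) x)⁻¹ ∈ h.N := h.N.inv_mem hkN
  rw [← ee_eq_one_iff h, ee_mul_of_mem h hkN', ee_inv_of_mem h hkN, ee_rho_pow h, hk,
    inv_mul_cancel]

theorem charP_two_of_card {F : Type*} [Field F] [Fintype F] {n : ℕ}
    (hF : Fintype.card F = 2 ^ n) : CharP F 2 := by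
  obtain ⟨p, hp⟩ := CharP.exists F
  have := hp
  have : Fact p.Prime := ⟨CharP.char_is_prime F p⟩
  have h1 : p ∣ Fintype.card F := by
    obtain ⟨m, -, hm⟩ := FiniteField.card F p
    rw [hm]; exact dvd_pow_self p m.pos.ne'
  rw [hF] at h1
  have h2 : p ∣ 2 := (Fact.out : p.Prime).dvd_of_dvd_pow h1
  have h3 : p = 2 := (Nat.prime_dvd_prime_iff_eq (Fact.out : p.Prime) Nat.prime_two).mp h2
  rw [← h3]; exact hp

end basics

/-- coordinates of a type (c) group over a field `F` of order `q`: `θ : C ≃ F` additive,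
`(x₁, x₂) : T/C ≃ F × F` additive, `θ(t²)² = l² (x₁² + x₁ x₂ + D x₂²)` -/
structure CData {T : Type*} [Group T] {F : Type*} [Field F] (C : Subgroup T) (θ x₁ x₂ : T → F)
    (l D : F) : Prop where
  central : C ≤ Subgroup.center T
  exp : ∀ v ∈ C, v * v = 1
  theta_mul : ∀ a ∈ C, ∀ b ∈ C, θ (a * b) = θ a + θ b
  theta_surj : ∀ f : F, ∃ c ∈ C, θ c = f
  theta_inj : ∀ c ∈ C, θ c = 0 → c = 1
  x1_mul : ∀ s t : T, x₁ (s * t) = x₁ s + x₁ t
  x2_mul : ∀ s t : T, x₂ (s * t) = x₂ s + x₂ t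
  x_C : ∀ c ∈ C, x₁ c = 0 ∧ x₂ c = 0
  ker : ∀ t : T, x₁ t = 0 → x₂ t = 0 → t ∈ C
  surj : ∀ a b : F, ∃ t : T, x₁ t = a ∧ x₂ t = b
  l_ne : l ≠ 0
  sq_mem : ∀ t : T, t * t ∈ C
  sq : ∀ t : T, θ (t * t) ^ 2 = l ^ 2 * (x₁ t ^ 2 + x₁ t * x₂ t + D * x₂ t ^ 2)

end Cfsg.Agent.S3161P
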