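import Mathlib
import Cfsg.Agent.Helper16.S3161Defs
import Cfsg.Agent.Helper27.Suz2Inj
import Cfsg.Agent.Helper19.S3161QUOT
import Cfsg.Agent.Helper25.S3161FM
import Cfsg.Agent.Helper25.S3161LAYER
import Cfsg.Agent.Helper3.S3161NFG
import Cfsg.Agent.Helper20.S3161F0
import Cfsg.Agent.Helper20.S3161ABEL
import Cfsg.Agent.Helper20.S3161CENT3

set_option autoImplicit false
set_option linter.style.haveILetI false

/-! # S3161, piece NOQ4: under (P), `T ⧸ C` cannot be of type (c)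
(blueprint `departures/helper16_S3161_blueprint.md`, NOQ4). -/

namespace Cfsg.Agent.S3161P

open scoped commutatorElement

universe u

/-- an additive equivariant map to `F` which is not identically zero is onto -/
theorem NOQ4_aux_surj {F : Type*} [Field F] (ζ : Fˣ) (hζ : ∀ w : Fˣ, ∃ k : ℕ, w = ζ ^ k)
    {G : Type*} [Group G] (r : G → G) (p : G → F) (hp : ∀ x y, p (x * y) = p x + p y)
    (hr : ∀ x, p (r x) = ζ * p x) (hne : ∃ x, p x ≠ 0) : Function.Surjective p := by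
  obtain ⟨x, hx⟩ := hne
  have hiter : ∀ k : ℕ, p (r^[k] x) = (ζ : F) ^ k * p x := by
    intro k
    induction k with
    | zero => simp
    | succ k ih => rw [Function.iterate_succ_apply', hr, ih, pow_succ]; ring
  intro f
  by_cases hf : f = 0
  · refine ⟨1, ?_⟩
    have := hp 1 1
    rw [mul_one] at this
    rw [hf]
    exact left_eq_add.mp this
  · obtain ⟨k, hk⟩ := hζ (Units.mk0 (f / p x) (div_ne_zero hf hx))
    refine ⟨r^[k] x, ?_⟩
    rw [hiter k]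
    have : (ζ : F) ^ k = f / p x := by
      have := congrArg Units.val hk
      rw [Units.val_mk0, Units.val_pow_eq_pow_val] at this
      exact this.symm
    rw [this, div_mul_cancel₀ f hx]

/-- if all squares lie in a central subgroup, so do all commutators -/
theorem NOQ4_aux_comm_mem {G : Type*} [Group G] (Z : Subgroup G) (hZ : Z ≤ Subgroup.center G)
    (hsq : ∀ x : G, x * x ∈ Z) (x y : G) : ⁅x, y⁆ ∈ Z := by
  have h1 : ⁅x, y⁆ = (x * y) * (x * y) * (y⁻¹ * (x * x)⁻¹ * y) * (y * y)⁻¹ := by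
    rw [commutatorElement_def]; group
  rw [h1]
  have h2 : y⁻¹ * (x * x)⁻¹ * y ∈ Z := by
    have hc : (x * x)⁻¹ ∈ Subgroup.center G := hZ (Z.inv_mem (hsq x))
    have := Subgroup.mem_center_iff.mp hc y⁻¹
    rw [this, mul_assoc, inv_mul_cancel, mul_one]
    exact Z.inv_mem (hsq x)
  exact Z.mul_mem (Z.mul_mem (hsq _) h2) (Z.inv_mem (hsq y))

/-- the Jacobi-type identity used in NOQ4: `M` abelian, `⁅G, M⁆ ≤ M`, `⁅g, g'⁆ ∈ M` -/
theorem NOQ4_aux_jacobi {G : Type*} [Group G] (M : Subgroup G)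
    (hM : ∀ x ∈ M, ∀ y ∈ M, x * y = y * x) (hGM : ∀ (g : G), ∀ m ∈ M, ⁅g, m⁆ ∈ M)
    (g g' : G) (hgg : ⁅g, g'⁆ ∈ M) (m : G) (hm : m ∈ M) :
    ⁅g, ⁅g', m⁆⁆ = ⁅g', ⁅g, m⁆⁆ := by
  set a := ⁅g, m⁆ with ha
  set b := ⁅g', m⁆ with hb
  have haM : a ∈ M := hGM g m hm
  have hbM : b ∈ M := hGM g' m hm
  have e1 : g * g' * m * (g * g')⁻¹ = ⁅g, b⁆ * b * a * m := by
    rw [ha, hb]; simp only [commutatorElement_def]; group
  have e2 : g' * g * m * (g' * g)⁻¹ = ⁅g', a⁆ * a * b * m := by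
    rw [ha, hb]; simp only [commutatorElement_def]; group
  have hX : g' * g * m * (g' * g)⁻¹ ∈ M := by
    have : g' * g * m * (g' * g)⁻¹ = ⁅g' * g, m⁆ * m := by
      simp only [commutatorElement_def]; group
    rw [this]
    exact M.mul_mem (hGM _ m hm) hm
  have e3 : g * g' * m * (g * g')⁻¹ = ⁅g, g'⁆ * (g' * g * m * (g' * g)⁻¹) * ⁅g, g'⁆⁻¹ := by
    simp only [commutatorElement_def]; group
  have e4 : g * g' * m * (g * g')⁻¹ = g' * g * m * (g' * g)⁻¹ := by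
    rw [e3, hM _ hgg _ hX, mul_assoc, mul_inv_cancel, mul_one]
  rw [e1, e2] at e4
  have e5 : ⁅g, b⁆ * (b * a * m) = ⁅g', a⁆ * (b * a * m) := by
    calc ⁅g, b⁆ * (b * a * m) = ⁅g, b⁆ * b * a * m := by group
      _ = ⁅g', a⁆ * a * b * m := e4
      _ = ⁅g', a⁆ * (a * b) * m := by group
      _ = ⁅g', a⁆ * (b * a) * m := by rw [hM a haM b hbM]
      _ = ⁅g', a⁆ * (b * a * m) := by group
  exact mul_right_cancel e5

section main

variable {T : Type u} [Group T] [Finite T] {α ρ : MulAut T} {C : Subgroup T} {n : ℕ}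

/-- NOQ4 (blueprint): `T ⧸ C` cannot be of type (c). -/
theorem NOQ4 (hT : IsPGroup 2 T) (h : PData α ρ C n) [C.Normal]
    (hc : TypeC (T ⧸ C) (h.N.map (QuotientGroup.mk' C)) n) : False := by
  classical
  obtain ⟨⟨x₀, y₀, hxy₀⟩, hsq', hcard'⟩ := hc
  have hq4 : 4 ≤ 2 ^ n := by
    calc 4 = 2 ^ 2 := by norm_num
      _ ≤ 2 ^ n := Nat.pow_le_pow_right (by norm_num) h.two_le
  have hmk1 : ∀ x : T, (QuotientGroup.mk x : T ⧸ C) = 1 ↔ x ∈ C := fun x =>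
    QuotientGroup.eq_one_iff x
  have hCtop : C ≠ ⊤ := by
    intro htop
    apply hxy₀
    have hall : ∀ z : T ⧸ C, z = 1 := by
      intro z
      obtain ⟨t, rfl⟩ := QuotientGroup.mk_surjective z
      rw [hmk1, htop]; exact Subgroup.mem_top t
    rw [hall x₀, hall y₀]
  obtain ⟨α', ρ', h', hα', hρ'⟩ := QUOT hT h hCtop
  have hT' : IsPGroup 2 (T ⧸ C) := hT.to_quotient C
  have hmkN : ∀ x : T, (QuotientGroup.mk x : T ⧸ C) ∈ h.N.map (QuotientGroup.mk' C) ↔ x ∈ h.N := by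
    intro x
    constructor
    · intro hx
      obtain ⟨y, hy, hyx⟩ := Subgroup.mem_map.mp hx
      have h1 : y⁻¹ * x ∈ C := by
        rw [← hmk1, QuotientGroup.mk_mul, QuotientGroup.mk_inv]
        rw [QuotientGroup.mk'_apply] at hyx
        rw [hyx, inv_mul_cancel]
      have : x = y * (y⁻¹ * x) := by group
      rw [this]
      exact h.N.mul_mem hy (C_le_N h h1)
    · intro hx
      exact Subgroup.mem_map_of_mem _ hx
  have hee' : ∀ x : T, ee α' (QuotientGroup.mk x) = QuotientGroup.mk (ee α x) := by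
    intro x
    simp only [ee, hα', QuotientGroup.mk_mul, QuotientGroup.mk_inv]
  have hcardT : Nat.card T = 2 ^ n * 2 ^ n * 2 ^ n * 2 ^ n := by
    rw [Subgroup.card_eq_card_quotient_mul_card_subgroup C, hcard', h.card]
  have hCbtop : h.N.map (QuotientGroup.mk' C) ≠ ⊤ := by
    intro htop
    have h1 := h'.card
    rw [htop, Subgroup.card_top, hcard'] at h1
    have : 2 ^ n * 2 ^ n * 2 ^ n > 2 ^ n := by nlinarith
    omega
  -- the third layer
  set M : Subgroup T := h'.N.comap (QuotientGroup.mk' C) with hMdef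
  have hmemM : ∀ t : T, t ∈ M ↔ ee α t ∈ h.N := by
    intro t
    rw [hMdef, Subgroup.mem_comap, QuotientGroup.mk'_apply, mem_N, hee', hmkN]
  have hNM : h.N ≤ M := fun x hx => (hmemM x).mpr (C_le_N h hx)
  have hαM : ∀ x ∈ M, α x ∈ M := by
    intro x hx
    rw [hmemM] at hx ⊢
    have : ee α (α x) = (ee α x)⁻¹ := by simp [ee, h.alpha_sq]
    rw [this]; exact h.N.inv_mem hx
  have hρM : ∀ x ∈ M, ρ x ∈ M := by
    intro x hx
    rw [hmemM] at hx ⊢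
    rw [ee_rho h]; exact rho_mem_N h hx
  -- the second layer of the quotient is abelian
  have hN'ab : ∀ x ∈ h'.N, ∀ y ∈ h'.N, x * y = y * x :=
    ABEL hT' h' h'.N le_rfl (fun x hx => alpha_mem_N h' hx) (fun x hx => rho_mem_N h' hx)
      (fun x hx y _ => N_comm hT' h' hx y) (fun x hx _ => hx)
  have hN'card : Nat.card h'.N = 2 ^ n * 2 ^ n := N_card hT' h' hCbtop
  have hN'top : h'.N ≠ ⊤ := by
    intro htop
    rw [htop, Subgroup.card_top, hcard'] at hN'card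
    have : 2 ^ n * 2 ^ n * 2 ^ n > 2 ^ n * 2 ^ n := by nlinarith
    omega
  have hMab0 : ∀ x ∈ M, ∀ y ∈ M, ⁅x, y⁆ ∈ C := by
    intro x hx y hy
    have hx' : (QuotientGroup.mk x : T ⧸ C) ∈ h'.N := hx
    have hy' : (QuotientGroup.mk y : T ⧸ C) ∈ h'.N := hy
    rw [← hmk1, commutatorElement_def, QuotientGroup.mk_mul, QuotientGroup.mk_mul,
      QuotientGroup.mk_mul, QuotientGroup.mk_inv, QuotientGroup.mk_inv,
      hN'ab _ hx' _ hy']
    group
  have hMinv : ∀ x ∈ M, x * x ∈ C → x ∈ h.N := by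
    intro x hx hxx
    have hx' : (QuotientGroup.mk x : T ⧸ C) ∈ h'.N := hx
    rw [← hmkN]
    apply F0 hT' h' hN'top _ hx'
    rw [← QuotientGroup.mk_mul, hmk1]
    exact hxx
  have hMab : ∀ x ∈ M, ∀ y ∈ M, x * y = y * x := ABEL hT h M hNM hαM hρM hMab0 hMinv
  -- squares and commutators of `T` lie in `N`
  have hsqN : ∀ t : T, t * t ∈ h.N := fun t => by
    rw [← hmkN, QuotientGroup.mk_mul]; exact hsq' _
  have hTTN : ∀ g k : T, ⁅g, k⁆ ∈ h.N := by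
    intro g k
    rw [← hmkN]
    have h1 := NOQ4_aux_comm_mem (h.N.map (QuotientGroup.mk' C)) h'.central hsq'
      (QuotientGroup.mk g) (QuotientGroup.mk k)
    have h2 : (QuotientGroup.mk ⁅g, k⁆ : T ⧸ C) = ⁅(QuotientGroup.mk g : T ⧸ C), QuotientGroup.mk k⁆ := by
      simp only [commutatorElement_def, QuotientGroup.mk_mul, QuotientGroup.mk_inv]
    rw [h2]; exact h1
  have heeM : ∀ t : T, ee α t ∈ M := by
    intro t
    rw [hmemM]
    have : ee α (ee α t) = (ee α t * ee α t)⁻¹ := by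
      show (ee α t)⁻¹ * α (ee α t) = _
      rw [alpha_ee h, mul_inv_rev]
    rw [this]; exact h.N.inv_mem (hsqN _)
  have hGM : ∀ (g : T), ∀ m ∈ M, ⁅g, m⁆ ∈ M := fun g m _ => hNM (hTTN g m)
  have hNC : ∀ b ∈ h.N, ∀ g : T, ⁅b, g⁆ ∈ C := fun b hb g => N_comm hT h hb g
  have hMtop : M ≠ ⊤ := by
    intro htop
    apply hxy₀
    obtain ⟨a, rfl⟩ := QuotientGroup.mk_surjective x₀
    obtain ⟨b, rfl⟩ := QuotientGroup.mk_surjective y₀
    have ha : a ∈ M := by rw [htop]; exact Subgroup.mem_top a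
    have hb : b ∈ M := by rw [htop]; exact Subgroup.mem_top b
    rw [← QuotientGroup.mk_mul, ← QuotientGroup.mk_mul, hMab a ha b hb]
  -- `ee` on the layers
  have heeN_C : ∀ x ∈ h.N, ee α x ∈ C := fun x hx => hx
  have heeM_N : ∀ x ∈ M, ee α x ∈ h.N := fun x hx => (hmemM x).mp hx
  have heeM_mul : ∀ x ∈ M, ∀ y ∈ M, ee α (x * y) = ee α x * ee α y := by
    intro x hx y hy
    have hex : ee α x ∈ M := heeM x
    have hy' : y⁻¹ ∈ M := M.inv_mem hy
    calc ee α (x * y) = y⁻¹ * (x⁻¹ * α x) * α y := by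
          simp only [ee, map_mul, mul_inv_rev]; group
      _ = y⁻¹ * ee α x * α y := rfl
      _ = ee α x * y⁻¹ * α y := by rw [hMab _ hy' _ hex]
      _ = ee α x * ee α y := by simp only [ee]; group
  have hee2M_mul : ∀ x ∈ M, ∀ y ∈ M, ee α (ee α (x * y)) = ee α (ee α x) * ee α (ee α y) := by
    intro x hx y hy
    rw [heeM_mul x hx y hy, ee_mul_of_mem h (heeM_N x hx)]
  have hee2N : ∀ x ∈ h.N, ee α (ee α x) = 1 := fun x hx => (ee_eq_one_iff h _).mpr hx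
  have hee3_mul : ∀ s t : T, ee α (ee α (ee α (s * t))) =
      ee α (ee α (ee α s)) * ee α (ee α (ee α t)) := by
    intro s t
    have h1 : ee α (s * t) = ee α s * ⁅(ee α s)⁻¹, t⁻¹⁆ * ee α t := by
      simp only [ee, map_mul, mul_inv_rev, commutatorElement_def]; group
    have hν : ⁅(ee α s)⁻¹, t⁻¹⁆ ∈ h.N := hTTN _ _
    rw [h1, hee2M_mul _ (M.mul_mem (heeM s) (hNM hν)) _ (heeM t),
      hee2M_mul _ (heeM s) _ (hNM hν), hee2N _ hν, mul_one]
  -- the field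
  have hn0 : n ≠ 0 := by have := h.two_le; omega
  letI : Fintype (GaloisField 2 n) := Fintype.ofFinite _
  have hF : Fintype.card (GaloisField 2 n) = 2 ^ n := by
    rw [← Nat.card_eq_fintype_card, GaloisField.card 2 n hn0]
  have hF2 : 2 < Fintype.card (GaloisField 2 n) := by rw [hF]; omega
  obtain ⟨θ, ζ, hθmul, hθsurj, hθinj, hθρ, hζ⟩ := FM h (GaloisField 2 n) hF
  have hθ1 : θ 1 = 0 := by
    have := hθmul 1 C.one_mem 1 C.one_mem
    rw [mul_one] at this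
    exact left_eq_add.mp this
  have hθne : ∀ c ∈ C, c ≠ 1 → θ c ≠ 0 := fun c hc hc1 h0 => hc1 (hθinj c hc h0)
  -- membership in the layers
  have hC3 : ∀ t : T, ee α (ee α (ee α t)) ∈ C := fun t => heeM_N _ (heeM t)
  -- the three coordinate maps
  have hpT_mul : ∀ s t : T, θ (ee α (ee α (ee α (s * t)))) =
      θ (ee α (ee α (ee α s))) + θ (ee α (ee α (ee α t))) := by
    intro s t
    rw [hee3_mul, hθmul _ (hC3 s) _ (hC3 t)]
  have hpT_rho : ∀ t : T, θ (ee α (ee α (ee α (ρ t)))) = ζ * θ (ee α (ee α (ee α t))) := by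
    intro t
    rw [ee_rho h, ee_rho h, ee_rho h, hθρ _ (hC3 t)]
  have hpT_ker : ∀ t : T, θ (ee α (ee α (ee α t))) = 0 → t ∈ M := by
    intro t ht
    have h1 := hθinj _ (hC3 t) ht
    rw [ee_eq_one_iff h] at h1
    rw [hmemM]
    exact h1
  have hpM_ker : ∀ m ∈ M, θ (ee α (ee α m)) = 0 → m ∈ h.N := by
    intro m hm h0
    have h1 := hθinj _ (heeM_N m hm) h0
    rw [ee_eq_one_iff h] at h1
    exact h1
  have hpN_ker : ∀ b ∈ h.N, θ (ee α b) = 0 → b ∈ C := by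
    intro b hb h0
    have h1 := hθinj _ hb h0
    rwa [ee_eq_one_iff h] at h1
  -- elements outside the layers
  obtain ⟨t₀, ht₀⟩ : ∃ t : T, t ∉ M := by
    by_contra hcon
    push Not at hcon
    exact hMtop (eq_top_iff.mpr fun t _ => hcon t)
  obtain ⟨m₀, hm₀M, hm₀N⟩ : ∃ m ∈ M, m ∉ h.N := by
    by_contra hcon
    push Not at hcon
    have hle : h'.N ≤ h.N.map (QuotientGroup.mk' C) := by
      intro x hx
      obtain ⟨t, rfl⟩ := QuotientGroup.mk_surjective x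
      rw [hmkN]
      exact hcon t hx
    have h1 := Subgroup.card_le_of_le hle
    rw [hN'card, h'.card] at h1
    have : 2 ^ n * 2 ^ n > 2 ^ n := by nlinarith
    omega
  obtain ⟨b₀, hb₀N, hb₀C⟩ : ∃ b ∈ h.N, b ∉ C := by
    by_contra hcon
    push Not at hcon
    have h1 := Subgroup.card_le_of_le (show h.N ≤ C from fun x hx => hcon x hx)
    rw [N_card hT h hCtop, h.card] at h1
    have : 2 ^ n * 2 ^ n > 2 ^ n := by nlinarith
    omega
  -- the coordinate maps as functions on the subgroup types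
  set pT : T → GaloisField 2 n := fun t => θ (ee α (ee α (ee α t))) with hpT
  set pM : ↥M → GaloisField 2 n := fun m => θ (ee α (ee α (m : T))) with hpM
  set pN : ↥h.N → GaloisField 2 n := fun b => θ (ee α (b : T)) with hpN
  set rM : ↥M → ↥M := fun m => ⟨ρ m, hρM m m.2⟩ with hrM
  set rN : ↥h.N → ↥h.N := fun b => ⟨ρ b, rho_mem_N h b.2⟩ with hrN
  have hpM_mul : ∀ x y : ↥M, pM (x * y) = pM x + pM y := by
    intro x y
    show θ (ee α (ee α ((x : T) * (y : T)))) = _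
    rw [hee2M_mul _ x.2 _ y.2, hθmul _ (heeM_N _ x.2) _ (heeM_N _ y.2)]
  have hpN_mul : ∀ x y : ↥h.N, pN (x * y) = pN x + pN y := by
    intro x y
    show θ (ee α ((x : T) * (y : T))) = _
    rw [ee_mul_of_mem h x.2, hθmul _ x.2 _ y.2]
  have hpM_rho : ∀ x : ↥M, pM (rM x) = ζ * pM x := by
    intro x
    show θ (ee α (ee α (ρ (x : T)))) = _
    rw [ee_rho h, ee_rho h, hθρ _ (heeM_N _ x.2)]
  have hpN_rho : ∀ x : ↥h.N, pN (rN x) = ζ * pN x := by
    intro x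
    show θ (ee α (ρ (x : T))) = _
    rw [ee_rho h, hθρ _ x.2]
  have hsT : Function.Surjective pT :=
    NOQ4_aux_surj ζ hζ (fun t => ρ t) pT hpT_mul hpT_rho ⟨t₀, fun h0 => ht₀ (hpT_ker t₀ h0)⟩
  have hsM : Function.Surjective pM :=
    NOQ4_aux_surj ζ hζ rM pM hpM_mul hpM_rho
      ⟨⟨m₀, hm₀M⟩, fun h0 => hm₀N (hpM_ker m₀ hm₀M h0)⟩
  have hsN : Function.Surjective pN :=
    NOQ4_aux_surj ζ hζ rN pN hpN_mul hpN_rho
      ⟨⟨b₀, hb₀N⟩, fun h0 => hb₀C (hpN_ker b₀ hb₀N h0)⟩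
  -- commutators with `N` are central
  have hcen : ∀ b ∈ h.N, ∀ g u : T, ⁅b, g⁆ * u = u * ⁅b, g⁆ := fun b hb g u =>
    h.comm_mul (hNC b hb g) u
  have hcomm_swap : ∀ b ∈ h.N, ∀ g : T, ⁅g, b⁆ ∈ C := by
    intro b hb g
    have : ⁅g, b⁆ = ⁅b, g⁆⁻¹ := by simp only [commutatorElement_def]; group
    rw [this]; exact C.inv_mem (hNC b hb g)
  -- the form `Bt`
  set Bt : T → ↥M → GaloisField 2 n := fun g m => θ (ee α ⁅g, (m : T)⁆) with hBt
  have hBt1 : ∀ g g' (m : ↥M), Bt (g * g') m = Bt g m + Bt g' m := by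
    intro g g' m
    show θ (ee α ⁅g * g', (m : T)⁆) = θ (ee α ⁅g, (m : T)⁆) + θ (ee α ⁅g', (m : T)⁆)
    have hν : ⁅g', (m : T)⁆ ∈ h.N := hTTN _ _
    have ha : ⁅g, (m : T)⁆ ∈ h.N := hTTN _ _
    have hcc : ⁅g, ⁅g', (m : T)⁆⁆ ∈ C := hcomm_swap _ hν g
    have h1 : ⁅g * g', (m : T)⁆ = ⁅g, ⁅g', (m : T)⁆⁆ * ⁅g', (m : T)⁆ * ⁅g, (m : T)⁆ := by
      simp only [commutatorElement_def]; group
    rw [h1, ee_mul_of_mem h (h.N.mul_mem (C_le_N h hcc) hν), ee_mul_of_mem h (C_le_N h hcc),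
      (ee_eq_one_iff h _).mpr hcc, one_mul, hθmul _ hν _ ha, add_comm]
  have hBt2 : ∀ g (m m' : ↥M), Bt g (m * m') = Bt g m + Bt g m' := by
    intro g m m'
    show θ (ee α ⁅g, (m : T) * (m' : T)⁆) = θ (ee α ⁅g, (m : T)⁆) + θ (ee α ⁅g, (m' : T)⁆)
    have ha : ⁅g, (m : T)⁆ ∈ h.N := hTTN _ _
    have ha' : ⁅g, (m' : T)⁆ ∈ h.N := hTTN _ _
    have h1 : ⁅g, (m : T) * (m' : T)⁆ = ⁅g, (m : T)⁆ * ((m : T) * ⁅g, (m' : T)⁆ * (m : T)⁻¹) := by
      simp only [commutatorElement_def]; group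
    have h2 : (m : T) * ⁅g, (m' : T)⁆ * (m : T)⁻¹ = ⁅g, (m' : T)⁆ := by
      rw [hMab _ m.2 _ (hNM ha'), mul_inv_cancel_right]
    rw [h1, h2, ee_mul_of_mem h ha, hθmul _ ha _ ha']
  have hBtr : ∀ g (m : ↥M), Bt (ρ g) (rM m) = ζ * Bt g m := by
    intro g m
    show θ (ee α ⁅ρ g, ρ (m : T)⁆) = ζ * θ (ee α ⁅g, (m : T)⁆)
    rw [← map_commutatorElement, ee_rho h, hθρ _ (hTTN g m)]
  have hBtk1 : ∀ g (m : ↥M), pT g = 0 → Bt g m = 0 := by
    intro g m h0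
    have hg : g ∈ M := hpT_ker g h0
    show θ (ee α ⁅g, (m : T)⁆) = 0
    have : ⁅g, (m : T)⁆ = 1 := by
      rw [commutatorElement_eq_one_iff_mul_comm]; exact hMab g hg _ m.2
    rw [this, ee_one, hθ1]
  have hBtk2 : ∀ g (m : ↥M), pM m = 0 → Bt g m = 0 := by
    intro g m h0
    have hm : (m : T) ∈ h.N := hpM_ker _ m.2 h0
    show θ (ee α ⁅g, (m : T)⁆) = 0
    rw [(ee_eq_one_iff h _).mpr (hcomm_swap _ hm g), hθ1]
  obtain ⟨c₁, hc₁⟩ := NFG hF2 ζ hζ (fun t => ρ t) rM pT pM hpT_mul hpM_mul hsT hsM hpT_rho hpM_rho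
    Bt hBt1 hBt2 hBtr hBtk1 hBtk2
  -- the form `cc`
  set cc : ↥h.N → T → GaloisField 2 n := fun b g => θ ⁅(b : T), g⁆ with hcc
  have hcc1 : ∀ (b b' : ↥h.N) g, cc (b * b') g = cc b g + cc b' g := by
    intro b b' g
    show θ ⁅(b : T) * (b' : T), g⁆ = θ ⁅(b : T), g⁆ + θ ⁅(b' : T), g⁆
    have h1 : ⁅(b : T) * (b' : T), g⁆ = (b : T) * ⁅(b' : T), g⁆ * (b : T)⁻¹ * ⁅(b : T), g⁆ := by
      simp only [commutatorElement_def]; group
    have h2 : (b : T) * ⁅(b' : T), g⁆ * (b : T)⁻¹ = ⁅(b' : T), g⁆ := by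
      rw [← hcen _ b'.2 g (b : T), mul_inv_cancel_right]
    rw [h1, h2, hθmul _ (hNC _ b'.2 g) _ (hNC _ b.2 g), add_comm]
  have hcc2 : ∀ (b : ↥h.N) g g', cc b (g * g') = cc b g + cc b g' := by
    intro b g g'
    show θ ⁅(b : T), g * g'⁆ = θ ⁅(b : T), g⁆ + θ ⁅(b : T), g'⁆
    have h1 : ⁅(b : T), g * g'⁆ = ⁅(b : T), g⁆ * (g * ⁅(b : T), g'⁆ * g⁻¹) := by
      simp only [commutatorElement_def]; group
    have h2 : g * ⁅(b : T), g'⁆ * g⁻¹ = ⁅(b : T), g'⁆ := by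
      rw [← hcen _ b.2 g' g, mul_inv_cancel_right]
    rw [h1, h2, hθmul _ (hNC _ b.2 g) _ (hNC _ b.2 g')]
  have hccr : ∀ (b : ↥h.N) g, cc (rN b) (ρ g) = ζ * cc b g := by
    intro b g
    show θ ⁅ρ (b : T), ρ g⁆ = ζ * θ ⁅(b : T), g⁆
    rw [← map_commutatorElement, hθρ _ (hNC _ b.2 g)]
  have hcck1 : ∀ (b : ↥h.N) g, pN b = 0 → cc b g = 0 := by
    intro b g h0
    have hb : (b : T) ∈ C := hpN_ker _ b.2 h0
    show θ ⁅(b : T), g⁆ = 0
    have : ⁅(b : T), g⁆ = 1 := by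
      rw [commutatorElement_eq_one_iff_mul_comm]; exact h.comm_mul hb g
    rw [this, hθ1]
  have hcck2 : ∀ (b : ↥h.N) g, pT g = 0 → cc b g = 0 := by
    intro b g h0
    have hg : g ∈ M := hpT_ker g h0
    show θ ⁅(b : T), g⁆ = 0
    have : ⁅(b : T), g⁆ = 1 := by
      rw [commutatorElement_eq_one_iff_mul_comm]; exact hMab _ (hNM b.2) g hg
    rw [this, hθ1]
  obtain ⟨c₂, hc₂⟩ := NFG hF2 ζ hζ rN (fun t => ρ t) pN pT hpN_mul hpT_mul hsN hsT hpN_rho hpT_rho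
    cc hcc1 hcc2 hccr hcck1 hcck2
  -- `c₁ ≠ 0`
  have hc₁ne : c₁ ≠ 0 := by
    intro h0
    -- `mk m₀` is not central in `T ⧸ C`
    have hm₀c : ¬ ∀ x : T ⧸ C, (QuotientGroup.mk m₀ : T ⧸ C) * x = x * QuotientGroup.mk m₀ := by
      intro hcon
      have := CENT3 hT' h' ⟨⟨x₀, y₀, hxy₀⟩, hsq', hcard'⟩ _ hcon
      exact hm₀N ((hmkN m₀).mp this)
    push Not at hm₀c
    obtain ⟨x, hx⟩ := hm₀c
    obtain ⟨g, rfl⟩ := QuotientGroup.mk_surjective x
    have hgm : ⁅g, m₀⁆ ∉ C := by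
      intro hmem
      apply hx
      have h1 : (QuotientGroup.mk ⁅g, m₀⁆ : T ⧸ C) = 1 := (hmk1 _).mpr hmem
      rw [commutatorElement_def, QuotientGroup.mk_mul, QuotientGroup.mk_mul,
        QuotientGroup.mk_mul, QuotientGroup.mk_inv, QuotientGroup.mk_inv] at h1
      have h2 := mul_inv_eq_one.mp h1
      have h3 := mul_inv_eq_iff_eq_mul.mp h2
      exact h3.symm
    have h1 := hc₁ g ⟨m₀, hm₀M⟩
    rw [h0, zero_mul] at h1
    have h2 : θ (ee α ⁅g, m₀⁆) = 0 := by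
      have : Bt g ⟨m₀, hm₀M⟩ = 0 := by
        have := pow_eq_zero_iff (n := 2) (by norm_num) |>.mp h1
        exact this
      exact this
    have h3 := hθinj _ (hTTN g m₀) h2
    rw [ee_eq_one_iff h] at h3
    exact hgm h3
  -- Jacobi
  have hjac : ∀ (g g' : T) (m : ↥M),
      cc ⟨⁅g', (m : T)⁆, hTTN _ _⟩ g = cc ⟨⁅g, (m : T)⁆, hTTN _ _⟩ g' := by
    intro g g' m
    show θ ⁅⁅g', (m : T)⁆, g⁆ = θ ⁅⁅g, (m : T)⁆, g'⁆
    have hj := NOQ4_aux_jacobi M hMab hGM g g' (hNM (hTTN g g')) m m.2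
    have e1 : ⁅⁅g', (m : T)⁆, g⁆ = ⁅g, ⁅g', (m : T)⁆⁆ := by
      have : ⁅⁅g', (m : T)⁆, g⁆ = ⁅g, ⁅g', (m : T)⁆⁆⁻¹ := by
        simp only [commutatorElement_def]; group
      rw [this, h.inv_eq (hcomm_swap _ (hTTN _ _) g)]
    have e2 : ⁅⁅g, (m : T)⁆, g'⁆ = ⁅g', ⁅g, (m : T)⁆⁆ := by
      have : ⁅⁅g, (m : T)⁆, g'⁆ = ⁅g', ⁅g, (m : T)⁆⁆⁻¹ := by
        simp only [commutatorElement_def]; group
      rw [this, h.inv_eq (hcomm_swap _ (hTTN _ _) g')]
    rw [e1, e2, hj]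
  have hc₂0 : c₂ = 0 := by
    obtain ⟨s, hs0, hs1⟩ := Cfsg.Agent.Helper27.Suz2Inj.exists_ne_zero_ne_one
      (F := GaloisField 2 n) hF2
    obtain ⟨g, hg⟩ := hsT 1
    obtain ⟨g', hg'⟩ := hsT s
    obtain ⟨m, hm⟩ := hsM 1
    have h1 := congrArg (fun z => z ^ 2) (hjac g g' m)
    simp only [hc₂] at h1
    have e1 : pN ⟨⁅g', (m : T)⁆, hTTN _ _⟩ = Bt g' m := rfl
    have e2 : pN ⟨⁅g, (m : T)⁆, hTTN _ _⟩ = Bt g m := rfl
    rw [e1, e2, hg, hg'] at h1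
    have h2 := congrArg (fun z => z ^ 2) h1
    simp only [mul_pow, hc₁, hg, hg', hm] at h2
    -- c₂² (c₁ s) = c₂² c₁ s²
    have h3 : c₂ ^ 2 * c₁ * (s * (1 + s)) = 0 := by
      have : c₂ ^ 2 * c₁ * (s * (1 + s)) = c₂ ^ 2 * (c₁ * (s * 1) * 1 ^ 2) +
          c₂ ^ 2 * (c₁ * (1 * 1) * s ^ 2) := by ring
      rw [this, h2]
      exact CharTwo.add_self_eq_zero _
    have hs1' : 1 + s ≠ 0 := by
      intro h0
      apply hs1
      have := CharTwo.add_eq_zero.mp h0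
      exact this.symm
    rcases mul_eq_zero.mp h3 with h4 | h4
    · rcases mul_eq_zero.mp h4 with h5 | h5
      · exact pow_eq_zero_iff (by norm_num) |>.mp h5
      · exact absurd h5 hc₁ne
    · rcases mul_eq_zero.mp h4 with h5 | h5
      · exact absurd h5 hs0
      · exact absurd h5 hs1'
  -- `N` is central
  have hNcen : ∀ b ∈ h.N, ∀ g : T, b * g = g * b := by
    intro b hb g
    have h1 := hc₂ ⟨b, hb⟩ g
    rw [hc₂0, zero_mul] at h1
    have h2 : θ ⁅b, g⁆ = 0 := pow_eq_zero_iff (n := 2) (by norm_num) |>.mp h1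
    have h3 := hθinj _ (hNC b hb g) h2
    exact commutatorElement_eq_one_iff_mul_comm.mp h3
  -- all commutators are involutions in `N`, hence lie in `C`
  have hNtop : h.N ≠ ⊤ := by
    intro htop
    apply hMtop
    rw [eq_top_iff, ← htop]; exact hNM
  have hTTC : ∀ g k : T, ⁅g, k⁆ ∈ C := by
    intro g k
    apply F0 hT h hNtop _ (hTTN g k)
    have h1 : ⁅g * g, k⁆ = g * ⁅g, k⁆ * g⁻¹ * ⁅g, k⁆ := by
      simp only [commutatorElement_def]; group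
    have h2 : g * ⁅g, k⁆ * g⁻¹ = ⁅g, k⁆ := by
      rw [← hNcen _ (hTTN g k) g, mul_inv_cancel_right]
    have h3 : ⁅g * g, k⁆ = 1 :=
      commutatorElement_eq_one_iff_mul_comm.mpr (hNcen _ (hsqN g) k)
    rw [h2, h3] at h1
    exact h1.symm
  apply hxy₀
  obtain ⟨a, rfl⟩ := QuotientGroup.mk_surjective x₀
  obtain ⟨b, rfl⟩ := QuotientGroup.mk_surjective y₀
  have h1 : (QuotientGroup.mk ⁅a, b⁆ : T ⧸ C) = 1 := (hmk1 _).mpr (hTTC a b)
  rw [commutatorElement_def, QuotientGroup.mk_mul, QuotientGroup.mk_mul,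
    QuotientGroup.mk_mul, QuotientGroup.mk_inv, QuotientGroup.mk_inv] at h1
  have h2 := mul_inv_eq_one.mp h1
  exact mul_inv_eq_iff_eq_mul.mp h2

end main

end Cfsg.Agent.S3161P
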