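import Mathlib
import Cfsg.Agent.Helper16.S3161Defs
import Cfsg.Agent.Helper16.S3161NOQ4
import Cfsg.Agent.Helper9.S3161FIX2
import Cfsg.Agent.Helper20.S3161NAB

set_option autoImplicit false
set_option linter.style.haveILetI false

/-! # S3161, Theorem A' (IND): under (P), `T` is of type (a), (b) or (c)
(blueprint `departures/helper16_S3161_blueprint.md`). -/

namespace Cfsg.Agent.S3161P

open scoped commutatorElement
open Cfsg.Agent.S3161P Cfsg.Agent.Helper16.S64 Cfsg.Agent.Helper18.SuzU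

universe u

theorem IND_aux (m : ℕ) : ∀ (T : Type u) [Group T] [Finite T] (α ρ : MulAut T) (C : Subgroup T)
    (n : ℕ), Nat.card T = m → IsPGroup 2 T → PData α ρ C n →
    TypeA T C ∨ TypeB T n ∨ TypeC T C n := by
  induction m using Nat.strong_induction_on with
  | _ m ih =>
  intro T _ _ α ρ C n hm hT h
  by_cases hCtop : C = ⊤
  · left
    have hall : ∀ x : T, x ∈ C := fun x => by rw [hCtop]; exact Subgroup.mem_top x
    exact ⟨fun x y => (h.comm_mul (hall x) y), fun x _ => hall x⟩
  haveI := h.normal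
  obtain ⟨α', ρ', h', hα', hρ'⟩ := QUOT hT h hCtop
  have hcardC : Nat.card C = 2 ^ n := h.card
  have hq4 : 4 ≤ 2 ^ n := by
    calc 4 = 2 ^ 2 := by norm_num
      _ ≤ 2 ^ n := Nat.pow_le_pow_right (by norm_num) h.two_le
  have hcard : Nat.card T = Nat.card (T ⧸ C) * 2 ^ n := by
    rw [← hcardC]; exact Subgroup.card_eq_card_quotient_mul_card_subgroup C
  have hpos : 0 < Nat.card (T ⧸ C) := Nat.card_pos
  have hlt : Nat.card (T ⧸ C) < m := by
    rw [← hm, hcard]; nlinarith
  have hT' : IsPGroup 2 (T ⧸ C) := hT.to_quotient C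
  have hmk1 : ∀ x : T, (QuotientGroup.mk x : T ⧸ C) = 1 ↔ x ∈ C := fun x =>
    QuotientGroup.eq_one_iff x
  have hmkN : ∀ x : T, (QuotientGroup.mk x : T ⧸ C) ∈ h.N.map (QuotientGroup.mk' C) → x ∈ h.N := by
    intro x hx
    obtain ⟨y, hy, hyx⟩ := Subgroup.mem_map.mp hx
    have h1 : y⁻¹ * x ∈ C := by
      rw [← hmk1, QuotientGroup.mk_mul, QuotientGroup.mk_inv]
      rw [QuotientGroup.mk'_apply] at hyx
      rw [hyx, inv_mul_cancel]
    have : x = y * (y⁻¹ * x) := by group
    rw [this]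
    exact h.N.mul_mem hy (C_le_N h h1)
  rcases ih _ hlt (T ⧸ C) α' ρ' (h.N.map (QuotientGroup.mk' C)) n rfl hT' h' with hA | hB | hCc
  · -- T/C abelian with involutions in N/C
    obtain ⟨hcomm', hinv'⟩ := hA
    have hab : ∀ x ∈ (⊤ : Subgroup T), ∀ y ∈ (⊤ : Subgroup T), ⁅x, y⁆ ∈ C := by
      intro x _ y _
      rw [← hmk1, commutatorElement_def, QuotientGroup.mk_mul, QuotientGroup.mk_mul,
        QuotientGroup.mk_mul, QuotientGroup.mk_inv, QuotientGroup.mk_inv,
        hcomm' (QuotientGroup.mk x) (QuotientGroup.mk y)]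
      group
    have hinvN : ∀ x ∈ (⊤ : Subgroup T), x * x ∈ C → x ∈ h.N := by
      intro x _ hx
      apply hmkN
      apply hinv'
      rw [← QuotientGroup.mk_mul, hmk1]
      exact hx
    have hcomm : ∀ x y : T, x * y = y * x := fun x y =>
      ABEL hT h ⊤ le_top (fun _ _ => Subgroup.mem_top _) (fun _ _ => Subgroup.mem_top _) hab hinvN
        x (Subgroup.mem_top _) y (Subgroup.mem_top _)
    by_cases hinvC : ∀ x : T, x * x = 1 → x ∈ C
    · left; exact ⟨hcomm, hinvC⟩
    right; left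
    push Not at hinvC
    obtain ⟨u, hu2, huC⟩ := hinvC
    -- the subgroup of involutions
    let Ω : Subgroup T :=
      { carrier := {x | x * x = 1}
        one_mem' := by simp
        mul_mem' := by
          intro a b ha hb
          show a * b * (a * b) = 1
          have ha' : a * a = 1 := ha
          have hb' : b * b = 1 := hb
          calc a * b * (a * b) = a * (b * a) * b := by group
            _ = a * (a * b) * b := by rw [hcomm b a]
            _ = (a * a) * (b * b) := by group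
            _ = 1 := by rw [ha', hb', one_mul]
        inv_mem' := by
          intro a ha
          show a⁻¹ * a⁻¹ = 1
          have ha' : a * a = 1 := ha
          rw [← mul_inv_rev, ha', inv_one] }
    have hΩ : ∀ x, x ∈ Ω ↔ x * x = 1 := fun x => Iff.rfl
    have hH : Ω.map (QuotientGroup.mk' C) ≠ ⊥ := by
      intro hbot
      have : (QuotientGroup.mk' C) u ∈ Ω.map (QuotientGroup.mk' C) :=
        Subgroup.mem_map_of_mem _ ((hΩ u).mpr hu2)
      rw [hbot, Subgroup.mem_bot, QuotientGroup.mk'_apply, hmk1] at this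
      exact huC this
    have hHinv : ∀ x ∈ Ω.map (QuotientGroup.mk' C), α' x ∈ Ω.map (QuotientGroup.mk' C) := by
      intro x hx
      obtain ⟨y, hy, rfl⟩ := Subgroup.mem_map.mp hx
      rw [QuotientGroup.mk'_apply, hα']
      refine Subgroup.mem_map_of_mem _ ?_
      rw [hΩ, ← map_mul, (hΩ y).mp hy, map_one]
    obtain ⟨x, hxH, hx1, hxfix⟩ := FIX2 hT' α' h'.alpha_sq _ hH hHinv
    obtain ⟨z, hz, rfl⟩ := Subgroup.mem_map.mp hxH
    rw [QuotientGroup.mk'_apply] at hx1 hxfix
    have hzC : z ∉ C := fun hc => hx1 ((hmk1 z).mpr hc)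
    have hzN : z ∈ h.N := by
      rw [mem_N, ee, ← hmk1, QuotientGroup.mk_mul, QuotientGroup.mk_inv, ← hα', hxfix,
        inv_mul_cancel]
    have hz2 : z * z = 1 := (hΩ z).mp hz
    have hNtop : h.N = ⊤ := by
      by_contra hne
      exact hzC (F0 hT h hne z hzN hz2)
    have hallN : ∀ y : T, y ∈ h.N := fun y => by rw [hNtop]; exact Subgroup.mem_top y
    refine ⟨hcomm, ?_, ?_⟩
    · intro y
      by_cases hyC : y ∈ C
      · exact h.exp y hyC
      obtain ⟨k, c, hc, rfl⟩ := N_trans h hzN (hallN y) hzC hyC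
      calc (ρ ^ k) z * c * ((ρ ^ k) z * c) = ((ρ ^ k) z * (ρ ^ k) z) * (c * c) := by
            rw [hcomm ((ρ ^ k) z) c]
            calc c * (ρ ^ k) z * (c * (ρ ^ k) z) = c * ((ρ ^ k) z * c) * (ρ ^ k) z := by group
              _ = c * (c * (ρ ^ k) z) * (ρ ^ k) z := by rw [hcomm ((ρ ^ k) z) c]
              _ = (c * c) * ((ρ ^ k) z * (ρ ^ k) z) := by group
              _ = ((ρ ^ k) z * (ρ ^ k) z) * (c * c) := hcomm _ _
        _ = 1 := by rw [← map_mul, hz2, map_one, h.exp c hc, one_mul]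
    · have := N_card hT h hCtop
      rw [hNtop] at this
      rw [← this]
      exact (Nat.card_congr (Subgroup.topEquiv (G := T)).toEquiv).symm
  · -- T/C elementary abelian of order q^2
    obtain ⟨-, hexp', hcard'⟩ := hB
    right; right
    have hsq : ∀ x : T, x * x ∈ C := by
      intro x
      rw [← hmk1, QuotientGroup.mk_mul]
      exact hexp' _
    have hc3 : Nat.card T = 2 ^ n * 2 ^ n * 2 ^ n := by rw [hcard, hcard']
    exact ⟨NAB h hsq hc3, hsq, hc3⟩
  · exact (NOQ4 hT h hCc).elim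

theorem IND {T : Type u} [Group T] [Finite T] {α ρ : MulAut T} {C : Subgroup T} {n : ℕ}
    (hT : IsPGroup 2 T) (h : PData α ρ C n) : TypeA T C ∨ TypeB T n ∨ TypeC T C n :=
  IND_aux _ T α ρ C n rfl hT h

end Cfsg.Agent.S3161P
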