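import Mathlib

set_option autoImplicit false

/-! # S3206 piece QUAT: commutators of a generalised quaternion group. -/

namespace Cfsg.Agent.S3206P

/-- QUAT: if all commutators of the generalised quaternion group of order `4n` lie in `{1, c}` with
`c ^ 2 = 1`, then `n ≤ 2` (take `u = a 1`, `v = xa 0`: the commutator is `a 2`, so `a 4 = 1`). -/
theorem QUAT (n : ℕ) [NeZero n] (c : QuaternionGroup n) (hc : c ^ 2 = 1)
    (h : ∀ u v : QuaternionGroup n, u * v * u⁻¹ * v⁻¹ = 1 ∨ u * v * u⁻¹ * v⁻¹ = c) : n ≤ 2 := by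
  have key : ∀ u v w : QuaternionGroup n, u * v * u⁻¹ * v⁻¹ = w → u * v = w * v * u := by
    intro u v w hw
    rw [← hw]; group
  have huv : (QuaternionGroup.a 1 : QuaternionGroup n) * QuaternionGroup.xa 0 =
      QuaternionGroup.xa (-1) := by
    rw [QuaternionGroup.a_mul_xa]; congr 1; ring
  have hvu : (QuaternionGroup.xa 0 : QuaternionGroup n) * QuaternionGroup.a 1 =
      QuaternionGroup.xa 1 := by
    rw [QuaternionGroup.xa_mul_a]; congr 1; ring
  have hfin : ∀ k : ℕ, 0 < k → ((k : ℕ) : ZMod (2 * n)) = 0 → k ≤ 4 → n ≤ 2 := by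
    intro k hk hk0 hk4
    have hdvd : (2 * n) ∣ k := (ZMod.natCast_eq_zero_iff k (2 * n)).mp hk0
    have : 2 * n ≤ k := Nat.le_of_dvd hk hdvd
    omega
  rcases h (QuaternionGroup.a 1) (QuaternionGroup.xa 0) with h1 | h1
  · have h2 := key _ _ _ h1
    rw [one_mul, huv, hvu] at h2
    injection h2 with h3
    have h20 : ((2 : ℕ) : ZMod (2 * n)) = 0 := by
      have : (2 : ZMod (2 * n)) = 1 - (-1) := by ring
      push_cast; rw [this, h3]; ring
    exact hfin 2 (by norm_num) h20 (by norm_num)
  · have h2 := key _ _ _ h1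
    rw [huv, mul_assoc, hvu] at h2
    cases c with
    | a i =>
      rw [QuaternionGroup.a_mul_xa] at h2
      injection h2 with h3
      have hi : i = 2 := by
        have : i = 1 - (1 - i) := by ring
        rw [this, ← h3]; ring
      subst hi
      rw [pow_two, QuaternionGroup.a_mul_a, QuaternionGroup.one_def] at hc
      injection hc with h4
      have h40 : ((4 : ℕ) : ZMod (2 * n)) = 0 := by
        push_cast; rw [← h4]; ring
      exact hfin 4 (by norm_num) h40 (by norm_num)
    | xa i =>
      rw [QuaternionGroup.xa_mul_xa] at h2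
      exact absurd h2 (by simp)

end Cfsg.Agent.S3206P
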