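import Mathlib

/-!
# S3222 piece A6N

`M` simple of order 360, normal of index 2 in `G`: the number of Sylow 5-subgroups of `G` is 6 or 36.
(`n₅ ∣ 144`, `n₅ ≡ 1 mod 5` leaves `1, 6, 16, 36`; `1` makes a Sylow 5-subgroup normal in `M`; `16` gives a
normaliser of order 45, which lies in `M`, so that `n₅(M) = 8`, not `≡ 1 mod 5`.)
-/

set_option autoImplicit false

namespace Cfsg.Agent.S3222P

/-- an element of odd order lies in a normal subgroup of index 2 -/
theorem A6N.aux_mem_of_odd {G : Type*} [Group G] (M : Subgroup G) [M.Normal] (hM : M.index = 2)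
    (x : G) (n : ℕ) (hn : Odd n) (hx : x ^ n = 1) : x ∈ M := by
  have h1 : (QuotientGroup.mk x : G ⧸ M) ^ n = 1 := by
    rw [← QuotientGroup.mk_pow, hx]; rfl
  have h2 : (QuotientGroup.mk x : G ⧸ M) ^ 2 = 1 := by
    have hfin : Finite (G ⧸ M) := by
      apply Nat.finite_of_card_ne_zero
      rw [← Subgroup.index_eq_card, hM]; norm_num
    have := pow_card_eq_one' (G := G ⧸ M) (x := (QuotientGroup.mk x : G ⧸ M))
    rwa [← Subgroup.index_eq_card, hM] at this
  have hcop : Nat.Coprime n 2 := by
    rw [Nat.coprime_two_right]; exact hn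
  have h3 : (QuotientGroup.mk x : G ⧸ M) = 1 := by
    have := pow_gcd_eq_one.2 ⟨h1, h2⟩
    rwa [Nat.Coprime.gcd_eq_one hcop, pow_one] at this
  exact (QuotientGroup.eq_one_iff x).1 h3

theorem A6N {G : Type*} [Group G] [Finite G] [Fact (Nat.Prime 5)]
    (M : Subgroup G) [M.Normal] (hM : M.index = 2)
    (hs : IsSimpleGroup ↥M) (hc : Nat.card ↥M = 360) :
    Nat.card (Sylow 5 G) = 6 ∨ Nat.card (Sylow 5 G) = 36 := by
  classical
  have hG : Nat.card G = 720 := by
    rw [← Subgroup.card_mul_index M, hM, hc]
  obtain ⟨P⟩ : Nonempty (Sylow 5 G) := inferInstance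
  have hfac : (Nat.card G).factorization 5 = 1 := by
    rw [hG, show (720 : ℕ) = 5 * 144 from rfl, Nat.factorization_mul (by norm_num) (by norm_num)]
    simp [Nat.Prime.factorization_self (show Nat.Prime 5 by norm_num),
      Nat.factorization_eq_zero_of_not_dvd (show ¬ 5 ∣ 144 by norm_num)]
  have hP : Nat.card P = 5 := by
    rw [P.card_eq_multiplicity, hfac, pow_one]
  have hPidx : (P : Subgroup G).index = 144 := by
    have := Subgroup.card_mul_index (P : Subgroup G)
    rw [hG] at this
    have hP' : Nat.card (P : Subgroup G) = 5 := hP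
    rw [hP'] at this
    omega
  have hdvd : Nat.card (Sylow 5 G) ∣ 144 := hPidx ▸ P.card_dvd_index
  have hmod : Nat.card (Sylow 5 G) ≡ 1 [MOD 5] := card_sylow_modEq_one 5 G
  have hN : Nat.card (Subgroup.normalizer ((P : Subgroup G) : Set G)) * Nat.card (Sylow 5 G) = 720 := by
    have := Subgroup.card_mul_index (Subgroup.normalizer ((P : Subgroup G) : Set G))
    rw [hG] at this
    rw [P.card_eq_index_normalizer]
    exact this
  -- `P ≤ M`
  have hPM : (P : Subgroup G) ≤ M := by
    intro x hx
    have h5 : x ^ 5 = 1 := by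
      have : (⟨x, hx⟩ : (P : Subgroup G)) ^ Nat.card (P : Subgroup G) = 1 := pow_card_eq_one'
      rw [show Nat.card (P : Subgroup G) = 5 from hP] at this
      exact congrArg Subtype.val this
    exact A6N.aux_mem_of_odd M hM x 5 (by decide) h5
  -- the candidates
  have hle : Nat.card (Sylow 5 G) ≤ 144 := Nat.le_of_dvd (by norm_num) hdvd
  have hcand : Nat.card (Sylow 5 G) = 1 ∨ Nat.card (Sylow 5 G) = 6 ∨ Nat.card (Sylow 5 G) = 16 ∨
      Nat.card (Sylow 5 G) = 36 := by
    unfold Nat.ModEq at hmod
    generalize Nat.card (Sylow 5 G) = n at *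
    interval_cases n <;> simp_all
  rcases hcand with h1 | h6 | h16 | h36
  · -- `P` normal
    exfalso
    have hsub : Subsingleton (Sylow 5 G) := (Nat.card_eq_one_iff_unique.1 h1).1
    have hnorm : (P : Subgroup G).Normal := Sylow.normal_of_subsingleton P
    have hnM : ((P : Subgroup G).subgroupOf M).Normal := hnorm.subgroupOf M
    have hcardPM : Nat.card ((P : Subgroup G).subgroupOf M) = 5 :=
      (Nat.card_congr (Subgroup.subgroupOfEquivOfLe hPM).toEquiv).trans hP
    rcases hs.eq_bot_or_eq_top_of_normal _ hnM with hb | ht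
    · rw [hb, Subgroup.card_bot] at hcardPM; omega
    · rw [ht, Subgroup.card_top, hc] at hcardPM; omega
  · exact Or.inl h6
  · exfalso
    set N : Subgroup G := Subgroup.normalizer ((P : Subgroup G) : Set G) with hNdef
    have hNcard : Nat.card N = 45 := by
      rw [h16] at hN; omega
    have hNM : N ≤ M := by
      intro x hx
      have : (⟨x, hx⟩ : N) ^ Nat.card N = 1 := pow_card_eq_one'
      rw [hNcard] at this
      exact A6N.aux_mem_of_odd M hM x 45 (by decide) (congrArg Subtype.val this)
    let Q : Sylow 5 M := P.subtype hPM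
    have hQn : Subgroup.normalizer (((Q : Subgroup M)) : Set M) = N.subgroupOf M := by
      rw [hNdef, Subgroup.subgroupOf_normalizer_eq hPM]
      rfl
    have hcardNM : Nat.card (N.subgroupOf M) = 45 :=
      (Nat.card_congr (Subgroup.subgroupOfEquivOfLe hNM).toEquiv).trans hNcard
    have hidx : (N.subgroupOf M).index = 8 := by
      have := Subgroup.card_mul_index (N.subgroupOf M)
      rw [hcardNM, hc] at this
      omega
    have h8 : Nat.card (Sylow 5 M) = 8 := by
      rw [Q.card_eq_index_normalizer]
      exact (congrArg Subgroup.index hQn).trans hidx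
    have hmodM : Nat.card (Sylow 5 M) ≡ 1 [MOD 5] := card_sylow_modEq_one 5 M
    rw [h8] at hmodM
    exact absurd hmodM (by decide)
  · exact Or.inr h36

end Cfsg.Agent.S3222P
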