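import Mathlib
import Cfsg.Agent.Helper16.S3266Defs
import Cfsg.Agent.Helper12.SL2OrderFour
import Cfsg.Agent.Helper12.PSL2Basic
import Cfsg.Agent.Helper12.SL2Conj

set_option autoImplicit false

/-! Lifting involutions of PSL(2,F) to SL(2,F); conjugacy of involutions. -/

namespace Cfsg.Agent.S3266P

open Cfsg.Agent.Helper12

variable {F : Type*} [Field F]

theorem pr_apply (A : S2 F) : pr F A = (QuotientGroup.mk A : P2 F) := rfl

theorem pr_surjective : Function.Surjective (pr F) := QuotientGroup.mk'_surjective _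

theorem pr_eq_one_iff (A : S2 F) : pr F A = 1 ↔ A ∈ Subgroup.center (S2 F) := by
  rw [pr_apply]; exact QuotientGroup.eq_one_iff A

/-- Two elements of SL2 have the same image in PSL2 iff they agree up to sign. -/
theorem pr_eq_iff (A C : S2 F) : pr F A = pr F C ↔ A.1 = C.1 ∨ A.1 = -C.1 := by
  constructor
  · intro h
    have h1 : pr F (A * C⁻¹) = 1 := by rw [map_mul, map_inv, h, mul_inv_cancel]
    rw [pr_eq_one_iff] at h1
    rcases sl2_center_eq _ h1 with h' | h'
    · left
      have : A = C := by
        have := congrArg (· * C) h'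
        simpa using this
      rw [this]
    · right
      have : A = -C := by
        have := congrArg (· * C) h'
        simpa using this
      rw [this, Matrix.SpecialLinearGroup.coe_neg]
  · rintro (h | h)
    · have : A = C := Subtype.ext h
      rw [this]
    · have : A = -C := by
        apply Subtype.ext
        rw [Matrix.SpecialLinearGroup.coe_neg]; exact h
      rw [this]
      have h1 : pr F (-C * C⁻¹) = 1 := by
        rw [pr_eq_one_iff]
        have : -C * C⁻¹ = -1 := by rw [neg_mul, mul_inv_cancel]
        rw [this]; exact sl2_neg_one_mem_center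
      rw [map_mul, map_inv, mul_inv_eq_one] at h1
      exact h1

/-- Trace-zero determinant-one matrices square to -1. -/
theorem sq_of_trace_zero (A : M2 F) (hA : A.trace = 0) (hAd : A.det = 1) : A * A = -1 := by
  rw [cayley2, hA, hAd]; simp

/-- In odd characteristic an involution of PSL2 lifts to a trace-zero element of SL2. -/
theorem exists_lift_odd (h2 : (2 : F) ≠ 0) (x : P2 F) (hx : orderOf x = 2) :
    ∃ A : S2 F, pr F A = x ∧ A.1.trace = 0 := by
  obtain ⟨a, rfl⟩ := pr_surjective x
  refine ⟨a, rfl, ?_⟩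
  have h1 : pr F a ^ 2 = 1 := by
    have := pow_orderOf_eq_one (pr F a)
    rwa [hx] at this
  have hne : pr F a ≠ 1 := by
    intro h
    rw [h, orderOf_one] at hx
    omega
  have h1' : a * a ∈ Subgroup.center (S2 F) := by
    rw [← map_pow, pr_eq_one_iff, pow_two] at h1
    exact h1
  have hne' : a ∉ Subgroup.center (S2 F) := fun h => hne ((pr_eq_one_iff a).2 h)
  rcases sl2_center_eq _ h1' with h | h
  · exfalso
    rcases sl2_eq_of_sq_eq_one h2 a h with h' | h'
    · exact hne' (h' ▸ Subgroup.one_mem _)
    · exact hne' (h' ▸ sl2_neg_one_mem_center)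
  · exact (isTorusGen_of_sq h2 a h).tr

/-- A trace-zero element of SL2 (odd characteristic) maps to an involution of PSL2. -/
theorem orderOf_pr_odd (h2 : (2 : F) ≠ 0) (A : S2 F) (hA : A.1.trace = 0) :
    orderOf (pr F A) = 2 := by
  have hsq : A.1 * A.1 = -1 := sq_of_trace_zero A.1 hA A.2
  apply orderOf_eq_prime
  · rw [← map_pow, pr_eq_one_iff, pow_two]
    have : A * A = -1 := by
      apply Subtype.ext
      rw [Matrix.SpecialLinearGroup.coe_mul, hsq, sl2_neg_one_coe]
    rw [this]; exact sl2_neg_one_mem_center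
  · intro h
    rw [pr_eq_one_iff] at h
    rcases sl2_center_eq _ h with h' | h'
    · rw [h'] at hA
      simp at hA
      exact h2 hA
    · rw [h', sl2_neg_one_coe] at hA
      simp at hA
      exact h2 hA

/-- In characteristic 2 the centre of SL2 is trivial. -/
theorem center_eq_one_of_two (h2 : (2 : F) = 0) (z : S2 F) (hz : z ∈ Subgroup.center (S2 F)) :
    z = 1 := by
  rcases sl2_center_eq _ hz with h | h
  · exact h
  · rw [h]
    apply Subtype.ext
    rw [sl2_neg_one_coe, Matrix.SpecialLinearGroup.coe_one]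
    have : (-1 : F) = 1 := by linear_combination -h2
    ext i j
    fin_cases i <;> fin_cases j <;> simp [this]

theorem exists_lift_even (h2 : (2 : F) = 0) (x : P2 F) (hx : orderOf x = 2) :
    ∃ A : S2 F, pr F A = x ∧ A ≠ 1 ∧ A * A = 1 := by
  obtain ⟨a, rfl⟩ := pr_surjective x
  refine ⟨a, rfl, ?_, ?_⟩
  · intro h
    rw [h, map_one, orderOf_one] at hx
    omega
  · have h1 : pr F a ^ 2 = 1 := by
      have := pow_orderOf_eq_one (pr F a)
      rwa [hx] at this
    rw [← map_pow, pr_eq_one_iff, pow_two] at h1
    exact center_eq_one_of_two h2 _ h1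

theorem orderOf_pr_even (h2 : (2 : F) = 0) (A : S2 F) (hA : A ≠ 1) (hA2 : A * A = 1) :
    orderOf (pr F A) = 2 := by
  apply orderOf_eq_prime
  · rw [← map_pow, pow_two, hA2, map_one]
  · intro h
    rw [pr_eq_one_iff] at h
    exact hA (center_eq_one_of_two h2 _ h)

/-- In characteristic 2 an involution of SL2 has trace zero and is not scalar. -/
theorem trace_zero_of_invol_even (h2 : (2 : F) = 0) (A : M2 F) (hA : A ≠ 1) (hA2 : A * A = 1)
    (hAd : A.det = 1) : A.trace = 0 ∧ ¬ IsScalar2 A := by
  have hc := cayley2 A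
  rw [hA2, hAd, one_smul] at hc
  have h11 : (1 : M2 F) + 1 = 0 := by
    ext i j
    fin_cases i <;> fin_cases j <;> simp <;> linear_combination h2
  have htA : A.trace • A = 0 := by
    have : A.trace • A = 1 + 1 := by
      rw [eq_sub_iff_add_eq] at hc
      exact hc.symm
    rw [this, h11]
  have hns : ¬ IsScalar2 A := by
    intro hs
    obtain ⟨a, ha⟩ := (isScalar2_iff A).1 hs
    have hdet : a ^ 2 = 1 := by
      rw [ha, Matrix.det_smul, Matrix.det_one] at hAd
      simpa using hAd
    have : (a - 1) ^ 2 = 0 := by linear_combination hdet - (a - 1) * h2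
    have ha1 : a = 1 := by
      have := pow_eq_zero_iff (two_ne_zero) |>.1 this
      linear_combination this
    apply hA
    rw [ha, ha1, one_smul]
  refine ⟨?_, hns⟩
  by_contra ht
  apply hns
  have : A = 0 := by
    have := congrArg (fun M => (A.trace)⁻¹ • M) htA
    simpa [smul_smul, inv_mul_cancel₀ ht] using this
  rw [this]
  exact ⟨rfl, rfl, rfl⟩

/-- All involutions of PSL(2,F), F a finite field, are conjugate. -/
theorem isConj_of_orderOf_two [Fintype F] (x y : P2 F) (hx : orderOf x = 2)
    (hy : orderOf y = 2) : IsConj x y := by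
  by_cases h2 : (2 : F) = 0
  · obtain ⟨a, rfl, ha1, ha2⟩ := exists_lift_even h2 x hx
    obtain ⟨b, rfl, hb1, hb2⟩ := exists_lift_even h2 y hy
    have hA := trace_zero_of_invol_even h2 a.1 (fun h => ha1 (Subtype.ext h))
      (by rw [← Matrix.SpecialLinearGroup.coe_mul, ha2, Matrix.SpecialLinearGroup.coe_one]) a.2
    have hB := trace_zero_of_invol_even h2 b.1 (fun h => hb1 (Subtype.ext h))
      (by rw [← Matrix.SpecialLinearGroup.coe_mul, hb2, Matrix.SpecialLinearGroup.coe_one]) b.2
    have hchar : ringChar F = 2 := by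
      have : CharP F 2 := by
        apply CharTwo.of_one_ne_zero_of_two_eq_zero one_ne_zero h2
      exact ringChar.eq F 2
    have hc := sl2_isConj_of_trace_eq a b hA.2 hB.2 (by rw [hA.1, hB.1]) (Or.inl hchar)
    obtain ⟨c, hc⟩ := isConj_iff.1 hc
    rw [isConj_iff]
    exact ⟨pr F c, by rw [← hc, map_mul, map_mul, map_inv]⟩
  · exact psl2_isConj_of_orderOf_two h2 x y hx hy

end Cfsg.Agent.S3266P
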