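import Mathlib
import Cfsg.Agent.Helper16.S3266Defs
import Cfsg.Agent.Helper16.S3266Lift
import Cfsg.Agent.Helper16.OPGraph
import Cfsg.Agent.Helper4.S3266C1
import Cfsg.Agent.Helper5.S3266C2
import Cfsg.Agent.Helper4.S3266C3C
import Cfsg.Agent.Helper4.S3266C3D
import Cfsg.Agent.Helper5.S3266NADJ
import Cfsg.Agent.Helper18.S3266C3B
import Cfsg.Agent.Helper21.S3266POWE
import Cfsg.Agent.Helper21.S3266POWU
import Cfsg.Agent.Helper13.S3266POWS

set_option autoImplicit false

/-! Assembly for S3266. -/

namespace Cfsg.Agent.S3266P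

open Cfsg.Agent.Helper12

variable {F : Type*} [Field F]

/-- The product of two non-squares of a finite field is a square. -/
theorem isSquare_mul_of_not [Fintype F] {a b : F} (ha : ¬ IsSquare a) (hb : ¬ IsSquare b) :
    IsSquare (a * b) := by
  classical
  have ha0 : a ≠ 0 := by rintro rfl; exact ha IsSquare.zero
  have hb0 : b ≠ 0 := by rintro rfl; exact hb IsSquare.zero
  rw [← quadraticChar_one_iff_isSquare (mul_ne_zero ha0 hb0), map_mul,
    quadraticChar_neg_one_iff_not_isSquare.2 ha, quadraticChar_neg_one_iff_not_isSquare.2 hb]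
  norm_num

/-- A point on the hyperbola `v^2 - s^2 = 1` with `s ≠ 0`. -/
theorem exists_hyperbola_point [Fintype F] (hF : 4 ≤ Fintype.card F) (h2 : (2 : F) ≠ 0) :
    ∃ v s : F, s ≠ 0 ∧ v ^ 2 = 1 + s ^ 2 := by
  classical
  have : ∃ f : F, f ∉ ({0, 1, -1} : Finset F) := by
    by_contra hcon
    push Not at hcon
    have hsub : (Finset.univ : Finset F) ⊆ {0, 1, -1} := fun f _ => hcon f
    have h1 := Finset.card_le_card hsub
    have h3 : ({0, 1, -1} : Finset F).card ≤ 3 := Finset.card_le_three
    rw [Finset.card_univ] at h1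
    omega
  obtain ⟨f, hf⟩ := this
  simp only [Finset.mem_insert, Finset.mem_singleton, not_or] at hf
  obtain ⟨hf0, hf1, hf2⟩ := hf
  refine ⟨(f + f⁻¹) / 2, (f - f⁻¹) / 2, ?_, ?_⟩
  · intro h
    have h' : f - f⁻¹ = 0 := by
      rcases div_eq_zero_iff.1 h with h | h
      · exact h
      · exact absurd h h2
    have h'' : f * f = 1 := by
      have := congrArg (· * f) h'
      simp only [sub_mul, inv_mul_cancel₀ hf0, zero_mul] at this
      linear_combination this
    have : (f - 1) * (f + 1) = 0 := by linear_combination h''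
    rcases mul_eq_zero.1 this with h | h
    · exact hf1 (by linear_combination h)
    · exact hf2 (by linear_combination h)
  · field_simp
    ring

/-- The case `q ≡ 3 mod 4`: common neighbour via split tori. -/
theorem core_three [Fintype F] (hF : 4 ≤ Fintype.card F) (h2 : (2 : F) ≠ 0)
    (hm1 : ¬ IsSquare (-1 : F)) (A B : M2 F)
    (hA : A.trace = 0) (hAd : A.det = 1) (hB : B.trace = 0) (hBd : B.det = 1)
    (hne1 : B ≠ A) (hne2 : B ≠ -A) :
    (∃ d : F, d ≠ 0 ∧ (A * B).trace ^ 2 - 4 = d ^ 2) ∨
      ∃ C : M2 F, C.trace = 0 ∧ C.det = 1 ∧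
        (∃ d : F, d ≠ 0 ∧ (A * C).trace ^ 2 - 4 = d ^ 2) ∧
        (∃ d : F, d ≠ 0 ∧ (C * B).trace ^ 2 - 4 = d ^ 2) := by
  obtain ⟨g, hg⟩ : ∃ g : F, (A * B).trace = -2 * g := ⟨-(A * B).trace / 2, by field_simp⟩
  by_cases hsq : IsSquare (1 - g ^ 2)
  · obtain ⟨e, he⟩ := hsq
    have he' : e ^ 2 = 1 - g ^ 2 := by rw [he]; ring
    by_cases he0 : e = 0
    · exfalso
      have h4 : (A * B).trace ^ 2 = 4 := by
        rw [hg]
        rw [he0] at he'
        linear_combination 4 * he'
      rcases eq_or_neg_of_trace_sq h2 hm1 A B hA hAd hB hBd h4 with h | h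
      · exact hne1 h
      · exact hne2 h
    · right
      obtain ⟨v, s, hs, hv⟩ := exists_hyperbola_point hF h2
      obtain ⟨ψ, l, k, h1, h3⟩ := exists_psi h2 hm1 e s he0 hs
      obtain ⟨C, r, hC, hCd, hr, hAC, hCB⟩ :=
        core_three_construct h2 hm1 A B hA hAd hB hBd g e v s ψ l k hg he' he0 hv hs h1 h3
      exact ⟨C, hC, hCd, ⟨2 * r, mul_ne_zero h2 hr, hAC⟩, ⟨2 * s, mul_ne_zero h2 hs, hCB⟩⟩
  · left
    have hsq' : IsSquare ((-1) * (1 - g ^ 2)) := isSquare_mul_of_not hm1 hsq
    obtain ⟨d, hd⟩ := hsq'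
    have hd0 : d ≠ 0 := by
      rintro rfl
      apply hsq
      have : 1 - g ^ 2 = 0 := by linear_combination -hd
      rw [this]
      exact IsSquare.zero
    refine ⟨2 * d, mul_ne_zero h2 hd0, ?_⟩
    rw [hg]
    linear_combination 4 * hd

/-- Helper: build an element of SL2 from a determinant-one matrix. -/
def mkS (C : M2 F) (h : C.det = 1) : S2 F := ⟨C, h⟩

theorem trace_neg_mul (A C : M2 F) : (-A * C).trace = -(A * C).trace := by
  rw [neg_mul, Matrix.trace_neg]

/-- Main dichotomy: two distinct involutions of PSL(2,F) are adjacent or have a common neighbour. -/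
theorem main_common_nbr [Fintype F] (hF : 4 ≤ Fintype.card F) (x y : P2 F)
    (hx : orderOf x = 2) (hy : orderOf y = 2) (hxy : x ≠ y) :
    Odd (orderOf (x * y)) ∨
      ∃ z : P2 F, orderOf z = 2 ∧ x ≠ z ∧ z ≠ y ∧ Odd (orderOf (x * z)) ∧
        Odd (orderOf (z * y)) := by
  by_cases h2 : (2 : F) = 0
  · -- characteristic 2
    right
    obtain ⟨A, rfl, hA1, hA2⟩ := exists_lift_even h2 x hx
    obtain ⟨B, rfl, hB1, hB2⟩ := exists_lift_even h2 y hy
    have hA2' : A.1 * A.1 = 1 := by
      rw [← Matrix.SpecialLinearGroup.coe_mul, hA2, Matrix.SpecialLinearGroup.coe_one]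
    have hB2' : B.1 * B.1 = 1 := by
      rw [← Matrix.SpecialLinearGroup.coe_mul, hB2, Matrix.SpecialLinearGroup.coe_one]
    obtain ⟨C, hC1, hC2, hCd, hAC, hCB⟩ := core_two h2 A.1 B.1 (fun h => hA1 (Subtype.ext h)) hA2' A.2
      (fun h => hB1 (Subtype.ext h)) hB2' B.2
    have hneg : ∀ M : M2 F, -M = M := by
      intro M
      have : (-1 : F) = 1 := by linear_combination -h2
      ext i j
      rw [Matrix.neg_apply]
      linear_combination (M i j) * this
    have htr1 : (1 : M2 F).trace = 0 := by
      rw [Matrix.trace_one]; simpa using h2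
    refine ⟨pr F (mkS C hCd), ?_, ?_, ?_, ?_, ?_⟩
    · apply orderOf_pr_even h2
      · intro h; exact hC1 (congrArg Subtype.val h)
      · apply Subtype.ext
        rw [Matrix.SpecialLinearGroup.coe_mul]; exact hC2
    · intro h
      rw [pr_eq_iff] at h
      have hAC' : A.1 = C := by
        rcases h with h | h
        · exact h
        · rw [h]; exact hneg _
      apply hAC
      rw [← hAC', hA2']; exact htr1
    · intro h
      rw [pr_eq_iff] at h
      have hCB' : C = B.1 := by
        rcases h with h | h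
        · exact h
        · have : (mkS C hCd).1 = C := rfl
          rw [this] at h
          rw [h]; exact hneg _
      apply hCB
      rw [hCB', hB2']; exact htr1
    · exact odd_of_trace_ne_zero h2 A (mkS C hCd) hAC
    · exact odd_of_trace_ne_zero h2 (mkS C hCd) B hCB
  · obtain ⟨A, rfl, hA⟩ := exists_lift_odd h2 x hx
    obtain ⟨B, rfl, hB⟩ := exists_lift_odd h2 y hy
    have hAsq : A.1 * A.1 = -1 := sq_of_trace_zero A.1 hA A.2
    have hBsq : B.1 * B.1 = -1 := sq_of_trace_zero B.1 hB B.2
    have htrm1 : (-1 : M2 F).trace = -2 := by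
      rw [Matrix.trace_neg, Matrix.trace_one]; simp
    by_cases hm1 : IsSquare (-1 : F)
    · -- q ≡ 1 mod 4
      obtain ⟨i, hi⟩ := hm1
      have hi' : i ^ 2 = -1 := by rw [hi]; ring
      by_cases ht : (A.1 * B.1).trace ^ 2 = 4
      · left
        exact odd_of_trace_sq h2 A B ht
      · right
        have ht1 : (A.1 * B.1).trace ≠ 2 := by
          intro h; apply ht; rw [h]; norm_num
        have ht2 : (A.1 * B.1).trace ≠ -2 := by
          intro h; apply ht; rw [h]; norm_num
        obtain ⟨C, hC, hCd, hAC, hCB⟩ := core_one h2 i hi' A.1 B.1 hA A.2 hB B.2 ht1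
        refine ⟨pr F (mkS C hCd), orderOf_pr_odd h2 _ hC, ?_, ?_, ?_, ?_⟩
        · intro h
          rw [pr_eq_iff] at h
          have hval : (mkS C hCd).1 = C := rfl
          rw [hval] at h
          rcases h with h | h
          · apply ht2
            rw [h]; exact hCB
          · apply ht1
            rw [h, trace_neg_mul, hCB]; ring
        · intro h
          rw [pr_eq_iff] at h
          have hval : (mkS C hCd).1 = C := rfl
          rw [hval] at h
          rcases h with h | h
          · apply ht2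
            rw [← h]; exact hAC
          · apply ht1
            have : B.1 = -C := by rw [h]; simp
            rw [this, Matrix.mul_neg, Matrix.trace_neg, hAC]; ring
        · apply odd_of_trace_sq h2 A (mkS C hCd)
          have hval : (mkS C hCd).1 = C := rfl
          rw [hval, hAC]; norm_num
        · apply odd_of_trace_sq h2 (mkS C hCd) B
          have hval : (mkS C hCd).1 = C := rfl
          rw [hval, hCB]; norm_num
    · -- q ≡ 3 mod 4
      have hne1 : B.1 ≠ A.1 := by
        intro h
        apply hxy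
        rw [pr_eq_iff]; left; exact h.symm
      have hne2 : B.1 ≠ -A.1 := by
        intro h
        apply hxy
        rw [pr_eq_iff]; right; rw [h]; simp
      rcases core_three hF h2 hm1 A.1 B.1 hA A.2 hB B.2 hne1 hne2 with ⟨d, hd, hdd⟩ | ⟨C, hC, hCd, ⟨d1, hd1, hdd1⟩, ⟨d2, hd2, hdd2⟩⟩
      · left
        exact odd_of_split h2 hm1 A B d hd hdd
      · right
        have hval : (mkS C hCd).1 = C := rfl
        refine ⟨pr F (mkS C hCd), orderOf_pr_odd h2 _ hC, ?_, ?_, ?_, ?_⟩
        · intro h
          rw [pr_eq_iff, hval] at h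
          apply hd1
          have h0 : (A.1 * C).trace ^ 2 - 4 = 0 := by
            rcases h with h | h
            · rw [← h, hAsq, htrm1]; ring
            · have : C = -A.1 := by rw [h]; simp
              rw [this, Matrix.mul_neg, Matrix.trace_neg, hAsq, htrm1]; ring
          rw [h0] at hdd1
          exact pow_eq_zero_iff (two_ne_zero) |>.1 hdd1.symm
        · intro h
          rw [pr_eq_iff, hval] at h
          apply hd2
          have h0 : (C * B.1).trace ^ 2 - 4 = 0 := by
            rcases h with h | h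
            · rw [h, hBsq, htrm1]; ring
            · rw [h, neg_mul, Matrix.trace_neg, hBsq, htrm1]; ring
          rw [h0] at hdd2
          exact pow_eq_zero_iff (two_ne_zero) |>.1 hdd2.symm
        · apply odd_of_split h2 hm1 A (mkS C hCd) d1 hd1
          rw [hval]; exact hdd1
        · apply odd_of_split h2 hm1 (mkS C hCd) B d2 hd2
          rw [hval]; exact hdd2

theorem orderOf_eq_of_isConj {G : Type*} [Group G] {a b : G} (h : IsConj a b) :
    orderOf b = orderOf a := by
  obtain ⟨c, hc⟩ := isConj_iff.1 h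
  have : SemiconjBy c a b := by
    unfold SemiconjBy
    rw [← hc]; group
  exact (this.orderOf_eq c).symm

/-- The statement of S3266. -/
theorem main [Fintype F] (hF : 4 ≤ Fintype.card F) (t : P2 F) (ht : orderOf t = 2) :
    (SimpleGraph.fromRel fun x y : {x : P2 F // IsConj t x} =>
        Odd (orderOf (x.1 * y.1))).Connected ∧
      (SimpleGraph.fromRel fun x y : {x : P2 F // IsConj t x} =>
        Odd (orderOf (x.1 * y.1))).diam = 2 := by
  apply Cfsg.Agent.Helper16.OPG.connected_diam_two
  · intro u v huv hnadj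
    have hu : orderOf u.1 = 2 := by rw [orderOf_eq_of_isConj u.2, ht]
    have hv : orderOf v.1 = 2 := by rw [orderOf_eq_of_isConj v.2, ht]
    have huv' : u.1 ≠ v.1 := fun h => huv (Subtype.ext h)
    rcases main_common_nbr hF u.1 v.1 hu hv huv' with h | ⟨z, hz, hxz, hzy, h1, h2⟩
    · exfalso
      apply hnadj
      rw [SimpleGraph.fromRel_adj]
      exact ⟨huv, Or.inl h⟩
    · have hzc : IsConj t z := isConj_of_orderOf_two t z ht hz
      refine ⟨⟨z, hzc⟩, ?_, ?_⟩
      · rw [SimpleGraph.fromRel_adj]
        exact ⟨fun h => hxz (congrArg Subtype.val h), Or.inl h1⟩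
      · rw [SimpleGraph.fromRel_adj]
        exact ⟨fun h => hzy (congrArg Subtype.val h), Or.inl h2⟩
  · obtain ⟨x, y, hx, hy, hxy, h1, h2⟩ := exists_nonadj (F := F) hF
    refine ⟨⟨x, isConj_of_orderOf_two t x ht hx⟩, ⟨y, isConj_of_orderOf_two t y ht hy⟩, ?_, ?_⟩
    · intro h; exact hxy (congrArg Subtype.val h)
    · rw [SimpleGraph.fromRel_adj]
      rintro ⟨-, h | h⟩
      · exact h1 h
      · exact h2 h

end Cfsg.Agent.S3266P
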