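import Mathlib
import Cfsg.Prelude.Def_Classical
import Cfsg.Agent.Helper6.S3439.Defs
import Cfsg.Agent.Helper24.S3439CUBE

/-! S3439 piece EX (driver helper6): elements of order 9 and 3 of `N7 K`, a fifth root of unity and an
element outside the field with nine elements. -/

set_option autoImplicit false

namespace Cfsg.Agent.S3439P

open N7

variable {K : Type*} [Field K] [CharP K 3]

namespace EX

theorem exists_gen [Fintype K] (hK : Fintype.card K = 81) : ∃ g : Kˣ, orderOf g = 80 := by
  classical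
  obtain ⟨g, hg⟩ := IsCyclic.exists_ofOrder_eq_natCard (α := Kˣ)
  refine ⟨g, ?_⟩
  rw [hg, Nat.card_eq_fintype_card, Fintype.card_units, hK]

end EX

/-- EX, third statement -/
theorem exists_zeta [Fintype K] (hK : Fintype.card K = 81) :
    (∃ ζ : K, ζ ^ 5 = 1 ∧ ζ ≠ 1) ∧ ∃ a : K, a ^ 9 ≠ a := by
  obtain ⟨g, hg⟩ := EX.exists_gen hK
  constructor
  · refine ⟨((g ^ 16 : Kˣ) : K), ?_, ?_⟩
    · rw [← Units.val_pow_eq_pow_val, ← pow_mul]
      have : g ^ (16 * 5) = 1 := by
        rw [show 16 * 5 = 80 by norm_num, ← hg]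
        exact pow_orderOf_eq_one g
      rw [this, Units.val_one]
    · intro h
      have h1 : g ^ 16 = 1 := Units.ext (by rw [h, Units.val_one])
      have := orderOf_dvd_of_pow_eq_one h1
      rw [hg] at this
      omega
  · refine ⟨(g : K), ?_⟩
    intro h
    have h1 : g ^ 8 = 1 := by
      apply Units.ext
      rw [Units.val_pow_eq_pow_val, Units.val_one]
      have hg0 : (g : K) ≠ 0 := g.ne_zero
      have : (g : K) ^ 8 * (g : K) = 1 * (g : K) := by
        rw [one_mul, ← pow_succ]
        exact h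
      exact mul_right_cancel₀ hg0 this
    have := orderOf_dvd_of_pow_eq_one h1
    rw [hg] at this
    omega

/-- EX, first statement -/
theorem exists_orderOf_nine [Fintype K] (hK : Fintype.card K = 81) : ∃ g : N7 K, orderOf g = 9 := by
  obtain ⟨-, b, hb⟩ := exists_zeta hK
  have : Fact (Nat.Prime 3) := ⟨Nat.prime_three⟩
  refine ⟨⟨1, b, 0, 0, 0, 0, 0⟩, ?_⟩
  have h3 : (3 : K) = 0 := by
    have := CharP.cast_eq_zero K 3
    exact_mod_cast this
  have := orderOf_eq_prime_pow (x := (⟨1, b, 0, 0, 0, 0, 0⟩ : N7 K)) (p := 3) (n := 1) ?_ ?_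
  · rw [this]
    norm_num
  · rw [pow_one, cube_eq]
    intro h
    have hz := congrArg N7.z h
    simp only [one_z, fr_apply, one_pow, one_mul] at hz
    apply hb
    have e : (b - b ^ 9) ^ 3 = 0 := by
      have : (b - b ^ 9) ^ 3 = b ^ 3 ^ 1 - b ^ 3 ^ 3 + 3 * (b ^ 19 - b ^ 11) := by ring
      rw [this, hz, h3]
      ring
    have := pow_eq_zero_iff (three_ne_zero) |>.1 e
    exact (sub_eq_zero.1 this).symm
  · exact pow_nine _

/-- EX, second statement -/
theorem exists_fixed_three : ∃ g : N7 K, Tm (1 : K) 1 g = g ∧ orderOf g = 3 := by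
  have : Fact (Nat.Prime 3) := ⟨Nat.prime_three⟩
  refine ⟨⟨1, 0, 0, 0, 0, 0, 0⟩, ?_, ?_⟩
  · ext <;> simp [fr_apply]
  · apply orderOf_eq_prime
    · rw [cube_eq]
      ext <;> simp
    · intro h
      have := congrArg N7.a h
      simp at this

end Cfsg.Agent.S3439P
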