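import Mathlib
import Cfsg.Prelude.Def_Classical
import Cfsg.Agent.Helper6.S3439.Defs

/-! S3439 piece QSOLV (driver helper6): the group `Q` of semilinear torus maps is solvable (metabelian). -/

set_option autoImplicit false

namespace Cfsg.Agent.S3439P

open N7
open scoped commutatorElement

variable {K : Type*} [Field K] [CharP K 3]

namespace QSOLV

theorem fr_zero (x : K) : fr K 0 x = x := by
  rw [fr_apply]; simp

/-- the diagonal part of `Q` -/
def D [Fintype K] (hK : Fintype.card K = 81) : Subgroup (Q hK) where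
  carrier := {τ | ∃ ξ : K, ξ ^ 5 = 1 ∧ ∀ g, (τ : MulAut (N7 K)) g = Tm ξ 0 g}
  one_mem' := ⟨1, one_pow 5, fun g => (Tm_one_zero g).symm⟩
  mul_mem' := by
    rintro τ τ' ⟨ξ, hξ, h⟩ ⟨ξ', hξ', h'⟩
    refine ⟨ξ * ξ', ?_, fun g => ?_⟩
    · rw [mul_pow, hξ, hξ', mul_one]
    · rw [Subgroup.coe_mul, MulAut.mul_apply, h, h', Tm_comp, fr_zero]
  inv_mem' := by
    rintro τ ⟨ξ, hξ, h⟩
    have hξ0 : ξ ≠ 0 := by
      intro h0; rw [h0] at hξ; norm_num at hξ
    refine ⟨ξ⁻¹, ?_, fun g => ?_⟩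
    · rw [inv_pow, hξ, inv_one]
    · have h1 := Tm_comp ξ⁻¹ ξ 0 0 ((τ : MulAut (N7 K))⁻¹ g)
      rw [← h, MulAut.apply_inv_self, fr_zero, inv_mul_cancel₀ hξ0, Tm_one_zero] at h1
      rw [Subgroup.coe_inv]
      exact h1.symm

theorem D_comm [Fintype K] (hK : Fintype.card K = 81) (τ τ' : Q hK) (h : τ ∈ D hK) (h' : τ' ∈ D hK) :
    τ * τ' = τ' * τ := by
  obtain ⟨ξ, -, h⟩ := h
  obtain ⟨ξ', -, h'⟩ := h'
  apply Subtype.ext
  apply MulEquiv.ext
  intro g
  rw [Subgroup.coe_mul, Subgroup.coe_mul, MulAut.mul_apply, MulAut.mul_apply, h, h', h', h, Tm_comp, Tm_comp,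
    fr_zero, fr_zero, mul_comm]

theorem comm_mem_D [Fintype K] (hK : Fintype.card K = 81) (τ τ' : Q hK) : ⁅τ, τ'⁆ ∈ D hK := by
  obtain ⟨ξ, i, hξ, h⟩ := τ.2
  obtain ⟨ξ', i', hξ', h'⟩ := τ'.2
  have hξ0 : ξ ≠ 0 := by
    intro h0; rw [h0] at hξ; norm_num at hξ
  have hξ'0 : ξ' ≠ 0 := by
    intro h0; rw [h0] at hξ'; norm_num at hξ'
  have h2 : ξ' * fr K i' ξ ≠ 0 := by
    rw [fr_apply]; exact mul_ne_zero hξ'0 (pow_ne_zero _ hξ0)
  refine ⟨(ξ * fr K i ξ') * (ξ' * fr K i' ξ)⁻¹, ?_, fun g => ?_⟩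
  · rw [mul_pow, inv_pow, mul_pow, mul_pow, ← map_pow, ← map_pow, hξ, hξ', map_one, map_one]
    simp
  · -- c * (τ' τ) = τ τ'
    have hc : (⁅τ, τ'⁆ : Q hK) * (τ' * τ) = τ * τ' := by
      rw [commutatorElement_def]; group
    have hc' : ∀ x, ((⁅τ, τ'⁆ : Q hK) : MulAut (N7 K)) (Tm (ξ' * fr K i' ξ) (i' + i) x)
        = Tm (ξ * fr K i ξ') (i + i') x := by
      intro x
      have := congrArg (fun σ : Q hK => (σ : MulAut (N7 K)) x) hc
      simp only [Subgroup.coe_mul, MulAut.mul_apply] at this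
      rw [h, h', h', h, Tm_comp, Tm_comp] at this
      exact this
    have hg : g = Tm (ξ' * fr K i' ξ) (i' + i) (((τ' * τ : Q hK) : MulAut (N7 K))⁻¹ g) := by
      have := MulAut.apply_inv_self (N7 K) ((τ' * τ : Q hK) : MulAut (N7 K)) g
      rw [Subgroup.coe_mul, MulAut.mul_apply, h, h', Tm_comp] at this
      rw [Subgroup.coe_mul]
      exact this.symm
    conv_lhs => rw [hg]
    conv_rhs => rw [hg]
    rw [hc', Tm_comp, fr_zero, inv_mul_cancel_right₀ h2, zero_add, add_comm]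

end QSOLV

/-- QSOLV -/
theorem Q_solvable [Fintype K] (hK : Fintype.card K = 81) : IsSolvable (Q hK) := by
  refine (Group.isSolvable_def _).2 ⟨2, ?_⟩
  have h1 : derivedSeries (Q hK) 1 ≤ QSOLV.D hK := by
    rw [derivedSeries_one, commutator_def]
    rw [Subgroup.commutator_le]
    intro a _ b _
    exact QSOLV.comm_mem_D hK a b
  rw [derivedSeries_succ, eq_bot_iff]
  refine (Subgroup.commutator_mono h1 h1).trans ?_
  rw [Subgroup.commutator_le]
  intro a ha b hb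
  rw [Subgroup.mem_bot, commutatorElement_eq_one_iff_mul_comm]
  exact QSOLV.D_comm hK a b ha hb

end Cfsg.Agent.S3439P
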