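import Mathlib

set_option autoImplicit false
set_option linter.unusedSectionVars false
set_option linter.unusedVariables false

/-! # S3501 piece REG: an abelian transitive subgroup of a faithful action is semiregular. -/

namespace Cfsg.Agent.S3501P

open MulAction

section
variable {G : Type*} [Group G] [Finite G] {Ω : Type*} [Fintype Ω] [MulAction G Ω] [FaithfulSMul G Ω]

/-- REG: an abelian transitive subgroup of a faithful action is semiregular. -/
theorem REG (N : Subgroup G) (hab : ∀ x ∈ N, ∀ y ∈ N, x * y = y * x) [IsPretransitive N Ω]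
    (a : Ω) (n : G) (hn : n ∈ N) (hfix : n • a = a) : n = 1 := by
  apply FaithfulSMul.eq_of_smul_eq_smul (α := Ω)
  intro ω
  obtain ⟨m, hm⟩ := exists_smul_eq N a ω
  have hm' : (m : G) • a = ω := hm
  rw [one_smul, ← hm', smul_smul, hab n hn m m.2, ← smul_smul, hfix]

end

end Cfsg.Agent.S3501P
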