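import Mathlib
import Cfsg.Agent.Helper29.S3501DER
import Cfsg.Agent.Helper4.S3501DERN

set_option autoImplicit false
set_option linter.unusedSectionVars false
set_option linter.unusedVariables false
set_option linter.style.haveILetI false

/-! # S3501 piece UNIQ: under "one class of derangements" there is a unique minimal normal subgroup;
it is transitive and contains all derangements. -/

namespace Cfsg.Agent.S3501P

open MulAction

section
variable {G : Type*} [Group G] [Finite G] {Ω : Type*} [Fintype Ω] [MulAction G Ω] [FaithfulSMul G Ω]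

/-- Under "one class", every non-trivial normal subgroup contains every derangement
(local copy used by `UNIQ`). -/
theorem UNIQ.normalder (hΩ : 2 ≤ Fintype.card Ω) (hprim : IsPreprimitive G Ω)
    (hone : ∀ x y : G, (∀ ω : Ω, x • ω ≠ ω) → (∀ ω : Ω, y • ω ≠ ω) → IsConj x y)
    (M : Subgroup G) [M.Normal] (hM : M ≠ ⊥) (g : G) (hg : ∀ ω : Ω, g • ω ≠ ω) : g ∈ M := by
  haveI : IsPretransitive M Ω := DER.normal_transitive M hM
  obtain ⟨x, hxM, hx⟩ := DER.exists_mem M hΩ
  obtain ⟨c, hc⟩ := isConj_iff.mp (hone x g hx hg)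
  rw [← hc]
  exact ‹M.Normal›.conj_mem x hxM c

/-- UNIQ: under "one class" there is a unique minimal normal subgroup; it is transitive and contains all
derangements. -/
theorem UNIQ (hΩ : 2 ≤ Fintype.card Ω) (hprim : IsPreprimitive G Ω)
    (hone : ∀ x y : G, (∀ ω : Ω, x • ω ≠ ω) → (∀ ω : Ω, y • ω ≠ ω) → IsConj x y) :
    ∃ N : Subgroup G, N.Normal ∧ N ≠ ⊥ ∧ (∀ M : Subgroup G, M.Normal → M ≤ N → M = ⊥ ∨ M = N) ∧
      (∀ L : Subgroup G, L.Normal → L ≠ ⊥ →
        (∀ M : Subgroup G, M.Normal → M ≤ L → M = ⊥ ∨ M = L) → L = N) ∧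
      (∀ g : G, (∀ ω : Ω, g • ω ≠ ω) → g ∈ N) ∧ IsPretransitive N Ω := by
  classical
  -- `G` is non-trivial
  have htop : (⊤ : Subgroup G) ≠ ⊥ := by
    intro h
    haveI : IsPretransitive G Ω := hprim.toIsPretransitive
    obtain ⟨g, hg⟩ := DER.exists (G := G) (Ω := Ω) hΩ
    have hg1 : g = 1 := by
      have : g ∈ (⊥ : Subgroup G) := by rw [← h]; exact Subgroup.mem_top g
      exact Subgroup.mem_bot.mp this
    haveI : Nonempty Ω := by
      rw [← Fintype.card_pos_iff]; omega
    obtain ⟨ω⟩ := ‹Nonempty Ω›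
    exact hg ω (by rw [hg1, one_smul])
  obtain ⟨N, hNn, hN, -, hmin⟩ := MINNORMAL (⊤ : Subgroup G) htop
  haveI := hNn
  have hder : ∀ g : G, (∀ ω : Ω, g • ω ≠ ω) → g ∈ N :=
    fun g hg => UNIQ.normalder hΩ hprim hone N hN g hg
  refine ⟨N, hNn, hN, hmin, ?_, hder, DER.normal_transitive N hN⟩
  intro L hLn hL hLmin
  haveI := hLn
  haveI : IsPretransitive L Ω := DER.normal_transitive L hL
  obtain ⟨x, hxL, hx⟩ := DER.exists_mem L hΩ
  have hxN : x ∈ N := hder x hx
  have hx1 : x ≠ 1 := by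
    intro h1
    haveI : Nonempty Ω := by
      rw [← Fintype.card_pos_iff]; omega
    obtain ⟨ω⟩ := ‹Nonempty Ω›
    exact hx ω (by rw [h1, one_smul])
  have hLN : L ⊓ N = L := by
    rcases hLmin (L ⊓ N) inferInstance inf_le_left with h | h
    · exfalso
      apply hx1
      have : x ∈ L ⊓ N := ⟨hxL, hxN⟩
      rw [h] at this
      exact Subgroup.mem_bot.mp this
    · exact h
  have hle : L ≤ N := by rw [← hLN]; exact inf_le_right
  rcases hmin L hLn hle with h | h
  · exact absurd h hL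
  · exact h

end

end Cfsg.Agent.S3501P
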