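import Mathlib
import Cfsg.Prelude.Def_Classical
import Cfsg.Agent.Helper28.S3589Defs
import Cfsg.Agent.Helper25.S5955TRANSPORT
import Cfsg.Agent.Helper1.S5973STD
import Cfsg.Agent.Helper28.Spin6

/-! S3589 piece OSUB (driver helper28): `O_8^-(q) ≤ Sp_8(q)` for `q` even, up to conjugacy: every
element order of `O_8^-(q)` is an element order of `Sp_8(q)`. -/

set_option autoImplicit false

namespace Cfsg.Agent.S3589P

open Module Polynomial
open Cfsg.Agent.S5973P
open scoped Classical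

namespace OSUB

theorem pow_transport {F V : Type*} [Field F] [AddCommGroup V] [Module F V] {ι : Type} [Fintype ι]
    [DecidableEq ι] (y : Module.End F V) (X : Matrix ι ι F) (e : V ≃ₗ[F] (ι → F))
    (h : ∀ v, e (y v) = Matrix.toLin' X (e v)) (j : ℕ) (v : V) :
    e ((y ^ j) v) = Matrix.toLin' (X ^ j) (e v) := by
  induction j generalizing v with
  | zero => simp
  | succ k ih =>
    rw [pow_succ, pow_succ, Module.End.mul_apply, ih, h, Matrix.toLin'_mul]
    rfl

theorem pow_eq_one_iff {F V : Type*} [Field F] [AddCommGroup V] [Module F V] {ι : Type} [Fintype ι]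
    [DecidableEq ι] (y : Module.End F V) (X : Matrix ι ι F) (e : V ≃ₗ[F] (ι → F))
    (h : ∀ v, e (y v) = Matrix.toLin' X (e v)) (j : ℕ) :
    X ^ j = 1 ↔ y ^ j = 1 := by
  constructor
  · intro hx
    apply LinearMap.ext
    intro v
    apply e.injective
    rw [pow_transport y X e h, hx]
    simp
  · intro hy
    apply Matrix.toLin'.injective
    apply LinearMap.ext
    intro w
    obtain ⟨v, rfl⟩ := e.surjective w
    rw [← pow_transport y X e h, hy]
    simp

end OSUB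

/-- OSUB -/
theorem exists_sp_orderOf {F : Type*} [Field F] [Fintype F] [CharP F 2] (a b : F)
    (han : ∀ z₁ z₂ : F, z₁ ^ 2 + a * z₁ * z₂ + b * z₂ ^ 2 = 0 → z₁ = 0 ∧ z₂ = 0)
    (g : ↥(Cfsg.isometryGroup F (Cfsg.quadFormMinus 3 F a b))) :
    ∃ A : Matrix.symplecticGroup (Fin 4) F, orderOf A = orderOf g := by
  set Q₀ := Cfsg.Agent.Helper28.Spin.QfMinus 3 F a b with hQ₀
  have hstd := std_minus (F := F) 3 a b han
  set G : Matrix ((Fin 3 ⊕ Fin 3) ⊕ Fin 2) ((Fin 3 ⊕ Fin 3) ⊕ Fin 2) F :=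
    ((g : GL ((Fin 3 ⊕ Fin 3) ⊕ Fin 2) F) :
      Matrix ((Fin 3 ⊕ Fin 3) ⊕ Fin 2) ((Fin 3 ⊕ Fin 3) ⊕ Fin 2) F) with hG
  have hgQ : ∀ v, Q₀ (Matrix.toLin' G v) = Q₀ v := by
    intro v
    have := g.2 v v
    exact this
  have hpowG : ∀ j : ℕ, G ^ j = 1 ↔ g ^ j = 1 := by
    intro j
    constructor
    · intro h
      apply Subtype.ext
      apply Units.ext
      rw [Subgroup.coe_pow, Units.val_pow_eq_pow_val]
      exact h
    · intro h
      have := congrArg (fun z : ↥(Cfsg.isometryGroup F (Cfsg.quadFormMinus 3 F a b)) =>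
        ((z : GL ((Fin 3 ⊕ Fin 3) ⊕ Fin 2) F) :
          Matrix ((Fin 3 ⊕ Fin 3) ⊕ Fin 2) ((Fin 3 ⊕ Fin 3) ⊕ Fin 2) F)) h
      simp only [Subgroup.coe_pow, Units.val_pow_eq_pow_val, Subgroup.coe_one, Units.val_one] at this
      exact this
  have h2 : (2 : F) = 0 := CharTwo.two_eq_zero
  have hYSp : Cfsg.Agent.S5955P.IsYSp (QuadraticMap.polarBilin Q₀) (Matrix.toLin' G) (orderOf g) := by
    refine ⟨?_, ?_, ?_, ?_⟩
    · intro v
      rw [QuadraticMap.polarBilin_apply_apply, QuadraticMap.polar_self]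
      rw [two_nsmul]
      exact CharTwo.add_self_eq_zero _
    · intro m _ hm
      by_contra hcon
      apply hm
      apply hstd.1.1
      intro w
      by_contra hw
      exact hcon ⟨w, trivial, hw⟩
    · intro u v
      rw [QuadraticMap.polarBilin_apply_apply, QuadraticMap.polarBilin_apply_apply]
      unfold QuadraticMap.polar
      rw [← map_add, hgQ, hgQ, hgQ]
    · rw [← Matrix.toLin'_pow, (hpowG _).2 (pow_orderOf_eq_one g), Matrix.toLin'_one]
      rfl
  have hfr : Module.finrank F ((Fin 3 ⊕ Fin 3) ⊕ Fin 2 → F) = 2 * 4 := by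
    rw [Module.finrank_fintype_fun_eq_card]
    simp
  obtain ⟨x, e, _, hxe⟩ := Cfsg.Agent.S5955P.exists_sp_of_ysp (QuadraticMap.polarBilin Q₀)
    (Matrix.toLin' G) (orderOf g) hYSp 4 hfr
  refine ⟨x, ?_⟩
  rw [orderOf_eq_orderOf_iff]
  intro j
  have h1 := OSUB.pow_eq_one_iff (Matrix.toLin' G) (x : Matrix (Fin 4 ⊕ Fin 4) (Fin 4 ⊕ Fin 4) F) e hxe j
  have h3 : x ^ j = 1 ↔ (x : Matrix (Fin 4 ⊕ Fin 4) (Fin 4 ⊕ Fin 4) F) ^ j = 1 := by
    rw [Subtype.ext_iff]
    rfl
  rw [h3, h1, ← Matrix.toLin'_pow, ← hpowG]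
  constructor
  · intro h
    apply Matrix.toLin'.injective
    rw [h, Matrix.toLin'_one]
    rfl
  · intro h
    rw [h, Matrix.toLin'_one]
    rfl

end Cfsg.Agent.S3589P
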