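import Mathlib
import Cfsg.Prelude.Def_Classical
import Cfsg.Agent.Helper28.S3589Defs
import Cfsg.Agent.Helper16.S5973TRANSPORTQ
import Cfsg.Agent.Helper1.S5973STD
import Cfsg.Agent.Helper28.Spin6

/-! S3589 piece REAL (driver helper28): a minus-type block of dimension 8 gives an element of
`O_8^-(q)` of that order. -/

set_option autoImplicit false

namespace Cfsg.Agent.S3589P

open Module Polynomial
open Cfsg.Agent.S5973P
open scoped Classical

namespace REAL

theorem pow_transport {F V : Type*} [Field F] [AddCommGroup V] [Module F V] {ι : Type} [Fintype ι]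
    [DecidableEq ι] (y : Module.End F V) (x : GL ι F) (e : V ≃ₗ[F] (ι → F))
    (h : ∀ v, e (y v) = Matrix.toLin' (x : Matrix ι ι F) (e v)) (j : ℕ) (v : V) :
    e ((y ^ j) v) = Matrix.toLin' ((x ^ j : GL ι F) : Matrix ι ι F) (e v) := by
  induction j generalizing v with
  | zero => simp
  | succ k ih =>
    rw [pow_succ, pow_succ, Module.End.mul_apply, ih, h, Units.val_mul, Matrix.toLin'_mul]
    rfl

theorem pow_eq_one_iff {F V : Type*} [Field F] [AddCommGroup V] [Module F V] {ι : Type} [Fintype ι]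
    [DecidableEq ι] (y : Module.End F V) (x : GL ι F) (e : V ≃ₗ[F] (ι → F))
    (h : ∀ v, e (y v) = Matrix.toLin' (x : Matrix ι ι F) (e v)) (j : ℕ) :
    x ^ j = 1 ↔ y ^ j = 1 := by
  constructor
  · intro hx
    apply LinearMap.ext
    intro v
    apply e.injective
    rw [pow_transport y x e h, hx]
    simp
  · intro hy
    apply Units.ext
    apply Matrix.toLin'.injective
    apply LinearMap.ext
    intro w
    obtain ⟨v, rfl⟩ := e.surjective w
    rw [← pow_transport y x e h, hy]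
    simp

end REAL

/-- REAL -/
theorem exists_orderOf_of_hasBlock {F : Type*} [Field F] [Fintype F] (a b : F)
    (han : ∀ z₁ z₂ : F, z₁ ^ 2 + a * z₁ * z₂ + b * z₂ ^ 2 = 0 → z₁ = 0 ∧ z₂ = 0) (M : ℕ)
    (H : HasBlock F 4 false M) :
    ∃ x : ↥(Cfsg.isometryGroup F (Cfsg.quadFormMinus 3 F a b)), orderOf x = M := by
  obtain ⟨Q, y, hND, hhyp, hiso, hord⟩ := H
  have hstd := std_minus (F := F) 3 a b han
  have hYO : IsYO Q y M := ⟨hND, hiso, (hord M).2 dvd_rfl⟩
  have hdim : finrank F (Fin (2 * 4) → F) = Fintype.card ((Fin 3 ⊕ Fin 3) ⊕ Fin 2) := by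
    rw [Module.finrank_fintype_fun_eq_card]
    simp
  have hev : Even (Fintype.card ((Fin 3 ⊕ Fin 3) ⊕ Fin 2)) := by
    simp only [Fintype.card_sum, Fintype.card_fin]
    decide
  have htype : IsHyp Q ↔ IsHyp (Cfsg.Agent.Helper28.Spin.QfMinus 3 F a b) := by
    constructor
    · intro h
      have := hhyp.1 h
      exact absurd this (by simp)
    · intro h
      exact absurd h hstd.2
  obtain ⟨x, e, hx, _, hxe, _⟩ := exists_matrix_of_isYO Q y M hYO
    (Cfsg.Agent.Helper28.Spin.QfMinus 3 F a b) hstd.1 hdim hev htype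
  have hiff : ∀ j : ℕ, x ^ j = 1 ↔ M ∣ j := fun j =>
    (REAL.pow_eq_one_iff y x e hxe j).trans (hord j)
  have hx' : x ∈ Cfsg.isometryGroup F (Cfsg.quadFormMinus 3 F a b) := hx
  refine ⟨⟨x, hx'⟩, ?_⟩
  rw [Subgroup.orderOf_mk]
  exact Nat.dvd_antisymm (orderOf_dvd_of_pow_eq_one ((hiff M).2 dvd_rfl))
    ((hiff _).1 (pow_orderOf_eq_one x))

end Cfsg.Agent.S3589P
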