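import Mathlib

/-!
# S3641: groups with trivial centre and Sylow numbers {18, 136, 153}.  Shared definitions.

Route: `G` acts on its 18 Sylow 17-subgroups; the image `H` is a transitive group of degree
`17 + 1` of order `18 * 17 * d`, `d ∣ 16` (S0732 on main identifies it as `PGL₂(17)` or `PSL₂(17)`);
the kernel is killed by Sylow-number bookkeeping and `Z(G) = 1`.
-/

set_option autoImplicit false

namespace Cfsg.Agent.S3641P

/-- `H` is a transitive permutation group of degree 18 and order `18 * 17 * d`, `d ∣ 16`, whose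
two-point stabilisers have order `d` and whose three-point stabilisers are trivial. -/
structure Z18 {Ω : Type*} [Fintype Ω] [DecidableEq Ω] (H : Subgroup (Equiv.Perm Ω)) (d : ℕ) :
    Prop where
  hΩ : Fintype.card Ω = 18
  htr : MulAction.IsPretransitive H Ω
  hcard : Nat.card H = 18 * 17 * d
  hd : d ∣ 16
  h2 : ∀ a b : Ω, a ≠ b → Nat.card {h : Equiv.Perm Ω // h ∈ H ∧ h a = a ∧ h b = b} = d
  h3 : ∀ h ∈ H, ∀ a b c : Ω, a ≠ b → a ≠ c → b ≠ c → h a = a → h b = b → h c = c → h = 1

end Cfsg.Agent.S3641P
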