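import Mathlib
import Cfsg.Agent.Helper27.S4150Defs
import Cfsg.Agent.Helper4.DegreeSeven

/-!
# S4150 piece SHARP3 (driver helper27)

No 3-transitive group of degree `p + 2` and order `(p + 2)(p + 1)p` unless `p + 1` is a prime power:
such a group is sharply 3-transitive, a point stabiliser is sharply 2-transitive of degree `p + 1`,
which is then a prime power (`Helper4.DegreeSeven.sharp2_card_prime_pow`).
-/

set_option autoImplicit false
set_option linter.unusedSectionVars false
set_option linter.unusedVariables false
set_option linter.style.haveILetI false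

namespace Cfsg.Agent.S4150P

open Equiv Equiv.Perm MulAction

section
variable {α : Type*} [Fintype α] [DecidableEq α]

/-- SHARP3 -/
theorem SHARP3.main (H : Subgroup (Perm α)) {p : ℕ} (hp : 1 ≤ p) (hα : Fintype.card α = p + 2)
    (h3 : IsMultiplyPretransitive H α 3) (hH : Nat.card H = (p + 2) * (p + 1) * p)
    (hpp : ¬ IsPrimePow (p + 1)) : False := by
  classical
  have hne : Nonempty α := Fintype.card_pos_iff.mp (by omega)
  obtain ⟨a⟩ := hne
  have hcardα : Nat.card α = p + 2 := by rw [Nat.card_eq_fintype_card, hα]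
  -- sharpness
  have hdesc : (p + 2).descFactorial 3 = (p + 2) * (p + 1) * p := by
    rw [Nat.descFactorial_succ, Nat.descFactorial_succ, Nat.descFactorial_succ,
      Nat.descFactorial_zero]
    have e1 : p + 2 - 2 = p := by omega
    have e2 : p + 2 - 1 = p + 1 := by omega
    have e3 : p + 2 - 0 = p + 2 := by omega
    rw [e1, e2, e3]
    ring
  have hpos : 0 < (p + 2) * (p + 1) * p := by positivity
  have hsharp : ∀ x3 : Fin 3 ↪ α, stabilizer H x3 = ⊥ := by
    intro x3
    have hidx := @index_stabilizer_of_transitive H (Fin 3 ↪ α) _ _ x3 h3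
    rw [Nat.card_eq_fintype_card (α := Fin 3 ↪ α), Fintype.card_embedding_eq,
      Fintype.card_fin, hα, hdesc] at hidx
    have hmul := Subgroup.card_mul_index (stabilizer H x3)
    rw [hidx, hH] at hmul
    have h1 : Nat.card (stabilizer H x3) = 1 := by
      have := Nat.eq_of_mul_eq_mul_right hpos (by rw [hmul, one_mul] :
        Nat.card (stabilizer H x3) * ((p + 2) * (p + 1) * p) = 1 * ((p + 2) * (p + 1) * p))
      exact this
    exact Subgroup.card_eq_one.mp h1
  have h1 : IsMultiplyPretransitive H α 1 :=
    isMultiplyPretransitive_of_le (n := 3) (by norm_num) (by rw [hcardα]; omega)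
  haveI hGt : IsPretransitive H α := is_one_pretransitive_iff.mp h1
  have h2' : IsMultiplyPretransitive (stabilizer H a) (SubMulAction.ofStabilizer H a) 2 :=
    SubMulAction.ofStabilizer.isMultiplyPretransitive.mp h3
  have hsharp' := Cfsg.Agent.Helper4.SharpStab.sharp_ofStabilizer (n := 2) hsharp a
  have hcard' : Nat.card (SubMulAction.ofStabilizer H a) = p + 1 := by
    rw [SubMulAction.nat_card_ofStabilizer_eq, Nat.card_eq_fintype_card, hα]
    omega
  haveI : Fintype (SubMulAction.ofStabilizer H a) := Fintype.ofFinite _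
  rw [Nat.card_eq_fintype_card] at hcard'
  obtain ⟨q, k, hq, hk⟩ := Cfsg.Agent.Helper4.DegreeSeven.sharp2_card_prime_pow h2'
    (fun g x y hxy hx hy => Cfsg.Agent.Helper4.eq_one_of_fix_two hsharp' g hxy hx hy)
    (by rw [hcard']; omega)
  rw [hcard'] at hk
  apply hpp
  rw [hk]
  have hk0 : k ≠ 0 := by
    rintro rfl
    rw [pow_zero] at hk
    omega
  exact hq.isPrimePow.pow hk0

end

end Cfsg.Agent.S4150P
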