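import Mathlib
import Cfsg.Prelude.Def_Transfer
import Cfsg.Agent.Helper4.S4404Defs
import Cfsg.Agent.Helper15.S4404CNT

/-! Board `s4404pieces`, row IIBCNT (`two_b_count`). -/

set_option autoImplicit false
set_option linter.unusedVariables false
set_option linter.unusedSectionVars false

namespace Cfsg.Agent.S4404P

open Subgroup
open scoped commutatorElement

variable {S : Type*} [Group S] [Finite S]

theorem IIBCNT_aux_card_pow (M : Subgroup S) (hM : Cfsg.IsElementaryAbelian 2 M) (C : Subgroup S) (hC : C ≤ M) :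
    ∃ n : ℕ, Nat.card ↥C = 2 ^ n := by
  have : Fact (Nat.Prime 2) := ⟨Nat.prime_two⟩
  have h2 : IsPGroup 2 ↥C := by
    intro g
    refine ⟨1, ?_⟩
    apply Subtype.ext
    have := hM.2 (g : S) (hC g.2)
    simpa using this
  exact IsPGroup.iff_card.mp h2

theorem IIBCNT_aux_arith (p n m : ℕ) (hp : p.Prime) (hp5 : 5 ≤ p) (hmn : m < n) (hn : n ≤ 4)
    (hmod : 2 ^ n ≡ 2 ^ m [MOD p]) :
    (p = 5 ∧ n = 4 ∧ m = 0) ∨ (p = 7 ∧ n = 3 ∧ m = 0) ∨ (p = 7 ∧ n = 4 ∧ m = 1) := by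
  have hle : 2 ^ m ≤ 2 ^ n := Nat.pow_le_pow_right (by norm_num) hmn.le
  have hdvd : p ∣ 2 ^ n - 2 ^ m := (Nat.modEq_iff_dvd' hle).mp hmod.symm
  have hpos : 0 < 2 ^ n - 2 ^ m := Nat.sub_pos_of_lt (Nat.pow_lt_pow_right (by norm_num) hmn)
  have hple : p ≤ 2 ^ n - 2 ^ m := Nat.le_of_dvd hpos hdvd
  interval_cases n <;> interval_cases m <;> norm_num at hple hdvd ⊢ <;> (try omega) <;>
    interval_cases p <;> first | omega | (exfalso; revert hp; norm_num) | simp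

/-- IIBCNT : counting. -/
theorem two_b_count (M : Subgroup S) [M.Normal] (hM : Cfsg.IsElementaryAbelian 2 M) (p : ℕ) [Fact p.Prime] (hp5 : 5 ≤ p)
    (Γ Y U : Subgroup S) (hΓ : Odd (Nat.card ↥Γ)) (hUM : U ≤ M) (hU16 : Nat.card ↥U ≤ 16)
    (hN : Γ ≤ normalizer (U : Set S)) (hfix : U ⊓ centralizer (Γ : Set S) = ⊥)
    (hYΓ : Y ≤ Γ) (hYn : Γ ≤ normalizer (Y : Set S)) (hY : IsPGroup p ↥Y) (hnt : ¬ Y ≤ centralizer (U : Set S)) :
    ((p = 5 ∧ Nat.card ↥U = 16) ∨ (p = 7 ∧ Nat.card ↥U = 8)) ∧ U ⊓ centralizer (Y : Set S) = ⊥ := by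
  obtain ⟨n, hn⟩ := IIBCNT_aux_card_pow M hM U hUM
  obtain ⟨m, hm⟩ := IIBCNT_aux_card_pow M hM (U ⊓ centralizer (Y : Set S)) (inf_le_left.trans hUM)
  have hCU : U ⊓ centralizer (Y : Set S) ≤ U := inf_le_left
  have hmn : m < n := by
    have h1 : Nat.card ↥(U ⊓ centralizer (Y : Set S)) ≤ Nat.card ↥U := Subgroup.card_le_of_le hCU
    rw [hn, hm] at h1
    have h2 : m ≤ n := (Nat.pow_le_pow_iff_right (by norm_num)).mp h1
    rcases h2.lt_or_eq with h | h
    · exact h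
    · exfalso
      apply hnt
      have h3 : U ⊓ centralizer (Y : Set S) = U := by
        apply Subgroup.eq_of_le_of_card_ge hCU
        rw [hn, hm, h]
      intro y hy
      rw [Subgroup.mem_centralizer_iff]
      intro u hu
      have hu' : u ∈ U ⊓ centralizer (Y : Set S) := by rw [h3]; exact hu
      exact ((Subgroup.mem_centralizer_iff.mp hu'.2) y hy).symm
  have hn4 : n ≤ 4 := by
    rw [hn] at hU16
    by_contra hcon
    push Not at hcon
    have : 2 ^ 5 ≤ 2 ^ n := Nat.pow_le_pow_right (by norm_num) hcon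
    omega
  have hmod := card_modEq_card_cent p Y U hY (hYΓ.trans hN)
  rw [hn, hm] at hmod
  rcases IIBCNT_aux_arith p n m (Fact.out) hp5 hmn hn4 hmod with ⟨rfl, rfl, rfl⟩ | ⟨rfl, rfl, rfl⟩ | ⟨rfl, rfl, rfl⟩
  · refine ⟨Or.inl ⟨rfl, by rw [hn]; norm_num⟩, ?_⟩
    exact Subgroup.eq_bot_of_card_eq _ (by rw [hm]; norm_num)
  · refine ⟨Or.inr ⟨rfl, by rw [hn]; norm_num⟩, ?_⟩
    exact Subgroup.eq_bot_of_card_eq _ (by rw [hm]; norm_num)
  · exfalso
    -- `C_U(Y)` has order 2 and is `Γ`-invariant, so it is centralised by `Γ`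
    have h2 : Nat.card ↥(U ⊓ centralizer (Y : Set S)) = 2 := by rw [hm]; norm_num
    obtain ⟨c, hc1, hcu⟩ := (Nat.card_eq_two_iff' (1 : ↥(U ⊓ centralizer (Y : Set S)))).mp h2
    have hcΓ : (c : S) ∈ U ⊓ centralizer (Γ : Set S) := by
      refine Subgroup.mem_inf.mpr ⟨c.2.1, ?_⟩
      rw [Subgroup.mem_centralizer_iff]
      intro γ hγ
      have hmem : γ * (c : S) * γ⁻¹ ∈ U ⊓ centralizer (Y : Set S) := by
        refine Subgroup.mem_inf.mpr ⟨(Subgroup.mem_normalizer_iff.mp (hN hγ) _).mp c.2.1, ?_⟩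
        rw [Subgroup.mem_centralizer_iff]
        intro y hy
        have hy' : γ⁻¹ * y * γ ∈ Y := by
          have := (Subgroup.mem_normalizer_iff.mp (Subgroup.inv_mem _ (hYn hγ)) y).mp hy
          simpa using this
        have h3 := (Subgroup.mem_centralizer_iff.mp c.2.2) _ hy'
        calc y * (γ * (c : S) * γ⁻¹) = γ * ((γ⁻¹ * y * γ) * (c : S)) * γ⁻¹ := by group
          _ = γ * ((c : S) * (γ⁻¹ * y * γ)) * γ⁻¹ := by rw [h3]
          _ = γ * (c : S) * γ⁻¹ * y := by group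
      have hne : (⟨γ * (c : S) * γ⁻¹, hmem⟩ : ↥(U ⊓ centralizer (Y : Set S))) ≠ 1 := by
        intro h
        apply hc1
        apply Subtype.ext
        have h4 : γ * (c : S) * γ⁻¹ = 1 := congrArg Subtype.val h
        have : (c : S) = γ⁻¹ * (γ * (c : S) * γ⁻¹) * γ := by group
        rw [this, h4]; simp
      have h5 := hcu _ hne
      have h6 : γ * (c : S) * γ⁻¹ = (c : S) := congrArg Subtype.val h5
      calc γ * (c : S) = (γ * (c : S) * γ⁻¹) * γ := by group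
        _ = (c : S) * γ := by rw [h6]
    rw [hfix, Subgroup.mem_bot] at hcΓ
    exact hc1 (Subtype.ext hcΓ)

end Cfsg.Agent.S4404P
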