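import Mathlib
import Cfsg.Agent.Helper9.S4415Defs
import Cfsg.Agent.Lead.Coprime3

/-! Board `s4415pieces`, row D1A : `exists_min_two_gen`. -/

set_option autoImplicit false
set_option linter.unusedVariables false
set_option linter.unusedSectionVars false

namespace Cfsg.Agent.S4415P

open Subgroup
open scoped commutatorElement

variable {S : Type*} [Group S] [Finite S] {E : Type*} [AddCommGroup E] [Module (ZMod 3) E] [Finite E]

/-- if `b³ = 1`, `y` lies in a `b`-invariant group `T₀` of order prime to `3` and `b` commutes with `b⁻¹ y⁻¹ b y`,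
then `b` commutes with `y`. -/
theorem D1A_aux_comm {b y : S} (T₀ : Subgroup S) (hb3 : b ^ 3 = 1) (hc : (Nat.card ↥T₀).Coprime 3)
    (hy : y ∈ T₀) (hby : b⁻¹ * y * b ∈ T₀) (h : Commute b (b⁻¹ * y⁻¹ * b * y)) : Commute b y := by
  set d := y⁻¹ * (b⁻¹ * y * b) with hd
  have hdT : d ∈ T₀ := T₀.mul_mem (T₀.inv_mem hy) hby
  have hbd : Commute b d := by
    have : d = (b⁻¹ * y⁻¹ * b * y)⁻¹ := by rw [hd]; group
    rw [this]; exact h.inv_right
  have h1 : b⁻¹ * y * b = y * d := by rw [hd]; group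
  have e1 : b⁻¹ * d * b = d := by
    rw [mul_assoc, ← hbd.eq, ← mul_assoc, inv_mul_cancel, one_mul]
  have hb3' : b * b * b = 1 := by rw [← hb3, pow_succ, pow_two]
  have hbi : b⁻¹ * b⁻¹ * b⁻¹ = 1 := by
    rw [← mul_inv_rev, ← mul_inv_rev, ← mul_assoc, hb3', inv_one]
  have e2 : b⁻¹ * (b⁻¹ * (b⁻¹ * y * b) * b) * b = y := by
    have : b⁻¹ * (b⁻¹ * (b⁻¹ * y * b) * b) * b = (b⁻¹ * b⁻¹ * b⁻¹) * y * (b * b * b) := by
      simp only [mul_assoc]
    rw [this, hbi, hb3', one_mul, mul_one]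
  have e3 : b⁻¹ * (b⁻¹ * (b⁻¹ * y * b) * b) * b = y * d ^ 3 := by
    rw [h1]
    have t1 : b⁻¹ * (y * d) * b = (b⁻¹ * y * b) * (b⁻¹ * d * b) := by group
    rw [t1, h1, e1]
    have t2 : b⁻¹ * (y * d * d) * b = (b⁻¹ * y * b) * (b⁻¹ * d * b) * (b⁻¹ * d * b) := by group
    rw [t2, h1, e1, pow_succ, pow_two]; simp only [mul_assoc]
  have hd3 : d ^ 3 = 1 := by
    have : y * d ^ 3 = y * 1 := by rw [← e3, e2, mul_one]
    exact mul_left_cancel this
  have hdc : d ^ Nat.card ↥T₀ = 1 := by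
    have := pow_card_eq_one' (G := ↥T₀) (x := ⟨d, hdT⟩)
    have h2 := congrArg Subtype.val this
    rw [Subgroup.coe_pow] at h2
    exact h2
  have hd1 : d = 1 := by
    have := (pow_gcd_eq_one (a := d)).mpr ⟨hdc, hd3⟩
    rw [Nat.Coprime] at hc
    rwa [hc, pow_one] at this
  have : b⁻¹ * y * b = y := by rw [h1, hd1, mul_one]
  have h4 : y * b = b * y := by
    calc y * b = b * (b⁻¹ * y * b) := by group
      _ = b * y := by rw [this]
  exact h4.symm

/-- `g` normalising `H` and `K` normalises `H ⊓ K`. -/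
theorem D1A_aux_norm_inf {H K : Subgroup S} {g : S} (hH : g ∈ normalizer (H : Set S))
    (hK : g ∈ normalizer (K : Set S)) : g ∈ normalizer ((H ⊓ K : Subgroup S) : Set S) := by
  rw [mem_normalizer_iff] at hH hK ⊢
  intro x
  rw [mem_inf, mem_inf, hH x, hK x]

/-- D1A : a `B`-invariant subgroup `T` of order prime to `3`, not centralised by `B = ⟨b⟩`, contains a `B`-invariant
`T₀ = [T₀,B] ≠ 1` with `T₀ ≤ ⟨b, y⁻¹ b y⟩` for some `y ∈ T₀`. -/
theorem exists_min_two_gen (b : S) (B : Subgroup S) (hb : zpowers b = B) (hB : Nat.card ↥B = 3) (T : Subgroup S)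
    (hc : (Nat.card ↥T).Coprime 3) (hN : B ≤ normalizer (T : Set S)) (hC : ¬ B ≤ centralizer (T : Set S)) :
    ∃ T₀ : Subgroup S, T₀ ≤ T ∧ T₀ ≠ ⊥ ∧ B ≤ normalizer (T₀ : Set S) ∧ ⁅T₀, B⁆ = T₀ ∧
      ∃ y ∈ T₀, T₀ ≤ closure ({b, y⁻¹ * b * y} : Set S) := by
  have hbB : b ∈ B := hb ▸ mem_zpowers b
  have hb3 : b ^ 3 = 1 := by
    have : orderOf b = 3 := by rw [← Nat.card_zpowers, hb, hB]
    rw [← this]; exact pow_orderOf_eq_one b
  have hcent : ∀ X : Subgroup S, (∀ y ∈ X, Commute b y) → B ≤ centralizer (X : Set S) := by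
    intro X hX
    rw [← hb, zpowers_le, mem_centralizer_iff]
    intro y hy
    exact ((hX y hy).eq).symm
  obtain ⟨T₀, ⟨hT₀T, hT₀N, hT₀C⟩, hmin'⟩ := exists_minimal_of_wellFoundedLT
    (fun X : Subgroup S => X ≤ T ∧ B ≤ normalizer (X : Set S) ∧ ¬ B ≤ centralizer (X : Set S))
    ⟨T, le_rfl, hN, hC⟩
  have hcop₀ : (Nat.card ↥T₀).Coprime 3 :=
    Nat.Coprime.coprime_dvd_left (Subgroup.card_dvd_of_le hT₀T) hc
  have hconj : ∀ y ∈ T₀, b⁻¹ * y * b ∈ T₀ := by
    intro y hy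
    have := (mem_normalizer_iff.mp (hT₀N (B.inv_mem hbB)) y).mp hy
    simpa using this
  have hcy : ∀ y ∈ T₀, b⁻¹ * y⁻¹ * b * y ∈ T₀ := by
    intro y hy
    have := T₀.mul_mem (hconj y⁻¹ (T₀.inv_mem hy)) hy
    exact this
  have hkey : ∀ y ∈ T₀, ∀ X : Subgroup S, X ≤ T₀ → B ≤ normalizer (X : Set S) →
      b⁻¹ * y⁻¹ * b * y ∈ X → X ≠ T₀ → Commute b y := by
    intro y hy X hX hXN hXc hne
    have hXC : B ≤ centralizer (X : Set S) := by
      by_contra hXC
      exact hne (le_antisymm hX (hmin' ⟨hX.trans hT₀T, hXN, hXC⟩ hX))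
    apply D1A_aux_comm T₀ hb3 hcop₀ hy (hconj y hy)
    have := hXC hbB
    rw [mem_centralizer_iff] at this
    exact (this _ hXc).symm
  refine ⟨T₀, hT₀T, ?_, hT₀N, ?_, ?_⟩
  · rintro rfl
    apply hT₀C
    intro x hx
    rw [mem_centralizer_iff]
    intro y hy
    rw [coe_bot, Set.mem_singleton_iff] at hy
    subst hy; simp
  · by_contra hne
    apply hT₀C
    apply hcent
    intro y hy
    refine hkey y hy ⁅T₀, B⁆ (Cfsg.Agent.Lead.commutator_le_of_le_normalizer hT₀N)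
      (Cfsg.Agent.Lead.le_normalizer_commutator_right T₀ B) ?_ hne
    have h1 : ⁅b⁻¹, y⁻¹⁆ ∈ ⁅B, T₀⁆ := commutator_mem_commutator (B.inv_mem hbB) (T₀.inv_mem hy)
    rw [commutator_comm] at h1
    have h2 : ⁅b⁻¹, y⁻¹⁆ = b⁻¹ * y⁻¹ * b * y := by
      rw [commutatorElement_def]; group
    rwa [h2] at h1
  · by_contra hno
    push Not at hno
    apply hT₀C
    apply hcent
    intro y hy
    refine hkey y hy (closure ({b, y⁻¹ * b * y} : Set S) ⊓ T₀) inf_le_right ?_ ?_ ?_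
    · rw [← hb, zpowers_le]
      apply D1A_aux_norm_inf
      · exact le_normalizer (subset_closure (by simp))
      · exact hT₀N hbB
    · refine mem_inf.mpr ⟨?_, hcy y hy⟩
      have hb' : b ∈ closure ({b, y⁻¹ * b * y} : Set S) := subset_closure (by simp)
      have hy' : y⁻¹ * b * y ∈ closure ({b, y⁻¹ * b * y} : Set S) := subset_closure (by simp)
      have := mul_mem (inv_mem hb') hy'
      have e : b⁻¹ * (y⁻¹ * b * y) = b⁻¹ * y⁻¹ * b * y := by group
      rwa [e] at this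
    · intro heq
      apply hno y hy
      rw [← heq]
      exact inf_le_left

end Cfsg.Agent.S4415P
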