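import Mathlib
import Cfsg.Agent.Helper9.S4415Defs
import Cfsg.Agent.Helper20.S4409STEP0

/-! Board `s4415pieces`, row TV2 : `tv_index`. -/

set_option autoImplicit false
set_option linter.unusedVariables false
set_option linter.unusedSectionVars false

namespace Cfsg.Agent.S4415P

open Subgroup
open scoped commutatorElement
open Cfsg.Agent.S4409P (Zc Fr Der IsV4 IsQ8 SpecialInt IsAb)

variable {S : Type*} [Group S] [Finite S] {E : Type*} [AddCommGroup E] [Module (ZMod 3) E] [Finite E]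

/-- generators of a group of order `8` over a subgroup of order `2`. -/
theorem TV2_aux_gen (Z A : Subgroup S) (hZA : Z ≤ A) (hZ : Nat.card ↥Z = 2) (hA : Nat.card ↥A = 8) :
    ∃ t₁ ∈ A, ∃ t₂ ∈ A, A = Z ⊔ zpowers t₁ ⊔ zpowers t₂ := by
  have hZne : Z ≠ A := by rintro rfl; omega
  obtain ⟨t₁, ht₁A, ht₁Z⟩ := SetLike.exists_of_lt (lt_of_le_of_ne hZA hZne)
  have hX₁A : Z ⊔ zpowers t₁ ≤ A := sup_le hZA (zpowers_le.mpr ht₁A)
  by_cases hX : Z ⊔ zpowers t₁ = A
  · exact ⟨t₁, ht₁A, t₁, ht₁A, by rw [sup_assoc, sup_idem]; exact hX.symm⟩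
  · obtain ⟨t₂, ht₂A, ht₂X⟩ := SetLike.exists_of_lt (lt_of_le_of_ne hX₁A hX)
    refine ⟨t₁, ht₁A, t₂, ht₂A, ?_⟩
    have hX₂A : Z ⊔ zpowers t₁ ⊔ zpowers t₂ ≤ A := sup_le hX₁A (zpowers_le.mpr ht₂A)
    have h1 : Nat.card ↥Z ∣ Nat.card ↥(Z ⊔ zpowers t₁ : Subgroup S) := card_dvd_of_le le_sup_left
    have h2 : Nat.card ↥(Z ⊔ zpowers t₁ : Subgroup S) ∣
        Nat.card ↥(Z ⊔ zpowers t₁ ⊔ zpowers t₂ : Subgroup S) := card_dvd_of_le le_sup_left
    have h3 : Nat.card ↥(Z ⊔ zpowers t₁ ⊔ zpowers t₂ : Subgroup S) ∣ Nat.card ↥A := card_dvd_of_le hX₂A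
    have hpos : 0 < Nat.card ↥(Z ⊔ zpowers t₁ ⊔ zpowers t₂ : Subgroup S) := Nat.card_pos
    have hn1 : Nat.card ↥(Z ⊔ zpowers t₁ : Subgroup S) ≠ Nat.card ↥Z := by
      intro h
      have : Z = Z ⊔ zpowers t₁ := eq_of_le_of_card_ge le_sup_left h.le
      apply ht₁Z
      rw [this]
      exact (le_sup_right : zpowers t₁ ≤ Z ⊔ zpowers t₁) (mem_zpowers t₁)
    have hn2 : Nat.card ↥(Z ⊔ zpowers t₁ ⊔ zpowers t₂ : Subgroup S) ≠
        Nat.card ↥(Z ⊔ zpowers t₁ : Subgroup S) := by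
      intro h
      have : Z ⊔ zpowers t₁ = Z ⊔ zpowers t₁ ⊔ zpowers t₂ := eq_of_le_of_card_ge le_sup_left h.le
      apply ht₂X
      rw [this]
      exact (le_sup_right : zpowers t₂ ≤ Z ⊔ zpowers t₁ ⊔ zpowers t₂) (mem_zpowers t₂)
    have hge : Nat.card ↥A ≤ Nat.card ↥(Z ⊔ zpowers t₁ ⊔ zpowers t₂ : Subgroup S) := by
      rw [hZ] at h1 hn1
      rw [hA] at h3 ⊢
      obtain ⟨k, hk⟩ := h1
      obtain ⟨m, hm⟩ := h2
      rw [hm] at hn2 hpos ⊢
      rw [hk] at hn2 hpos ⊢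
      have hk2 : 2 ≤ k := by
        rcases k with _ | _ | k
        · simp at hpos
        · exact absurd hk (by simpa using hn1)
        · omega
      have hm2 : 2 ≤ m := by
        rcases m with _ | _ | m
        · simp at hpos
        · simp at hn2
        · omega
      nlinarith
    exact (eq_of_le_of_card_ge hX₂A hge).symm

/-- the normaliser of `A` normalises the centraliser of `A`. -/
theorem TV2_aux_norm_cent {A : Subgroup S} {g : S} (hg : g ∈ normalizer (A : Set S)) :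
    g ∈ normalizer ((centralizer (A : Set S) : Subgroup S) : Set S) := by
  have key : ∀ g ∈ normalizer (A : Set S), ∀ x ∈ centralizer (A : Set S),
      g * x * g⁻¹ ∈ centralizer (A : Set S) := by
    intro g hg x hx
    rw [mem_centralizer_iff] at hx ⊢
    intro a ha
    have ha' : g⁻¹ * a * g ∈ A := by
      have := (mem_normalizer_iff.mp ((normalizer (A : Set S)).inv_mem hg) a).mp ha
      simpa using this
    have h1 := hx _ ha'
    calc a * (g * x * g⁻¹) = g * ((g⁻¹ * a * g) * x) * g⁻¹ := by group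
      _ = g * (x * (g⁻¹ * a * g)) * g⁻¹ := by rw [h1]
      _ = g * x * g⁻¹ * a := by group
  rw [mem_normalizer_iff]
  intro x
  constructor
  · exact key g hg x
  · intro hx
    have := key g⁻¹ ((normalizer (A : Set S)).inv_mem hg) _ hx
    have e : g⁻¹ * (g * x * g⁻¹) * g⁻¹⁻¹ = x := by group
    rwa [e] at this

theorem TV2_aux_norm_inf {H K : Subgroup S} {g : S} (hH : g ∈ normalizer (H : Set S))
    (hK : g ∈ normalizer (K : Set S)) : g ∈ normalizer ((H ⊓ K : Subgroup S) : Set S) := by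
  rw [mem_normalizer_iff] at hH hK ⊢
  intro x
  rw [mem_inf, mem_inf, hH x, hK x]

/-- the commutator map `r ↦ t⁻¹ r⁻¹ t r` is a homomorphism `R → Z(R)` for `t ∈ A`, `[A,R] ≤ Z(R)`. -/
noncomputable def TV2_aux_hom (R A : Subgroup S) (hAR : A ≤ R) (hc : ⁅A, R⁆ ≤ Zc R) (t : S) (ht : t ∈ A) :
    ↥R →* ↥(Zc R) :=
  MonoidHom.mk' (fun r => ⟨t⁻¹ * (r : S)⁻¹ * t * (r : S), by
    have h1 : ⁅t⁻¹, (r : S)⁻¹⁆ ∈ ⁅A, R⁆ := commutator_mem_commutator (A.inv_mem ht) (R.inv_mem r.2)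
    have h2 : ⁅t⁻¹, (r : S)⁻¹⁆ = t⁻¹ * (r : S)⁻¹ * t * (r : S) := by
      rw [commutatorElement_def]; group
    rw [h2] at h1
    exact hc h1⟩) (by
    intro r s
    apply Subtype.ext
    have hw : t⁻¹ * (r : S)⁻¹ * t * (r : S) ∈ Zc R := by
      have h1 : ⁅t⁻¹, (r : S)⁻¹⁆ ∈ ⁅A, R⁆ := commutator_mem_commutator (A.inv_mem ht) (R.inv_mem r.2)
      have h2 : ⁅t⁻¹, (r : S)⁻¹⁆ = t⁻¹ * (r : S)⁻¹ * t * (r : S) := by
        rw [commutatorElement_def]; group
      rw [h2] at h1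
      exact hc h1
    obtain ⟨_, hwc⟩ := Cfsg.Agent.S4409P.mem_Zc.mp hw
    have hs := hwc (s : S) s.2
    have hts : t⁻¹ * (s : S)⁻¹ * t * (s : S) ∈ R :=
      R.mul_mem (R.mul_mem (R.mul_mem (R.inv_mem (hAR ht)) (R.inv_mem s.2)) (hAR ht)) s.2
    have hts' := hwc _ hts
    change t⁻¹ * ((r : S) * (s : S))⁻¹ * t * ((r : S) * (s : S)) =
      (t⁻¹ * (r : S)⁻¹ * t * (r : S)) * (t⁻¹ * (s : S)⁻¹ * t * (s : S))
    calc t⁻¹ * ((r : S) * (s : S))⁻¹ * t * ((r : S) * (s : S))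
        = t⁻¹ * (s : S)⁻¹ * t * ((t⁻¹ * (r : S)⁻¹ * t * (r : S)) * (s : S)) := by group
      _ = t⁻¹ * (s : S)⁻¹ * t * ((s : S) * (t⁻¹ * (r : S)⁻¹ * t * (r : S))) := by rw [hs]
      _ = (t⁻¹ * (s : S)⁻¹ * t * (s : S)) * (t⁻¹ * (r : S)⁻¹ * t * (r : S)) := by group
      _ = (t⁻¹ * (r : S)⁻¹ * t * (r : S)) * (t⁻¹ * (s : S)⁻¹ * t * (s : S)) := hts')

theorem TV2_aux_hom_apply (R A : Subgroup S) (hAR : A ≤ R) (hc : ⁅A, R⁆ ≤ Zc R) (t : S) (ht : t ∈ A) (r : ↥R) :
    ((TV2_aux_hom R A hAR hc t ht r : ↥(Zc R)) : S) = t⁻¹ * (r : S)⁻¹ * t * (r : S) := rfl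

theorem TV2_aux_hom_eq_one (R A : Subgroup S) (hAR : A ≤ R) (hc : ⁅A, R⁆ ≤ Zc R) (t : S) (ht : t ∈ A) (r : ↥R) :
    TV2_aux_hom R A hAR hc t ht r = 1 ↔ t * (r : S) = (r : S) * t := by
  rw [← Subtype.coe_inj, TV2_aux_hom_apply]
  change t⁻¹ * (r : S)⁻¹ * t * (r : S) = 1 ↔ _
  constructor
  · intro h
    calc t * (r : S) = (r : S) * t * (t⁻¹ * (r : S)⁻¹ * t * (r : S)) := by group
      _ = (r : S) * t := by rw [h, mul_one]
  · intro h
    calc t⁻¹ * (r : S)⁻¹ * t * (r : S) = t⁻¹ * (r : S)⁻¹ * (t * (r : S)) := by group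
      _ = 1 := by rw [h]; group

/-- TV2 : `|R : C_R(A)| = 4`, and every `t ∈ A ∖ Z(R)` is conjugate in `R` to `t z`. -/
theorem tv_index (B R A : Subgroup S) (hB : Nat.card ↥B = 3) (hR : YC B R) (hZ : Nat.card ↥(Zc R) = 2)
    (hA : InA B R A) (hea : ∀ x ∈ A, x * x = 1) :
    Nat.card ↥R = 4 * Nat.card ↥(R ⊓ centralizer (A : Set S) : Subgroup S) ∧
      ∀ t ∈ A, t ∉ Zc R → ∃ r ∈ R, ∃ z ∈ Zc R, z ≠ 1 ∧ r⁻¹ * t * r = t * z := by
  constructor
  · obtain ⟨t₁, ht₁, t₂, ht₂, hgen⟩ := TV2_aux_gen (Zc R) A hA.zle hZ hA.card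
    set F : ↥R →* ↥(Zc R) × ↥(Zc R) :=
      (TV2_aux_hom R A hA.le hA.comm t₁ ht₁).prod (TV2_aux_hom R A hA.le hA.comm t₂ ht₂) with hF
    have hker : F.ker = (R ⊓ centralizer (A : Set S) : Subgroup S).subgroupOf R := by
      ext r
      rw [MonoidHom.mem_ker, hF, MonoidHom.prod_apply, Prod.mk_eq_one, TV2_aux_hom_eq_one,
        TV2_aux_hom_eq_one, mem_subgroupOf, mem_inf]
      constructor
      · rintro ⟨h1, h2⟩
        refine ⟨r.2, ?_⟩
        have hle : A ≤ centralizer ({(r : S)} : Set S) := by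
          rw [hgen]
          refine sup_le (sup_le ?_ ?_) ?_
          · intro z hz
            rw [mem_centralizer_iff]
            intro h hh
            rw [Set.mem_singleton_iff] at hh
            subst hh
            exact (Cfsg.Agent.S4409P.mem_Zc.mp hz).2 _ r.2
          · rw [zpowers_le, mem_centralizer_iff]
            intro h hh
            rw [Set.mem_singleton_iff] at hh
            subst hh
            exact h1.symm
          · rw [zpowers_le, mem_centralizer_iff]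
            intro h hh
            rw [Set.mem_singleton_iff] at hh
            subst hh
            exact h2.symm
        rw [mem_centralizer_iff]
        intro a ha
        have := hle ha
        rw [mem_centralizer_iff] at this
        exact (this _ rfl).symm
      · rintro ⟨_, h⟩
        rw [mem_centralizer_iff] at h
        exact ⟨h _ ht₁, h _ ht₂⟩
    have hidx : (R ⊓ centralizer (A : Set S) : Subgroup S).relIndex R ∣ 4 := by
      rw [relIndex, ← hker, index_ker]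
      have h1 : Nat.card ↥F.range ∣ Nat.card (↥(Zc R) × ↥(Zc R)) := card_subgroup_dvd_card _
      rwa [Nat.card_prod, hZ] at h1
    have hcard : (R ⊓ centralizer (A : Set S) : Subgroup S).relIndex R *
        Nat.card ↥(R ⊓ centralizer (A : Set S) : Subgroup S) = Nat.card ↥R := by
      rw [relIndex, mul_comm]
      have e : Nat.card ↥((R ⊓ centralizer (A : Set S) : Subgroup S).subgroupOf R) =
          Nat.card ↥(R ⊓ centralizer (A : Set S) : Subgroup S) :=
        Nat.card_congr (subgroupOfEquivOfLe inf_le_left).toEquiv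
      rw [← e]
      exact card_mul_index _
    have hne1 : (R ⊓ centralizer (A : Set S) : Subgroup S).relIndex R ≠ 1 := by
      intro h1
      rw [relIndex_eq_one] at h1
      have hAZ : A ≤ Zc R := by
        intro a ha
        rw [Cfsg.Agent.S4409P.mem_Zc]
        refine ⟨hA.le ha, ?_⟩
        intro y hy
        have := (mem_inf.mp (h1 hy)).2
        rw [mem_centralizer_iff] at this
        exact (this a ha).symm
      have := Nat.le_of_dvd (by omega) (card_dvd_of_le hAZ)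
      rw [hA.card, hZ] at this
      omega
    have hne2 : (R ⊓ centralizer (A : Set S) : Subgroup S).relIndex R ≠ 2 := by
      intro h2
      refine Cfsg.Agent.S4409P.no_inv_index_two R B hR.norm hR.comm _ inf_le_left ?_ h2
      intro x hx
      exact TV2_aux_norm_inf (hR.norm hx) (TV2_aux_norm_cent (hA.norm hx))
    have h4 : (R ⊓ centralizer (A : Set S) : Subgroup S).relIndex R = 4 := by
      have hle := Nat.le_of_dvd (by norm_num) hidx
      have hpos : (R ⊓ centralizer (A : Set S) : Subgroup S).relIndex R ≠ 0 := by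
        intro h0; rw [h0] at hidx; simp at hidx
      have h3 : (R ⊓ centralizer (A : Set S) : Subgroup S).relIndex R ≠ 3 := by
        intro h3; rw [h3] at hidx; norm_num at hidx
      omega
    rw [← hcard, h4]
  · intro t ht htZ
    have htR : t ∈ R := hA.le ht
    have hex : ∃ r ∈ R, r * t ≠ t * r := by
      by_contra hno
      push Not at hno
      exact htZ (Cfsg.Agent.S4409P.mem_Zc.mpr ⟨htR, hno⟩)
    obtain ⟨r, hr, hrt⟩ := hex
    refine ⟨r, hr, t⁻¹ * r⁻¹ * t * r, ?_, ?_, by group⟩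
    · have h1 : ⁅t⁻¹, r⁻¹⁆ ∈ ⁅A, R⁆ := commutator_mem_commutator (A.inv_mem ht) (R.inv_mem hr)
      have h2 : ⁅t⁻¹, r⁻¹⁆ = t⁻¹ * r⁻¹ * t * r := by
        rw [commutatorElement_def]; group
      rw [h2] at h1
      exact hA.comm h1
    · intro h
      apply hrt
      calc r * t = r * t * (t⁻¹ * r⁻¹ * t * r) := by rw [h, mul_one]
        _ = t * r := by group

end Cfsg.Agent.S4415P
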