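import Mathlib
import Cfsg.Agent.Helper9.S4415Defs
import Cfsg.Agent.Helper11.S4409Q1
import Cfsg.Agent.Helper16.S4415TV2
import Cfsg.Agent.Helper25.S4415E2

/-! Board `s4415pieces`, row E4 : `exists_A2`. -/

set_option autoImplicit false
set_option linter.unusedVariables false
set_option linter.unusedSectionVars false

namespace Cfsg.Agent.S4415P

open Subgroup
open scoped commutatorElement
open Cfsg.Agent.S4409P (Zc Fr Der IsV4 IsQ8 SpecialInt IsAb)

variable {S : Type*} [Group S] [Finite S] {E : Type*} [AddCommGroup E] [Module (ZMod 3) E] [Finite E]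

/-- a subgroup of order `4` is not contained in a set of two elements. -/
theorem E4_aux_exists_not_mem (Y : Subgroup S) (h4 : Nat.card ↥Y = 4) (a b : S) :
    ∃ x ∈ Y, x ≠ a ∧ x ≠ b := by
  classical
  by_contra hcon
  push Not at hcon
  have hsub : (Y : Set S) ⊆ ({a, b} : Finset S) := by
    intro x hx
    have hxY : x ∈ Y := hx
    simp only [Finset.coe_insert, Finset.coe_singleton, Set.mem_insert_iff, Set.mem_singleton_iff]
    by_cases h1 : x = a
    · exact Or.inl h1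
    · exact Or.inr (hcon x hxY h1)
  have h1 : Nat.card ↥Y ≤ ({a, b} : Finset S).card := by
    have := Set.ncard_le_ncard hsub (Finset.finite_toSet _)
    rw [Set.ncard_coe_finset] at this
    calc Nat.card ↥Y = (Y : Set S).ncard := (Nat.card_coe_set_eq (Y : Set S))
      _ ≤ _ := this
  have h2 : ({a, b} : Finset S).card ≤ 2 := Finset.card_le_two
  omega

/-- `R = C_R(A) A` for a quaternion member `A` of `𝒜(R)`. -/
theorem E4_aux_factor (B R A : Subgroup S) (hA : InA B R A) (hAQ : IsQ8 A) :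
    ∀ x ∈ R, ∃ y0 ∈ A, x * y0⁻¹ ∈ (R ⊓ centralizer (A : Set S) : Subgroup S) := by
  intro x hx
  have hZZ : Zc R ≤ Zc A := by
    intro z hz
    obtain ⟨hzR, hzc⟩ := Cfsg.Agent.S4409P.mem_Zc.mp hz
    exact Cfsg.Agent.S4409P.mem_Zc.mpr ⟨hA.zle hz, fun y hy => hzc y (hA.le hy)⟩
  have hcomm : ∀ y ∈ A, ∀ r ∈ R, ⁅y, r⁆ ∈ Zc R := fun y hy r hr =>
    hA.comm (commutator_mem_commutator hy hr)
  have hconj : ∀ r ∈ R, ∀ a ∈ A, r * a * r⁻¹ ∈ A := by
    intro r hr a ha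
    have h1 := hcomm a ha r hr
    have e : r * a * r⁻¹ = ⁅a, r⁆⁻¹ * a := by rw [commutatorElement_def]; group
    rw [e]
    exact A.mul_mem (A.inv_mem (hA.zle h1)) ha
  have hxN : x ∈ normalizer (A : Set S) := by
    rw [mem_normalizer_iff]
    intro a
    constructor
    · exact hconj x hx a
    · intro h
      have := hconj x⁻¹ (R.inv_mem hx) _ h
      have e : x⁻¹ * (x * a * x⁻¹) * x⁻¹⁻¹ = a := by group
      rwa [e] at this
  obtain ⟨y0, hy0, hc⟩ := Cfsg.Agent.S4409P.q8_inn A hAQ x hxN (fun y hy => hZZ (hcomm y hy x hx))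
  exact ⟨y0, hy0, mem_inf.mpr ⟨R.mul_mem hx (R.inv_mem (hA.le hy0)), hc⟩⟩

/-- E4 : if `A ∈ 𝒜(R)` is quaternion there is `A₂ ∈ 𝒜(R)` centralising `A`. -/
theorem exists_A2 (b : S) (B R A Q : Subgroup S) (hb : zpowers b = B) (hB : Nat.card ↥B = 3) (hR : IsPGroup 2 ↥R)
    (hN : B ≤ normalizer (R : Set S)) (hZ : Nat.card ↥(Zc R) = 2)
    (hsmall : ∀ X : Subgroup S, X ≤ R → R ≤ normalizer (X : Set S) → B ≤ normalizer (X : Set S) →
      B ≤ centralizer (X : Set S) → Nat.card ↥X ≤ 2)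
    (hA : InA B R A) (hAQ : IsQ8 A) (hQR : Q ≤ R) (hQ : IsV4 Q) :
    ∃ A₂ : Subgroup S, InA B R A₂ ∧ A₂ ≤ centralizer (A : Set S) := by
  have hfac := E4_aux_factor B R A hA hAQ
  -- `Z(R) ≤ C`
  have hZC : Zc R ≤ (R ⊓ centralizer (A : Set S) : Subgroup S) := by
    intro z hz
    obtain ⟨hzR, hzc⟩ := Cfsg.Agent.S4409P.mem_Zc.mp hz
    refine mem_inf.mpr ⟨hzR, ?_⟩
    rw [mem_centralizer_iff]
    intro a ha
    exact hzc a (hA.le ha)
  -- `Z(C) = Z(R)`
  have hZeq : Zc (R ⊓ centralizer (A : Set S) : Subgroup S) = Zc R := by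
    apply le_antisymm
    · intro z hz
      obtain ⟨hzC, hzc⟩ := Cfsg.Agent.S4409P.mem_Zc.mp hz
      obtain ⟨hzR, hzA⟩ := mem_inf.mp hzC
      rw [mem_centralizer_iff] at hzA
      refine Cfsg.Agent.S4409P.mem_Zc.mpr ⟨hzR, ?_⟩
      intro x hx
      obtain ⟨y0, hy0, hc⟩ := hfac x hx
      have h1 := hzc _ hc
      have h2 := hzA y0 hy0
      calc x * z = (x * y0⁻¹) * (y0 * z) := by group
        _ = (x * y0⁻¹) * (z * y0) := by rw [h2]
        _ = ((x * y0⁻¹) * z) * y0 := by group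
        _ = (z * (x * y0⁻¹)) * y0 := by rw [h1]
        _ = z * x := by group
    · intro z hz
      obtain ⟨hzR, hzc⟩ := Cfsg.Agent.S4409P.mem_Zc.mp hz
      exact Cfsg.Agent.S4409P.mem_Zc.mpr ⟨hZC hz, fun y hy => hzc y (mem_inf.mp hy).1⟩
  -- `C ≠ Z(C)`
  have hne : (R ⊓ centralizer (A : Set S) : Subgroup S) ≠ Zc (R ⊓ centralizer (A : Set S) : Subgroup S) := by
    rw [hZeq]
    intro hCZ
    have hRA : R ≤ A := by
      intro x hx
      obtain ⟨y0, hy0, hc⟩ := hfac x hx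
      rw [hCZ] at hc
      have := A.mul_mem (hA.zle hc) hy0
      have e : x * y0⁻¹ * y0 = x := by group
      rwa [e] at this
    obtain ⟨h8, ζ, hζA, hζ1, hζ2, hsq⟩ := hAQ
    obtain ⟨q, hqQ, hq1, hqζ⟩ := E4_aux_exists_not_mem Q hQ.1 1 ζ
    rcases hsq q (hRA (hQR hqQ)) with h | h | h
    · exact hq1 h
    · exact hqζ h
    · rw [hQ.2 q hqQ] at h
      exact hζ1 h.symm
  -- `hsmall` passes to `C`
  have hsmallC : ∀ X : Subgroup S, X ≤ (R ⊓ centralizer (A : Set S) : Subgroup S) →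
      (R ⊓ centralizer (A : Set S) : Subgroup S) ≤ normalizer (X : Set S) → B ≤ normalizer (X : Set S) →
      B ≤ centralizer (X : Set S) → Nat.card ↥X ≤ 2 := by
    intro X hXC hCN hBN hBC
    refine hsmall X (hXC.trans inf_le_left) ?_ hBN hBC
    intro x hx
    obtain ⟨y0, hy0, hc⟩ := hfac x hx
    have h1 : y0 ∈ normalizer (X : Set S) := by
      apply centralizer_le_normalizer
      rw [mem_centralizer_iff]
      intro u hu
      have := (mem_inf.mp (hXC hu)).2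
      rw [mem_centralizer_iff] at this
      exact (this y0 hy0).symm
    have := (normalizer (X : Set S)).mul_mem (hCN hc) h1
    have e : x * y0⁻¹ * y0 = x := by group
    rwa [e] at this
  have hBC : B ≤ normalizer (((R ⊓ centralizer (A : Set S) : Subgroup S)) : Set S) := by
    intro x hx
    exact TV2_aux_norm_inf (hN hx) (TV2_aux_norm_cent (hA.norm hx))
  have hZ' : Nat.card ↥(Zc (R ⊓ centralizer (A : Set S) : Subgroup S)) = 2 := by rw [hZeq]; exact hZ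
  obtain ⟨A₂, hA₂⟩ := exists_A b B (R ⊓ centralizer (A : Set S) : Subgroup S) hb hB (hR.to_le inf_le_left)
    hBC hZ' hne hsmallC
  refine ⟨A₂, ⟨hA₂.le.trans inf_le_left, ?_, hA₂.card, hA₂.norm, ?_, hA₂.nontriv⟩, hA₂.le.trans inf_le_right⟩
  · rw [← hZeq]; exact hA₂.zle
  · rw [commutator_le]
    intro a₂ ha₂ x hx
    obtain ⟨y0, hy0, hc⟩ := hfac x hx
    have h1 : ⁅a₂, x * y0⁻¹⁆ ∈ Zc R := by
      rw [← hZeq]
      exact hA₂.comm (commutator_mem_commutator ha₂ hc)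
    have h2 := (mem_inf.mp (hA₂.le ha₂)).2
    rw [mem_centralizer_iff] at h2
    have h3 : y0 * a₂ = a₂ * y0 := h2 y0 hy0
    have h3' : y0 * a₂⁻¹ = a₂⁻¹ * y0 := by
      calc y0 * a₂⁻¹ = a₂⁻¹ * (a₂ * y0) * a₂⁻¹ := by group
        _ = a₂⁻¹ * (y0 * a₂) * a₂⁻¹ := by rw [h3]
        _ = a₂⁻¹ * y0 := by group
    have e : ⁅a₂, x⁆ = ⁅a₂, x * y0⁻¹⁆ := by
      rw [commutatorElement_def, commutatorElement_def]
      calc a₂ * x * a₂⁻¹ * x⁻¹ = a₂ * (x * y0⁻¹) * (y0 * a₂⁻¹) * x⁻¹ := by group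
        _ = a₂ * (x * y0⁻¹) * (a₂⁻¹ * y0) * x⁻¹ := by rw [h3']
        _ = a₂ * (x * y0⁻¹) * a₂⁻¹ * (x * y0⁻¹)⁻¹ := by group
    rw [e]; exact h1

end Cfsg.Agent.S4415P
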