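import Mathlib
import Cfsg.Agent.Helper9.S4415Defs

/-! Board `s4415pieces`, row MOD8 : `card_range_conj`. -/

set_option autoImplicit false
set_option linter.unusedVariables false

namespace Cfsg.Agent.S4415P

open Subgroup

variable {S : Type*} [Group S] [Finite S] {E : Type*} [AddCommGroup E] [Module (ZMod 3) E] [Finite E]

/-- MOD8 -/
theorem card_range_conj (ρ : Representation (ZMod 3) S E) (b y : S) :
    Nat.card ↥(LinearMap.range (Nb ρ (y⁻¹ * b * y))) = Nat.card ↥(LinearMap.range (Nb ρ b)) := by
  have h : Nb ρ (y⁻¹ * b * y) = (ρ y⁻¹) ∘ₗ (Nb ρ b) ∘ₗ (ρ y) := by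
    ext v
    have h1 : ρ y⁻¹ (ρ y v) = v := by
      rw [← Module.End.mul_apply, ← map_mul]; simp
    simp only [Nb_apply, LinearMap.comp_apply, map_mul, Module.End.mul_apply, map_sub, h1]
  have hsurj : Function.Surjective (ρ y) := fun v =>
    ⟨ρ y⁻¹ v, by rw [← Module.End.mul_apply, ← map_mul]; simp⟩
  have hinj : Function.Injective (ρ y⁻¹) := fun u v huv => by
    have := congrArg (ρ y) huv
    simpa [← Module.End.mul_apply, ← map_mul] using this
  rw [h, LinearMap.range_comp, LinearMap.range_comp_of_range_eq_top _ (LinearMap.range_eq_top.mpr hsurj)]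
  exact Nat.card_congr (Submodule.equivMapOfInjective _ hinj _).symm.toEquiv

end Cfsg.Agent.S4415P
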