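import Mathlib
import Cfsg.Agent.Helper27.S4700Defs
import Cfsg.Agent.Helper5.S0999B0X
import Cfsg.Agent.Helper20.S4503B0ASM

/-!
# S4700, piece B0ONE: the principal block for a Sylow subgroup of order `p` with
`|N_G(P) : C_G(P)| = p - 1` (`p` characters with signs, value on `P ∖ 1` = sign)
-/

set_option autoImplicit false
set_option maxHeartbeats 1000000

namespace Cfsg.Agent.S4700P

open Cfsg Cfsg.Agent.Helper24 Cfsg.Agent.Helper8.D1 Cfsg.Agent.S4705P Cfsg.Agent.Helper8.W2p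
  Cfsg.Agent.Helper20.S4705BLK Cfsg.Agent.Helper20.S4503PSIAN Cfsg.Agent.Helper5 Cfsg.Agent.Helper5.D1Q
  Cfsg.Agent.Helper5.Loc Cfsg.Agent.Helper5.CC Cfsg.Agent.S4503P Cfsg.Agent.S0999P
  Cfsg.Agent.Helper5.S0999B0X
open scoped ComplexConjugate

universe u

variable {G : Type u} [Group G]

namespace B0ONE

variable [Finite G]

/-- the sum of the non-trivial `p`-linear functions at a `p`-singular element is `-1` -/
theorem sum_NT_singular (p : ℕ) [Fact p.Prime] (P : Sylow p G) (hP : Nat.card P = p)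
    (c : Subgroup.centralizer ((P : Subgroup G) : Set G)) (hc : p ∣ orderOf (c : G)) (k : ℂ) :
    ∑ᶠ ν ∈ {ν : Subgroup.centralizer ((P : Subgroup G) : Set G) → ℂ | NT p ν}, k * ν c = -k := by
  classical
  have := finite_PL P hP
  let _ : Fintype (PL P) := Fintype.ofFinite _
  have hS : {ν : Subgroup.centralizer ((P : Subgroup G) : Set G) → ℂ | IsPLin p ν}.Finite :=
    Set.finite_coe_iff.1 (inferInstanceAs (Finite (PL P)))
  have hNTfin : {ν : Subgroup.centralizer ((P : Subgroup G) : Set G) → ℂ | NT p ν}.Finite :=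
    hS.subset (fun ν hν => hν.1)
  have hins : {ν : Subgroup.centralizer ((P : Subgroup G) : Set G) → ℂ | IsPLin p ν} =
      insert (fun _ => (1 : ℂ))
        {ν : Subgroup.centralizer ((P : Subgroup G) : Set G) → ℂ | NT p ν} := by
    ext ν
    simp only [Set.mem_insert_iff, Set.mem_ofPred_eq]
    constructor
    · intro h
      by_cases h1 : ∃ x, ν x ≠ 1
      · exact Or.inr ⟨h, h1⟩
      · left
        push Not at h1
        funext x
        exact h1 x
    · rintro (h | h)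
      · rw [h]; exact isPLin_one p
      · exact h.1
  have hnot : (fun _ => (1 : ℂ)) ∉
      {ν : Subgroup.centralizer ((P : Subgroup G) : Set G) → ℂ | NT p ν} := by
    intro h
    obtain ⟨x, hx⟩ := h.2
    exact hx rfl
  have h1 : ∑ᶠ ν ∈ {ν : Subgroup.centralizer ((P : Subgroup G) : Set G) → ℂ | IsPLin p ν},
      k * ν c = 0 := by
    rw [← finsum_set_coe_eq_finsum_mem]
    have h2 : ∑ᶠ μ : PL P, k * μ.1 c = ∑ μ : PL P, k * μ.1 c :=
      finsum_eq_sum_of_fintype (fun μ : PL P => k * μ.1 c)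
    rw [show (∑ᶠ i : ↑{ν : Subgroup.centralizer ((P : Subgroup G) : Set G) → ℂ | IsPLin p ν},
      k * (i : Subgroup.centralizer ((P : Subgroup G) : Set G) → ℂ) c) =
        ∑ᶠ μ : PL P, k * μ.1 c from rfl, h2, ← Finset.mul_sum,
      Cfsg.Agent.Helper8.S4503VAL.sum_PL_singular P hP c hc, mul_zero]
  rw [hins, finsum_mem_insert _ hnot hNTfin] at h1
  linear_combination h1

end B0ONE

section B
variable [Finite G]

/-- B0ONE -/
theorem exists_b0One (p : ℕ) [Fact p.Prime] (P : Sylow p G) (hP : Nat.card P = p)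
    (hf : fN (P : Subgroup G) = p - 1) : Nonempty (B0One p P) := by
  classical
  have hp : p.Prime := Fact.out
  obtain ⟨M, hM⟩ := Cfsg.Agent.Helper24.exists_isPModular p hp
  have hMp := isPrime_of_isPModular hM
  let _ : Fintype (IrrCharacter G) := Fintype.ofFinite _
  -- the principal block of `C` induces the principal block of `G`
  set θ₁ : IrrCharacter (Subgroup.centralizer ((P : Subgroup G) : Set G)) := trivIrr _ with hθ₁
  obtain ⟨B', hind'⟩ := Cfsg.Agent.Helper23.D1QI.exists_induced hM P hP θ₁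
  have hb : blockOf M (θ₁ : Subgroup.centralizer ((P : Subgroup G) : Set G) → ℂ) =
      principalBlock M (Subgroup.centralizer ((P : Subgroup G) : Set G)) := rfl
  have hind : IsInducedBlock M (Subgroup.centralizer ((P : Subgroup G) : Set G))
      (blockOf M (θ₁ : Subgroup.centralizer ((P : Subgroup G) : Set G) → ℂ))
      (principalBlock M G) :=
    (Cfsg.Agent.S0936.result p M hM _ _ ⟨B', hind'⟩).mpr hb
  have hθb : θ₁ ∈ blockOf M (θ₁ : Subgroup.centralizer ((P : Subgroup G) : Set G) → ℂ) :=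
    mem_blockOf_self hMp θ₁
  have hθP : ∀ x : Subgroup.centralizer ((P : Subgroup G) : Set G), (x : G) ∈ (P : Subgroup G) →
      (θ₁ : Subgroup.centralizer ((P : Subgroup G) : Set G) → ℂ) x =
        (θ₁ : Subgroup.centralizer ((P : Subgroup G) : Set G) → ℂ) 1 := fun _ _ => rfl
  have hζB : trivIrr G ∈ principalBlock M G := mem_blockOf_self hMp (trivIrr G)
  have hζdeg : irrDeg (trivIrr G) = 1 := by
    have h1 := irrDeg_spec (trivIrr G)
    rw [trivIrr_apply] at h1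
    exact_mod_cast h1.symm
  have hζ : ¬ p ∣ irrDeg (trivIrr G) := by
    rw [hζdeg]
    exact hp.one_lt.not_ge ∘ Nat.le_of_dvd Nat.one_pos
  obtain ⟨D, hDθ, hDB⟩ := exists_coreData_of_theta p M hM P hP (trivIrr G) hζ _ _ hind hζB θ₁ hθb hθP
  -- `T = N`
  have hTeq : D.T = Subgroup.normalizer ((P : Subgroup G) : Set G) := by
    ext g
    rw [D.hT g, hDθ]
    exact ⟨fun h => h.1, fun h => ⟨h, fun _ _ _ => rfl⟩⟩
  have hef : D.e = D.f := by
    rw [← D.he, ← D.hf, hTeq]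
  have hfN : fN (P : Subgroup G) = D.f := D.hf
  have hp1 : 0 < p - 1 := by have := hp.two_le; omega
  have he : D.e = p - 1 := by rw [hef, ← hfN, hf]
  have hepos : 0 < D.e := by rw [he]; exact hp1
  have hθdeg : irrDeg D.θ = 1 := by
    rw [hDθ]
    have h1 := irrDeg_spec θ₁
    rw [hθ₁, trivIrr_apply] at h1
    exact_mod_cast h1.symm
  -- a nontrivial `p`-linear character
  obtain ⟨μ₁, hμ₁⟩ : ∃ μ : Subgroup.centralizer ((P : Subgroup G) : Set G) → ℂ, NT p μ := by
    have h1 := Cfsg.Agent.S4503P.card_NT p P hP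
    have h2 : 0 < Nat.card {ν : Subgroup.centralizer ((P : Subgroup G) : Set G) → ℂ // NT p ν} := by
      rw [h1]; exact hp1
    obtain ⟨⟨μ, hμ⟩⟩ := (Nat.card_pos_iff.mp h2).1
    exact ⟨μ, hμ⟩
  -- all exceptional characters coincide
  set Ψ₀ : IrrCharacter G := D.Ψ μ₁ with hΨ₀
  set Bf : Finset (IrrCharacter G) := Finset.univ.filter (fun χ => χ ∈ D.B) with hBf
  set Yf : Finset (IrrCharacter G) := Finset.univ.filter (fun χ => ∃ μ, NT p μ ∧ χ = D.Ψ μ) with hYf
  have hBfcard : Bf.card = p := by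
    have h1 : Bf.card = D.e + (p - 1) / D.e := by
      rw [← D.card_B, hBf, Nat.card_eq_fintype_card, Fintype.card_subtype]
    rw [h1, he, Nat.div_self hp1]
    omega
  have hYfcard : Yf.card = 1 := by
    have h1 : Yf.card = (p - 1) / D.e := by
      rw [← D.card_Y, hYf, Nat.card_eq_fintype_card, Fintype.card_subtype]
    rw [h1, he, Nat.div_self hp1]
  have hΨ₀Y : Ψ₀ ∈ Yf := Finset.mem_filter.2 ⟨Finset.mem_univ _, μ₁, hμ₁, rfl⟩
  have hΨall : ∀ μ, NT p μ → D.Ψ μ = Ψ₀ := by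
    intro μ hμ
    have h1 : D.Ψ μ ∈ Yf := Finset.mem_filter.2 ⟨Finset.mem_univ _, μ, hμ, rfl⟩
    obtain ⟨a, ha⟩ := Finset.card_eq_one.1 hYfcard
    rw [ha, Finset.mem_singleton] at h1 hΨ₀Y
    rw [h1, hΨ₀Y]
  have hΨ₀B : Ψ₀ ∈ D.B := D.Ψ_mem μ₁ hμ₁
  have hmemB : ∀ χ ∈ Bf, χ ∈ principalBlock M G := by
    intro χ hχ
    rw [← hDB]
    exact (Finset.mem_filter.1 hχ).2
  have hZ : ∀ χ : IrrCharacter G, χ ∈ principalBlock M G →
      ∀ φ : IrrCharacter (Subgroup.centralizer ((P : Subgroup G) : Set G)),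
      (∀ x : Subgroup.centralizer ((P : Subgroup G) : Set G), (x : G) ∈ (P : Subgroup G) →
        (φ : Subgroup.centralizer ((P : Subgroup G) : Set G) → ℂ) x =
          (φ : Subgroup.centralizer ((P : Subgroup G) : Set G) → ℂ) 1) →
      (∃ c, (φ : Subgroup.centralizer ((P : Subgroup G) : Set G) → ℂ) c ≠ 1) →
      ∀ μ, IsPLin p μ → Dnum (Subgroup.centralizer ((P : Subgroup G) : Set G)) μ
        (φ : Subgroup.centralizer ((P : Subgroup G) : Set G) → ℂ) (χ : G → ℂ) = 0 :=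
    fun χ hχ φ hφP hφ μ hμ => dnum_eq_zero_of_ne_triv p M hM P hP χ hχ φ hφP hφ μ hμ
  -- the decomposition numbers as multiplicities
  have hθfun : (D.θ : Subgroup.centralizer ((P : Subgroup G) : Set G) → ℂ) =
      triv (Subgroup.centralizer ((P : Subgroup G) : Set G)) := by
    rw [hDθ]
    rfl
  have hdn : ∀ μ, IsPLin p μ → ∀ χ : IrrCharacter G,
      Dnum (Subgroup.centralizer ((P : Subgroup G) : Set G)) μ
        (D.θ : Subgroup.centralizer ((P : Subgroup G) : Set G) → ℂ) (χ : G → ℂ) =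
      (((multN (Subgroup.centralizer ((P : Subgroup G) : Set G)) μ (χ : G → ℂ) : ℤ) -
        multN (Subgroup.centralizer ((P : Subgroup G) : Set G)) (triv _) (χ : G → ℂ) : ℤ) : ℂ) := by
    intro μ hμ χ
    have hχc : IsCharacter G (χ : G → ℂ) := IsIrrCharacter.isCharacter χ.2
    rw [Dnum_eq_mult, hθfun]
    have h1 : (fun c : Subgroup.centralizer ((P : Subgroup G) : Set G) =>
        μ c * triv (Subgroup.centralizer ((P : Subgroup G) : Set G)) c) = μ := by
      funext c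
      show μ c * 1 = μ c
      rw [mul_one]
    rw [h1, ← multN_cast _ μ (isIrr_of_isPLin hμ) _ hχc,
      ← multN_cast _ (triv _) (isIrr_of_isPLin (isPLin_one p)) _ hχc]
    push_cast
    rfl
  -- the signs
  set δ : IrrCharacter G → ℤ := fun χ => if χ = Ψ₀ then - D.ε else - D.w χ with hδ
  have hδΨ : δ Ψ₀ = - D.ε := by rw [hδ]; simp
  have hδne : ∀ χ, χ ≠ Ψ₀ → δ χ = - D.w χ := by
    intro χ hχ; rw [hδ]; simp [hχ]
  have hnonexc : ∀ χ, χ ≠ Ψ₀ → ∀ μ, NT p μ → χ ≠ D.Ψ μ := by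
    intro χ hχ μ hμ h
    exact hχ (h.trans (hΨall μ hμ))
  -- the uniform decomposition number
  have hdnδ : ∀ χ : IrrCharacter G, ∀ ν, NT p ν →
      (((multN (Subgroup.centralizer ((P : Subgroup G) : Set G)) ν (χ : G → ℂ) : ℤ) -
        multN (Subgroup.centralizer ((P : Subgroup G) : Set G)) (triv _) (χ : G → ℂ) : ℤ) : ℂ) =
      -((δ χ : ℤ) : ℂ) := by
    intro χ ν hν
    rw [← hdn ν hν.1 χ]
    by_cases hχ : χ = Ψ₀
    · rw [hχ, hδΨ]
      have h1 := D.D_Ψ ν hν
      rw [hΨall ν hν] at h1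
      rw [h1]
      push_cast
      ring
    · rw [hδne χ hχ]
      have h1 := D.D_w ν hν χ (hnonexc χ hχ ν hν)
      rw [h1]
      push_cast
      ring
  have htrivB : trivIrr G ∈ Bf := Finset.mem_filter.2 ⟨Finset.mem_univ _, D.mem⟩
  refine ⟨⟨Bf, δ, hBfcard, htrivB, ?_, ?_, ?_, ?_, ?_⟩⟩
  · -- signs
    intro χ hχ
    by_cases hχΨ : χ = Ψ₀
    · rw [hχΨ, hδΨ]
      rcases D.ε_pm with h | h
      · right; rw [h]
      · left; rw [h]; rfl
    · rw [hδne χ hχΨ]
      rcases D.w_X χ (Finset.mem_filter.1 hχ).2 (hnonexc χ hχΨ) with h | h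
      · right; rw [h]
      · left; rw [h]; rfl
  · -- values on `P ∖ 1`
    intro χ hχ y hy hy1
    have hyC : y ∈ Subgroup.centralizer ((P : Subgroup G) : Set G) :=
      Cfsg.Agent.Helper1.D1PA.le_centralizer P hP hy
    have hord : p ∣ orderOf y := by
      have h1 : orderOf y ∣ p := by
        have h2 := Subgroup.orderOf_dvd_natCard (P : Subgroup G) hy
        rwa [hP] at h2
      rcases (Nat.dvd_prime hp).1 h1 with h | h
      · exact absurd (orderOf_eq_one_iff.1 h) hy1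
      · rw [h]
    have hval := val_of_dnum_zero p P hP χ (hZ χ (hmemB χ hχ)) ⟨y, hyC⟩ hord
    have hcongr : ∑ᶠ ν ∈ {ν : Subgroup.centralizer ((P : Subgroup G) : Set G) → ℂ | NT p ν},
        (((multN (Subgroup.centralizer ((P : Subgroup G) : Set G)) ν (χ : G → ℂ) : ℤ) -
          multN (Subgroup.centralizer ((P : Subgroup G) : Set G)) (triv _) (χ : G → ℂ) : ℤ) : ℂ) *
            ν ⟨y, hyC⟩ =
        ∑ᶠ ν ∈ {ν : Subgroup.centralizer ((P : Subgroup G) : Set G) → ℂ | NT p ν},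
          (-((δ χ : ℤ) : ℂ)) * ν ⟨y, hyC⟩ := by
      apply finsum_mem_congr rfl
      intro ν hν
      rw [hdnδ χ ν hν]
    rw [hcongr, B0ONE.sum_NT_singular p P hP ⟨y, hyC⟩ hord, neg_neg] at hval
    exact hval
  · -- degrees
    intro χ hχ
    by_cases hχΨ : χ = Ψ₀
    · rw [hχΨ, hδΨ]
      have h := D.deg_Y μ₁ hμ₁
      rw [hθdeg, mul_one, ← hef, he] at h
      refine h.trans ?_
      have h2 : ((p - 1 : ℕ) : ℤ) = (p : ℤ) - 1 := by
        rw [Nat.cast_sub hp.one_lt.le]; simp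
      rw [h2]
      rw [Int.modEq_iff_dvd]
      exact ⟨- D.ε, by ring⟩
    · rw [hδne χ hχΨ]
      have h := D.deg_X χ (Finset.mem_filter.1 hχ).2 (hnonexc χ hχΨ)
      rw [← hef, Nat.div_self hepos, hθdeg] at h
      simpa using h
  · -- the degree relation
    have h := D.rel μ₁ hμ₁ 1 (by rw [orderOf_one]; exact fun h => hp.one_lt.ne' (Nat.dvd_one.mp h))
    rw [finsum_eq_sum_of_fintype] at h
    have hw0 : ∀ χ, χ ∉ Bf.erase Ψ₀ → D.w χ = 0 := by
      intro χ hχ
      by_cases hB : χ ∈ D.B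
      · have h1 : χ = Ψ₀ := by
          by_contra hne
          exact hχ (Finset.mem_erase.2 ⟨hne, Finset.mem_filter.2 ⟨Finset.mem_univ _, hB⟩⟩)
        rw [h1]
        exact D.w_Ψ μ₁ hμ₁
      · exact D.w_out χ hB
    have h2 : ∑ χ : IrrCharacter G, (D.w χ : ℂ) * (χ : G → ℂ) 1 =
        ∑ χ ∈ Bf.erase Ψ₀, (D.w χ : ℂ) * (χ : G → ℂ) 1 := by
      symm
      apply Finset.sum_subset (Finset.subset_univ _)
      intro χ _ hχ
      rw [hw0 χ hχ]
      simp
    rw [h2] at h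
    have hΨ₀Bf : Ψ₀ ∈ Bf := Finset.mem_filter.2 ⟨Finset.mem_univ _, hΨ₀B⟩
    rw [← Finset.add_sum_erase Bf _ hΨ₀Bf, hδΨ]
    have h3 : ((- D.ε * (irrDeg Ψ₀ : ℤ) + ∑ χ ∈ Bf.erase Ψ₀, δ χ * (irrDeg χ : ℤ) : ℤ) : ℂ) =
        ((0 : ℤ) : ℂ) := by
      push_cast
      rw [← irrDeg_spec Ψ₀]
      have h4 : ∑ χ ∈ Bf.erase Ψ₀, (δ χ : ℂ) * (irrDeg χ : ℂ) =
          - ∑ χ ∈ Bf.erase Ψ₀, (D.w χ : ℂ) * (χ : G → ℂ) 1 := by
        rw [← Finset.sum_neg_distrib]
        refine Finset.sum_congr rfl fun χ hχ => ?_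
        rw [hδne χ (Finset.ne_of_mem_erase hχ), irrDeg_spec]
        push_cast
        ring
      rw [h4]
      linear_combination -h
    exact_mod_cast h3
  · intro χ hχ
    exact deg_ge_of_dnum_zero p P hP χ (hZ χ (hmemB χ hχ))

end B

end Cfsg.Agent.S4700P
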