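import Mathlib
import Cfsg.Prelude.Def_Classical
import Cfsg.Prelude.Def_FusionComponents
import Cfsg.Agent.Helper26.S5320.Defs
import Cfsg.Agent.Helper26.PSL2Syl
import Cfsg.Agent.Helper23.S5320EMB
import Cfsg.Agent.Helper23.S5320SWMEM
import Cfsg.Agent.Helper23.S5320STAB
import Cfsg.Agent.Helper24.S5320CENTER
import Cfsg.Agent.Helper21.S5320ZZ2

/-! S5320 piece NW (driver helper26): the normalizer of `Q ≀ 2` in `Sp₄(F)` lies in `SL₂(F) ≀ 2`. -/

set_option autoImplicit false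
set_option linter.unusedSectionVars false
set_option linter.unusedVariables false

namespace Cfsg.Agent.S5320P

open Matrix

variable {F : Type*} [Field F]

namespace NW

theorem neg_one_inv : ((-1 : L F))⁻¹ = -1 := by
  apply inv_eq_of_mul_eq_one_right
  simp

/-- `t1` commutes with the base group -/
theorem t1_comm_emb (a b : L F) : (t1 : Gt F) * emb (a, b) = emb (a, b) * t1 := by
  unfold t1
  rw [← map_mul, ← map_mul]
  congr 1
  ext1
  · simp
  · simp

/-- `sig` conjugates `t1` to `zG * t1` -/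
theorem sig_t1 : (sig : Gt F) * t1 * sig⁻¹ = zG * t1 := by
  unfold t1
  rw [sig_conj, ← emb_neg_one, ← map_mul]
  congr 1
  ext1 <;> simp

theorem zG_mem_center : (zG : Gt F) ∈ Subgroup.center (Gt F) := by
  rw [mem_center_iff]; exact Or.inr rfl

/-- `t1` is central in `Q ≀ 2` modulo the centre -/
theorem t1_comm_mem (Q : Subgroup (L F)) (r : Gt F) (hr : r ∈ SW Q) :
    (t1 : Gt F) * r * t1⁻¹ * r⁻¹ ∈ Subgroup.center (Gt F) := by
  rw [mem_SW_iff] at hr
  obtain ⟨a, ha, b, hb, rfl | rfl⟩ := hr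
  · rw [t1_comm_emb]
    have : (emb (a, b) : Gt F) * t1 * t1⁻¹ * (emb (a, b))⁻¹ = 1 := by group
    rw [this]
    exact Subgroup.one_mem _
  · have e : (t1 : Gt F) * (emb (a, b) * sig) * t1⁻¹ * (emb (a, b) * sig)⁻¹ =
        emb (a, b) * (t1 * (sig * t1 * sig⁻¹)⁻¹) * (emb (a, b))⁻¹ := by
      rw [← mul_assoc, t1_comm_emb]
      group
    rw [e, sig_t1]
    have hz : (zG : Gt F) * zG = 1 := by
      rw [← emb_neg_one, ← map_mul]
      have : ((-1 : L F), (-1 : L F)) * ((-1 : L F), (-1 : L F)) = 1 := by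
        ext1 <;> simp
      rw [this, map_one]
    have e2 : (t1 : Gt F) * (zG * t1)⁻¹ = zG := by
      rw [_root_.mul_inv_rev, ← mul_assoc, mul_inv_cancel, one_mul]
      exact inv_eq_of_mul_eq_one_right hz
    rw [e2]
    have hzc := Subgroup.mem_center_iff.mp (zG_mem_center (F := F)) (emb (a, b))
    rw [hzc, mul_assoc, mul_inv_cancel, mul_one]
    exact zG_mem_center

end NW

theorem NW.le [Fintype F] (hodd : Fintype.card F % 2 = 1) (Q : Sylow 2 (L F)) :
    Subgroup.normalizer ((SW (Q : Subgroup (L F)) : Subgroup (Gt F)) : Set (Gt F)) ≤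
      SW (⊤ : Subgroup (L F)) := by
  intro g hg
  have h2 : (2 : F) ≠ 0 := Cfsg.Agent.Helper26.PSL2Syl.two_ne_zero' hodd
  rw [Subgroup.mem_normalizer_iff] at hg
  have hg' : ∀ r, r ∈ SW (Q : Subgroup (L F)) → g⁻¹ * r * g ∈ SW (Q : Subgroup (L F)) := by
    intro r hr
    rw [hg]
    have : g * (g⁻¹ * r * g) * g⁻¹ = r := by group
    rw [this]
    exact hr
  have ht1 : (t1 : Gt F) ∈ SW (Q : Subgroup (L F)) := by
    apply Subgroup.mem_sup_left
    exact Subgroup.mem_map_of_mem emb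
      (show ((-1 : L F), (1 : L F)) ∈ (Q : Subgroup (L F)).prod (Q : Subgroup (L F)) from
        ⟨Cfsg.Agent.Helper26.PSL2Syl.neg_one_mem_sylow Q, Subgroup.one_mem _⟩)
  have hs : g * t1 * g⁻¹ ∈ SW (Q : Subgroup (L F)) := (hg t1).1 ht1
  have hcen : ∀ r ∈ SW (Q : Subgroup (L F)),
      (g * t1 * g⁻¹) * r * (g * t1 * g⁻¹)⁻¹ * r⁻¹ ∈ Subgroup.center (Gt F) := by
    intro r hr
    have h1 := NW.t1_comm_mem (Q : Subgroup (L F)) (g⁻¹ * r * g) (hg' r hr)
    have e : (g * t1 * g⁻¹) * r * (g * t1 * g⁻¹)⁻¹ * r⁻¹ =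
        g * ((t1 : Gt F) * (g⁻¹ * r * g) * t1⁻¹ * (g⁻¹ * r * g)⁻¹) * g⁻¹ := by group
    rw [e]
    have hc := Subgroup.mem_center_iff.mp h1 g
    rw [hc, mul_assoc, mul_inv_cancel, mul_one]
    exact h1
  have hne : (t1 : Gt F) ∉ Subgroup.center (Gt F) := t1_not_mem_center h2
  rcases ZZ2.eq hodd Q (g * t1 * g⁻¹) hs hcen with h1 | h1 | h1 | h1
  · exfalso
    apply hne
    have : (t1 : Gt F) = 1 := by
      have : (t1 : Gt F) = g⁻¹ * (g * t1 * g⁻¹) * g := by group
      rw [this, h1]; group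
    rw [this]
    exact Subgroup.one_mem _
  · exfalso
    apply hne
    have hzc := Subgroup.mem_center_iff.mp (NW.zG_mem_center (F := F)) g
    have : (t1 : Gt F) = zG := by
      have : (t1 : Gt F) = g⁻¹ * (g * t1 * g⁻¹) * g := by group
      rw [this, h1, mul_assoc, ← hzc, ← mul_assoc, inv_mul_cancel, one_mul]
    rw [this]
    exact NW.zG_mem_center
  · exact STAB.mem_W h2 g (Or.inl h1)
  · exact STAB.mem_W h2 g (Or.inr h1)

end Cfsg.Agent.S5320P
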