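import Mathlib
import Cfsg.Prelude.Def_Classical
import Cfsg.Prelude.Def_FusionComponents
import Cfsg.Agent.Helper26.S5320.Defs
import Cfsg.Agent.Helper18.S5320ORD4CONJ

/-! S5320 piece SC3 (driver helper26): a strongly closed subgroup containing the `emb (a, a⁻¹)` contains `emb (i, j)` for
all elements `i, j` of order four of `Q`. -/

set_option autoImplicit false
set_option linter.unusedSectionVars false
set_option linter.unusedVariables false

namespace Cfsg.Agent.S5320P

open Matrix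

variable {F : Type*} [Field F]

theorem SC3.ord4_mem [Fintype F] (hodd : Fintype.card F % 2 = 1) (Q : Subgroup (L F))
    (T : Subgroup (Gt F))
    (hsc : ∀ t ∈ T, ∀ g : Gt F, g * t * g⁻¹ ∈ SW Q → g * t * g⁻¹ ∈ T)
    (h : ∀ a ∈ Q, emb (a, a⁻¹) ∈ T) :
    ∀ i ∈ Q, ∀ j ∈ Q, i * i = -1 → j * j = -1 → emb (i, j) ∈ T := by
  intro i hi j hj hii hjj
  have hinv : i⁻¹ * i⁻¹ = -1 := by
    rw [← _root_.mul_inv_rev, hii]
    apply inv_eq_of_mul_eq_one_right
    simp
  obtain ⟨c, hc⟩ := ORD4CONJ.conj hodd i⁻¹ j hinv hjj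
  have e : (emb ((1 : L F), c) : Gt F) * emb (i, i⁻¹) * (emb ((1 : L F), c))⁻¹ = emb (i, j) := by
    rw [← map_inv, ← map_mul, ← map_mul]
    congr 1
    ext1
    · simp
    · simpa using hc
  have hmem : (emb (i, j) : Gt F) ∈ SW Q := by
    apply Subgroup.mem_sup_left
    exact Subgroup.mem_map_of_mem emb (show (i, j) ∈ Q.prod Q from ⟨hi, hj⟩)
  have := hsc _ (h i hi) (emb ((1 : L F), c)) (by rw [e]; exact hmem)
  rwa [e] at this

end Cfsg.Agent.S5320P
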