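import Cfsg.Agent.Helper24.S5637.Defs
import Cfsg.Agent.Helper26.S5637TRANSVEC
import Cfsg.Agent.Helper26.S5637TRANSPAIR3

set_option autoImplicit false
set_option linter.unusedSectionVars false
set_option linter.unusedVariables false

/-! # S5637 piece TRANSPAIR2 (driver helper24): `SL_m`, `m ≥ 2`, is transitive on the pairs (vector, functional),
both non-zero, with `ψ w = 0`, up to a scalar on the functional. -/

namespace Cfsg.Agent.S5637P

open Matrix Kronecker Cfsg.Agent.Helper28.SLMax Cfsg.Agent.S5634P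
open scoped MatrixGroups

variable {F : Type*} [Field F] {n a b : ℕ} (e : Fin n ≃ Fin a × Fin b)

namespace TRANSPAIR2

/-- in dimension two, a functional killing `w` is a multiple of `(w 1, - w 0)` -/
theorem exists_smul {w p : Fin 2 → F} (hw : w ≠ 0) (h : p ⬝ᵥ w = 0) :
    ∃ s : F, p = s • ![w 1, -w 0] := by
  rw [dotProduct, Fin.sum_univ_two] at h
  by_cases h0 : w 0 = 0
  · have h1 : w 1 ≠ 0 := by
      intro h1
      apply hw
      funext i
      fin_cases i
      · exact h0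
      · exact h1
    rw [h0, mul_zero, zero_add] at h
    have hp1 : p 1 = 0 := by
      rcases mul_eq_zero.mp h with h | h
      · exact h
      · exact absurd h h1
    refine ⟨p 0 / w 1, ?_⟩
    funext i
    fin_cases i
    · simp [div_mul_cancel₀ _ h1]
    · simp [hp1, h0]
  · refine ⟨-(p 1) / w 0, ?_⟩
    funext i
    fin_cases i
    · simp only [Fin.zero_eta, Pi.smul_apply, Matrix.cons_val_zero, smul_eq_mul]
      field_simp
      linear_combination h
    · simp only [Fin.mk_one, Pi.smul_apply, Matrix.cons_val_one, Matrix.cons_val_zero, smul_eq_mul]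
      field_simp

/-- two non-zero functionals on `F^2` killing the same non-zero vector are proportional -/
theorem prop_two {w p q : Fin 2 → F} (hw : w ≠ 0) (hp : p ≠ 0) (hq : q ≠ 0) (h : p ⬝ᵥ w = 0)
    (h' : q ⬝ᵥ w = 0) : ∃ c : F, c ≠ 0 ∧ q = c • p := by
  obtain ⟨s, hs⟩ := exists_smul hw h
  obtain ⟨r, hr⟩ := exists_smul hw h'
  have hs0 : s ≠ 0 := by
    rintro rfl
    apply hp
    rw [hs, zero_smul]
  have hr0 : r ≠ 0 := by
    rintro rfl
    apply hq
    rw [hr, zero_smul]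
  refine ⟨r / s, div_ne_zero hr0 hs0, ?_⟩
  rw [hr, hs, smul_smul, div_mul_cancel₀ _ hs0]

end TRANSPAIR2

theorem TRANSPAIR2 {m : ℕ} (hm : 2 ≤ m) {w ψ w' ψ' : Fin m → F} (hw : w ≠ 0) (hψ : ψ ≠ 0)
    (hw' : w' ≠ 0) (hψ' : ψ' ≠ 0) (h : ψ ⬝ᵥ w = 0) (h' : ψ' ⬝ᵥ w' = 0) :
    ∃ D : GL (Fin m) F, (D : Matrix (Fin m) (Fin m) F).det = 1 ∧
      (D : Matrix (Fin m) (Fin m) F) *ᵥ w = w' ∧ ∃ c : F, c ≠ 0 ∧ dact D ψ = c • ψ' := by
  rcases Nat.lt_or_ge m 3 with h3 | h3
  · obtain rfl : m = 2 := by omega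
    obtain ⟨D, hdet, hDw⟩ := TRANSVEC hm hw hw'
    refine ⟨D, hdet, hDw, ?_⟩
    have h1 : dact D ψ ⬝ᵥ w' = 0 := by
      rw [← hDw, dact_dot_mulVec, h]
    exact TRANSPAIR2.prop_two hw' hψ' (EE.dact_ne_zero D hψ) h' h1
  · obtain ⟨D, hdet, hDw, hDψ⟩ := TRANSPAIR3 h3 hw hψ hw' hψ' h h'
    exact ⟨D, hdet, hDw, 1, one_ne_zero, by rw [hDψ, one_smul]⟩

end Cfsg.Agent.S5637P
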