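import Mathlib
import Cfsg.Prelude.Def_GeometricClasses
import Cfsg.Agent.Helper29.S5655.Defs

/-!
# S5655 (half `k ≥ 2`), piece HMEM (driver helper29): elements of `H`
-/

set_option autoImplicit false
set_option linter.unusedSectionVars false
set_option linter.unusedVariables false

namespace Cfsg.Agent.S5655P

open Matrix Module
open Cfsg.Agent.S2644 Cfsg.Agent.Helper2.SUGen Cfsg.Agent.Helper28.SimMax Cfsg.Agent.S5658P

variable {K : Type*} [Field K] {q n t k : ℕ}

local notation "h" => Cfsg.hermForm n K q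
local notation "T" => Cfsg.unitaryTransvection n q

/-- piece HMEM (S): a special isometry preserving some blocks and fixing the others pointwise is in `H` -/
theorem HMEM.of_fix {B : Fin t → Submodule K (Fin n → K)} {A : Matrix (Fin n) (Fin n) K}
    (hP : Pres (q := q) A) (hdet : A.det = 1) (S : Finset (Fin t))
    (hS : ∀ i ∈ S, ∀ y ∈ B i, A *ᵥ y ∈ B i) (hfix : ∀ i, i ∉ S → ∀ y ∈ B i, A *ᵥ y = y) :
    A ∈ HH q B := by
  classical
  refine ⟨hP, hdet, 1, fun i x hx => ?_⟩
  rw [Equiv.Perm.one_apply]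
  by_cases hi : i ∈ S
  · exact hS i hi x hx
  · rw [hfix i hi x hx]
    exact hx

/-- products and inverses -/
theorem HMEM.mul {B : Fin t → Submodule K (Fin n → K)} {A A' : Matrix (Fin n) (Fin n) K}
    (hA : A ∈ HH q B) (hA' : A' ∈ HH q B) : A * A' ∈ HH q B := by
  obtain ⟨hP, hd, σ, hσ⟩ := hA
  obtain ⟨hP', hd', σ', hσ'⟩ := hA'
  refine ⟨hP.mul hP', by rw [Matrix.det_mul, hd, hd', one_mul], σ * σ', fun i x hx => ?_⟩
  rw [← Matrix.mulVec_mulVec, Equiv.Perm.mul_apply]
  exact hσ _ _ (hσ' i x hx)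

end Cfsg.Agent.S5655P
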