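import Mathlib
import Cfsg.Prelude.Def_GeometricClasses
import Cfsg.Agent.Helper29.S5655.Defs

/-!
# S5655 (half `k ≥ 2`), piece HSUM (driver helper29): the form on sums over the blocks
-/

set_option autoImplicit false
set_option linter.unusedSectionVars false
set_option linter.unusedVariables false

namespace Cfsg.Agent.S5655P

open Matrix Module
open Cfsg.Agent.S2644 Cfsg.Agent.Helper2.SUGen Cfsg.Agent.Helper28.SimMax Cfsg.Agent.S5658P

variable {K : Type*} [Field K] {q n t k : ℕ}

local notation "h" => Cfsg.hermForm n K q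
local notation "T" => Cfsg.unitaryTransvection n q

theorem HSUM.h_mem_sum (D : Frob K q) {B : Fin t → Submodule K (Fin n → K)} (hB : UD q k B)
    {c : Fin t → (Fin n → K)} (hc : ∀ i, c i ∈ B i) {j : Fin t} {u : Fin n → K} (hu : u ∈ B j) :
    h u (∑ i, c i) = h u (c j) ∧ h (∑ i, c i) u = h (c j) u := by
  constructor
  · rw [h_sum_right D, Finset.sum_eq_single j]
    · intro i _ hij
      exact hB.orth j i (Ne.symm hij) u hu (c i) (hc i)
    · intro hj
      exact absurd (Finset.mem_univ j) hj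
  · rw [h_sum_left, Finset.sum_eq_single j]
    · intro i _ hij
      exact hB.orth i j hij (c i) (hc i) u hu
    · intro hj
      exact absurd (Finset.mem_univ j) hj

/-- piece HSUM (S): bilinearity + `hB.orth`; `eq_zero_of_sum`, `idx_eq`, `perp_block` use `hB.nd`. -/
theorem HSUM.h_sum_sum (D : Frob K q) {B : Fin t → Submodule K (Fin n → K)} (hB : UD q k B)
    {c c' : Fin t → (Fin n → K)} (hc : ∀ i, c i ∈ B i) (hc' : ∀ i, c' i ∈ B i) :
    h (∑ i, c i) (∑ i, c' i) = ∑ i, h (c i) (c' i) := by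
  rw [h_sum_left]
  refine Finset.sum_congr rfl fun i _ => ?_
  exact (HSUM.h_mem_sum D hB hc' (hc i)).1

theorem HSUM.eq_zero_of_sum (D : Frob K q) {B : Fin t → Submodule K (Fin n → K)} (hB : UD q k B)
    {c : Fin t → (Fin n → K)} (hc : ∀ i, c i ∈ B i) (h0 : ∑ i, c i = 0) (j : Fin t) : c j = 0 := by
  apply hB.nd j (c j) (hc j)
  intro y' hy'
  rw [← (HSUM.h_mem_sum D hB hc hy').2, h0, h_zero_left]

theorem HSUM.idx_eq (D : Frob K q) {B : Fin t → Submodule K (Fin n → K)} (hB : UD q k B)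
    {a b : Fin t} {x : Fin n → K} (ha : x ∈ B a) (hb : x ∈ B b) (hx : x ≠ 0) : a = b := by
  by_contra hab
  apply hx
  apply hB.nd a x ha
  intro y' hy'
  exact hB.orth b a (Ne.symm hab) x hb y' hy'

/-- a vector orthogonal to all blocks is zero; the perp of a block is the sum of the others -/
theorem HSUM.perp_block (D : Frob K q) {B : Fin t → Submodule K (Fin n → K)} (hB : UD q k B)
    (i : Fin t) {z : Fin n → K} (hz : ∀ y ∈ B i, h z y = 0) :
    ∃ c : Fin t → (Fin n → K), (∀ j, c j ∈ B j) ∧ c i = 0 ∧ ∑ j, c j = z := by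
  obtain ⟨c, hc, hcz⟩ := hB.dec z
  refine ⟨c, hc, ?_, hcz⟩
  apply hB.nd i (c i) (hc i)
  intro y' hy'
  rw [← (HSUM.h_mem_sum D hB hc hy').2, hcz]
  exact hz y' hy'

end Cfsg.Agent.S5655P
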