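import Mathlib
import Cfsg.Prelude.Def_GeometricClasses
import Cfsg.Agent.Helper29.S5655.Defs
import Cfsg.Agent.Helper16.S5655BHMEM
import Cfsg.Agent.Helper29.S5655BCOMP
import Cfsg.Agent.Helper29.S5655BTRB
import Cfsg.Agent.Helper4.S5655BGEO2

/-!
# S5655 (half `k ≥ 2`), piece TRA2 (driver helper29): `H` moves a non-zero isotropic vector of a block to any
other one, the determinant being compensated in another block `l`
-/

set_option autoImplicit false
set_option linter.unusedSectionVars false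
set_option linter.unusedVariables false

namespace Cfsg.Agent.S5655P

open Matrix Module
open Cfsg.Agent.S2644 Cfsg.Agent.Helper2.SUGen Cfsg.Agent.Helper28.SimMax Cfsg.Agent.S5658P

variable {K : Type*} [Field K] {q n t k : ℕ}

local notation "h" => Cfsg.hermForm n K q
local notation "T" => Cfsg.unitaryTransvection n q

/-- the move inside the block, determinant not yet corrected -/
theorem TRA2.move [Fintype K] (D : Frob K q) (hK : Fintype.card K = q ^ 2)
    {B : Fin t → Submodule K (Fin n → K)} (hB : UD q k B) {i : Fin t}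
    {c c' : Fin n → K} (hc : c ∈ B i) (hc' : c' ∈ B i) (hcc : h c c = 0) (hcc' : h c' c' = 0)
    (hc0 : c ≠ 0) (hc0' : c' ≠ 0) :
    ∃ A : Matrix (Fin n) (Fin n) K, TRB.On q B i A ∧ A *ᵥ c = c' ∧ A.det * D.σ A.det = 1 := by
  have hd : 2 ≤ finrank K (B i) := by
    rw [hB.finrank_eq i]
    exact hB.two_le_k
  rcases GEO2.iso_conn D hK (hB.nd i) hd hc hc' hcc hcc' hc0 hc0' with hne | ⟨z, hz, hzz, hcz, hzc'⟩
  · exact TRB.step D hB hc hc' (by rw [hcc, hcc']) (by rw [hcc, zero_sub]; exact neg_ne_zero.mpr hne)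
  · obtain ⟨A₁, hA₁, hA₁c, hd₁⟩ := TRB.step D hB hc hz (by rw [hcc, hzz])
      (by rw [hcc, zero_sub]; exact neg_ne_zero.mpr hcz)
    obtain ⟨A₂, hA₂, hA₂c, hd₂⟩ := TRB.step D hB hz hc' (by rw [hzz, hcc'])
      (by rw [hzz, zero_sub]; exact neg_ne_zero.mpr hzc')
    refine ⟨A₂ * A₁, TRB.on_mul hA₂ hA₁, ?_, ?_⟩
    · rw [← Matrix.mulVec_mulVec, hA₁c, hA₂c]
    · rw [Matrix.det_mul, map_mul]
      linear_combination (A₁.det * D.σ A₁.det) * hd₂ + hd₁

/-- piece TRA2 (L) -/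
theorem TRA2.iso [Fintype K] (D : Frob K q) (hK : Fintype.card K = q ^ 2)
    {B : Fin t → Submodule K (Fin n → K)} (hB : UD q k B) {i l : Fin t} (hil : i ≠ l)
    {c c' : Fin n → K} (hc : c ∈ B i) (hc' : c' ∈ B i) (hcc : h c c = 0) (hcc' : h c' c' = 0)
    (hc0 : c ≠ 0) (hc0' : c' ≠ 0) :
    ∃ A ∈ HH q B, A *ᵥ c = c' ∧ ∀ j, j ≠ i → j ≠ l → ∀ y ∈ B j, A *ᵥ y = y := by
  classical
  obtain ⟨A, hA, hAc, hdA⟩ := TRA2.move D hK hB hc hc' hcc hcc' hc0 hc0'
  have hdet0 : A.det ≠ 0 := by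
    intro h0
    rw [h0, zero_mul] at hdA
    exact zero_ne_one hdA
  have hσ0 : D.σ A.det ≠ 0 := by
    intro h0
    rw [h0, mul_zero] at hdA
    exact zero_ne_one hdA
  have hdl : 1 ≤ finrank K (B l) := by
    rw [hB.finrank_eq l]
    exact le_trans (by norm_num) hB.two_le_k
  obtain ⟨C, hCP, hCdet, hCmaps, hCfix⟩ := COMP.exists D hK (hB.nd l) hdl (A.det)⁻¹ (by
    rw [map_inv₀]
    field_simp
    rw [hdA])
  -- `C` fixes the blocks other than `l` pointwise
  have hCfix' : ∀ j, j ≠ l → ∀ y ∈ B j, C *ᵥ y = y := by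
    intro j hj y hy
    exact hCfix y (fun y' hy' => hB.orth j l hj y hy y' hy')
  refine ⟨C * A, ?_, ?_, ?_⟩
  · refine HMEM.of_fix (hCP.mul hA.1) (by rw [Matrix.det_mul, hCdet, inv_mul_cancel₀ hdet0]) {i, l} ?_ ?_
    · intro j hj y hy
      rw [Finset.mem_insert, Finset.mem_singleton] at hj
      rw [← Matrix.mulVec_mulVec]
      rcases hj with rfl | rfl
      · rw [hCfix' j hil _ (hA.2.1 y hy)]
        exact hA.2.1 y hy
      · rw [hA.2.2 j (Ne.symm hil) y hy]
        exact hCmaps y hy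
    · intro j hj y hy
      rw [Finset.mem_insert, Finset.mem_singleton, not_or] at hj
      rw [← Matrix.mulVec_mulVec, hA.2.2 j hj.1 y hy, hCfix' j hj.2 y hy]
  · rw [← Matrix.mulVec_mulVec, hAc, hCfix' i hil c' hc']
  · intro j hji hjl y hy
    rw [← Matrix.mulVec_mulVec, hA.2.2 j hji y hy, hCfix' j hjl y hy]

end Cfsg.Agent.S5655P
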