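import Mathlib
import Cfsg.Prelude.Def_GeometricClasses
import Cfsg.Agent.Helper29.S5655.Defs
import Cfsg.Agent.Helper16.S5655BHMEM

/-!
# S5655 (half `k ≥ 2`), piece TRA3 (driver helper29): `H` is transitive on the non-zero isotropic vectors of a
block of dimension at least three, fixing the other blocks pointwise
-/

set_option autoImplicit false
set_option linter.unusedSectionVars false
set_option linter.unusedVariables false

namespace Cfsg.Agent.S5655P

open Matrix Module
open Cfsg.Agent.S2644 Cfsg.Agent.Helper2.SUGen Cfsg.Agent.Helper28.SimMax Cfsg.Agent.S5658P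

variable {K : Type*} [Field K] {q n t k : ℕ}

local notation "h" => Cfsg.hermForm n K q
local notation "T" => Cfsg.unitaryTransvection n q

/-- piece TRA3 (S) -/
theorem TRA3.iso [Fintype K] (D : Frob K q) (hK : Fintype.card K = q ^ 2)
    {B : Fin t → Submodule K (Fin n → K)} (hB : UD q k B) (hk : 3 ≤ k) {i : Fin t}
    {c c' : Fin n → K} (hc : c ∈ B i) (hc' : c' ∈ B i) (hcc : h c c = 0) (hcc' : h c' c' = 0)
    (hc0 : c ≠ 0) (hc0' : c' ≠ 0) :
    ∃ A ∈ HH q B, A *ᵥ c = c' ∧ ∀ j, j ≠ i → ∀ y ∈ B j, A *ᵥ y = y := by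
  classical
  obtain ⟨A, hA, hAc⟩ := trans_iso D (hB.nd i) (by rw [hB.finrank_eq i]; exact hk) hc hc' hcc hcc'
    hc0 hc0'
  have hfix : ∀ j, j ≠ i → ∀ y ∈ B j, A *ᵥ y = y := by
    intro j hj y hy
    exact Gen_fix D hA y (fun y' hy' => hB.orth j i hj y hy y' hy')
  refine ⟨A, ?_, hAc, hfix⟩
  refine HMEM.of_fix (Gen_pres D hA) (Gen_det D hA) {i} ?_ ?_
  · intro j hj y hy
    rw [Finset.mem_singleton] at hj
    subst hj
    exact Gen_maps D hA y hy
  · intro j hj y hy
    rw [Finset.mem_singleton] at hj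
    exact hfix j hj y hy

end Cfsg.Agent.S5655P
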