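import Mathlib
import Cfsg.Agent.Helper7.S5655.Defs2
import Cfsg.Agent.Helper7.S5655.MonoLib

/-!
# S5655 `k = 1`, piece RANK (driver helper7)

If `Z` has rank `≤ r`, `A` is invertible and `A Y = Z A`, then `Y` has no `(r+1) × (r+1)` submatrix which is
diagonal with non-zero diagonal.
-/

set_option autoImplicit false
set_option linter.unusedSectionVars false
set_option linter.unusedVariables false

namespace Cfsg.Agent.S5655K1

open Matrix
open Cfsg.Agent.S2644 Cfsg.Agent.Helper2.SUGen Cfsg.Agent.Helper28.SimMax Cfsg.Agent.MonoP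

variable {K : Type*} [Field K] {q n : ℕ}

/-- `r` linear equations in `r + 1` unknowns have a non-zero solution -/
theorem RANK.exists_ker (r : ℕ) (B : Matrix (Fin r) (Fin (r + 1)) K) :
    ∃ c : Fin (r + 1) → K, c ≠ 0 ∧ B *ᵥ c = 0 := by
  have hlt : Module.finrank K (Fin r → K) < Module.finrank K (Fin (r + 1) → K) := by
    rw [Module.finrank_fin_fun, Module.finrank_fin_fun]
    exact Nat.lt_succ_self r
  have hne := LinearMap.ker_ne_bot_of_finrank_lt (f := Matrix.mulVecLin B) hlt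
  obtain ⟨c, hc, hc0⟩ := (Submodule.ne_bot_iff _).mp hne
  refine ⟨c, hc0, ?_⟩
  have := LinearMap.mem_ker.mp hc
  rwa [Matrix.mulVecLin_apply] at this

/-- RANK (M) -/
theorem RANK.main (A A' Y Z : Matrix (Fin n) (Fin n) K) (hAA : A' * A = 1) (hAY : A * Y = Z * A) (r : ℕ)
    (a b : Fin r → Fin n → K) (hZ : Z = ∑ l, vecMulVec (a l) (b l))
    (ks tgt : Fin (r + 1) → Fin n) (hd : ∀ i, Y (tgt i) (ks i) ≠ 0)
    (hoff : ∀ i j, i ≠ j → Y (tgt i) (ks j) = 0) : False := by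
  classical
  obtain ⟨c, hc0, hc⟩ := RANK.exists_ker r
    (Matrix.of fun l i => b l ⬝ᵥ (A *ᵥ Pi.single (ks i) 1))
  -- the vector `x = ∑ c_i e_{ks i}`
  obtain ⟨x, hx⟩ : ∃ x : Fin n → K, x = ∑ i, c i • (Pi.single (ks i) (1 : K) : Fin n → K) := ⟨_, rfl⟩
  have hbx : ∀ l, b l ⬝ᵥ (A *ᵥ x) = 0 := by
    intro l
    have := congrFun hc l
    rw [Matrix.mulVec, dotProduct] at this
    simp only [Matrix.of_apply, Pi.zero_apply] at this
    rw [hx, Matrix.mulVec_sum, dotProduct_sum]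
    rw [← this]
    refine Finset.sum_congr rfl fun i _ => ?_
    rw [Matrix.mulVec_smul, dotProduct_smul, smul_eq_mul, mul_comm]
  have hZx : Z *ᵥ (A *ᵥ x) = 0 := by
    rw [hZ, Matrix.sum_mulVec]
    refine Finset.sum_eq_zero fun l _ => ?_
    rw [Matrix.vecMulVec_mulVec, hbx l]
    simp
  have hAYx : A *ᵥ (Y *ᵥ x) = 0 := by
    rw [Matrix.mulVec_mulVec, hAY, ← Matrix.mulVec_mulVec, hZx]
  have hYx : Y *ᵥ x = 0 := by
    have : A' *ᵥ (A *ᵥ (Y *ᵥ x)) = Y *ᵥ x := by
      rw [Matrix.mulVec_mulVec, hAA, Matrix.one_mulVec]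
    rw [← this, hAYx, Matrix.mulVec_zero]
  apply hc0
  funext i₀
  have h1 := congrFun hYx (tgt i₀)
  rw [hx, Matrix.mulVec_sum] at h1
  simp only [Matrix.mulVec_smul, Matrix.mulVec_single_one, Finset.sum_apply, Pi.smul_apply,
    smul_eq_mul, Pi.zero_apply] at h1
  rw [Finset.sum_eq_single i₀] at h1
  · rcases mul_eq_zero.mp h1 with h | h
    · exact h
    · exact absurd h (hd i₀)
  · intro j _ hj
    have : Y (tgt i₀) (ks j) = 0 := hoff i₀ j (Ne.symm hj)
    simp [this]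
  · intro h
    exact absurd (Finset.mem_univ _) h

end Cfsg.Agent.S5655K1
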