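import Mathlib
import Cfsg.Agent.Helper7.S5655.Defs2
import Cfsg.Agent.Helper7.S5655.MonoLib

/-!
# S5655 `k = 1`, pieces SELECTI and SELECTP (driver helper7)

Greedy selection of indices `k_i` in a set `J` with `k_i ≠ k_j` and `s k_i ≠ k_j` for `i ≠ j`.
-/

set_option autoImplicit false
set_option linter.unusedSectionVars false
set_option linter.unusedVariables false

namespace Cfsg.Agent.S5655K1

open Matrix
open Cfsg.Agent.S2644 Cfsg.Agent.Helper2.SUGen Cfsg.Agent.Helper28.SimMax Cfsg.Agent.MonoP

variable {K : Type*} [Field K] {q n : ℕ}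

/-- the greedy choice: each chosen `k` excludes a set `B k` of at most `c` elements containing `k`, `s k`, `s⁻¹ k` -/
theorem SELECT.general (s : Equiv.Perm (Fin n)) (c : ℕ) (B : Fin n → Finset (Fin n))
    (hB : ∀ k, (B k).card ≤ c) (hmem : ∀ k, k ∈ B k ∧ s k ∈ B k ∧ s⁻¹ k ∈ B k) :
    ∀ (m : ℕ) (J : Finset (Fin n)), c * m < J.card + c →
    ∃ ks : Fin m → Fin n, (∀ i, ks i ∈ J) ∧ ∀ i j, i ≠ j → ks i ≠ ks j ∧ s (ks i) ≠ ks j := by
  intro m
  induction m with
  | zero =>
    intro J _
    exact ⟨Fin.elim0, fun i => i.elim0, fun i => i.elim0⟩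
  | succ m ih =>
    intro J hJ
    rw [Nat.mul_succ] at hJ
    have hJpos : 0 < J.card := by omega
    obtain ⟨k, hk⟩ := Finset.card_pos.mp hJpos
    have hJ' : c * m < (J \ B k).card + c := by
      have h1 := Finset.le_card_sdiff (B k) J
      have h2 := hB k
      omega
    obtain ⟨ks', hks'J, hks'⟩ := ih (J \ B k) hJ'
    have hnot : ∀ i, ks' i ∉ B k := fun i => (Finset.mem_sdiff.mp (hks'J i)).2
    refine ⟨Fin.cons k ks', ?_, ?_⟩
    · intro i
      refine Fin.cases ?_ (fun i' => ?_) i
      · rw [Fin.cons_zero]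
        exact hk
      · rw [Fin.cons_succ]
        exact (Finset.mem_sdiff.mp (hks'J i')).1
    · intro i j
      refine Fin.cases ?_ (fun i' => ?_) i
      · refine Fin.cases ?_ (fun j' => ?_) j
        · intro hij
          exact absurd rfl hij
        · intro _
          rw [Fin.cons_zero, Fin.cons_succ]
          refine ⟨fun h => hnot j' ?_, fun h => hnot j' ?_⟩
          · rw [← h]
            exact (hmem k).1
          · rw [← h]
            exact (hmem k).2.1
      · refine Fin.cases ?_ (fun j' => ?_) j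
        · intro _
          rw [Fin.cons_zero, Fin.cons_succ]
          refine ⟨fun h => hnot i' ?_, fun h => hnot i' ?_⟩
          · rw [h]
            exact (hmem k).1
          · have : ks' i' = s⁻¹ k := by
              rw [← h, Equiv.Perm.inv_def, Equiv.symm_apply_apply]
            rw [this]
            exact (hmem k).2.2
        · intro hij
          rw [Fin.cons_succ, Fin.cons_succ]
          exact hks' i' j' (fun h => hij (by rw [h]))

open scoped Classical in
/-- SELECT (M): for an involutive permutation `s` and a set `J` of at least `2 m - 1` indices there are `m` elements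
`k_i ∈ J` with `k_i ≠ k_j` and `s k_i ≠ k_j` for `i ≠ j` (greedy: each choice excludes `k` and `s k`).  Induction on `m`. -/
theorem SELECT.invol (s : Equiv.Perm (Fin n)) (hs : ∀ k, s (s k) = k) (J : Finset (Fin n)) (m : ℕ)
    (hJ : 2 * m ≤ J.card + 1) :
    ∃ ks : Fin m → Fin n, (∀ i, ks i ∈ J) ∧ ∀ i j, i ≠ j → ks i ≠ ks j ∧ s (ks i) ≠ ks j := by
  refine SELECT.general s 2 (fun k => {k, s k}) (fun k => Finset.card_le_two) (fun k => ?_) m J (by omega)
  refine ⟨by simp, by simp, ?_⟩
  have : s⁻¹ k = s k := by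
    rw [Equiv.Perm.inv_eq_iff_eq, hs]
  rw [this]
  simp

open scoped Classical in
/-- SELECT (M): the same for an arbitrary permutation: `3 m - 2 ≤ |J|`, each choice excludes `k`, `s k`, `s⁻¹ k`. -/
theorem SELECT.perm (s : Equiv.Perm (Fin n)) (J : Finset (Fin n)) (m : ℕ) (hJ : 3 * m ≤ J.card + 2) :
    ∃ ks : Fin m → Fin n, (∀ i, ks i ∈ J) ∧ ∀ i j, i ≠ j → ks i ≠ ks j ∧ s (ks i) ≠ ks j := by
  refine SELECT.general s 3 (fun k => {k, s k, s⁻¹ k}) (fun k => Finset.card_le_three) (fun k => ?_) m J
    (by omega)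
  refine ⟨by simp, by simp, by simp⟩

end Cfsg.Agent.S5655K1
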