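import Mathlib
import Cfsg.Agent.Helper28.S5658.Defs
import Cfsg.Agent.Helper28.S5658.Lib

/-! S5658 piece TRANSF2 (driver helper28): the rational special unitary group is transitive on the rational
totally isotropic independent pairs. -/

set_option autoImplicit false

namespace Cfsg.Agent.S5658P

open Matrix
open Cfsg.Agent.S2644 Cfsg.Agent.Helper2.SUGen Cfsg.Agent.Helper28.SimMax Cfsg.Agent.S5639P

variable {K : Type*} [Field K] {q n : ℕ}

local notation "h" => Cfsg.hermForm n K q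
local notation "T" => Cfsg.unitaryTransvection n q

namespace TRANSF2

/-- a hyperbolic partner of `u` orthogonal to `w` -/
theorem exists_partner_perp (D : Frob K q) {u w : Fin n → K} (huu : h u u = 0) (hwu : h w u = 0)
    (hi : LinearIndependent K ![u, w]) :
    ∃ f : Fin n → K, h f f = 0 ∧ h f u = 1 ∧ h u f = 1 ∧ h f w = 0 ∧ h w f = 0 := by
  have huw : h u w = 0 := h_symm_zero D hwu
  have hex : ∃ z : Fin n → K, h z w = 0 ∧ h z u ≠ 0 := by
    by_contra hcon
    push Not at hcon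
    have hmem : u ∈ perpL q (perpL q (Submodule.span K {w})) := by
      intro x hx
      rw [mem_perpL_singleton D] at hx
      exact h_symm_zero D (hcon x hx)
    rw [perpL_perpL D] at hmem
    obtain ⟨a, ha⟩ := Submodule.mem_span_singleton.mp hmem
    rw [LinearIndependent.pair_iff] at hi
    have := (hi 1 (-a) (by rw [← ha]; module)).1
    exact one_ne_zero this
  obtain ⟨z, hzw, hzu⟩ := hex
  obtain ⟨x, hx⟩ : ∃ x : Fin n → K, x = (h z u)⁻¹ • z := ⟨_, rfl⟩
  have hxu : h x u = 1 := by rw [hx, h_smul_left, inv_mul_cancel₀ hzu]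
  have hux : h u x = 1 := by rw [← h_conj D, hxu, map_one]
  have hxw : h x w = 0 := by rw [hx, h_smul_left, hzw, mul_zero]
  obtain ⟨t, ht⟩ := exists_trace D (-(h x x)) (by rw [map_neg, h_self_fix D])
  refine ⟨x + t • u, ?_, ?_, ?_, ?_, ?_⟩
  · rw [h_self_add_smul D, huu, hux, hxu]
    linear_combination ht
  · rw [h_add_left, h_smul_left, huu, hxu]; ring
  · rw [h_add_right D, h_smul_right D, huu, hux]; ring
  · rw [h_add_left, h_smul_left, huw, hxw]; ring
  · rw [h_add_right D, h_smul_right D, hwu, h_symm_zero D hxw]; ring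

/-- transitivity on totally isotropic independent pairs, over any unitary field -/
theorem exists_gen2 [Finite K] (hn : 5 ≤ n) (D : Frob K q) {u w u' w' : Fin n → K}
    (huu : h u u = 0) (hww : h w w = 0) (hwu : h w u = 0)
    (huu' : h u' u' = 0) (hww' : h w' w' = 0) (hwu' : h w' u' = 0)
    (hi : LinearIndependent K ![u, w]) (hi' : LinearIndependent K ![u', w']) :
    ∃ t ∈ Gen D (⊤ : Submodule K (Fin n → K)), t *ᵥ u = u' ∧ t *ᵥ w = w' := by
  obtain ⟨f, hff, hfu, huf, hfw, hwf⟩ := exists_partner_perp D huu hwu hi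
  obtain ⟨f', hff', hfu', huf', hfw', hwf'⟩ := exists_partner_perp D huu' hwu' hi'
  have hdtop : 3 ≤ Module.finrank K (⊤ : Submodule K (Fin n → K)) := by
    rw [finrank_top, Module.finrank_fin_fun]; omega
  obtain ⟨t₁, ht₁, ht₁u, ht₁f⟩ := trans_pair D (nonDeg_top D) hdtop
    (Submodule.mem_top (x := u)) (Submodule.mem_top (x := f)) (Submodule.mem_top (x := u'))
    (Submodule.mem_top (x := f')) huu hff hfu huu' hff' hfu'
  have hP := Gen_pres D ht₁
  obtain ⟨w₁, hw₁⟩ : ∃ w₁ : Fin n → K, w₁ = t₁ *ᵥ w := ⟨_, rfl⟩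
  have hw0 : w ≠ 0 := hi.ne_zero 1
  have hw0' : w' ≠ 0 := hi'.ne_zero 1
  have hw₁0 : w₁ ≠ 0 := by
    intro h0
    apply hw0
    apply h_nondeg D
    intro y
    rw [← hP, ← hw₁, h0, h_zero_left]
  have hw₁w₁ : h w₁ w₁ = 0 := by rw [hw₁, hP, hww]
  have hw₁u : h w₁ u' = 0 := by rw [hw₁, ← ht₁u, hP, hwu]
  have hw₁f : h w₁ f' = 0 := by rw [hw₁, ← ht₁f, hP, hwf]
  -- the complement of the hyperbolic pair
  have hY : NonDeg q (perpL q ((⊥ : Submodule K (Fin n → K)) ⊔ Submodule.span K {u', f'})) := by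
    apply nonDeg_cut D
    · rw [perpL_bot D]; exact nonDeg_top D
    · rw [perpL_bot D]; exact Submodule.mem_top
    · rw [perpL_bot D]; exact Submodule.mem_top
    · exact huu'
    · exact hff'
    · exact huf'
    · exact hfu'
  have hdY : 3 ≤ Module.finrank K
      (perpL q ((⊥ : Submodule K (Fin n → K)) ⊔ Submodule.span K {u', f'})) := by
    have h1 := finrank_perpL D ((⊥ : Submodule K (Fin n → K)) ⊔ Submodule.span K {u', f'})
    have h2 : Module.finrank K
        ((⊥ : Submodule K (Fin n → K)) ⊔ Submodule.span K {u', f'} : Submodule K (Fin n → K)) ≤ 2 := by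
      rw [bot_sup_eq]
      classical
      have := finrank_span_finset_le_card (R := K) ({u', f'} : Finset (Fin n → K))
      rw [Finset.coe_insert, Finset.coe_singleton] at this
      exact this.trans (Finset.card_le_two)
    omega
  have hm₁ : w₁ ∈ perpL q ((⊥ : Submodule K (Fin n → K)) ⊔ Submodule.span K {u', f'}) := by
    rw [mem_perpL_sup_pair D]
    refine ⟨?_, hw₁u, hw₁f⟩
    rw [perpL_bot D]; exact Submodule.mem_top
  have hm' : w' ∈ perpL q ((⊥ : Submodule K (Fin n → K)) ⊔ Submodule.span K {u', f'}) := by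
    rw [mem_perpL_sup_pair D]
    refine ⟨?_, hwu', hwf'⟩
    rw [perpL_bot D]; exact Submodule.mem_top
  obtain ⟨t₂, ht₂, ht₂w⟩ := trans_iso D hY hdY hm₁ hm' hw₁w₁ hww' hw₁0 hw0'
  have hfix : t₂ *ᵥ u' = u' := by
    apply Gen_fix D ht₂
    intro y hy
    rw [mem_perpL_sup_pair D] at hy
    exact h_symm_zero D hy.2.1
  refine ⟨t₂ * t₁, Submonoid.mul_mem _ (Gen_mono D le_top ht₂) ht₁, ?_, ?_⟩
  · rw [← mulVec_mulVec, ht₁u, hfix]
  · rw [← mulVec_mulVec, ← hw₁, ht₂w]

/-- linear independence of a pair descends to the subfield -/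
theorem li_descend (F₀ : Subfield K) {a b : Fin n → F₀}
    (hi : LinearIndependent K ![up F₀ a, up F₀ b]) : LinearIndependent F₀ ![a, b] := by
  rw [LinearIndependent.pair_iff] at hi ⊢
  intro s t hst
  have := hi (s : K) (t : K) (by
    rw [← up_smul, ← up_smul, ← up_add, hst, up_zero])
  exact ⟨Subtype.ext this.1, Subtype.ext this.2⟩

end TRANSF2

theorem TRANSF.exists2 [Finite K] (hn : 13 ≤ n) (D : Frob K q) (F₀ : Subfield K)
    (hθ : ∃ θ ∈ F₀, D.σ θ ≠ θ) {u w u' w' : Fin n → K} (hu : Rat F₀ u) (hw : Rat F₀ w)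
    (hu' : Rat F₀ u') (hw' : Rat F₀ w') (huu : h u u = 0) (hww : h w w = 0) (hwu : h w u = 0)
    (huu' : h u' u' = 0) (hww' : h w' w' = 0) (hwu' : h w' u' = 0)
    (hi : LinearIndependent K ![u, w]) (hi' : LinearIndependent K ![u', w']) :
    ∃ A : Matrix (Fin n) (Fin n) K, RatM F₀ A ∧ Pres (q := q) A ∧ A.det = 1 ∧ A *ᵥ u = u' ∧
      A *ᵥ w = w' := by
  have : Finite F₀ := Finite.of_injective (fun x : F₀ => (x : K)) Subtype.val_injective
  obtain ⟨a, rfl⟩ := exists_up hu
  obtain ⟨b, rfl⟩ := exists_up hw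
  obtain ⟨a', rfl⟩ := exists_up hu'
  obtain ⟨b', rfl⟩ := exists_up hw'
  have down : ∀ x y : Fin n → F₀, h (up F₀ x) (up F₀ y) = 0 → Cfsg.hermForm n F₀ q x y = 0 := by
    intro x y hxy
    rw [herm_up] at hxy
    exact Subtype.ext hxy
  obtain ⟨t, ht, hta, htb⟩ := TRANSF2.exists_gen2 (n := n) (by omega) (frob0 D F₀ hθ)
    (down _ _ huu) (down _ _ hww) (down _ _ hwu) (down _ _ huu') (down _ _ hww') (down _ _ hwu')
    (TRANSF2.li_descend F₀ hi) (TRANSF2.li_descend F₀ hi')
  refine ⟨upM F₀ t, ratM_upM t, pres_upM D t (Gen_pres _ ht), ?_, ?_, ?_⟩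
  · rw [upM_det, Gen_det _ ht]; rfl
  · rw [upM_mulVec, hta]
  · rw [upM_mulVec, htb]

end Cfsg.Agent.S5658P
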