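import Mathlib
import Cfsg.Prelude.Def_GeometricClasses
import Cfsg.Agent.Helper2.S5886.Defs
import Cfsg.Agent.Helper2.S5664.Defs
import Cfsg.Agent.Helper23.S5886GALFIX

/-!
# S5664 piece KCHOICE (driver helper2)

In an extension `K / F` of finite fields of prime degree `r`, with `r ≥ 3` or `r ≠ p`, every proper `F`-subspace
`W` of `K` misses some `k` with `σ k - k ∉ F` for all `σ ≠ 1`.
-/

set_option autoImplicit false
set_option linter.unusedSectionVars false
set_option linter.unusedVariables false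
set_option linter.style.haveILetI false

namespace Cfsg.Agent.S5664P

open Cfsg.Agent.S5886P

variable {F K V : Type*} [Field F] [Field K] [Algebra F K]
  [AddCommGroup V] [Module F V] [Module K V] [IsScalarTower F K V]

/-- the base field as a subspace -/
def KCHOICE.base (F K : Type*) [Field F] [Field K] [Algebra F K] : Submodule F K :=
  LinearMap.range (Algebra.linearMap F K)

theorem KCHOICE.mem_base {x : K} : x ∈ KCHOICE.base F K ↔ x ∈ Set.range (algebraMap F K) := by
  unfold KCHOICE.base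
  rw [LinearMap.mem_range]
  constructor
  · rintro ⟨a, ha⟩
    exact ⟨a, by rw [← ha, Algebra.linearMap_apply]⟩
  · rintro ⟨a, ha⟩
    exact ⟨a, by rw [← ha, Algebra.linearMap_apply]⟩

theorem KCHOICE.finrank_base_le : Module.finrank F (KCHOICE.base F K) ≤ 1 := by
  unfold KCHOICE.base
  have := LinearMap.finrank_range_le (Algebra.linearMap F K)
  rwa [Module.finrank_self] at this

/-- the Artin-Schreier subspace of `σ` -/
def KCHOICE.AS (σ : K ≃ₐ[F] K) : Submodule F K :=
  (KCHOICE.base F K).comap (σ.toLinearMap - LinearMap.id)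

theorem KCHOICE.mem_AS {σ : K ≃ₐ[F] K} {k : K} :
    k ∈ KCHOICE.AS σ ↔ σ k - k ∈ Set.range (algebraMap F K) := by
  unfold KCHOICE.AS
  rw [Submodule.mem_comap, KCHOICE.mem_base]
  rfl

/-- iterating `σ` on an element of the Artin-Schreier subspace -/
theorem KCHOICE.pow_apply (σ : K ≃ₐ[F] K) (k : K) (a : F) (h : σ k - k = algebraMap F K a) (i : ℕ) :
    (σ ^ i) k = k + algebraMap F K (i • a) := by
  induction i with
  | zero => simp
  | succ i ih =>
    rw [pow_succ', AlgEquiv.mul_apply, ih, map_add, AlgEquiv.commutes, succ_nsmul, map_add]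
    have : σ k = k + algebraMap F K a := by rw [← h]; ring
    rw [this]
    ring

/-- the Artin-Schreier subspaces of two non-trivial automorphisms coincide -/
theorem KCHOICE.AS_le [Finite F] [Finite K] (hr : (Module.finrank F K).Prime) (σ φ : K ≃ₐ[F] K)
    (hσ : σ ≠ 1) : KCHOICE.AS σ ≤ KCHOICE.AS φ := by
  intro k hk
  rw [KCHOICE.mem_AS] at hk ⊢
  obtain ⟨a, ha⟩ := hk
  haveI : Fact (Module.finrank F K).Prime := ⟨hr⟩
  have hcard : Nat.card (K ≃ₐ[F] K) = Module.finrank F K := IsGalois.card_aut_eq_finrank F K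
  have htop := zpowers_eq_top_of_prime_card hcard hσ
  have hφ : φ ∈ Subgroup.zpowers σ := by rw [htop]; exact Subgroup.mem_top φ
  haveI : Finite (K ≃ₐ[F] K) := Nat.finite_of_card_ne_zero (by rw [hcard]; exact hr.ne_zero)
  rw [← mem_powers_iff_mem_zpowers] at hφ
  obtain ⟨i, hi⟩ := hφ
  refine ⟨i • a, ?_⟩
  rw [← hi, KCHOICE.pow_apply σ k a ha.symm i]
  ring

/-- `r ≠ p`: the Artin-Schreier subspace is the base field -/
theorem KCHOICE.AS_le_base [Finite F] [Finite K] (p : ℕ) [Fact p.Prime] [CharP F p]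
    (hr : (Module.finrank F K).Prime) (hne : Module.finrank F K ≠ p) (φ : K ≃ₐ[F] K) (hφ : φ ≠ 1) :
    KCHOICE.AS φ ≤ KCHOICE.base F K := by
  intro k hk
  rw [KCHOICE.mem_AS] at hk
  obtain ⟨a, ha⟩ := hk
  have hcard : Nat.card (K ≃ₐ[F] K) = Module.finrank F K := IsGalois.card_aut_eq_finrank F K
  haveI : Finite (K ≃ₐ[F] K) := Nat.finite_of_card_ne_zero (by rw [hcard]; exact hr.ne_zero)
  have hpow : φ ^ (Module.finrank F K) = 1 := by
    rw [← hcard]
    exact pow_card_eq_one'
  have h1 := KCHOICE.pow_apply φ k a ha.symm (Module.finrank F K)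
  rw [hpow, AlgEquiv.one_apply] at h1
  have h2 : algebraMap F K ((Module.finrank F K) • a) = 0 := by
    have : k + algebraMap F K ((Module.finrank F K) • a) = k + 0 := by rw [← h1, add_zero]
    exact add_left_cancel this
  have h3 : (Module.finrank F K) • a = 0 := (map_eq_zero (algebraMap F K)).mp h2
  rw [nsmul_eq_mul] at h3
  have hr0 : ((Module.finrank F K : ℕ) : F) ≠ 0 := by
    intro h0
    rw [CharP.cast_eq_zero_iff F p] at h0
    have := (Nat.prime_dvd_prime_iff_eq (Fact.out : p.Prime) hr).mp h0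
    exact hne this.symm
  have ha0 : a = 0 := by
    rcases mul_eq_zero.mp h3 with h | h
    · exact absurd h hr0
    · exact h
  rw [ha0, map_zero] at ha
  have ha' : φ k = k := sub_eq_zero.mp ha.symm
  rw [KCHOICE.mem_base]
  by_contra hk
  exact hφ (GALFIX hr φ k hk ha')

/-- the Artin-Schreier subspace has dimension at most two -/
theorem KCHOICE.finrank_AS_le [Finite F] [Finite K] (hr : (Module.finrank F K).Prime) (φ : K ≃ₐ[F] K)
    (hφ : φ ≠ 1) : Module.finrank F (KCHOICE.AS φ) ≤ 2 := by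
  haveI : FiniteDimensional F K := Module.Finite.of_finite
  obtain ⟨f, hf⟩ : ∃ f : KCHOICE.AS φ →ₗ[F] K, f = (φ.toLinearMap - LinearMap.id) ∘ₗ (KCHOICE.AS φ).subtype :=
    ⟨_, rfl⟩
  have h := LinearMap.finrank_range_add_finrank_ker f
  have hrange : Module.finrank F (LinearMap.range f) ≤ 1 := by
    have hle : LinearMap.range f ≤ KCHOICE.base F K := by
      rintro _ ⟨x, rfl⟩
      rw [hf]
      exact x.2
    exact le_trans (Submodule.finrank_mono hle) KCHOICE.finrank_base_le
  have hker : Module.finrank F (LinearMap.ker f) ≤ 1 := by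
    have hle : (LinearMap.ker f).map (KCHOICE.AS φ).subtype ≤ KCHOICE.base F K := by
      rintro _ ⟨x, hx, rfl⟩
      rw [SetLike.mem_coe, LinearMap.mem_ker, hf] at hx
      have hx' : φ (x : K) - (x : K) = 0 := hx
      rw [sub_eq_zero] at hx'
      rw [KCHOICE.mem_base]
      by_contra hk
      exact hφ (GALFIX hr φ _ hk hx')
    have heq : Module.finrank F ((LinearMap.ker f).map (KCHOICE.AS φ).subtype) =
        Module.finrank F (LinearMap.ker f) :=
      LinearEquiv.finrank_eq (Submodule.equivMapOfInjective _ (Submodule.injective_subtype _) _).symm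
    rw [← heq]
    exact le_trans (Submodule.finrank_mono hle) KCHOICE.finrank_base_le
  omega

/-- two proper subspaces do not cover the space -/
theorem KCHOICE.exists_notMem_two (W A : Submodule F K) (hW : W ≠ ⊤) (hA : A ≠ ⊤) :
    ∃ k : K, k ∉ W ∧ k ∉ A := by
  obtain ⟨a, ha⟩ : ∃ a, a ∉ W := by
    by_contra h
    push Not at h
    exact hW (eq_top_iff.mpr fun x _ => h x)
  obtain ⟨b, hb⟩ : ∃ b, b ∉ A := by
    by_contra h
    push Not at h
    exact hA (eq_top_iff.mpr fun x _ => h x)
  by_cases haA : a ∈ A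
  · by_cases hbW : b ∈ W
    · refine ⟨a + b, fun h => ha ?_, fun h => hb ?_⟩
      · have := W.sub_mem h hbW
        rwa [add_sub_cancel_right] at this
      · have := A.sub_mem h haA
        rwa [add_sub_cancel_left] at this
    · exact ⟨b, hbW, hb⟩
  · exact ⟨a, ha, haA⟩

/-- KCHOICE (M) -/
theorem KCHOICE [Finite F] [Finite K] (p : ℕ) [Fact p.Prime] [CharP F p]
    (hr : (Module.finrank F K).Prime) (h3 : 3 ≤ Module.finrank F K ∨ Module.finrank F K ≠ p)
    (W : Submodule F K) (hW : W ≠ ⊤) :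
    ∃ k : K, k ∉ W ∧ ∀ σ : K ≃ₐ[F] K, σ ≠ 1 → σ k - k ∉ Set.range (algebraMap F K) := by
  haveI : FiniteDimensional F K := Module.Finite.of_finite
  by_cases hex : ∃ φ : K ≃ₐ[F] K, φ ≠ 1
  · obtain ⟨φ, hφ⟩ := hex
    have hA : KCHOICE.AS φ ≠ ⊤ := by
      intro htop
      have hfr : Module.finrank F (KCHOICE.AS φ) = Module.finrank F K := by
        rw [htop, finrank_top]
      rcases h3 with h3 | hne
      · have := KCHOICE.finrank_AS_le hr φ hφ
        omega
      · have h1 := Submodule.finrank_mono (KCHOICE.AS_le_base p hr hne φ hφ)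
        have h2 := KCHOICE.finrank_base_le (F := F) (K := K)
        have := hr.two_le
        omega
    obtain ⟨k, hkW, hkA⟩ := KCHOICE.exists_notMem_two W (KCHOICE.AS φ) hW hA
    refine ⟨k, hkW, fun σ hσ hmem => hkA ?_⟩
    exact KCHOICE.AS_le hr σ φ hσ (KCHOICE.mem_AS.mpr hmem)
  · push Not at hex
    obtain ⟨a, ha⟩ : ∃ a, a ∉ W := by
      by_contra h
      push Not at h
      exact hW (eq_top_iff.mpr fun x _ => h x)
    exact ⟨a, ha, fun σ hσ => absurd (hex σ) hσ⟩

end Cfsg.Agent.S5664P
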