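import Mathlib
import Cfsg.Prelude.Def_GeometricClasses
import Cfsg.Agent.Helper2.S5886.Defs
import Cfsg.Agent.Helper2.S5664.Defs
import Cfsg.Agent.Helper21.S5886LINES
import Cfsg.Agent.Helper19.S5664SPTRANS

/-!
# S5664 piece MOVE' (driver helper2): port of `Cfsg.Agent.S5886P.MOVE` to the symplectic setting
-/

set_option autoImplicit false
set_option linter.unusedSectionVars false
set_option linter.unusedVariables false

namespace Cfsg.Agent.S5664P

open Cfsg.Agent.S5886P

variable {F K V : Type*} [Field F] [Field K] [Algebra F K]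
  [AddCommGroup V] [Module F V] [Module K V] [IsScalarTower F K V]

/-- membership in a `K`-line -/
theorem MOVEP.mem_Kline {v w : V} : w ∈ Kline (F := F) (K := K) v ↔ ∃ c : K, c • v = w := by
  unfold Kline
  rw [Submodule.restrictScalars_mem, Submodule.mem_span_singleton]

/-- MOVE' (M) -/
theorem MOVE' [Finite K] [Finite V] (hm : 2 ≤ Module.finrank K V) (B : V →ₗ[K] V →ₗ[K] K)
    (hB : IsAltND B) (M : Subgroup (V ≃ₗ[F] V)) (hK : SpK F B ≤ M) (hM : ¬ M ≤ Nrm F K V) :
    ∃ (v : V) (k : K) (h : V ≃ₗ[F] V), v ≠ 0 ∧ h ∈ M ∧ h v = v ∧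
      h (k • v) ∉ Kline (F := F) (K := K) v := by
  by_contra hcon
  apply hM
  intro g hg
  apply LINES hm g
  intro k x
  by_cases hx : x = 0
  · rw [hx, smul_zero, map_zero]
    exact Submodule.zero_mem _
  · have hgx : g x ≠ 0 := by
      intro h0
      apply hx
      apply g.injective
      rw [h0, map_zero]
    obtain ⟨s, hs, hsx⟩ := SPTRANS (F := F) B hB (g x) x hgx hx
    have hmem : s * g ∈ M := M.mul_mem (hK hs) hg
    have hfix : (s * g) x = x := by rw [LinearEquiv.mul_apply, hsx]
    have hin : (s * g) (k • x) ∈ Kline (F := F) (K := K) x := by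
      by_contra hnot
      exact hcon ⟨x, k, s * g, hx, hmem, hfix, hnot⟩
    rw [MOVEP.mem_Kline] at hin ⊢
    obtain ⟨c, hc⟩ := hin
    refine ⟨c, ?_⟩
    apply s.injective
    rw [hs.1, hsx, hc, LinearEquiv.mul_apply]

end Cfsg.Agent.S5664P
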