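import Cfsg.Agent.Helper29.S5677.Defs
import Cfsg.Agent.Helper20.S5677CMP1
import Cfsg.Agent.Helper20.S5677CMP2
import Cfsg.Agent.Helper24.S5677GEOB
import Cfsg.Agent.Helper24.S5677GEOC
import Cfsg.Agent.Helper2.S5677BLK
import Cfsg.Agent.Helper26.S5677PM

set_option autoImplicit false
set_option linter.unusedSectionVars false
set_option linter.unusedVariables false

/-! # S5677 piece LOCB1 (driver helper29): LOC at a block where `v_c` is singular and non-zero. -/

namespace Cfsg.Agent.S5677P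

open Matrix Cfsg.Agent.Helper28.Sg Cfsg.Agent.Helper28.Spin Cfsg.Agent.Helper12.OrthGen
  Cfsg.Agent.S2614 Cfsg.Agent.S5683P Cfsg.Agent.Helper28.NDM

variable {F : Type*} [Field F] {m t k : ℕ} {D : Fin t → Submodule F (Idx m → F)}
  {M : Subgroup (OG m F)}

theorem LOCB1.loc [Fintype F] (h2 : (2 : F) ≠ 0) (hD : HD k D) (hHM : HS D ≤ M) (hG1 : ¬ G1 M D)
    {v : Idx m → F} (hv : NPV M D v) {c : Fin t} (hvc : cmp D c v ≠ 0)
    (hQ : QfOdd m F (cmp D c v) = 0) {y : Idx m → F} (hy : y ∈ Rad M v hv.Qv) :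
    ∃ s : F, cmp D c y = s • cmp D c v := by
  have hu : cmp D c v ∈ D c := CMP1.mem hD c v
  -- `u ⊥ v`
  have huv : B (QfOdd m F) (cmp D c v) v = 0 := by
    rw [← CMP2.B_left hD hu v, B_self_of_singular _ hQ]
  -- every `w ∈ D c` perpendicular to `u` is perpendicular to `v`
  have hwv : ∀ w ∈ D c, B (QfOdd m F) (cmp D c v) w = 0 → B (QfOdd m F) w v = 0 := by
    intro w hw huw
    rw [← CMP2.B_left hD hw v, B_comm]
    exact huw
  -- a nonsingular `w₀`
  obtain ⟨w₀, hw₀, huw₀, hQw₀⟩ := GEOB.nonsing_perp h2 (D c) (BLK.ndon hD c) (BLK.three hD c) hu hvc hQ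
  have h1 := (PM.main h2 hD hHM hG1 hv hu hw₀ hvc hQ huw₀ huv (hwv w₀ hw₀ huw₀) hy).1
  have huy : B (QfOdd m F) (cmp D c v) y = 0 := by
    rcases mul_eq_zero.mp h1 with h | h
    · exact absurd h hQw₀
    · exact h
  apply GEOC.perp_perp (D c) (BLK.ndon hD c) hu hvc hQ (CMP1.mem hD c y)
  intro w hw huw
  rw [CMP2.B_left hD hw y]
  exact (PM.main h2 hD hHM hG1 hv hu hw hvc hQ huw huv (hwv w hw huw) hy).2 huy

end Cfsg.Agent.S5677P
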