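import Cfsg.Agent.Helper29.S5677.Defs
import Cfsg.Agent.Helper20.S5677CMP1
import Cfsg.Agent.Helper20.S5677CMP2
import Cfsg.Agent.Helper22.S5677GEOA
import Cfsg.Agent.Helper24.S5677GEOB
import Cfsg.Agent.Helper11.S5677UPERP
import Cfsg.Agent.Helper2.S5677BLK
import Cfsg.Agent.Helper26.S5677PM

set_option autoImplicit false
set_option linter.unusedSectionVars false
set_option linter.unusedVariables false

/-! # S5677 piece LOCB2 (driver helper29): LOC at a block where `v_c` is nonsingular, `k ≥ 4`. -/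

namespace Cfsg.Agent.S5677P

open Matrix Cfsg.Agent.Helper28.Sg Cfsg.Agent.Helper28.Spin Cfsg.Agent.Helper12.OrthGen
  Cfsg.Agent.S2614 Cfsg.Agent.S5683P Cfsg.Agent.Helper28.NDM

variable {F : Type*} [Field F] {m t k : ℕ} {D : Fin t → Submodule F (Idx m → F)}
  {M : Subgroup (OG m F)}

theorem LOCB2.loc [Fintype F] (h2 : (2 : F) ≠ 0) (hD : HD k D) (hHM : HS D ≤ M) (hG1 : ¬ G1 M D)
    (hk : 4 ≤ k) {v : Idx m → F} (hv : NPV M D v) {c : Fin t}
    (hQ : QfOdd m F (cmp D c v) ≠ 0) {y : Idx m → F} (hy : y ∈ Rad M v hv.Qv) :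
    ∃ s : F, cmp D c y = s • cmp D c v := by
  have hz : cmp D c v ∈ D c := CMP1.mem hD c v
  have hyc : cmp D c y ∈ D c := CMP1.mem hD c y
  have hU : NDon (QfOdd m F) (perpIn (QfOdd m F) (D c) {cmp D c v}) :=
    UPERP.ndon h2 (D c) (BLK.ndon hD c) hz hQ
  have h3 : 3 ≤ Module.finrank F (perpIn (QfOdd m F) (D c) {cmp D c v}) := by
    have h1 := UPERP.finrank h2 (D c) (cmp D c v)
    have h4 := hD.rank c
    omega
  obtain ⟨s, hs⟩ := UPERP.decomp h2 (D c) hz hQ hyc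
  refine ⟨s, ?_⟩
  by_contra hne
  have hy'0 : cmp D c y - s • cmp D c v ≠ 0 := fun h0 => hne (sub_eq_zero.mp h0)
  obtain ⟨u', hu', hQu', hu'y'⟩ := GEOA.sing_nonorth _ hU h3 hs hy'0
  have hu'0 : u' ≠ 0 := by
    rintro rfl
    apply hu'y'
    simp [B]
  obtain ⟨w', hw', hu'w', hQw'⟩ := GEOB.nonsing_perp h2 _ hU h3 hu' hu'0 hQu'
  rw [mem_perpIn] at hu' hw'
  have hzu' : B (QfOdd m F) (cmp D c v) u' = 0 := hu'.2 _ rfl
  have hzw' : B (QfOdd m F) (cmp D c v) w' = 0 := hw'.2 _ rfl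
  have hu'v : B (QfOdd m F) u' v = 0 := by
    rw [← CMP2.B_left hD hu'.1 v, B_comm]; exact hzu'
  have hw'v : B (QfOdd m F) w' v = 0 := by
    rw [← CMP2.B_left hD hw'.1 v, B_comm]; exact hzw'
  have h1 := (PM.main h2 hD hHM hG1 hv hu'.1 hw'.1 hu'0 hQu' hu'w' hu'v hw'v hy).1
  have hu'y : B (QfOdd m F) u' y = 0 := by
    rcases mul_eq_zero.mp h1 with h | h
    · exact absurd h hQw'
    · exact h
  apply hu'y'
  rw [Cfsg.Agent.Helper28.OFN.B_sub_right', Cfsg.Agent.Helper28.OFN.B_smul_right', CMP2.B_left hD hu'.1 y, hu'y, B_comm, hzu']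
  ring

end Cfsg.Agent.S5677P
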