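import Mathlib
import Cfsg.Prelude.Def_GeometricClasses
import Cfsg.Agent.Helper18.S5707.Defs
import Cfsg.Agent.Helper23.S5707K2CONJ
import Cfsg.Agent.Helper25.S5707NF
import Cfsg.Agent.Helper25.S5707NORMSTD

/-! S5707 piece K2STD (driver helper18): the standard tensor-wreath group normalises `calV L2` (`k = 2`). -/

set_option autoImplicit false

namespace Cfsg.Agent.S5707P

open Matrix

variable {F : Type*} [Field F] {k t : ℕ}

theorem K2.std_le_normV [CharP F 2] :
    Cfsg.Geo.tensorWreathStandard 2 t F ≤ normV (t := t) (L2 : Submodule F (Matrix (Fin 2) (Fin 2) F)) := by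
  intro g hg
  obtain ⟨gs, σ, hnf⟩ := NF.exists_nf g hg
  apply NORMSTD.mem_normV L2 g gs σ hnf
  intro i A hA
  refine ⟨K2.L2_conj (gs i) A hA, ?_⟩
  have := K2.L2_conj (gs i)⁻¹ A hA
  rwa [inv_inv] at this

end Cfsg.Agent.S5707P
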