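import Mathlib
import Cfsg.Prelude.Def_GeometricClasses
import Cfsg.Agent.Helper18.S5707.Defs
import Cfsg.Agent.Helper3.S5707NOTSTD
import Cfsg.Agent.Helper25.S5707NF

/-! S5707 piece K2YNOTSTD (driver helper18): `y = 1 + loc2 s1 s2 E2 E2` is not in the standard tensor-wreath group. -/

set_option autoImplicit false

namespace Cfsg.Agent.S5707P

open Matrix

variable {F : Type*} [Field F] {k t : ℕ}

namespace K2YNOTSTD

theorem E2_diag (a : Fin 2) : (E2 : Matrix (Fin 2) (Fin 2) F) a a = 0 := by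
  fin_cases a <;> simp [E2]

/-- an entry of `loc2 s1 s2 E2 E2` vanishes as soon as the two indices agree at `s1` or at `s2` -/
theorem loc2_apply_eq_zero (s1 s2 : Fin t) (h12 : s1 ≠ s2) (x x' : X 2 t)
    (h : x s1 = x' s1 ∨ x s2 = x' s2) :
    (loc2 s1 s2 (E2 : Matrix (Fin 2) (Fin 2) F) E2) x x' = 0 := by
  unfold loc2 tensM
  rcases h with h | h
  · apply Finset.prod_eq_zero (Finset.mem_univ s1)
    rw [Function.update_of_ne h12, upd1, Function.update_self, h, E2_diag]
  · apply Finset.prod_eq_zero (Finset.mem_univ s2)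
    rw [Function.update_self, h, E2_diag]

/-- the entry at `(0, …, 0)`, `(0, …, 1 (s1), …, 1 (s2), …, 0)` is `1` -/
theorem loc2_apply_one (s1 s2 : Fin t) (h12 : s1 ≠ s2) :
    (loc2 s1 s2 (E2 : Matrix (Fin 2) (Fin 2) F) E2) (fun _ => 0)
      (Function.update (Function.update (fun _ => 0) s1 1) s2 1) = 1 := by
  unfold loc2 tensM
  apply Finset.prod_eq_one
  intro i _
  by_cases h2 : i = s2
  · subst h2
    rw [Function.update_self, Function.update_self]
    simp [E2]
  · rw [Function.update_of_ne h2, Function.update_of_ne h2]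
    by_cases h1 : i = s1
    · subst h1
      rw [upd1, Function.update_self, Function.update_self]
      simp [E2]
    · rw [upd1, Function.update_of_ne h1, Function.update_of_ne h1]
      simp

end K2YNOTSTD

theorem K2.y_not_std [CharP F 2] (s1 s2 : Fin t) (h12 : s1 ≠ s2)
    (hN : loc2 s1 s2 (E2 : Matrix (Fin 2) (Fin 2) F) E2 * loc2 s1 s2 E2 E2 = 0) :
    invo (loc2 s1 s2 E2 E2) hN ∉ Cfsg.Geo.tensorWreathStandard 2 t F := by
  intro hmem
  obtain ⟨gs, σ, hnf⟩ := NF.exists_nf _ hmem
  have hY : (1 + loc2 s1 s2 (E2 : Matrix (Fin 2) (Fin 2) F) E2 : Matrix (X 2 t) (X 2 t) F) =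
      tensM (fun i => ((gs i : GL (Fin 2) F) : Matrix (Fin 2) (Fin 2) F)) * permM 2 σ := hnf
  have hd : ∀ x, (1 + loc2 s1 s2 (E2 : Matrix (Fin 2) (Fin 2) F) E2 : Matrix (X 2 t) (X 2 t) F) x x ≠ 0 := by
    intro x
    rw [Matrix.add_apply, Matrix.one_apply_eq, K2YNOTSTD.loc2_apply_eq_zero s1 s2 h12 x x (Or.inl rfl), add_zero]
    exact one_ne_zero
  have h1 : ∀ (x x' : X 2 t) (i : Fin t), x i ≠ x' i → (∀ j, j ≠ i → x j = x' j) →
      (1 + loc2 s1 s2 (E2 : Matrix (Fin 2) (Fin 2) F) E2 : Matrix (X 2 t) (X 2 t) F) x x' = 0 := by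
    intro x x' i hi hj
    have hxx' : x ≠ x' := fun h => hi (by rw [h])
    rw [Matrix.add_apply, Matrix.one_apply_ne hxx', zero_add]
    apply K2YNOTSTD.loc2_apply_eq_zero s1 s2 h12
    by_cases h : s1 = i
    · right
      apply hj
      rw [← h]
      exact fun h' => h12 h'.symm
    · left
      exact hj s1 h
  have key := NOTSTD.diag_of_nf (le_refl 2) _ _ σ hY hd h1 (fun _ => 0)
    (Function.update (Function.update (fun _ => 0) s1 1) s2 1) (by
      intro h
      have := congrFun h s2
      rw [Function.update_self] at this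
      exact zero_ne_one this)
  rw [Matrix.add_apply, K2YNOTSTD.loc2_apply_one s1 s2 h12, Matrix.one_apply_ne, zero_add] at key
  · exact one_ne_zero key
  · intro h
    have := congrFun h s2
    rw [Function.update_self] at this
    exact zero_ne_one this

end Cfsg.Agent.S5707P
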