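import Mathlib
import Cfsg.Prelude.Def_GeometricClasses
import Cfsg.Agent.Helper2.S5886.Defs
import Cfsg.Agent.Helper26.S5886PROJA
import Cfsg.Agent.Helper22.S5886PROJB

/-!
# S5886 piece MULTB (driver helper2)

If `g` stabilises the `K`-line `L`, is `σ`-semilinear on `L`, and all its other components map `V` into `L`,
then `n = proj σ g` is a semilinear automorphism with the determinant of `g`, equal to `g` on `L` and congruent
to `g` modulo `L`.
-/

set_option autoImplicit false
set_option linter.unusedSectionVars false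
set_option linter.unusedVariables false

namespace Cfsg.Agent.S5886P

variable {F K V : Type*} [Field F] [Field K] [Algebra F K]
  [AddCommGroup V] [Module F V] [Module K V] [IsScalarTower F K V]

/-- the value of a component -/
theorem MULTB.proj_apply [Finite F] [Finite K] (τ : K ≃ₐ[F] K) (A : V →ₗ[F] V) (x : V) :
    proj τ A x = ∑ i, τ ((Algebra.traceForm F K).dualBasis (traceForm_nondegenerate F K)
      (Module.finBasis F K) i) • A (Module.finBasis F K i • x) := by
  unfold proj
  rw [LinearMap.sum_apply]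
  rfl

/-- the `K`-line is stable under `K` -/
theorem MULTB.smul_mem (v : V) (c : K) {x : V} (hx : x ∈ Kline (F := F) (K := K) v) :
    c • x ∈ Kline (F := F) (K := K) v := by
  unfold Kline at hx ⊢
  rw [Submodule.restrictScalars_mem] at hx ⊢
  exact Submodule.smul_mem _ c hx

/-- components only depend on the values on the `K`-line -/
theorem MULTB.proj_congr [Finite F] [Finite K] (v : V) (τ : K ≃ₐ[F] K) (A B : V →ₗ[F] V)
    (hAB : ∀ x ∈ Kline (F := F) (K := K) v, A x = B x) {x : V} (hx : x ∈ Kline (F := F) (K := K) v) :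
    proj τ A x = proj τ B x := by
  rw [MULTB.proj_apply, MULTB.proj_apply]
  refine Finset.sum_congr rfl fun i _ => ?_
  rw [hAB _ (MULTB.smul_mem v _ hx)]

/-- a globally `σ`-semilinear map equal to `g` on the line -/
theorem MULTB.exists_semi (v : V) (g : V →ₗ[F] V) (σ : K ≃ₐ[F] K)
    (h1 : ∀ (c : K), ∀ x ∈ Kline (F := F) (K := K) v, g (c • x) = σ c • g x) :
    ∃ A : V →ₗ[F] V, IsSemi σ A ∧ ∀ x ∈ Kline (F := F) (K := K) v, A x = g x := by
  obtain ⟨π, hπ⟩ := LinearMap.exists_leftInverse_of_injective (Submodule.span K {v}).subtype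
    (Submodule.ker_subtype _)
  refine ⟨g ∘ₗ ((Submodule.span K {v}).subtype.restrictScalars F) ∘ₗ (π.restrictScalars F), ?_, ?_⟩
  · intro k x
    simp only [LinearMap.comp_apply, LinearMap.restrictScalars_apply, map_smul, Submodule.subtype_apply]
    exact h1 k _ (by
      unfold Kline
      rw [Submodule.restrictScalars_mem]
      exact (π x).2)
  · intro x hx
    have hx' : x ∈ Submodule.span K {v} := by
      unfold Kline at hx
      rwa [Submodule.restrictScalars_mem] at hx
    have := LinearMap.congr_fun hπ ⟨x, hx'⟩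
    simp only [LinearMap.comp_apply, Submodule.subtype_apply, LinearMap.id_apply] at this
    simp only [LinearMap.comp_apply, LinearMap.restrictScalars_apply, Submodule.subtype_apply]
    rw [this]

/-- MULTB -/
theorem MULTB [Finite F] [Finite K] [Finite V] (v : V) (g : V ≃ₗ[F] V)
    (hgL : ∀ x ∈ Kline (F := F) (K := K) v, g x ∈ Kline (F := F) (K := K) v) (σ : K ≃ₐ[F] K)
    (h1 : ∀ (c : K), ∀ x ∈ Kline (F := F) (K := K) v, g (c • x) = σ c • g x)
    (h2 : ∀ τ : K ≃ₐ[F] K, τ ≠ σ → ∀ x, proj τ (g : V →ₗ[F] V) x ∈ Kline (F := F) (K := K) v) :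
    ∃ n ∈ Nrm F K V, LinearEquiv.det n = LinearEquiv.det g ∧
      (∀ x ∈ Kline (F := F) (K := K) v, n x = g x) ∧ ∀ x, g x - n x ∈ Kline (F := F) (K := K) v := by
  classical
  obtain ⟨L, hL⟩ : ∃ L : Submodule F V, L = Kline (F := F) (K := K) v := ⟨_, rfl⟩
  rw [← hL] at hgL h1 h2 ⊢
  obtain ⟨n₀, hn₀⟩ : ∃ n₀ : V →ₗ[F] V, n₀ = proj σ (g : V →ₗ[F] V) := ⟨_, rfl⟩
  -- `n₀ = g` on `L`
  have hnL : ∀ x ∈ L, n₀ x = g x := by
    intro x hx
    obtain ⟨A, hA, hAg⟩ := MULTB.exists_semi v (g : V →ₗ[F] V) σ (by rw [← hL]; exact h1)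
    rw [hn₀, ← MULTB.proj_congr v σ A (g : V →ₗ[F] V) hAg (by rw [← hL]; exact hx),
      PROJ.of_semi_eq σ A hA]
    exact hAg x (by rw [← hL]; exact hx)
  -- `g - n₀` maps into `L`
  have hdiff : ∀ x, g x - n₀ x ∈ L := by
    intro x
    have : Fintype (K ≃ₐ[F] K) := Fintype.ofFinite _
    have hsum := PROJ.sum (K := K) (g : V →ₗ[F] V)
    rw [finsum_eq_sum_of_fintype, ← Finset.add_sum_erase Finset.univ _ (Finset.mem_univ σ)] at hsum
    have hx := LinearMap.congr_fun hsum x
    rw [LinearMap.add_apply, ← hn₀, LinearMap.sum_apply] at hx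
    have : g x - n₀ x = ∑ τ ∈ Finset.univ.erase σ, proj τ (g : V →ₗ[F] V) x := by
      rw [LinearEquiv.coe_coe] at hx
      rw [← hx]
      abel
    rw [this]
    exact Submodule.sum_mem _ fun τ hτ => h2 τ (Finset.ne_of_mem_erase hτ) x
  -- `g` maps `L` onto `L`
  have hgsurj : ∀ y ∈ L, ∃ x ∈ L, g x = y := by
    have hinj : Function.Injective (fun x : L => (⟨g x, hgL x x.2⟩ : L)) := by
      intro a b hab
      have := congrArg Subtype.val hab
      exact Subtype.ext (g.injective this)
    have hsurj := Finite.surjective_of_injective hinj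
    intro y hy
    obtain ⟨x, hx⟩ := hsurj ⟨y, hy⟩
    exact ⟨x, x.2, congrArg Subtype.val hx⟩
  -- injectivity
  have hinj : Function.Injective n₀ := by
    rw [← LinearMap.ker_eq_bot, LinearMap.ker_eq_bot']
    intro x hx
    have h3 := hdiff x
    rw [hx, sub_zero] at h3
    obtain ⟨y, hy, hgy⟩ := hgsurj _ h3
    have hxy : y = x := g.injective hgy
    rw [hxy] at hy
    have := hnL x hy
    rw [hx] at this
    exact (g.map_eq_zero_iff).mp this.symm
  have hbij : Function.Bijective n₀ := Finite.injective_iff_bijective.mp hinj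
  refine ⟨LinearEquiv.ofBijective n₀ hbij, ⟨σ, ?_⟩, ?_, fun x hx => ?_, fun x => ?_⟩
  · have : ((LinearEquiv.ofBijective n₀ hbij : V ≃ₗ[F] V) : V →ₗ[F] V) = n₀ := by
      ext x
      rfl
    rw [this, hn₀]
    exact PROJ.semi σ _
  · apply Units.ext
    rw [LinearEquiv.coe_det, LinearEquiv.coe_det]
    have hcoe : ((LinearEquiv.ofBijective n₀ hbij : V ≃ₗ[F] V) : V →ₗ[F] V) = n₀ := by
      ext x
      rfl
    rw [hcoe]
    have hgc : L ≤ L.comap (g : V →ₗ[F] V) := fun x hx => hgL x hx
    have hnc : L ≤ L.comap n₀ := fun x hx => by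
      rw [Submodule.mem_comap, hnL x hx]
      exact hgL x hx
    rw [LinearMap.det_eq_det_mul_det L _ hgc, LinearMap.det_eq_det_mul_det L _ hnc]
    have e1 : n₀.restrict hnc = (g : V →ₗ[F] V).restrict hgc := by
      ext x
      simp only [LinearMap.coe_restrict_apply]
      exact hnL x x.2
    have e2 : L.mapQ L n₀ hnc = L.mapQ L (g : V →ₗ[F] V) hgc := by
      apply LinearMap.ext
      intro y
      induction y using Submodule.Quotient.induction_on with
      | H x =>
        rw [Submodule.mapQ_apply, Submodule.mapQ_apply, Submodule.Quotient.eq]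
        have := L.neg_mem (hdiff x)
        rwa [neg_sub] at this
    rw [e1, e2]
  · exact hnL x hx
  · exact hdiff x

end Cfsg.Agent.S5886P
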