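import Mathlib
import Cfsg.Prelude.Def_ClassicalGeometry
import Cfsg.Agent.Helper16.S5955Defs

set_option autoImplicit false
open scoped MatrixGroups

/-! S5955 piece SPYSP. -/

namespace Cfsg.Agent.S5955P

open Polynomial Cfsg.Agent.Helper2.SympInvol Cfsg.Agent.Helper2.SympUnits Cfsg.Agent.S5961P

/-- SPYSP: a symplectic matrix of order dividing `r` gives an `IsYSp` -/
theorem sp_isYSp {F : Type*} [Field F] (d : ℕ) (x : Matrix.symplecticGroup (Fin d) F) (r : ℕ)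
    (hx : (x : Matrix (Fin d ⊕ Fin d) (Fin d ⊕ Fin d) F) ^ r = 1) :
    IsYSp (sB d F) (Matrix.toLin' (x : Matrix (Fin d ⊕ Fin d) (Fin d ⊕ Fin d) F)) r := by
  refine ⟨sB_alt d F, sB_nondeg d F, sB_isometry d F x, ?_⟩
  rw [← Matrix.toLin'_pow, hx, Matrix.toLin'_one]
  rfl

end Cfsg.Agent.S5955P
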