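import Mathlib
import Cfsg.Prelude.Def_ClassicalGeometry
import Cfsg.Agent.Helper16.S5955Defs
import Cfsg.Agent.Helper16.S5955SPYSP
import Cfsg.Agent.Helper8.S5955INVSPLIT
import Cfsg.Agent.Helper3.S5955TIFIX
import Cfsg.Agent.Helper19.S5955MODELSP
import Cfsg.Agent.Helper7.S5955MODEL2
import Cfsg.Agent.Helper18.S5961ARITH
import Cfsg.Agent.Helper23.S5961ELT

set_option autoImplicit false
open scoped MatrixGroups

namespace Cfsg.Agent.S5955P

open Polynomial Cfsg.Agent.Helper2.SympInvol Cfsg.Agent.Helper2.SympUnits Cfsg.Agent.S5961P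

/-- common step: from an invariant t.i. `W` of finrank `m` for `x` with small fixed space -/
theorem NEC.fix_eq_mod {F : Type*} [Field F] [Fintype F] {p : ℕ} [Fact p.Prime] [CharP F p]
    (r : ℕ) [Fact r.Prime] (hrp : r ≠ p) (d m : ℕ)
    (x : Matrix.symplecticGroup (Fin d) F)
    (hx : (x : Matrix (Fin d ⊕ Fin d) (Fin d ⊕ Fin d) F) ^ r = 1)
    (hker : Module.finrank F (LinearMap.ker (Matrix.toLin'
      (x : Matrix (Fin d ⊕ Fin d) (Fin d ⊕ Fin d) F) - 1)) <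
      2 * orderOf ((Fintype.card F : ℕ) : ZMod r))
    (W : Submodule F (Fin d ⊕ Fin d → F)) (hWm : Module.finrank F ↥W = m)
    (hWti : ∀ u ∈ W, ∀ v ∈ W, Cfsg.sympForm d F u v = 0)
    (hWinv : W.map (Matrix.toLin' (x : Matrix (Fin d ⊕ Fin d) (Fin d ⊕ Fin d) F)) ≤ W) :
    Module.finrank F ↥(W ⊓ LinearMap.ker (Matrix.toLin'
      (x : Matrix (Fin d ⊕ Fin d) (Fin d ⊕ Fin d) F) - 1)) =
      m % orderOf ((Fintype.card F : ℕ) : ZMod r) ∧
    2 * (m % orderOf ((Fintype.card F : ℕ) : ZMod r)) ≤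
      Module.finrank F (LinearMap.ker (Matrix.toLin'
        (x : Matrix (Fin d ⊕ Fin d) (Fin d ⊕ Fin d) F) - 1)) ∧
    Module.finrank F ↥(W ⊓ LinearMap.range (Matrix.toLin'
      (x : Matrix (Fin d ⊕ Fin d) (Fin d ⊕ Fin d) F) - 1)) =
      orderOf ((Fintype.card F : ℕ) : ZMod r) * (m / orderOf ((Fintype.card F : ℕ) : ZMod r)) := by
  have hY := sp_isYSp d x r hx
  have hti : Orth (sB d F) W W := fun u hu v hv => hWti u hu v hv
  have h1 := ti_fix_le (p := p) r hrp (sB d F) _ hY W hti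
  obtain ⟨-, hsplit, hdiv⟩ := inv_split (p := p) r hrp _ hY.pow W hWinv
  obtain ⟨e, he⟩ := hdiv
  rw [hWm, he] at hsplit
  have ha'lt : Module.finrank F ↥(W ⊓ LinearMap.ker (Matrix.toLin'
      (x : Matrix (Fin d ⊕ Fin d) (Fin d ⊕ Fin d) F) - 1)) <
      orderOf ((Fintype.card F : ℕ) : ZMod r) := by omega
  have hipos : 0 < orderOf ((Fintype.card F : ℕ) : ZMod r) := by omega
  have hmod : m % orderOf ((Fintype.card F : ℕ) : ZMod r) =
      Module.finrank F ↥(W ⊓ LinearMap.ker (Matrix.toLin'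
      (x : Matrix (Fin d ⊕ Fin d) (Fin d ⊕ Fin d) F) - 1)) := by
    rw [← hsplit, Nat.add_mul_mod_self_left, Nat.mod_eq_of_lt ha'lt]
  have hdiv' : m / orderOf ((Fintype.card F : ℕ) : ZMod r) = e := by
    rw [← hsplit, Nat.add_mul_div_left _ _ hipos, Nat.div_eq_of_lt ha'lt, zero_add]
  refine ⟨hmod.symm, by rw [hmod]; exact h1, by rw [he, hdiv']⟩

/-- NECBASIC -/
theorem nec_basic {F : Type*} [Field F] [Fintype F] {p : ℕ} [Fact p.Prime] [CharP F p]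
    (r : ℕ) [Fact r.Prime] (hr2 : r ≠ 2) (hrp : r ≠ p) (d m : ℕ) (hm : 1 ≤ m) (hmd : m ≤ d)
    (j : ℕ) (hj : j < m) (hrj : r ∣ Fintype.card F ^ (2 * (d - j)) - 1)
    (hall : ∀ x : Matrix.symplecticGroup (Fin d) F,
      (x : Matrix (Fin d ⊕ Fin d) (Fin d ⊕ Fin d) F) ^ r = 1 →
      (x : Matrix (Fin d ⊕ Fin d) (Fin d ⊕ Fin d) F) ≠ 1 →
      ∃ W : Submodule F (Fin d ⊕ Fin d → F), Module.finrank F ↥W = m ∧
        (∀ u ∈ W, ∀ v ∈ W, Cfsg.sympForm d F u v = 0) ∧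
        W.map (Matrix.toLin' (x : Matrix (Fin d ⊕ Fin d) (Fin d ⊕ Fin d) F)) ≤ W) :
    orderOf ((Fintype.card F : ℕ) : ZMod r) ≤ m ∧
    2 * (m % orderOf ((Fintype.card F : ℕ) : ZMod r)) ≤ (2 * d) % cc F r := by
  classical
  obtain ⟨hipos, hcpos, -, -, -, -, harith, -⟩ := cc_arith (F := F) (p := p) r hr2 hrp
  have hcdvd : cc F r ∣ 2 * (d - j) := harith (d - j) hrj
  have hcle : cc F r ≤ 2 * d := le_trans (Nat.le_of_dvd (by omega) hcdvd) (by omega)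
  have hc2i : cc F r ≤ 2 * orderOf ((Fintype.card F : ℕ) : ZMod r) := by
    rw [cc_def]; split_ifs <;> omega
  have hb1 : 1 ≤ 2 * d / cc F r := Nat.div_pos hcle hcpos
  have hbd : cc F r * (2 * d / cc F r) ≤ 2 * d := Nat.mul_div_le _ _
  obtain ⟨x, hx, hx1, hker⟩ := exists_elt_sp (p := p) r hr2 hrp d (2 * d / cc F r) hb1 hbd
  have hk : 2 * d - cc F r * (2 * d / cc F r) = 2 * d % cc F r := by
    have := Nat.div_add_mod (2 * d) (cc F r); omega
  rw [hk] at hker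
  have hk_lt : 2 * d % cc F r < cc F r := Nat.mod_lt _ hcpos
  obtain ⟨W, hWm, hWti, hWinv⟩ := hall x hx hx1
  obtain ⟨-, h2, -⟩ := NEC.fix_eq_mod (p := p) r hrp d m x hx (by rw [hker]; omega) W hWm hWti hWinv
  rw [hker] at h2
  refine ⟨?_, h2⟩
  by_contra hlt
  push Not at hlt
  rw [Nat.mod_eq_of_lt hlt] at h2
  obtain ⟨w, hw⟩ := hcdvd
  have h2j : 2 * j < cc F r := by omega
  have : 2 * d % cc F r = 2 * j := by
    have h3 : 2 * d = 2 * j + cc F r * w := by omega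
    rw [h3, Nat.add_mul_mod_self_left, Nat.mod_eq_of_lt h2j]
  omega


/-- NECEVEN -/
theorem nec_even {F : Type*} [Field F] [Fintype F] {p : ℕ} [Fact p.Prime] [CharP F p]
    (r : ℕ) [Fact r.Prime] (hr2 : r ≠ 2) (hrp : r ≠ p) (d m : ℕ) (hm : 1 ≤ m) (hmd : m ≤ d)
    (hev : Even (orderOf ((Fintype.card F : ℕ) : ZMod r)))
    (hi : orderOf ((Fintype.card F : ℕ) : ZMod r) ≤ m)
    (h2 : 2 * (m % orderOf ((Fintype.card F : ℕ) : ZMod r)) ≤
      (2 * d) % orderOf ((Fintype.card F : ℕ) : ZMod r))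
    (hall : ∀ x : Matrix.symplecticGroup (Fin d) F,
      (x : Matrix (Fin d ⊕ Fin d) (Fin d ⊕ Fin d) F) ^ r = 1 →
      (x : Matrix (Fin d ⊕ Fin d) (Fin d ⊕ Fin d) F) ≠ 1 →
      ∃ W : Submodule F (Fin d ⊕ Fin d → F), Module.finrank F ↥W = m ∧
        (∀ u ∈ W, ∀ v ∈ W, Cfsg.sympForm d F u v = 0) ∧
        W.map (Matrix.toLin' (x : Matrix (Fin d ⊕ Fin d) (Fin d ⊕ Fin d) F)) ≤ W) :
    (r - 1) / orderOf ((Fintype.card F : ℕ) : ZMod r) +
      2 * (m / orderOf ((Fintype.card F : ℕ) : ZMod r)) ≤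
    (2 * d) / orderOf ((Fintype.card F : ℕ) : ZMod r) := by
  classical
  obtain ⟨hipos, -, -, -, -, -, -, -⟩ := cc_arith (F := F) (p := p) r hr2 hrp
  obtain ⟨i, hidef⟩ : ∃ i : ℕ, i = orderOf ((Fintype.card F : ℕ) : ZMod r) := ⟨_, rfl⟩
  rw [← hidef] at hipos hev hi h2 ⊢
  obtain ⟨t, htdef⟩ : ∃ t : ℕ, t = (r - 1) / i := ⟨_, rfl⟩
  rw [← htdef]
  -- the quotient and remainder
  obtain ⟨n', hn'⟩ : ∃ n' : ℕ, n' = 2 * d / i := ⟨_, rfl⟩
  obtain ⟨k, hk⟩ : ∃ k : ℕ, k = 2 * d % i := ⟨_, rfl⟩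
  rw [← hn']
  rw [← hk] at h2
  have hdm : i * n' + k = 2 * d := by rw [hn', hk]; exact Nat.div_add_mod _ _
  have hklt : k < i := by rw [hk]; exact Nat.mod_lt _ hipos
  have hkev : Even k := by
    obtain ⟨a, ha⟩ := hev
    have : Even (i * n') := by rw [ha]; exact ⟨a * n', by ring⟩
    have h2d : Even (2 * d) := even_two_mul d
    rw [← hdm] at h2d
    exact (Nat.even_add.mp h2d).mp this
  have hn'2 : 2 ≤ n' := by
    by_contra hlt
    push Not at hlt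
    have : i * n' ≤ i * 1 := Nat.mul_le_mul_left i (by omega)
    omega
  by_contra hcon
  push Not at hcon
  -- the parameters of the model
  obtain ⟨b, κ, hb1, hκ, hbd, hb, hbn, hκlt⟩ : ∃ b κ : ℕ, 1 ≤ b ∧ Even κ ∧ κ + i * b = 2 * d ∧
      (b ≤ t ∨ Even (b - t)) ∧ b ≤ n' ∧ κ < 2 * i := by
    by_cases hnt : n' ≤ t
    · exact ⟨n', k, by omega, hkev, by omega, Or.inl hnt, le_refl _, by omega⟩
    · push Not at hnt
      by_cases hpar : Even (n' - t)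
      · exact ⟨n', k, by omega, hkev, by omega, Or.inr hpar, le_refl _, by omega⟩
      · refine ⟨n' - 1, k + i, by omega, hkev.add hev, ?_, Or.inr ?_, by omega, by omega⟩
        · have : i * (n' - 1) + i = i * n' := by
            rw [← Nat.mul_succ]; congr 1; omega
          omega
        · have hodd : Odd (n' - t) := Nat.not_even_iff_odd.mp hpar
          obtain ⟨a, ha⟩ := hodd
          exact ⟨a, by omega⟩
  have hev' : Even (orderOf ((Fintype.card F : ℕ) : ZMod r)) := hidef ▸ hev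
  have hb' : b ≤ (r - 1) / orderOf ((Fintype.card F : ℕ) : ZMod r) ∨
      Even (b - (r - 1) / orderOf ((Fintype.card F : ℕ) : ZMod r)) := by
    rw [← hidef, ← htdef]; exact hb
  obtain ⟨x, hx, hx1, hker, hbound⟩ := MODEL2.of_space (p := p) r hr2 hrp hev' d b κ hb1 hκ
    (by rw [← hidef]; exact hbd) hb'
    (exists_model_space (p := p) r hr2 hrp hev' b κ hb1 hκ hb')
  obtain ⟨W, hWm, hWti, hWinv⟩ := hall x hx hx1
  obtain ⟨h3, -, h5⟩ := NEC.fix_eq_mod (p := p) r hrp d m x hx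
    (by rw [hker, ← hidef]; exact hκlt) W hWm hWti hWinv
  have h6 := hbound W hWinv hWti
  obtain ⟨-, hsplit, -⟩ := inv_split (p := p) r hrp _ (sp_isYSp d x r hx).pow W hWinv
  rw [hWm, h3] at h6
  rw [h3, h5, hWm] at hsplit
  rw [← hidef, ← htdef] at h6
  rw [← hidef] at hsplit
  -- m' ≤ (b - t) / 2
  have hm' : i * (m / i) ≤ i * ((b - t) / 2) := by omega
  have hm'2 : m / i ≤ (b - t) / 2 := Nat.le_of_mul_le_mul_left hm' hipos
  have hmi : 1 ≤ m / i := Nat.div_pos hi hipos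
  omega

end Cfsg.Agent.S5955P
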