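import Mathlib
import Cfsg.Prelude.Def_ClassicalGeometry
import Cfsg.Agent.Helper16.S5955Defs
import Cfsg.Agent.Helper15.S5955ARITHSUFF
import Cfsg.Agent.Helper8.S5955TIEX0
import Cfsg.Agent.Helper3.S5955ODDSUM
import Cfsg.Agent.Helper20.S5955EVENTI
import Cfsg.Agent.Helper18.S5961ARITH
import Cfsg.Agent.Helper18.S5961NDSUB
import Cfsg.Agent.Helper10.S5961FIXSPLIT
import Cfsg.Agent.Helper23.S5961STRUCT

set_option autoImplicit false
open scoped MatrixGroups

namespace Cfsg.Agent.S5955P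

open Polynomial Cfsg.Agent.Helper2.SympInvol Cfsg.Agent.Helper2.SympUnits Cfsg.Agent.S5961P

/-- SUFF -/
theorem exists_ti_invariant {F V : Type*} [Field F] [Fintype F] [AddCommGroup V] [Module F V]
    [FiniteDimensional F V] {p : ℕ} [Fact p.Prime] [CharP F p] (r : ℕ) [Fact r.Prime]
    (hr2 : r ≠ 2) (hrp : r ≠ p) (B : LinearMap.BilinForm F V) (y : Module.End F V)
    (h : IsYSp B y r) (m : ℕ) (hm2 : 2 * m ≤ Module.finrank F V)
    (h2 : 2 * (m % orderOf ((Fintype.card F : ℕ) : ZMod r)) ≤ Module.finrank F V % cc F r)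
    (h3 : Odd (orderOf ((Fintype.card F : ℕ) : ZMod r)) ∨
      (r - 1) / orderOf ((Fintype.card F : ℕ) : ZMod r) +
        2 * (m / orderOf ((Fintype.card F : ℕ) : ZMod r)) ≤
      Module.finrank F V / orderOf ((Fintype.card F : ℕ) : ZMod r)) :
    ∃ W : Submodule F V, Module.finrank F W = m ∧ Orth B W W ∧ W.map y ≤ W := by
  classical
  obtain ⟨hipos, hcpos, -, hic, hcr, -, -, -⟩ := cc_arith (F := F) (p := p) r hr2 hrp
  obtain ⟨halt, hnd, hyB, hy⟩ := h
  obtain ⟨hcompl, hCN, hNC, hNinv, hCinv⟩ := fix_split (p := p) r hrp B y hyB hy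
  obtain ⟨i, hidef⟩ : ∃ i : ℕ, i = orderOf ((Fintype.card F : ℕ) : ZMod r) := ⟨_, rfl⟩
  rw [← hidef] at hipos hic h2 h3
  -- `C` and `N` are nondegenerate
  have hCnd : Nondeg B (LinearMap.ker (y - 1)) := by
    intro c hc hc0
    obtain ⟨v, -, hv⟩ := hnd c trivial hc0
    have hv' : v ∈ LinearMap.ker (y - 1) ⊔ LinearMap.range (y - 1) := by
      rw [hcompl.sup_eq_top]; trivial
    obtain ⟨c', hc', n', hn', rfl⟩ := Submodule.mem_sup.mp hv'
    refine ⟨c', hc', ?_⟩
    rw [map_add, hCN c hc n' hn', add_zero] at hv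
    exact hv
  have hNnd : Nondeg B (LinearMap.range (y - 1)) := by
    intro n hn hn0
    obtain ⟨v, -, hv⟩ := hnd n trivial hn0
    have hv' : v ∈ LinearMap.ker (y - 1) ⊔ LinearMap.range (y - 1) := by
      rw [hcompl.sup_eq_top]; trivial
    obtain ⟨c', hc', n', hn', rfl⟩ := Submodule.mem_sup.mp hv'
    refine ⟨n', hn', ?_⟩
    rw [map_add, hNC n hn c' hc', zero_add] at hv
    exact hv
  have hκe : Even (Module.finrank F (LinearMap.ker (y - 1))) :=
    (exists_nondeg_sub B halt _ hCnd).1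
  have hsum : Module.finrank F (LinearMap.ker (y - 1)) +
      Module.finrank F (LinearMap.range (y - 1)) = Module.finrank F V :=
    Submodule.finrank_add_eq_of_isCompl hcompl
  have hdvd : cc F r ∣ Module.finrank F V - Module.finrank F (LinearMap.ker (y - 1)) := by
    have := sp_dvd (p := p) r hr2 hrp B halt y hyB hy ⊤ (fun _ _ => trivial) hnd
    rwa [finrank_top, top_inf_eq] at this
  have hti : (r - 1) / i * i = r - 1 := Nat.div_mul_cancel (hic.trans hcr)
  obtain ⟨a', s, has, ha', hoddc, hevenc⟩ := arith_suff i (cc F r) ((r - 1) / i)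
    (Module.finrank F V) m (Module.finrank F (LinearMap.ker (y - 1))) hipos
    (by rw [cc_def, ← hidef]) (by omega) hκe hdvd hm2 h2 h3
  obtain ⟨U₀, hU₀C, hU₀ti, hU₀dim⟩ := exists_ti_sub B halt _ hCnd a' ha'
  have hNfix : LinearMap.range (y - 1) ⊓ LinearMap.ker (y - 1) = ⊥ := by
    rw [inf_comm]; exact hcompl.inf_eq_bot
  obtain ⟨U, hUN, hUinv, hUti, hUdim⟩ : ∃ U : Submodule F V, U ≤ LinearMap.range (y - 1) ∧
      U.map y ≤ U ∧ Orth B U U ∧ Module.finrank F U = i * s := by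
    rcases Nat.even_or_odd i with hev | hod
    · rw [hidef] at hev ⊢
      refine exists_ti_even (p := p) r hr2 hrp B halt y hyB hy hev _ hNinv hNnd hNfix s ?_
      rcases hevenc (hidef ▸ hev) with h0 | h1
      · exact Or.inl h0
      · right
        rw [← hidef]
        rw [hti] at h1
        omega
    · rw [hidef] at hod ⊢
      refine exists_ti_odd (p := p) r hr2 hrp B halt hnd y hyB hy hod s ?_
      have := hoddc (hidef ▸ hod)
      rw [← hidef]
      omega
  have hdisj : Disjoint U₀ U := by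
    rw [Submodule.disjoint_def]
    intro v hv0 hv1
    have : v ∈ LinearMap.ker (y - 1) ⊓ LinearMap.range (y - 1) := ⟨hU₀C hv0, hUN hv1⟩
    rw [hcompl.inf_eq_bot] at this
    exact (Submodule.mem_bot F).mp this
  refine ⟨U₀ ⊔ U, ?_, ?_, ?_⟩
  · have := Submodule.finrank_sup_add_finrank_inf_eq U₀ U
    rw [hdisj.eq_bot, finrank_bot, add_zero] at this
    rw [this, hU₀dim, hUdim, has]
  · intro u hu v hv
    obtain ⟨u₀, hu₀, u₁, hu₁, rfl⟩ := Submodule.mem_sup.mp hu
    obtain ⟨v₀, hv₀, v₁, hv₁, rfl⟩ := Submodule.mem_sup.mp hv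
    rw [map_add, map_add, LinearMap.add_apply, LinearMap.add_apply, hU₀ti u₀ hu₀ v₀ hv₀,
      hCN u₀ (hU₀C hu₀) v₁ (hUN hv₁), hNC u₁ (hUN hu₁) v₀ (hU₀C hv₀), hUti u₁ hu₁ v₁ hv₁]
    simp
  · rintro _ ⟨v, hv, rfl⟩
    obtain ⟨v₀, hv₀, v₁, hv₁, rfl⟩ := Submodule.mem_sup.mp hv
    rw [map_add]
    have h0 : y v₀ = v₀ := by
      have := LinearMap.mem_ker.mp (hU₀C hv₀)
      rw [LinearMap.sub_apply, Module.End.one_apply, sub_eq_zero] at this
      exact this
    rw [h0]
    exact Submodule.add_mem _ (Submodule.mem_sup_left hv₀)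
      (Submodule.mem_sup_right (hUinv ⟨v₁, hv₁, rfl⟩))

end Cfsg.Agent.S5955P
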