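import Mathlib

set_option autoImplicit false

/-! S5965 piece E1: condition (★) for the multiset `(1, -1, 0, …, 0)` and `u ≠ 0, ±1`
(moment argument: the first and second moments of `S - a` vanish). -/

namespace Cfsg.Agent.S5965P

namespace E1

/-- fibrewise form of a sum over `Fin n` -/
theorem sum_eq_sum_card (r : ℕ) [NeZero r] (n : ℕ) (e : Fin n → ZMod r) (f : ZMod r → ZMod r) :
    ∑ j : Fin n, f (e j) = ∑ c : ZMod r, (Nat.card {j // e j = c} : ZMod r) * f c := by
  classical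
  rw [← Finset.sum_fiberwise Finset.univ e (fun j => f (e j))]
  refine Finset.sum_congr rfl fun c _ => ?_
  rw [Finset.sum_congr rfl (fun j hj => by rw [(Finset.mem_filter.1 hj).2] :
    ∀ j ∈ Finset.univ.filter (fun j => e j = c), f (e j) = f c), Finset.sum_const, nsmul_eq_mul,
    Nat.card_eq_fintype_card, Fintype.card_subtype]

/-- the `k`-th moment of `S - a` is invariant under multiplication by `u^k` -/
theorem moment_invariant (r : ℕ) [Fact r.Prime] (n : ℕ) (u : ZMod r) (hu0 : u ≠ 0)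
    (e : Fin n → ZMod r) (a : ZMod r)
    (H : ∀ b : ZMod r, Nat.card {j // e j = a + b} = Nat.card {j // e j = a + u * b}) (k : ℕ) :
    ∑ j : Fin n, (e j - a) ^ k = u ^ k * ∑ j : Fin n, (e j - a) ^ k := by
  classical
  have h1 : ∑ j : Fin n, (e j - a) ^ k =
      ∑ c : ZMod r, (Nat.card {j // e j = c} : ZMod r) * (c - a) ^ k :=
    sum_eq_sum_card r n e (fun c => (c - a) ^ k)
  -- reindex by `c = a + b`
  have h2 : ∑ c : ZMod r, (Nat.card {j // e j = c} : ZMod r) * (c - a) ^ k =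
      ∑ b : ZMod r, (Nat.card {j // e j = a + b} : ZMod r) * b ^ k := by
    symm
    apply Fintype.sum_equiv (Equiv.addLeft a)
    intro b
    simp
  -- reindex by `c = a + u b`
  have hu : IsUnit u := IsUnit.mk0 u hu0
  have h3 : ∑ c : ZMod r, (Nat.card {j // e j = c} : ZMod r) * (c - a) ^ k =
      ∑ b : ZMod r, (Nat.card {j // e j = a + u * b} : ZMod r) * (u * b) ^ k := by
    symm
    apply Fintype.sum_equiv ((Equiv.mulLeft₀ u hu0).trans (Equiv.addLeft a))
    intro b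
    simp
  rw [h1]
  conv_rhs => rw [h2]
  rw [h3, Finset.mul_sum]
  refine Finset.sum_congr rfl fun b _ => ?_
  rw [H b, mul_pow]
  ring

end E1

/-- E1: `e = (1, -1, 0, …, 0)` for `u ≠ ±1` -/
theorem star_E1 (r : ℕ) [Fact r.Prime] (hr2 : r ≠ 2) (n : ℕ) (hn : 2 ≤ n) (u : ZMod r)
    (hu0 : u ≠ 0) (hu1 : u ≠ 1) (hu2 : u ≠ -1)
    (e : Fin n → ZMod r) (he0 : e ⟨0, by omega⟩ = 1) (he1 : e ⟨1, by omega⟩ = -1)
    (he : ∀ j : Fin n, 2 ≤ (j : ℕ) → e j = 0) :
    ∀ a : ZMod r, ∃ b : ZMod r, Nat.card {j // e j = a + b} ≠ Nat.card {j // e j = a + u * b} := by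
  intro a
  by_contra hcon
  push Not at hcon
  obtain ⟨m, rfl⟩ : ∃ m, n = m + 2 := ⟨n - 2, by omega⟩
  have hM := E1.moment_invariant r (m + 2) u hu0 e a hcon
  -- explicit moments
  have hsum : ∀ k : ℕ, ∑ j : Fin (m + 2), (e j - a) ^ k =
      (1 - a) ^ k + ((-1 - a) ^ k + (m : ZMod r) * (0 - a) ^ k) := by
    intro k
    rw [Fin.sum_univ_succ, Fin.sum_univ_succ]
    have e0 : e (0 : Fin (m + 2)) = 1 := he0
    have e1 : e ((0 : Fin (m + 1)).succ) = -1 := he1
    have e2 : ∀ i : Fin m, e i.succ.succ = 0 := fun i => he _ (by simp)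
    rw [e0, e1]
    simp only [e2, Finset.sum_const, Finset.card_univ, Fintype.card_fin, nsmul_eq_mul]
  have h1 := hM 1
  have h2 := hM 2
  rw [hsum 1] at h1
  rw [hsum 2] at h2
  have hM1 : (1 - a) ^ 1 + ((-1 - a) ^ 1 + (m : ZMod r) * (0 - a) ^ 1) = 0 := by
    have h : (u - 1) * ((1 - a) ^ 1 + ((-1 - a) ^ 1 + (m : ZMod r) * (0 - a) ^ 1)) = 0 := by
      linear_combination -h1
    rcases mul_eq_zero.1 h with h | h
    · exact absurd (sub_eq_zero.1 h) hu1
    · exact h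
  have hM2 : (1 - a) ^ 2 + ((-1 - a) ^ 2 + (m : ZMod r) * (0 - a) ^ 2) = 0 := by
    have h : (u - 1) * (u + 1) * ((1 - a) ^ 2 + ((-1 - a) ^ 2 + (m : ZMod r) * (0 - a) ^ 2)) = 0 := by
      linear_combination -h2
    rcases mul_eq_zero.1 h with h | h
    · rcases mul_eq_zero.1 h with h | h
      · exact absurd (sub_eq_zero.1 h) hu1
      · exact absurd (eq_neg_of_add_eq_zero_left h) hu2
    · exact h
  have h2z : (2 : ZMod r) = 0 := by
    linear_combination hM2 + a * hM1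
  have h2' : ((2 : ℕ) : ZMod r) = 0 := by exact_mod_cast h2z
  rw [ZMod.natCast_eq_zero_iff] at h2'
  have hr : r.Prime := Fact.out
  exact hr2 ((Nat.prime_dvd_prime_iff_eq hr Nat.prime_two).1 h2')

end Cfsg.Agent.S5965P
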