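import Mathlib
import Cfsg.Prelude.Def_GeometricClasses
import Cfsg.Agent.Helper2.SubfInvA

set_option autoImplicit false
open scoped MatrixGroups

/-! S5965 piece INDEX: `r` does not divide the index of the subfield subgroup when the `r`-parts of
`q ^ m - 1` and `q₀ ^ m - 1` agree for `2 ≤ m ≤ n`. -/

namespace Cfsg.Agent.S5965P

namespace INDEX

/-- the `r`-adic valuation of `∏_{i<n} (q^n - q^i)` -/
theorem val_prod (r : ℕ) [Fact r.Prime] (q n : ℕ) (hq : 2 ≤ q) (hrq : ¬ r ∣ q) :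
    padicValNat r (∏ i : Fin n, (q ^ n - q ^ (i : ℕ))) =
      ∑ i : Fin n, padicValNat r (q ^ (n - (i : ℕ)) - 1) := by
  have hr : r.Prime := Fact.out
  have hfac : ∀ i : Fin n, q ^ n - q ^ (i : ℕ) = q ^ (i : ℕ) * (q ^ (n - (i : ℕ)) - 1) := by
    intro i
    have h1 : q ^ n = q ^ (i : ℕ) * q ^ (n - (i : ℕ)) := by
      rw [← pow_add]; congr 1; have := i.2; omega
    rw [h1, Nat.mul_sub, mul_one]
  have hne : ∀ i : Fin n, q ^ (n - (i : ℕ)) - 1 ≠ 0 := by
    intro i
    have h1 : 2 ^ (n - (i : ℕ)) ≤ q ^ (n - (i : ℕ)) := Nat.pow_le_pow_left hq _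
    have h2 : n - (i : ℕ) < 2 ^ (n - (i : ℕ)) := Nat.lt_two_pow_self
    have := i.2
    omega
  have hqne : ∀ i : Fin n, q ^ (i : ℕ) ≠ 0 := fun i => pow_ne_zero _ (by omega)
  have hne' : ∀ i ∈ (Finset.univ : Finset (Fin n)), q ^ n - q ^ (i : ℕ) ≠ 0 := by
    intro i _
    rw [hfac i]
    exact mul_ne_zero (hqne i) (hne i)
  rw [← Nat.factorization_def _ hr, Nat.factorization_prod hne', Finsupp.finsetSum_apply]
  refine Finset.sum_congr rfl fun i _ => ?_
  rw [Nat.factorization_def _ hr, hfac i, padicValNat.mul (hqne i) (hne i),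
    (padicValNat.eq_zero_iff.2 (Or.inr (Or.inr (fun h => hrq (hr.dvd_of_dvd_pow h)))) :
      padicValNat r (q ^ (i : ℕ)) = 0), zero_add]

/-- the valuation of `|SL_n(E)|` -/
theorem val_card_SL (r : ℕ) [Fact r.Prime] (n' : ℕ) (E : Type*) [Field E] [Fintype E]
    (hrq : ¬ r ∣ Fintype.card E) :
    padicValNat r (Nat.card (Matrix.SpecialLinearGroup (Fin (n' + 1)) E)) =
      ∑ i : Fin n', padicValNat r (Fintype.card E ^ (n' + 1 - (i : ℕ)) - 1) := by
  classical
  have hq : 2 ≤ Fintype.card E := Fintype.one_lt_card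
  have h1 := Cfsg.Agent.Helper2.SubfInv.card_SL_mul (n' + 1) (by omega) E
  have h2 := val_prod r (Fintype.card E) (n' + 1) hq hrq
  rw [← h1, Fin.sum_univ_castSucc] at h2
  have : Finite (Matrix.SpecialLinearGroup (Fin (n' + 1)) E) :=
    Finite.of_injective (fun g => (g : Matrix (Fin (n' + 1)) (Fin (n' + 1)) E)) Subtype.val_injective
  have hA : Nat.card (Matrix.SpecialLinearGroup (Fin (n' + 1)) E) ≠ 0 := Nat.card_pos.ne'
  have hq1 : Fintype.card E - 1 ≠ 0 := by omega
  rw [padicValNat.mul hA hq1] at h2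
  have h3 : n' + 1 - ((Fin.last n' : Fin (n' + 1)) : ℕ) = 1 := by simp
  rw [h3, pow_one] at h2
  simp only [Fin.val_castSucc] at h2
  omega

end INDEX

/-- INDEX -/
theorem not_dvd_index {F : Type*} [Field F] [Fintype F] (n : ℕ) (hn : 1 ≤ n) (F₀ : Subfield F)
    (r : ℕ) [Fact r.Prime] (hrq : ¬ r ∣ Fintype.card F)
    (hval : ∀ m, 2 ≤ m → m ≤ n → padicValNat r (Fintype.card F ^ m - 1) =
      padicValNat r (Nat.card F₀ ^ m - 1)) :
    ¬ r ∣ ((Cfsg.Geo.subfieldSubgroup F₀ 1).comap (Matrix.SpecialLinearGroup.toGL :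
        Matrix.SpecialLinearGroup (Fin n) F →* GL (Fin n) F)).index := by
  classical
  have hr : r.Prime := Fact.out
  let _ : Fintype F₀ := Fintype.ofFinite F₀
  obtain ⟨n', rfl⟩ : ∃ n', n = n' + 1 := ⟨n - 1, by omega⟩
  have hq0c : Nat.card F₀ = Fintype.card F₀ := Nat.card_eq_fintype_card
  -- `r ∤ q₀`
  have hrq0 : ¬ r ∣ Fintype.card F₀ := by
    intro h
    apply hrq
    have h1 : Fintype.card F = Fintype.card F₀ ^ Module.finrank F₀ F := Module.card_eq_pow_finrank
    rw [h1]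
    have hpos : 0 < Module.finrank F₀ F := Module.finrank_pos
    exact dvd_pow h hpos.ne'
  obtain ⟨H, hH⟩ : ∃ H : Subgroup (Matrix.SpecialLinearGroup (Fin (n' + 1)) F),
      H = (Cfsg.Geo.subfieldSubgroup F₀ (1 : GL (Fin (n' + 1)) F)).comap
        (Matrix.SpecialLinearGroup.toGL :
          Matrix.SpecialLinearGroup (Fin (n' + 1)) F →* GL (Fin (n' + 1)) F) := ⟨_, rfl⟩
  rw [← hH]
  obtain ⟨j, hj⟩ : ∃ j : Matrix.SpecialLinearGroup (Fin (n' + 1)) F₀ →*
      Matrix.SpecialLinearGroup (Fin (n' + 1)) F, j = Matrix.SpecialLinearGroup.map F₀.subtype :=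
    ⟨_, rfl⟩
  have hjinj : Function.Injective j := by
    intro a b hab
    have h1 : ((j a : Matrix.SpecialLinearGroup (Fin (n' + 1)) F) :
        Matrix (Fin (n' + 1)) (Fin (n' + 1)) F) =
        (j b : Matrix.SpecialLinearGroup (Fin (n' + 1)) F) := by rw [hab]
    rw [hj] at h1
    apply Subtype.ext
    ext s t
    have h2 := congrFun (congrFun h1 s) t
    exact h2
  have hjH : j.range ≤ H := by
    rintro _ ⟨g₀, rfl⟩
    rw [hH]
    apply Cfsg.Agent.Helper7.SubF.mem_subfieldH_of F₀ _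
      (g₀ : Matrix (Fin (n' + 1)) (Fin (n' + 1)) F₀) 1 one_ne_zero
    rw [one_smul, hj]
    rfl
  -- valuations
  have hvA := INDEX.val_card_SL r n' F hrq
  have hvB := INDEX.val_card_SL r n' F₀ hrq0
  have hAB : padicValNat r (Nat.card (Matrix.SpecialLinearGroup (Fin (n' + 1)) F)) =
      padicValNat r (Nat.card (Matrix.SpecialLinearGroup (Fin (n' + 1)) F₀)) := by
    rw [hvA, hvB]
    refine Finset.sum_congr rfl fun i _ => ?_
    rw [← hq0c]
    apply hval
    · have := i.2; omega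
    · omega
  have : Finite (Matrix.SpecialLinearGroup (Fin (n' + 1)) F₀) :=
    Finite.of_injective (fun g => (g : Matrix (Fin (n' + 1)) (Fin (n' + 1)) F₀)) Subtype.val_injective
  have hcH : Nat.card H * H.index = Nat.card (Matrix.SpecialLinearGroup (Fin (n' + 1)) F) :=
    Subgroup.card_mul_index H
  have hBH : Nat.card (Matrix.SpecialLinearGroup (Fin (n' + 1)) F₀) ∣ Nat.card H := by
    have h1 : Nat.card j.range = Nat.card (Matrix.SpecialLinearGroup (Fin (n' + 1)) F₀) :=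
      Nat.card_congr (MonoidHom.ofInjective hjinj).toEquiv.symm
    rw [← h1]
    exact Subgroup.card_dvd_of_le hjH
  have hHne : Nat.card H ≠ 0 := Nat.card_pos.ne'
  have hIne : H.index ≠ 0 := Subgroup.index_ne_zero_of_finite
  have h1 : padicValNat r (Nat.card (Matrix.SpecialLinearGroup (Fin (n' + 1)) F)) =
      padicValNat r (Nat.card H) + padicValNat r H.index := by
    rw [← hcH, padicValNat.mul hHne hIne]
  have h2 : padicValNat r (Nat.card (Matrix.SpecialLinearGroup (Fin (n' + 1)) F₀)) ≤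
      padicValNat r (Nat.card H) := by
    exact (padicValNat_dvd_iff_le (hp := ⟨hr⟩) hHne).1
      ((pow_padicValNat_dvd).trans hBH)
  have h3 : padicValNat r H.index = 0 := by omega
  rcases padicValNat.eq_zero_iff.1 h3 with h | h | h
  · exact absurd h hr.one_lt.ne'
  · exact absurd h hIne
  · exact h

end Cfsg.Agent.S5965P
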