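import Mathlib
import Cfsg.Prelude.Def_ClassicalGeometry
import Cfsg.Prelude.Def_GeometricClasses
import Cfsg.Agent.Helper16.S5972Defs
import Cfsg.Agent.Helper7.OrthUni3

set_option autoImplicit false

/-! S5972 piece TRANSPORTO: a nondegenerate symmetric form in odd dimension is the standard one
up to a scalar. -/

namespace Cfsg.Agent.S5972P

open Cfsg.Agent.Helper2.SympInvol Cfsg.Agent.Helper2.SympUnits Cfsg.Agent.S2614
  Cfsg.Agent.Helper21.OC Cfsg.Agent.Helper7.OrthUni

/-- TRANSPORTO: a nondegenerate symmetric form in odd dimension is the standard one up to a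
scalar -/
theorem exists_isom_scaled {F V : Type*} [Field F] [Fintype F] [AddCommGroup V] [Module F V]
    [FiniteDimensional F V] (h2 : (2 : F) ≠ 0) (B : LinearMap.BilinForm F V)
    (hsymm : ∀ u v, B u v = B v u) (hnd : Nondeg B ⊤) (d : ℕ)
    (hd : Module.finrank F V = 2 * d + 1) :
    ∃ (c : F) (e : V ≃ₗ[F] (Unit ⊕ (Fin d ⊕ Fin d) → F)), c ≠ 0 ∧
      ∀ u v, oB d F (e u) (e v) = c * B u v := by
  classical
  have hcardI : Fintype.card (Unit ⊕ (Fin d ⊕ Fin d)) = 2 * d + 1 := by
    rw [Fintype.card_sum, Fintype.card_sum, Fintype.card_fin, Fintype.card_unit]; omega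
  have hcard : Module.finrank F V = Fintype.card (Unit ⊕ (Fin d ⊕ Fin d)) := by
    rw [hd, hcardI]
  let b : Module.Basis (Unit ⊕ (Fin d ⊕ Fin d)) F V :=
    (Module.finBasisOfFinrankEq F V hcard).reindex (Fintype.equivFin _).symm
  set G : Matrix (Unit ⊕ (Fin d ⊕ Fin d)) (Unit ⊕ (Fin d ⊕ Fin d)) F :=
    LinearMap.BilinForm.toMatrix b B with hG
  have hGt : G.transpose = G := by
    ext i j
    rw [Matrix.transpose_apply, hG, LinearMap.BilinForm.toMatrix_apply,
      LinearMap.BilinForm.toMatrix_apply, hsymm]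
  have hBnd : B.Nondegenerate := by
    have hl : B.SeparatingLeft := by
      intro m hm
      by_contra hm0
      obtain ⟨v, -, hv⟩ := hnd m trivial hm0
      exact hv (hm v)
    refine ⟨hl, ?_⟩
    intro m hm
    apply hl
    intro v
    rw [hsymm]
    exact hm v
  have hGdet : G.det ≠ 0 := by
    rw [← Matrix.nondegenerate_iff_det_ne_zero, hG,
      LinearMap.BilinForm.nondegenerate_toMatrix_iff]
    exact hBnd
  have hQ0nd := QfOdd_nondeg_of h2 d
  have hD0 : (gram (QfOdd d F)).det ≠ 0 := (nondeg_iff_det _).1 hQ0nd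
  set c : F := G.det * (gram (QfOdd d F)).det with hc
  have hc0 : c ≠ 0 := mul_ne_zero hGdet hD0
  have hcGt : (c • G).transpose = c • G := by
    rw [Matrix.transpose_smul, hGt]
  have hcGdet : (c • G).det = c ^ (2 * d + 1) * G.det := by
    rw [Matrix.det_smul, hcardI]
  have hcGu : IsUnit (c • G) := by
    rw [Matrix.isUnit_iff_isUnit_det, hcGdet]
    exact (mul_ne_zero (pow_ne_zero _ hc0) hGdet).isUnit
  have hQ1nd := qf_nondeg h2 hcGt hcGu
  have hsq : IsSquare ((gram (qf (c • G))).det * (gram (QfOdd d F)).det) := by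
    rw [gram_qf h2 hcGt, hcGdet]
    refine ⟨c ^ (d + 1), ?_⟩
    rw [mul_assoc, ← hc]
    ring
  obtain ⟨g, hg⟩ := exists_isometry_of_disc h2 (qf (c • G)) (QfOdd d F) hQ1nd hQ0nd rfl hsq
  refine ⟨c, b.equivFun.trans g, hc0, ?_⟩
  intro u v
  have h1 : oB d F ((b.equivFun.trans g) u) ((b.equivFun.trans g) v) =
      QuadraticMap.polar (qf (c • G)) (b.equivFun u) (b.equivFun v) := by
    show QuadraticMap.polar (QfOdd d F) (g (b.equivFun u)) (g (b.equivFun v)) = _
    unfold QuadraticMap.polar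
    rw [← map_add, hg, hg, hg]
  rw [h1, polar_qf h2 hcGt]
  have h3 : B u v = Matrix.toBilin b G u v := by
    rw [hG, Matrix.toBilin_toMatrix]
  rw [h3, Matrix.toBilin_apply, Matrix.smul_mulVec, dotProduct_smul, smul_eq_mul]
  congr 1
  rw [dotProduct]
  apply Finset.sum_congr rfl
  intro i _
  rw [Matrix.mulVec, dotProduct, Finset.mul_sum]
  apply Finset.sum_congr rfl
  intro j _
  rw [Module.Basis.equivFun_apply, Module.Basis.equivFun_apply]
  ring

end Cfsg.Agent.S5972P
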