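import Mathlib
import Cfsg.Prelude.Def_ClassicalGeometry
import Cfsg.Prelude.Def_GeometricClasses
import Cfsg.Agent.Helper16.S5972Defs
import Cfsg.Agent.Helper16.S5972TRANSPORTO
import Cfsg.Agent.Helper16.S5972OMEGAODD

set_option autoImplicit false
open scoped MatrixGroups

/-! S5972 piece MODELOMEGA: transport an abstract model to `Ω_{2d+1}(q)`. -/

universe u

namespace Cfsg.Agent.S5972P

open Polynomial Cfsg.Agent.Helper2.SympInvol Cfsg.Agent.Helper2.SympUnits Cfsg.Agent.S5961P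
  Cfsg.Agent.S5955P

/-- the dimension of a preimage under a linear equivalence -/
theorem ModelOmega.finrank_comap_equiv {F V V' : Type*} [Field F] [AddCommGroup V] [Module F V]
    [AddCommGroup V'] [Module F V'] (e : V ≃ₗ[F] V') (S : Submodule F V') :
    Module.finrank F ↥(S.comap (e : V →ₗ[F] V')) = Module.finrank F ↥S := by
  rw [Submodule.comap_equiv_eq_map_symm]
  exact LinearEquiv.finrank_map_eq e.symm S

/-- MODELOMEGA: transport an abstract model to `Ω_{2d+1}(q)` -/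
theorem exists_model_omega {F : Type u} [Field F] [Fintype F] {p : ℕ} [Fact p.Prime]
    [CharP F p] (h2 : (2 : F) ≠ 0) (r : ℕ) [Fact r.Prime] (hr2 : r ≠ 2) (hrp : r ≠ p)
    (d κ β : ℕ) (hd : 1 ≤ d) (hκ : κ < 2 * d + 1)
    (hsp : ∃ (V : Type u) (_ : AddCommGroup V) (_ : Module F V) (_ : FiniteDimensional F V)
      (B : LinearMap.BilinForm F V) (y : Module.End F V),
      IsYO B y r ∧ Module.finrank F V = 2 * d + 1 ∧
      Module.finrank F (LinearMap.ker (y - 1)) = κ ∧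
      ∀ W : Submodule F V, W.map y ≤ W → Orth B W W →
        Module.finrank F W ≤ Module.finrank F ↥(W ⊓ LinearMap.ker (y - 1)) + β) :
    ∃ x : GL (Unit ⊕ (Fin d ⊕ Fin d)) F, x ∈ Cfsg.Geo.omegaGL (Cfsg.quadFormOdd d F) ∧
      orderOf x = r ∧
      Module.finrank F (LinearMap.ker (Matrix.toLin'
        (x : Matrix (Unit ⊕ (Fin d ⊕ Fin d)) (Unit ⊕ (Fin d ⊕ Fin d)) F) - 1)) = κ ∧
      ∀ W : Submodule F (Unit ⊕ (Fin d ⊕ Fin d) → F),
        W.map (Matrix.toLin'
          (x : Matrix (Unit ⊕ (Fin d ⊕ Fin d)) (Unit ⊕ (Fin d ⊕ Fin d)) F)) ≤ W →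
        (∀ w ∈ W, Cfsg.quadFormOdd d F w = 0) →
        Module.finrank F W ≤ Module.finrank F ↥(W ⊓ LinearMap.ker (Matrix.toLin'
          (x : Matrix (Unit ⊕ (Fin d ⊕ Fin d)) (Unit ⊕ (Fin d ⊕ Fin d)) F) - 1)) + β := by
  classical
  have hrprime : r.Prime := Fact.out
  obtain ⟨V, _, _, _, B, y, hY, hfr, hker, hbound⟩ := hsp
  obtain ⟨c, e, hc0, heB⟩ := exists_isom_scaled h2 B hY.symm hY.nondeg d hfr
  -- the conjugated maps
  set f : (Unit ⊕ (Fin d ⊕ Fin d) → F) →ₗ[F] (Unit ⊕ (Fin d ⊕ Fin d) → F) :=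
    (e : V →ₗ[F] _).comp (y.comp (e.symm : _ →ₗ[F] V)) with hf
  set f' : (Unit ⊕ (Fin d ⊕ Fin d) → F) →ₗ[F] (Unit ⊕ (Fin d ⊕ Fin d) → F) :=
    (e : V →ₗ[F] _).comp ((y ^ (r - 1)).comp (e.symm : _ →ₗ[F] V)) with hf'
  have hr1 : r - 1 + 1 = r := Nat.sub_add_cancel hrprime.one_lt.le
  have hff' : f.comp f' = LinearMap.id := by
    apply LinearMap.ext
    intro v
    simp only [hf, hf', LinearMap.comp_apply, LinearEquiv.coe_coe, LinearEquiv.symm_apply_apply,
      LinearMap.id_apply]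
    rw [← Module.End.mul_apply, ← pow_succ', hr1, hY.pow, Module.End.one_apply,
      LinearEquiv.apply_symm_apply]
  have hf'f : f'.comp f = LinearMap.id := by
    apply LinearMap.ext
    intro v
    simp only [hf, hf', LinearMap.comp_apply, LinearEquiv.coe_coe, LinearEquiv.symm_apply_apply,
      LinearMap.id_apply]
    rw [← Module.End.mul_apply, ← pow_succ, hr1, hY.pow, Module.End.one_apply,
      LinearEquiv.apply_symm_apply]
  let x : GL (Unit ⊕ (Fin d ⊕ Fin d)) F :=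
    ⟨LinearMap.toMatrix' f, LinearMap.toMatrix' f',
      by rw [← LinearMap.toMatrix'_comp, hff', LinearMap.toMatrix'_id],
      by rw [← LinearMap.toMatrix'_comp, hf'f, LinearMap.toMatrix'_id]⟩
  have hxf : Matrix.toLin'
      (x : Matrix (Unit ⊕ (Fin d ⊕ Fin d)) (Unit ⊕ (Fin d ⊕ Fin d)) F) = f :=
    Matrix.toLin'_toMatrix' f
  have hey : ∀ v, f (e v) = e (y v) := by
    intro v
    simp only [hf, LinearMap.comp_apply, LinearEquiv.coe_coe, LinearEquiv.symm_apply_apply]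
  -- `x` is an isometry
  have hxQ : ∀ v, Cfsg.quadFormOdd d F (Matrix.toLin'
      (x : Matrix (Unit ⊕ (Fin d ⊕ Fin d)) (Unit ⊕ (Fin d ⊕ Fin d)) F) v) =
      Cfsg.quadFormOdd d F v := by
    intro w
    obtain ⟨v, rfl⟩ := e.surjective w
    rw [hxf, hey]
    have h1 := oB_self d F (e (y v))
    have h3 := oB_self d F (e v)
    rw [heB, hY.isom, ← heB, h3] at h1
    exact mul_left_cancel₀ h2 h1.symm
  -- the intertwining relation for `x - 1`
  have hcomp : (Matrix.toLin' (x : Matrix (Unit ⊕ (Fin d ⊕ Fin d)) (Unit ⊕ (Fin d ⊕ Fin d)) F)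
      - 1).comp (e : V →ₗ[F] (Unit ⊕ (Fin d ⊕ Fin d) → F)) =
      (e : V →ₗ[F] (Unit ⊕ (Fin d ⊕ Fin d) → F)).comp (y - 1) := by
    apply LinearMap.ext
    intro v
    simp only [LinearMap.comp_apply, LinearMap.sub_apply, LinearEquiv.coe_coe,
      Module.End.one_apply, map_sub]
    rw [hxf, hey]
  have hkerx : (LinearMap.ker (Matrix.toLin'
      (x : Matrix (Unit ⊕ (Fin d ⊕ Fin d)) (Unit ⊕ (Fin d ⊕ Fin d)) F) - 1)).comap
      (e : V →ₗ[F] (Unit ⊕ (Fin d ⊕ Fin d) → F)) = LinearMap.ker (y - 1) := by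
    rw [← LinearMap.ker_comp, hcomp, LinearMap.ker_comp, LinearEquiv.ker, Submodule.comap_bot]
  have hkerfr : Module.finrank F (LinearMap.ker (Matrix.toLin'
      (x : Matrix (Unit ⊕ (Fin d ⊕ Fin d)) (Unit ⊕ (Fin d ⊕ Fin d)) F) - 1)) = κ := by
    rw [← ModelOmega.finrank_comap_equiv e, hkerx, hker]
  -- `x ^ r = 1`
  have hxr : x ^ r = 1 := by
    have hpow : ∀ (k : ℕ) (v : V),
        Matrix.toLin' ((x : Matrix (Unit ⊕ (Fin d ⊕ Fin d)) (Unit ⊕ (Fin d ⊕ Fin d)) F) ^ k)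
          (e v) = e ((y ^ k) v) := by
      intro k
      induction k with
      | zero => intro v; simp
      | succ k ih =>
        intro v
        rw [pow_succ, Matrix.toLin'_mul, LinearMap.comp_apply, hxf, hey, ih, pow_succ,
          Module.End.mul_apply]
    apply Units.ext
    rw [Units.val_pow_eq_pow_val, Units.val_one]
    apply Matrix.toLin'.injective
    apply LinearMap.ext
    intro w
    obtain ⟨v, rfl⟩ := e.surjective w
    rw [hpow, hY.pow, Matrix.toLin'_one]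
    rfl
  have hx1 : x ≠ 1 := by
    intro h1
    rw [h1, Units.val_one, Matrix.toLin'_one] at hkerfr
    have : (LinearMap.id : (Unit ⊕ (Fin d ⊕ Fin d) → F) →ₗ[F] (Unit ⊕ (Fin d ⊕ Fin d) → F))
        - 1 = 0 := by
      apply LinearMap.ext
      intro v
      simp
    rw [this, LinearMap.ker_zero, finrank_top, Module.finrank_fintype_fun_eq_card,
      Fintype.card_sum, Fintype.card_sum, Fintype.card_fin, Fintype.card_unit] at hkerfr
    omega
  have hrodd : Odd r := hrprime.odd_of_ne_two hr2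
  refine ⟨x, mem_omegaGL_of_odd h2 d hd x hxQ r hrodd hxr, orderOf_eq_prime hxr hx1, hkerfr, ?_⟩
  intro W hWx hWts
  have hWti := (ts_iff_orth d F h2 W).1 hWts
  have hW' : (W.comap (e : V →ₗ[F] (Unit ⊕ (Fin d ⊕ Fin d) → F))).map y ≤
      W.comap (e : V →ₗ[F] (Unit ⊕ (Fin d ⊕ Fin d) → F)) := by
    rintro _ ⟨v, hv, rfl⟩
    rw [Submodule.mem_comap, LinearEquiv.coe_coe, ← hey, ← hxf]
    exact hWx (Submodule.mem_map_of_mem hv)
  have hti' : Orth B (W.comap (e : V →ₗ[F] (Unit ⊕ (Fin d ⊕ Fin d) → F)))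
      (W.comap (e : V →ₗ[F] (Unit ⊕ (Fin d ⊕ Fin d) → F))) := by
    intro u hu v hv
    have h : oB d F (e u) (e v) = 0 := hWti _ hu _ hv
    rw [heB] at h
    exact (mul_eq_zero.mp h).resolve_left hc0
  have h := hbound _ hW' hti'
  rw [ModelOmega.finrank_comap_equiv e, ← hkerx, ← Submodule.comap_inf,
    ModelOmega.finrank_comap_equiv e] at h
  exact h

end Cfsg.Agent.S5972P
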