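import Mathlib
import Cfsg.Prelude.Def_ClassicalGeometry
import Cfsg.Prelude.Def_GeometricClasses
import Cfsg.Agent.Helper16.S5972Defs

set_option autoImplicit false
open scoped MatrixGroups

/-! S5972: auxiliary lemmas for the necessity pieces (`NECO.ts_le_half`, `NECO.isYO`). -/

namespace Cfsg.Agent.S5972P

open Cfsg.Agent.Helper2.SympInvol Cfsg.Agent.Helper2.SympUnits

/-- a totally isotropic subspace of a nondegenerate subspace has at most half its dimension
(any bilinear form) -/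
theorem NECO.ts_le_half {F V : Type*} [Field F] [AddCommGroup V] [Module F V]
    [FiniteDimensional F V] (B : LinearMap.BilinForm F V)
    (M W : Submodule F V) (hM : Nondeg B M) (hWM : W ≤ M) (hW : Orth B W W) :
    2 * Module.finrank F W ≤ Module.finrank F M := by
  classical
  let ψ : W →ₗ[F] Module.Dual F M := B.domRestrict₁₂ W M
  have hψ : Function.Injective ψ := by
    rw [← LinearMap.ker_eq_bot, LinearMap.ker_eq_bot']
    intro w hw
    by_contra hw0
    have hw0' : (w : V) ≠ 0 := fun h => hw0 (Subtype.ext h)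
    obtain ⟨v, hv, hBv⟩ := hM w (hWM w.2) hw0'
    apply hBv
    have := LinearMap.congr_fun hw ⟨v, hv⟩
    exact this
  have h1 : Module.finrank F (LinearMap.range ψ) = Module.finrank F W :=
    LinearMap.finrank_range_of_inj hψ
  have h2 := Subspace.finrank_add_finrank_dualCoannihilator_eq (LinearMap.range ψ)
  let ι : W →ₗ[F] M := Submodule.inclusion hWM
  have hι : Function.Injective ι := Submodule.inclusion_injective hWM
  have h3 : LinearMap.range ι ≤ (LinearMap.range ψ).dualCoannihilator := by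
    rintro _ ⟨w, rfl⟩
    rw [Submodule.mem_dualCoannihilator]
    rintro _ ⟨w', rfl⟩
    show B w' w = 0
    exact hW w' w'.2 w w.2
  have h4 : Module.finrank F (LinearMap.range ι) = Module.finrank F W :=
    LinearMap.finrank_range_of_inj hι
  have h5 := Submodule.finrank_mono h3
  omega

/-- an element of `Ω` of order `r` gives an `IsYO` -/
theorem NECO.isYO {F : Type*} [Field F] (h2 : (2 : F) ≠ 0) (d : ℕ)
    (x : GL (Unit ⊕ (Fin d ⊕ Fin d)) F) (hxΩ : x ∈ Cfsg.Geo.omegaGL (Cfsg.quadFormOdd d F))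
    (r : ℕ) (hxr : x ^ r = 1) :
    IsYO (oB d F) (Matrix.toLin'
      (x : Matrix (Unit ⊕ (Fin d ⊕ Fin d)) (Unit ⊕ (Fin d ⊕ Fin d)) F)) r := by
  have hxiso : ∀ v, Cfsg.quadFormOdd d F (Matrix.toLin'
      (x : Matrix (Unit ⊕ (Fin d ⊕ Fin d)) (Unit ⊕ (Fin d ⊕ Fin d)) F) v) =
      Cfsg.quadFormOdd d F v := by
    obtain ⟨g, -, rfl⟩ := hxΩ
    intro v
    rw [Matrix.toLin'_apply]
    exact g.2 v v
  refine ⟨oB_symm d F, oB_nondeg d F h2, oB_isometry d F _ hxiso, ?_⟩
  have h3 : ((x ^ r : GL (Unit ⊕ (Fin d ⊕ Fin d)) F) :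
      Matrix (Unit ⊕ (Fin d ⊕ Fin d)) (Unit ⊕ (Fin d ⊕ Fin d)) F) = 1 := by rw [hxr]; rfl
  rw [Units.val_pow_eq_pow_val] at h3
  rw [← Matrix.toLin'_pow, h3, Matrix.toLin'_one]
  rfl

end Cfsg.Agent.S5972P
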