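import Mathlib
import Cfsg.Prelude.Def_ClassicalGeometry
import Cfsg.Prelude.Def_GeometricClasses
import Cfsg.Agent.Helper16.S5972Defs

set_option autoImplicit false
open scoped MatrixGroups

/-! S5972 piece TW: the twisted form. -/

namespace Cfsg.Agent.S5972P

open Polynomial Cfsg.Agent.Helper2.SympInvol Cfsg.Agent.Helper2.SympUnits Cfsg.Agent.S5961P
  Cfsg.Agent.S5955P

namespace TW

variable {F V : Type*} [Field F] [AddCommGroup V] [Module F V]

/-- powers of `y` preserve an invariant subspace -/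
theorem pow_mem (y : Module.End F V) (W : Submodule F V) (hW : W.map y ≤ W) (j : ℕ) :
    ∀ w ∈ W, (y ^ j) w ∈ W := by
  induction j with
  | zero => intro w hw; simpa using hw
  | succ j ih =>
    intro w hw
    rw [pow_succ', Module.End.mul_apply]
    exact hW ⟨_, ih w hw, rfl⟩

/-- `B u (y v) = B (y⁻¹ u) v` -/
theorem adj (B : LinearMap.BilinForm F V) (y : Module.End F V)
    (hyB : ∀ u v, B (y u) (y v) = B u v) (r : ℕ) (hr : 1 ≤ r) (hy : y ^ r = 1) (u v : V) :
    B u (y v) = B ((y ^ (r - 1)) u) v := by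
  have h1 : y ((y ^ (r - 1)) u) = u := by
    rw [← Module.End.mul_apply, ← pow_succ', Nat.sub_add_cancel hr, hy, Module.End.one_apply]
  rw [← hyB ((y ^ (r - 1)) u) v, h1]

/-- `tw B y u v = B ((y - y⁻¹) u) v` -/
theorem tw_eq (B : LinearMap.BilinForm F V) (y : Module.End F V)
    (hyB : ∀ u v, B (y u) (y v) = B u v) (r : ℕ) (hr : 1 ≤ r) (hy : y ^ r = 1) (u v : V) :
    tw B y u v = B ((y - y ^ (r - 1)) u) v := by
  rw [tw_apply, adj B y hyB r hr hy, LinearMap.sub_apply, map_sub, LinearMap.sub_apply]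

/-- `y - y⁻¹` is injective on an invariant subspace without fixed vectors -/
theorem z_inj (h2 : (2 : F) ≠ 0) (y : Module.End F V) (r : ℕ) (hr : Odd r) (hy : y ^ r = 1)
    (W : Submodule F V) (hW : W.map y ≤ W) (hfix : W ⊓ LinearMap.ker (y - 1) = ⊥)
    (w : V) (hw : w ∈ W) (hz : (y - y ^ (r - 1)) w = 0) : w = 0 := by
  have hr1 : 1 ≤ r := hr.pos
  have h1 : y w = (y ^ (r - 1)) w := by
    rw [LinearMap.sub_apply, sub_eq_zero] at hz; exact hz
  have h2' : y (y w) = w := by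
    rw [h1, ← Module.End.mul_apply, ← pow_succ', Nat.sub_add_cancel hr1, hy, Module.End.one_apply]
  -- `(y + 1) w` is fixed
  have h3 : y w + w ∈ W ⊓ LinearMap.ker (y - 1) := by
    refine ⟨W.add_mem (hW ⟨w, hw, rfl⟩) hw, ?_⟩
    show y w + w ∈ LinearMap.ker (y - 1)
    rw [LinearMap.mem_ker, LinearMap.sub_apply, Module.End.one_apply, map_add, h2']
    abel
  rw [hfix, Submodule.mem_bot] at h3
  have h4 : y w = -w := eq_neg_of_add_eq_zero_left h3
  -- powers
  have h5 : ∀ j : ℕ, (y ^ j) w = (-1 : F) ^ j • w := by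
    intro j
    induction j with
    | zero => simp
    | succ j ih =>
      rw [pow_succ', Module.End.mul_apply, ih, map_smul, h4, pow_succ]
      simp
  have h6 := h5 r
  rw [hy, Module.End.one_apply, hr.neg_one_pow, neg_one_smul] at h6
  have h7 : (2 : F) • w = 0 := by
    rw [two_smul]
    nth_rewrite 1 [h6]
    exact neg_add_cancel w
  exact (smul_eq_zero.mp h7).resolve_left h2

/-- `y - y⁻¹` is surjective on an invariant subspace without fixed vectors -/
theorem z_surj [FiniteDimensional F V] (h2 : (2 : F) ≠ 0) (y : Module.End F V) (r : ℕ)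
    (hr : Odd r) (hy : y ^ r = 1)
    (W : Submodule F V) (hW : W.map y ≤ W) (hfix : W ⊓ LinearMap.ker (y - 1) = ⊥)
    (u : V) (hu : u ∈ W) : ∃ u' ∈ W, (y - y ^ (r - 1)) u' = u := by
  have hzW : ∀ w ∈ W, (y - y ^ (r - 1)) w ∈ W := by
    intro w hw
    rw [LinearMap.sub_apply]
    exact W.sub_mem (hW ⟨w, hw, rfl⟩) (pow_mem y W hW _ w hw)
  have hinj : Function.Injective ((y - y ^ (r - 1)).restrict hzW) := by
    rw [← LinearMap.ker_eq_bot, LinearMap.ker_eq_bot']
    intro w hw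
    apply Subtype.ext
    apply z_inj h2 y r hr hy W hW hfix w.1 w.2
    have := congrArg Subtype.val hw
    exact this
  have hsurj := LinearMap.injective_iff_surjective.mp hinj
  obtain ⟨u', hu'⟩ := hsurj ⟨u, hu⟩
  exact ⟨u'.1, u'.2, congrArg Subtype.val hu'⟩

end TW

open TW in
/-- TW: the twisted form -/
theorem tw_facts {F V : Type*} [Field F] [AddCommGroup V] [Module F V] [FiniteDimensional F V]
    (h2 : (2 : F) ≠ 0) (r : ℕ) (hr : Odd r) (B : LinearMap.BilinForm F V) (y : Module.End F V)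
    (hyB : ∀ u v, B (y u) (y v) = B u v) (hy : y ^ r = 1) :
    (∀ u v, tw B y (y u) (y v) = tw B y u v) ∧
    (∀ W : Submodule F V, W.map y ≤ W → Orth B W W → Orth (tw B y) W W) ∧
    (∀ W : Submodule F V, W.map y ≤ W → W ⊓ LinearMap.ker (y - 1) = ⊥ →
      Orth (tw B y) W W → Orth B W W) ∧
    (∀ N : Submodule F V, N.map y ≤ N → N ⊓ LinearMap.ker (y - 1) = ⊥ → Nondeg B N →
      Nondeg (tw B y) N) := by
  have hr1 : 1 ≤ r := hr.pos
  refine ⟨?_, ?_, ?_, ?_⟩
  · intro u v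
    rw [tw_apply, tw_apply, hyB, hyB]
  · intro W hW hWti u hu v hv
    rw [tw_apply, hWti _ (hW ⟨u, hu, rfl⟩) v hv, hWti u hu _ (hW ⟨v, hv, rfl⟩), sub_zero]
  · intro W hW hfix hWtw u hu v hv
    obtain ⟨u', hu', rfl⟩ := z_surj h2 y r hr hy W hW hfix u hu
    rw [← tw_eq B y hyB r hr1 hy]
    exact hWtw u' hu' v hv
  · intro N hN hfix hNnd n hn hn0
    have hzn : (y - y ^ (r - 1)) n ≠ 0 := fun h => hn0 (z_inj h2 y r hr hy N hN hfix n hn h)
    have hznN : (y - y ^ (r - 1)) n ∈ N := by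
      rw [LinearMap.sub_apply]
      exact N.sub_mem (hN ⟨n, hn, rfl⟩) (pow_mem y N hN _ n hn)
    obtain ⟨v, hv, hBv⟩ := hNnd _ hznN hzn
    exact ⟨v, hv, by rw [tw_eq B y hyB r hr1 hy]; exact hBv⟩

end Cfsg.Agent.S5972P
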