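import Mathlib
import Cfsg.Prelude.Def_ClassicalGeometry
import Cfsg.Prelude.Def_GeometricClasses
import Cfsg.Agent.Helper16.S5972Defs
import Cfsg.Agent.Helper16.S5972NECAux
import Cfsg.Agent.Helper26.S5972SYMMODEL
import Cfsg.Agent.Helper16.S5972MODELOMEGA
import Cfsg.Agent.Helper16.S5955SPYSP
import Cfsg.Agent.Helper8.S5955INVSPLIT
import Cfsg.Agent.Helper19.S5955MODELSP
import Cfsg.Agent.Helper22.S5955MODELBOUND
import Cfsg.Agent.Helper18.S5961ARITH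
import Cfsg.Agent.Helper23.S5961ELT
import Cfsg.Agent.Helper10.S5961FIXSPLIT
import Cfsg.Agent.Helper23.S5961STRUCT

set_option autoImplicit false
open scoped MatrixGroups

namespace Cfsg.Agent.S5972P

open Polynomial Cfsg.Agent.Helper2.SympInvol Cfsg.Agent.Helper2.SympUnits Cfsg.Agent.S5961P
  Cfsg.Agent.S5955P

/-- common step: from an invariant t.s. `W` of finrank `m` for `x` with small fixed space -/
theorem NECO.fix_eq_mod {F : Type*} [Field F] [Fintype F] {p : ℕ} [Fact p.Prime] [CharP F p]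
    (h2 : (2 : F) ≠ 0) (r : ℕ) [Fact r.Prime] (hrp : r ≠ p) (d m : ℕ)
    (x : GL (Unit ⊕ (Fin d ⊕ Fin d)) F) (hxΩ : x ∈ Cfsg.Geo.omegaGL (Cfsg.quadFormOdd d F))
    (hxr : x ^ r = 1)
    (hker : Module.finrank F (LinearMap.ker (Matrix.toLin'
      (x : Matrix (Unit ⊕ (Fin d ⊕ Fin d)) (Unit ⊕ (Fin d ⊕ Fin d)) F) - 1)) <
      2 * orderOf ((Fintype.card F : ℕ) : ZMod r))
    (hkodd : Odd (Module.finrank F (LinearMap.ker (Matrix.toLin'
      (x : Matrix (Unit ⊕ (Fin d ⊕ Fin d)) (Unit ⊕ (Fin d ⊕ Fin d)) F) - 1))))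
    (W : Submodule F (Unit ⊕ (Fin d ⊕ Fin d) → F)) (hWm : Module.finrank F ↥W = m)
    (hWts : ∀ w ∈ W, Cfsg.quadFormOdd d F w = 0)
    (hWinv : W.map (Matrix.toLin'
      (x : Matrix (Unit ⊕ (Fin d ⊕ Fin d)) (Unit ⊕ (Fin d ⊕ Fin d)) F)) ≤ W) :
    Module.finrank F ↥(W ⊓ LinearMap.ker (Matrix.toLin'
      (x : Matrix (Unit ⊕ (Fin d ⊕ Fin d)) (Unit ⊕ (Fin d ⊕ Fin d)) F) - 1)) =
      m % orderOf ((Fintype.card F : ℕ) : ZMod r) ∧
    2 * (m % orderOf ((Fintype.card F : ℕ) : ZMod r)) + 1 ≤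
      Module.finrank F (LinearMap.ker (Matrix.toLin'
        (x : Matrix (Unit ⊕ (Fin d ⊕ Fin d)) (Unit ⊕ (Fin d ⊕ Fin d)) F) - 1)) ∧
    Module.finrank F ↥(W ⊓ LinearMap.range (Matrix.toLin'
      (x : Matrix (Unit ⊕ (Fin d ⊕ Fin d)) (Unit ⊕ (Fin d ⊕ Fin d)) F) - 1)) =
      orderOf ((Fintype.card F : ℕ) : ZMod r) * (m / orderOf ((Fintype.card F : ℕ) : ZMod r)) := by
  have hY := NECO.isYO h2 d x hxΩ r hxr
  have hti : Orth (oB d F) W W := (ts_iff_orth d F h2 W).mp hWts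
  obtain ⟨hcompl, hCN, -, -, -⟩ := fix_split (p := p) r hrp (oB d F) _ hY.isom hY.pow
  have hCnd := STRUCT.nondeg_right_of_isCompl (oB d F) hY.nondeg _ _ hcompl.symm hCN
  have h1 := NECO.ts_le_half (oB d F) _ (W ⊓ LinearMap.ker (Matrix.toLin'
      (x : Matrix (Unit ⊕ (Fin d ⊕ Fin d)) (Unit ⊕ (Fin d ⊕ Fin d)) F) - 1)) hCnd inf_le_right
    (fun u hu v hv => hti u hu.1 v hv.1)
  obtain ⟨-, hsplit, hdiv⟩ := inv_split (p := p) r hrp _ hY.pow W hWinv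
  obtain ⟨e, he⟩ := hdiv
  rw [hWm, he] at hsplit
  obtain ⟨κ', hκ'⟩ := hkodd
  have ha'lt : Module.finrank F ↥(W ⊓ LinearMap.ker (Matrix.toLin'
      (x : Matrix (Unit ⊕ (Fin d ⊕ Fin d)) (Unit ⊕ (Fin d ⊕ Fin d)) F) - 1)) <
      orderOf ((Fintype.card F : ℕ) : ZMod r) := by omega
  have hipos : 0 < orderOf ((Fintype.card F : ℕ) : ZMod r) := by omega
  have hmod : m % orderOf ((Fintype.card F : ℕ) : ZMod r) =
      Module.finrank F ↥(W ⊓ LinearMap.ker (Matrix.toLin'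
      (x : Matrix (Unit ⊕ (Fin d ⊕ Fin d)) (Unit ⊕ (Fin d ⊕ Fin d)) F) - 1)) := by
    rw [← hsplit, Nat.add_mul_mod_self_left, Nat.mod_eq_of_lt ha'lt]
  have hdiv' : m / orderOf ((Fintype.card F : ℕ) : ZMod r) = e := by
    rw [← hsplit, Nat.add_mul_div_left _ _ hipos, Nat.div_eq_of_lt ha'lt, zero_add]
  refine ⟨hmod.symm, by rw [hmod]; omega, by rw [he, hdiv']⟩

/-- NECBASICO -/
theorem nec_basic_o {F : Type*} [Field F] [Fintype F] {p : ℕ} [Fact p.Prime] [CharP F p]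
    (h2 : (2 : F) ≠ 0) (r : ℕ) [Fact r.Prime] (hr2 : r ≠ 2) (hrp : r ≠ p) (d m : ℕ)
    (hd : 1 ≤ d) (hm : 1 ≤ m) (hmd : m ≤ d) (j : ℕ) (hj : j < m)
    (hrj : r ∣ Fintype.card F ^ (2 * (d - j)) - 1)
    (hall : ∀ x : GL (Unit ⊕ (Fin d ⊕ Fin d)) F,
      x ∈ Cfsg.Geo.omegaGL (Cfsg.quadFormOdd d F) → orderOf x = r →
      ∃ W : Submodule F (Unit ⊕ (Fin d ⊕ Fin d) → F), Module.finrank F ↥W = m ∧
        (∀ w ∈ W, Cfsg.quadFormOdd d F w = 0) ∧
        W.map (Matrix.toLin'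
          (x : Matrix (Unit ⊕ (Fin d ⊕ Fin d)) (Unit ⊕ (Fin d ⊕ Fin d)) F)) ≤ W) :
    orderOf ((Fintype.card F : ℕ) : ZMod r) ≤ m ∧
    2 * (m % orderOf ((Fintype.card F : ℕ) : ZMod r)) < (2 * d + 1) % cc F r := by
  classical
  obtain ⟨hipos, hcpos, hceven, -, -, -, harith, -⟩ := cc_arith (F := F) (p := p) r hr2 hrp
  have hcdvd : cc F r ∣ 2 * (d - j) := harith (d - j) hrj
  have hcle : cc F r ≤ 2 * d := le_trans (Nat.le_of_dvd (by omega) hcdvd) (by omega)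
  have hc2i : cc F r ≤ 2 * orderOf ((Fintype.card F : ℕ) : ZMod r) := by
    rw [cc_def]; split_ifs <;> omega
  obtain ⟨b, hb⟩ : ∃ b : ℕ, b = (2 * d + 1) / cc F r := ⟨_, rfl⟩
  obtain ⟨κ, hκ⟩ : ∃ κ : ℕ, κ = (2 * d + 1) % cc F r := ⟨_, rfl⟩
  have hb1 : 1 ≤ b := by rw [hb]; exact Nat.div_pos (by omega) hcpos
  have hdm : cc F r * b + κ = 2 * d + 1 := by rw [hb, hκ]; exact Nat.div_add_mod _ _
  have hκlt : κ < cc F r := by rw [hκ]; exact Nat.mod_lt _ hcpos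
  obtain ⟨c', hc'⟩ := hceven
  have hκodd : Odd κ := by
    have : Even (cc F r * b) := by rw [hc']; exact ⟨c' * b, by ring⟩
    have h2d : Odd (cc F r * b + κ) := by rw [hdm]; exact ⟨d, rfl⟩
    rcases Nat.even_or_odd κ with he | ho
    · exact absurd (this.add he) (Nat.not_even_iff_odd.mpr h2d)
    · exact ho
  -- the symplectic model without fixed vectors
  obtain ⟨h, hh⟩ : ∃ h : ℕ, 2 * h = cc F r * b := ⟨c' * b, by rw [hc']; ring⟩
  obtain ⟨x', hx', -, hker'⟩ := exists_elt_sp (F := F) (p := p) r hr2 hrp h b hb1 (by omega)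
  have hY' := sp_isYSp h x' r hx'
  have hker0 : LinearMap.ker (Matrix.toLin'
      (x' : Matrix (Fin h ⊕ Fin h) (Fin h ⊕ Fin h) F) - 1) = ⊥ := by
    apply Submodule.finrank_eq_zero.mp
    rw [hker']; omega
  have hV' : Module.finrank F (Fin h ⊕ Fin h → F) = 2 * h := by
    rw [Module.finrank_fintype_fun_eq_card, Fintype.card_sum, Fintype.card_fin]; ring
  obtain ⟨V, i1, i2, i3, B, y, hYO, hfr, hkerV, hbd⟩ := exists_sym_model (p := p) h2 r hr2 hrp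
    (sB h F) _ hY' hker0 (2 * h) κ (fun W' _ _ => by rw [← hV']; exact Submodule.finrank_le W')
  obtain ⟨x, hxΩ, hxord, hker, -⟩ := exists_model_omega (p := p) h2 r hr2 hrp d κ (2 * h) hd
    (by omega) ⟨V, i1, i2, i3, B, y, hYO, by rw [hfr, hV']; omega, hkerV, hbd⟩
  obtain ⟨W, hWm, hWts, hWinv⟩ := hall x hxΩ hxord
  have hxr : x ^ r = 1 := by rw [← hxord]; exact pow_orderOf_eq_one x
  obtain ⟨-, h2', -⟩ := NECO.fix_eq_mod (p := p) h2 r hrp d m x hxΩ hxr (by rw [hker]; omega)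
    (by rw [hker]; exact hκodd) W hWm hWts hWinv
  rw [hker] at h2'
  refine ⟨?_, by omega⟩
  by_contra hlt
  push Not at hlt
  rw [Nat.mod_eq_of_lt hlt] at h2'
  obtain ⟨w, hw⟩ := hcdvd
  have h2j : 2 * j + 1 < cc F r := by omega
  have : (2 * d + 1) % cc F r = 2 * j + 1 := by
    have h3 : 2 * d + 1 = 2 * j + 1 + cc F r * w := by omega
    rw [h3, Nat.add_mul_mod_self_left, Nat.mod_eq_of_lt h2j]
  omega

/-- NECEVENO -/
theorem nec_even_o {F : Type*} [Field F] [Fintype F] {p : ℕ} [Fact p.Prime] [CharP F p]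
    (h2 : (2 : F) ≠ 0) (r : ℕ) [Fact r.Prime] (hr2 : r ≠ 2) (hrp : r ≠ p) (d m : ℕ)
    (hd : 1 ≤ d) (hm : 1 ≤ m) (hmd : m ≤ d)
    (hev : Even (orderOf ((Fintype.card F : ℕ) : ZMod r)))
    (hile : orderOf ((Fintype.card F : ℕ) : ZMod r) ≤ m)
    (h2' : 2 * (m % orderOf ((Fintype.card F : ℕ) : ZMod r)) <
      (2 * d + 1) % orderOf ((Fintype.card F : ℕ) : ZMod r))
    (hall : ∀ x : GL (Unit ⊕ (Fin d ⊕ Fin d)) F,
      x ∈ Cfsg.Geo.omegaGL (Cfsg.quadFormOdd d F) → orderOf x = r →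
      ∃ W : Submodule F (Unit ⊕ (Fin d ⊕ Fin d) → F), Module.finrank F ↥W = m ∧
        (∀ w ∈ W, Cfsg.quadFormOdd d F w = 0) ∧
        W.map (Matrix.toLin'
          (x : Matrix (Unit ⊕ (Fin d ⊕ Fin d)) (Unit ⊕ (Fin d ⊕ Fin d)) F)) ≤ W) :
    (r - 1) / orderOf ((Fintype.card F : ℕ) : ZMod r) +
      2 * (m / orderOf ((Fintype.card F : ℕ) : ZMod r)) ≤
      (2 * d + 1) / orderOf ((Fintype.card F : ℕ) : ZMod r) := by
  classical
  obtain ⟨hipos, -, -, hidvd, hcdvd, -, -, -⟩ := cc_arith (F := F) (p := p) r hr2 hrp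
  have hrpr : r.Prime := Fact.out
  obtain ⟨i, hidef⟩ : ∃ i : ℕ, i = orderOf ((Fintype.card F : ℕ) : ZMod r) := ⟨_, rfl⟩
  have hir : i ∣ r - 1 := by rw [hidef]; exact hidvd.trans hcdvd
  rw [← hidef] at hipos hev hile h2' ⊢
  obtain ⟨t, htdef⟩ : ∃ t : ℕ, t = (r - 1) / i := ⟨_, rfl⟩
  rw [← htdef]
  have ht1 : 1 ≤ t := by
    rw [htdef]
    exact Nat.div_pos (Nat.le_of_dvd (by have := hrpr.two_le; omega) hir) hipos
  obtain ⟨n', hn'⟩ : ∃ n' : ℕ, n' = (2 * d + 1) / i := ⟨_, rfl⟩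
  obtain ⟨k, hk⟩ : ∃ k : ℕ, k = (2 * d + 1) % i := ⟨_, rfl⟩
  rw [← hn']
  rw [← hk] at h2'
  have hdm : i * n' + k = 2 * d + 1 := by rw [hn', hk]; exact Nat.div_add_mod _ _
  have hklt : k < i := by rw [hk]; exact Nat.mod_lt _ hipos
  have hkodd : Odd k := by
    obtain ⟨a, ha⟩ := hev
    have : Even (i * n') := by rw [ha]; exact ⟨a * n', by ring⟩
    have h2d : Odd (i * n' + k) := by rw [hdm]; exact ⟨d, rfl⟩
    rcases Nat.even_or_odd k with he | ho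
    · exact absurd (this.add he) (Nat.not_even_iff_odd.mpr h2d)
    · exact ho
  have hn'2 : 2 ≤ n' := by
    by_contra hlt
    push Not at hlt
    have : i * n' ≤ i * 1 := Nat.mul_le_mul_left i (by omega)
    omega
  by_contra hcon
  push Not at hcon
  -- the parameters of the model
  obtain ⟨b, κ, hb1, hκ, hbd, hb, hbn, hκlt⟩ : ∃ b κ : ℕ, 1 ≤ b ∧ Odd κ ∧
      κ + i * b = 2 * d + 1 ∧ (b ≤ t ∨ Even (b - t)) ∧ b ≤ n' ∧ κ < 2 * i := by
    by_cases hnt : n' ≤ t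
    · exact ⟨n', k, by omega, hkodd, by omega, Or.inl hnt, le_refl _, by omega⟩
    · push Not at hnt
      by_cases hpar : Even (n' - t)
      · exact ⟨n', k, by omega, hkodd, by omega, Or.inr hpar, le_refl _, by omega⟩
      · refine ⟨n' - 1, k + i, by omega, hkodd.add_even hev, ?_, Or.inr ?_, by omega, by omega⟩
        · have : i * (n' - 1) + i = i * n' := by
            rw [← Nat.mul_succ]; congr 1; omega
          omega
        · have hodd : Odd (n' - t) := Nat.not_even_iff_odd.mp hpar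
          obtain ⟨a, ha⟩ := hodd
          exact ⟨a, by omega⟩
  have hev' : Even (orderOf ((Fintype.card F : ℕ) : ZMod r)) := hidef ▸ hev
  have hb' : b ≤ (r - 1) / orderOf ((Fintype.card F : ℕ) : ZMod r) ∨
      Even (b - (r - 1) / orderOf ((Fintype.card F : ℕ) : ZMod r)) := by
    rw [← hidef, ← htdef]; exact hb
  -- the symplectic model
  obtain ⟨V', j1, j2, j3, B', y', hY', hfr', hker', g₀, hg₀, hg₀d, hα, hβ⟩ :=
    exists_model_space (p := p) r hr2 hrp hev' b 0 hb1 ⟨0, rfl⟩ hb'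
  have hker0 : LinearMap.ker (y' - 1) = ⊥ := Submodule.finrank_eq_zero.mp hker'
  have hbound' : ∀ W' : Submodule F V', W'.map y' ≤ W' → Orth B' W' W' →
      Module.finrank F W' ≤ i * ((b - t) / 2) := by
    intro W' hW' hW'ti
    have := model_bound (p := p) r hr2 hrp B' y' hY' hev' g₀ hg₀ hg₀d
      ((b - (r - 1) / orderOf ((Fintype.card F : ℕ) : ZMod r)) / 2) hα hβ W' hW' hW'ti
    rw [hker0, inf_bot_eq, finrank_bot, zero_add, ← hidef, ← htdef] at this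
    exact this
  obtain ⟨V, i1, i2, i3, B, y, hYO, hfr, hkerV, hbdV⟩ := exists_sym_model (p := p) h2 r hr2 hrp
    B' y' hY' hker0 (i * ((b - t) / 2)) κ hbound'
  obtain ⟨x, hxΩ, hxord, hker, hbound⟩ := exists_model_omega (p := p) h2 r hr2 hrp d κ
    (i * ((b - t) / 2)) hd (by omega)
    ⟨V, i1, i2, i3, B, y, hYO, by rw [hfr, hfr', ← hidef]; omega, hkerV, hbdV⟩
  obtain ⟨W, hWm, hWts, hWinv⟩ := hall x hxΩ hxord
  have hxr : x ^ r = 1 := by rw [← hxord]; exact pow_orderOf_eq_one x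
  obtain ⟨h3, -, h5⟩ := NECO.fix_eq_mod (p := p) h2 r hrp d m x hxΩ hxr
    (by rw [hker, ← hidef]; exact hκlt) (by rw [hker]; exact hκ) W hWm hWts hWinv
  have h6 := hbound W hWinv hWts
  rw [hWm, h3, ← hidef] at h6
  -- m' ≤ (b - t) / 2
  have hmdm : i * (m / i) + m % i = m := Nat.div_add_mod m i
  have hm' : i * (m / i) ≤ i * ((b - t) / 2) := by omega
  have hm'2 : m / i ≤ (b - t) / 2 := Nat.le_of_mul_le_mul_left hm' hipos
  have hmi : 1 ≤ m / i := Nat.div_pos hile hipos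
  omega

end Cfsg.Agent.S5972P
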