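import Mathlib
import Cfsg.Prelude.Def_ClassicalGeometry
import Cfsg.Prelude.Def_GeometricClasses
import Cfsg.Agent.Helper16.S5972Defs
import Cfsg.Agent.Helper3.S5955ODDSUM
import Cfsg.Agent.Helper23.S5961RESTR

set_option autoImplicit false
open scoped MatrixGroups

/-! S5972 piece ODDN. -/

namespace Cfsg.Agent.S5972P

open Polynomial Cfsg.Agent.Helper2.SympInvol Cfsg.Agent.Helper2.SympUnits Cfsg.Agent.S5961P
  Cfsg.Agent.S5955P

/-- ODDN: `exists_ti_odd` inside an invariant nondegenerate subspace without fixed vectors -/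
theorem exists_ti_odd_sub {F V : Type*} [Field F] [Fintype F] [AddCommGroup V] [Module F V]
    [FiniteDimensional F V] {p : ℕ} [Fact p.Prime] [CharP F p] (r : ℕ) [Fact r.Prime]
    (hr2 : r ≠ 2) (hrp : r ≠ p) (B : LinearMap.BilinForm F V) (halt : ∀ v, B v v = 0)
    (y : Module.End F V) (hyB : ∀ u v, B (y u) (y v) = B u v) (hy : y ^ r = 1)
    (hodd : Odd (orderOf ((Fintype.card F : ℕ) : ZMod r)))
    (N : Submodule F V) (hN : N.map y ≤ N) (hNnd : Nondeg B N)
    (hNfix : N ⊓ LinearMap.ker (y - 1) = ⊥) (s : ℕ)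
    (hs : 2 * orderOf ((Fintype.card F : ℕ) : ZMod r) * s ≤ Module.finrank F N) :
    ∃ U : Submodule F V, U ≤ N ∧ U.map y ≤ U ∧ Orth B U U ∧
      Module.finrank F U = orderOf ((Fintype.card F : ℕ) : ZMod r) * s := by
  have hN' : ∀ v ∈ N, y v ∈ N := fun v hv => hN ⟨v, hv, rfl⟩
  obtain ⟨hpow, haltN, hisoN, hndN, hfrker, -, -, hsub⟩ := restr_transport B y N hN'
  have hker0 : Module.finrank F (LinearMap.ker (y.restrict hN' - 1)) = 0 := by
    rw [hfrker, hNfix, finrank_bot]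
  have hrange : Module.finrank F (LinearMap.range (y.restrict hN' - 1)) = Module.finrank F N := by
    have := LinearMap.finrank_range_add_finrank_ker (y.restrict hN' - 1)
    omega
  obtain ⟨U', -, hU'inv, hU'ti, hU'dim⟩ := exists_ti_odd (p := p) r hr2 hrp (B.restrict N)
    (haltN halt) (hndN.mpr hNnd) (y.restrict hN') (hisoN hyB) (hpow r hy) hodd s
    (by rw [hrange]; exact hs)
  obtain ⟨h1, h2, -, h4, h5⟩ := hsub U'
  exact ⟨U'.map N.subtype, h1, h4.mp hU'inv, (h5 U').mp hU'ti, by rw [h2, hU'dim]⟩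

end Cfsg.Agent.S5972P
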