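import Mathlib
import Cfsg.Prelude.Def_ClassicalGeometry
import Cfsg.Prelude.Def_GeometricClasses
import Cfsg.Agent.Helper16.S5972Defs
import Cfsg.Agent.Helper16.S5972R2EIG
import Cfsg.Agent.Helper16.S5972NECAux
import Cfsg.Agent.Helper28.Spin5

set_option autoImplicit false
open scoped MatrixGroups

/-! S5972 piece R2NEC: for `q ≡ 3 (mod 4)` an involution of `Ω_{2d+1}(q)` fixing no maximal totally
singular subspace. -/

namespace Cfsg.Agent.S5972P

open Cfsg.Agent.Helper2.SympInvol Cfsg.Agent.Helper2.SympUnits Cfsg.Agent.S2614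
  Cfsg.Agent.Helper21.OC Cfsg.Agent.Helper28.Spin Matrix

/-- R2NEC -/
theorem exists_invol_derangement {F : Type*} [Field F] [Fintype F] (d : ℕ) (hd : 1 ≤ d)
    (hq : Fintype.card F % 4 = 3) :
    ∃ x : GL (Unit ⊕ (Fin d ⊕ Fin d)) F, x ∈ Cfsg.Geo.omegaGL (Cfsg.quadFormOdd d F) ∧
      orderOf x = 2 ∧
      ∀ W : Submodule F (Unit ⊕ (Fin d ⊕ Fin d) → F),
        (∀ w ∈ W, Cfsg.quadFormOdd d F w = 0) →
        W.map (Matrix.toLin'
          (x : Matrix (Unit ⊕ (Fin d ⊕ Fin d)) (Unit ⊕ (Fin d ⊕ Fin d)) F)) ≤ W →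
        Module.finrank F W + 1 ≤ d := by
  classical
  have hodd : Odd (Fintype.card F) := by
    rw [Nat.odd_iff]; omega
  have h2 : (2 : F) ≠ 0 := two_ne_zero_of_odd_card hodd
  have hneg : ¬ IsSquare (-1 : F) := by
    rw [FiniteField.isSquare_neg_one_iff]
    simpa using hq
  have haniso : ∀ α β : F, α ^ 2 + β ^ 2 = 0 → α = 0 ∧ β = 0 := by
    intro α β h
    have hβ : β = 0 := by
      by_contra hβ
      apply hneg
      refine ⟨α / β, ?_⟩
      field_simp
      linear_combination -h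
    subst hβ
    refine ⟨?_, rfl⟩
    have : α ^ 2 = 0 := by linear_combination h
    exact pow_eq_zero_iff (two_ne_zero) |>.1 this
  set Q : QuadraticForm F (Unit ⊕ (Fin d ⊕ Fin d) → F) := QfOdd d F with hQdef
  have hQcoe : ⇑Q = Cfsg.quadFormOdd d F := QfOdd_coe d
  let i0 : Fin d := ⟨0, hd⟩
  set a : Unit ⊕ (Fin d ⊕ Fin d) → F := Pi.single (Sum.inl ()) 1 with ha
  set b : Unit ⊕ (Fin d ⊕ Fin d) → F :=
    Pi.single (Sum.inr (Sum.inl i0)) 1 + Pi.single (Sum.inr (Sum.inr i0)) 1 with hb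
  have hQa : Q a = 1 := by
    rw [hQcoe, Cfsg.quadFormOdd]
    simp [ha]
  have hQb : Q b = 1 := by
    rw [hQcoe, Cfsg.quadFormOdd]
    simp [hb, Pi.single_apply]
  have hpa : ∀ v, QuadraticMap.polar ⇑Q a v = 2 * v (Sum.inl ()) := by
    intro v
    rw [hQdef, polar_QfOdd]
    simp [ha]
  have hpb : ∀ v, QuadraticMap.polar ⇑Q b v =
      v (Sum.inr (Sum.inr i0)) + v (Sum.inr (Sum.inl i0)) := by
    intro v
    rw [hQdef, polar_QfOdd]
    simp [hb, Pi.single_apply, Finset.sum_add_distrib]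
  have hpab : QuadraticMap.polar ⇑Q a b = 0 := by
    rw [hpa]
    simp [hb]
  have hpba : QuadraticMap.polar ⇑Q b a = 0 := by
    rw [QuadraticMap.polar_comm]; exact hpab
  have hpaa : QuadraticMap.polar ⇑Q a a = 2 := by
    rw [polar_self', hQa, mul_one]
  have hpbb : QuadraticMap.polar ⇑Q b b = 2 := by
    rw [polar_self', hQb, mul_one]
  have hQa0 : Q a ≠ 0 := by rw [hQa]; exact one_ne_zero
  have hQb0 : Q b ≠ 0 := by rw [hQb]; exact one_ne_zero
  set g : ↥(Cfsg.isometryGroup F ⇑Q) := prodO Q [⟨a, hQa0⟩, ⟨b, hQb0⟩] with hg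
  have hgΩ : g ∈ Cfsg.Omega F ⇑Q := by
    rw [hg, prodO_mem_Omega_iff Q h2]
    refine ⟨⟨1, rfl⟩, ?_⟩
    simp [normProd, hQa, hQb]
  have hgval : ((g : GL (Unit ⊕ (Fin d ⊕ Fin d)) F) :
      Matrix (Unit ⊕ (Fin d ⊕ Fin d)) (Unit ⊕ (Fin d ⊕ Fin d)) F) =
      Cfsg.reflectionMatrix ⇑Q a * Cfsg.reflectionMatrix ⇑Q b := by
    rw [hg, prodO_val]
    simp
  have hgv : ∀ v, ((g : GL (Unit ⊕ (Fin d ⊕ Fin d)) F) :
      Matrix (Unit ⊕ (Fin d ⊕ Fin d)) (Unit ⊕ (Fin d ⊕ Fin d)) F) *ᵥ v =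
      v - QuadraticMap.polar ⇑Q a v • a - QuadraticMap.polar ⇑Q b v • b := by
    intro v
    rw [hgval, ← Matrix.mulVec_mulVec, refl_mulVec Q b, refl_mulVec Q a, hQa, hQb, inv_one,
      one_mul, one_mul, QuadraticMap.polar_sub_right, QuadraticMap.polar_smul_right, hpab,
      smul_zero, sub_zero]
    abel
  -- the linear map
  set y : Module.End F (Unit ⊕ (Fin d ⊕ Fin d) → F) := Matrix.toLin'
    ((g : GL (Unit ⊕ (Fin d ⊕ Fin d)) F) :
      Matrix (Unit ⊕ (Fin d ⊕ Fin d)) (Unit ⊕ (Fin d ⊕ Fin d)) F) with hy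
  have hyv : ∀ v, y v = v - QuadraticMap.polar ⇑Q a v • a - QuadraticMap.polar ⇑Q b v • b := by
    intro v
    rw [hy, Matrix.toLin'_apply, hgv]
  have hya : y a = -a := by
    rw [hyv, hpaa, hpba, zero_smul, sub_zero, two_smul]
    abel
  have hyb : y b = -b := by
    rw [hyv, hpbb, hpab, zero_smul, sub_zero, two_smul]
    abel
  have hyy : y * y = 1 := by
    apply LinearMap.ext
    intro v
    rw [Module.End.mul_apply, Module.End.one_apply]
    calc y (y v) = y (v - QuadraticMap.polar ⇑Q a v • a - QuadraticMap.polar ⇑Q b v • b) := by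
          rw [← hyv v]
      _ = y v - QuadraticMap.polar ⇑Q a v • y a - QuadraticMap.polar ⇑Q b v • y b := by
          simp only [map_sub, map_smul]
      _ = v := by
          rw [hya, hyb, hyv v, smul_neg, smul_neg]
          abel
  have hgg : (g : GL (Unit ⊕ (Fin d ⊕ Fin d)) F) ^ 2 = 1 := by
    apply Units.ext
    rw [Units.val_pow_eq_pow_val, Units.val_one, sq]
    apply Matrix.toLin'.injective
    rw [Matrix.toLin'_mul, Matrix.toLin'_one]
    exact hyy
  have ha0 : a ≠ 0 := by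
    intro h
    rw [h, map_zero] at hQa
    exact zero_ne_one hQa
  have hb0 : b ≠ 0 := by
    intro h
    rw [h, map_zero] at hQb
    exact zero_ne_one hQb
  have hg1 : (g : GL (Unit ⊕ (Fin d ⊕ Fin d)) F) ≠ 1 := by
    intro h
    have h1 : y a = a := by
      rw [hy, h, Units.val_one, Matrix.toLin'_one]
      rfl
    rw [hya] at h1
    apply ha0
    have h3 : (2 : F) • a = 0 := by
      rw [two_smul]
      nth_rewrite 1 [← h1]
      exact neg_add_cancel a
    exact (smul_eq_zero.mp h3).resolve_left h2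
  have hgmem : (g : GL (Unit ⊕ (Fin d ⊕ Fin d)) F) ∈
      Cfsg.Geo.omegaGL (Cfsg.quadFormOdd d F) := by
    rw [← hQcoe]
    exact ⟨g, hgΩ, rfl⟩
  refine ⟨(g : GL (Unit ⊕ (Fin d ⊕ Fin d)) F), hgmem, orderOf_eq_prime hgg hg1, ?_⟩
  intro W hWts hWinv
  have hYO := NECO.isYO h2 d (g : GL (Unit ⊕ (Fin d ⊕ Fin d)) F) hgmem 2 hgg
  -- `W` is fixed pointwise
  have hWfix : W ≤ LinearMap.ker (y - 1) := by
    intro w hw
    have hyw : y w ∈ W := hWinv (Submodule.mem_map_of_mem hw)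
    have hu : QuadraticMap.polar ⇑Q a w • a + QuadraticMap.polar ⇑Q b w • b ∈ W := by
      have h1 : w - y w ∈ W := W.sub_mem hw hyw
      rw [hyv w] at h1
      convert h1 using 1
      abel
    have hQu := hWts _ hu
    rw [← hQcoe, QuadraticMap.map_add (⇑Q), QuadraticMap.map_smul, QuadraticMap.map_smul,
      QuadraticMap.polar_smul_left, QuadraticMap.polar_smul_right, hQa, hQb, hpab] at hQu
    obtain ⟨hα, hβ⟩ := haniso (QuadraticMap.polar ⇑Q a w) (QuadraticMap.polar ⇑Q b w) (by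
      simp only [smul_eq_mul, mul_one, mul_zero, add_zero] at hQu
      linear_combination hQu)
    rw [LinearMap.mem_ker, LinearMap.sub_apply, Module.End.one_apply, hyv w, hα, hβ]
    simp
  obtain ⟨hcompl, -, hndp, -⟩ := invol_split h2 (oB d F) (oB_symm d F) (oB_nondeg d F h2) y
    hYO.isom hyy
  have h1 := NECO.ts_le_half (oB d F) _ W hndp hWfix ((ts_iff_orth d F h2 W).1 hWts)
  have ha' : a ∈ LinearMap.ker (y + 1) := by
    rw [LinearMap.mem_ker, LinearMap.add_apply, Module.End.one_apply, hya]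
    exact neg_add_cancel a
  have hb' : b ∈ LinearMap.ker (y + 1) := by
    rw [LinearMap.mem_ker, LinearMap.add_apply, Module.End.one_apply, hyb]
    exact neg_add_cancel b
  have hli : LinearIndependent F
      ![(⟨a, ha'⟩ : ↥(LinearMap.ker (y + 1))), (⟨b, hb'⟩ : ↥(LinearMap.ker (y + 1)))] := by
    rw [LinearIndependent.pair_iff]
    intro s t hst
    have h3 : s • a + t • b = 0 := by
      have := congrArg Subtype.val hst
      simpa using this
    have h4 := congrArg Q h3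
    rw [QuadraticMap.map_add (⇑Q), QuadraticMap.map_smul, QuadraticMap.map_smul,
      QuadraticMap.polar_smul_left, QuadraticMap.polar_smul_right, hQa, hQb, hpab, map_zero] at h4
    exact haniso s t (by
      simp only [smul_eq_mul, mul_one, mul_zero, add_zero] at h4
      linear_combination h4)
  have h3 := hli.fintype_card_le_finrank
  rw [Fintype.card_fin] at h3
  have h4 := Submodule.finrank_add_eq_of_isCompl hcompl
  rw [Module.finrank_fintype_fun_eq_card, Fintype.card_sum, Fintype.card_sum, Fintype.card_fin,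
    Fintype.card_unit] at h4
  omega

end Cfsg.Agent.S5972P
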