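import Mathlib
import Cfsg.Prelude.Def_ClassicalGeometry
import Cfsg.Prelude.Def_GeometricClasses
import Cfsg.Agent.Helper16.S5972Defs
import Cfsg.Agent.Helper16.S5972TW
import Cfsg.Agent.Helper16.S5972WITT
import Cfsg.Agent.Helper16.S5972ODDN
import Cfsg.Agent.Helper20.S5955EVENTI
import Cfsg.Agent.Helper18.S5961ARITH
import Cfsg.Agent.Helper10.S5961FIXSPLIT
import Cfsg.Agent.Helper23.S5961STRUCT

set_option autoImplicit false
open scoped MatrixGroups

namespace Cfsg.Agent.S5972P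

open Polynomial Cfsg.Agent.Helper2.SympInvol Cfsg.Agent.Helper2.SympUnits Cfsg.Agent.S5961P
  Cfsg.Agent.S5955P

/-- SUFFGEN: a totally singular subspace of the fixed space plus an invariant totally singular
subspace of `range (y - 1)` -/
theorem exists_ts_invariant_of {F V : Type*} [Field F] [Fintype F] [AddCommGroup V] [Module F V]
    [FiniteDimensional F V] {p : ℕ} [Fact p.Prime] [CharP F p] (h2 : (2 : F) ≠ 0) (r : ℕ)
    [Fact r.Prime] (hr2 : r ≠ 2) (hrp : r ≠ p) (B : LinearMap.BilinForm F V)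
    (y : Module.End F V) (h : IsYO B y r) (U₀ : Submodule F V)
    (hU₀C : U₀ ≤ LinearMap.ker (y - 1)) (hU₀ti : Orth B U₀ U₀) (s : ℕ)
    (hodd : Odd (orderOf ((Fintype.card F : ℕ) : ZMod r)) →
      2 * orderOf ((Fintype.card F : ℕ) : ZMod r) * s ≤
        Module.finrank F (LinearMap.range (y - 1)))
    (hev : Even (orderOf ((Fintype.card F : ℕ) : ZMod r)) → s = 0 ∨
      (r - 1) + 2 * s * orderOf ((Fintype.card F : ℕ) : ZMod r) ≤
        Module.finrank F (LinearMap.range (y - 1)) + orderOf ((Fintype.card F : ℕ) : ZMod r)) :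
    ∃ W : Submodule F V, Module.finrank F W =
        Module.finrank F U₀ + orderOf ((Fintype.card F : ℕ) : ZMod r) * s ∧
      Orth B W W ∧ W.map y ≤ W ∧ W ⊓ LinearMap.ker (y - 1) = U₀ := by
  classical
  have hrpr : r.Prime := Fact.out
  have hrodd : Odd r := hrpr.odd_of_ne_two hr2
  obtain ⟨hsymm, hnd, hyB, hy⟩ := h
  obtain ⟨hcompl, hCN, hNC, hNinv, hCinv⟩ := fix_split (p := p) r hrp B y hyB hy
  have hNnd : Nondeg B (LinearMap.range (y - 1)) :=
    STRUCT.nondeg_right_of_isCompl B hnd _ _ hcompl hNC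
  obtain ⟨htwiso, -, htwB, htwnd⟩ := tw_facts h2 r hrodd B y hyB hy
  have htwalt := tw_alt B hsymm y
  have hNfix : LinearMap.range (y - 1) ⊓ LinearMap.ker (y - 1) = ⊥ := by
    rw [inf_comm]; exact hcompl.inf_eq_bot
  have hNtw := htwnd _ hNinv hNfix hNnd
  obtain ⟨U, hUN, hUinv, hUtw, hUdim⟩ : ∃ U : Submodule F V, U ≤ LinearMap.range (y - 1) ∧
      U.map y ≤ U ∧ Orth (tw B y) U U ∧
      Module.finrank F U = orderOf ((Fintype.card F : ℕ) : ZMod r) * s := by
    rcases Nat.even_or_odd (orderOf ((Fintype.card F : ℕ) : ZMod r)) with he | ho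
    · exact exists_ti_even (p := p) r hr2 hrp (tw B y) htwalt y htwiso hy he _ hNinv hNtw hNfix s
        (hev he)
    · exact exists_ti_odd_sub (p := p) r hr2 hrp (tw B y) htwalt y htwiso hy ho _ hNinv hNtw
        hNfix s (hodd ho)
  have hUfix : U ⊓ LinearMap.ker (y - 1) = ⊥ := by
    apply le_bot_iff.mp
    rw [← hNfix]
    exact inf_le_inf_right _ hUN
  have hUti : Orth B U U := htwB U hUinv hUfix hUtw
  have hdisj : Disjoint U₀ U := by
    rw [Submodule.disjoint_def]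
    intro v hv0 hv1
    have : v ∈ LinearMap.ker (y - 1) ⊓ LinearMap.range (y - 1) := ⟨hU₀C hv0, hUN hv1⟩
    rw [hcompl.inf_eq_bot] at this
    exact (Submodule.mem_bot F).mp this
  refine ⟨U₀ ⊔ U, ?_, ?_, ?_, ?_⟩
  · have := Submodule.finrank_sup_add_finrank_inf_eq U₀ U
    rw [hdisj.eq_bot, finrank_bot, add_zero] at this
    rw [this, hUdim]
  · intro u hu v hv
    obtain ⟨u₀, hu₀, u₁, hu₁, rfl⟩ := Submodule.mem_sup.mp hu
    obtain ⟨v₀, hv₀, v₁, hv₁, rfl⟩ := Submodule.mem_sup.mp hv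
    rw [map_add, map_add, LinearMap.add_apply, LinearMap.add_apply, hU₀ti u₀ hu₀ v₀ hv₀,
      hCN u₀ (hU₀C hu₀) v₁ (hUN hv₁), hNC u₁ (hUN hu₁) v₀ (hU₀C hv₀), hUti u₁ hu₁ v₁ hv₁]
    simp
  · rintro _ ⟨v, hv, rfl⟩
    obtain ⟨v₀, hv₀, v₁, hv₁, rfl⟩ := Submodule.mem_sup.mp hv
    rw [map_add]
    have h0 : y v₀ = v₀ := by
      have := LinearMap.mem_ker.mp (hU₀C hv₀)
      rw [LinearMap.sub_apply, Module.End.one_apply, sub_eq_zero] at this
      exact this
    rw [h0]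
    exact Submodule.add_mem _ (Submodule.mem_sup_left hv₀)
      (Submodule.mem_sup_right (hUinv ⟨v₁, hv₁, rfl⟩))
  · apply le_antisymm
    · rintro v ⟨hv, hvC⟩
      obtain ⟨v₀, hv₀, v₁, hv₁, rfl⟩ := Submodule.mem_sup.mp hv
      have hv₁C : v₁ ∈ LinearMap.ker (y - 1) := by
        have := Submodule.sub_mem _ hvC (hU₀C hv₀)
        rwa [add_sub_cancel_left] at this
      have : v₁ ∈ LinearMap.ker (y - 1) ⊓ LinearMap.range (y - 1) := ⟨hv₁C, hUN hv₁⟩
      rw [hcompl.inf_eq_bot] at this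
      rw [(Submodule.mem_bot F).mp this, add_zero]
      exact hv₀
    · exact le_inf le_sup_left hU₀C

/-- SUFFO -/
theorem exists_ts_invariant {F V : Type*} [Field F] [Fintype F] [AddCommGroup V] [Module F V]
    [FiniteDimensional F V] {p : ℕ} [Fact p.Prime] [CharP F p] (h2 : (2 : F) ≠ 0) (r : ℕ)
    [Fact r.Prime] (hr2 : r ≠ 2) (hrp : r ≠ p) (B : LinearMap.BilinForm F V)
    (y : Module.End F V) (h : IsYO B y r) (a' s : ℕ)
    (ha : 2 * a' + 1 ≤ Module.finrank F (LinearMap.ker (y - 1)))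
    (hodd : Odd (orderOf ((Fintype.card F : ℕ) : ZMod r)) →
      2 * orderOf ((Fintype.card F : ℕ) : ZMod r) * s ≤
        Module.finrank F (LinearMap.range (y - 1)))
    (hev : Even (orderOf ((Fintype.card F : ℕ) : ZMod r)) → s = 0 ∨
      (r - 1) + 2 * s * orderOf ((Fintype.card F : ℕ) : ZMod r) ≤
        Module.finrank F (LinearMap.range (y - 1)) + orderOf ((Fintype.card F : ℕ) : ZMod r)) :
    ∃ W : Submodule F V, Module.finrank F W = a' + orderOf ((Fintype.card F : ℕ) : ZMod r) * s ∧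
      Orth B W W ∧ W.map y ≤ W := by
  obtain ⟨hcompl, hCN, -, -, -⟩ := fix_split (p := p) r hrp B y h.isom h.pow
  have hCnd : Nondeg B (LinearMap.ker (y - 1)) :=
    STRUCT.nondeg_right_of_isCompl B h.nondeg _ _ hcompl.symm hCN
  obtain ⟨U₀, hU₀C, hU₀ti, hU₀dim⟩ := exists_ts_sub h2 B h.symm _ hCnd a' ha
  obtain ⟨W, hW, hWti, hWinv, -⟩ := exists_ts_invariant_of (p := p) h2 r hr2 hrp B y h U₀ hU₀C
    hU₀ti s hodd hev
  exact ⟨W, by rw [hW, hU₀dim], hWti, hWinv⟩

end Cfsg.Agent.S5972P
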