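import Mathlib
import Cfsg.Agent.Helper16.S5974Defs

/-! S5988 piece A88NO (helper16): criterion ⇒ closed form, `i` odd, `(ε, θ) = (+, -)`. -/

set_option autoImplicit false
set_option linter.unusedVariables false

namespace Cfsg.Agent.S5974P

open Cfsg.Agent.S5973P

namespace ANO

/-- `n = a + c t` with `a < c` gives `n % c = a` -/
theorem mod_of_eq (n a c t : ℕ) (h : n = a + c * t) (ha : a < c) : n % c = a := by
  rw [h, Nat.add_mul_mod_self_left, Nat.mod_eq_of_lt ha]

theorem odd_dvd_of_dvd_two_mul {i j : ℕ} (hi : Odd i) (h : i ∣ 2 * j) : i ∣ j :=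
  (Nat.Coprime.dvd_mul_left (Nat.coprime_two_right.mpr hi)).mp h

end ANO

/-- A88NO -/
theorem closed88_of_crit_odd (i c d m : ℕ) (hi : Odd i) (hc : c = 2 * i) (hd : 4 ≤ d)
    (hm2 : 2 ≤ m) (hme : Even m) (hmd : m < d) (hdiv : HDiv true false i d (m / 2))
    (h : CritE true false i c d m) : Closed88 i c d m := by
  have hne : ¬ Even i := Nat.not_even_iff_odd.mpr hi
  have hi0 : 0 < i := by rcases hi with ⟨k, hk⟩; omega
  have hc0 : 0 < c := by omega
  obtain ⟨s, hs⟩ := hme
  have hms : m / 2 = s := by omega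
  have hdiv' : i ∣ d ∨ i ∣ (d - s) ∨ ∃ j, d - s + 1 ≤ j ∧ j < d ∧ i ∣ 2 * j := by
    simpa [HDiv, hms] using hdiv
  -- `c ≤ 2 d`
  have hc2d : c ≤ 2 * d := by
    rcases hdiv' with h1 | h1 | ⟨j, hj1, hj2, hj3⟩
    · have := Nat.le_of_dvd (by omega) h1; omega
    · have := Nat.le_of_dvd (by omega) h1; omega
    · have := Nat.le_of_dvd (by omega) (ANO.odd_dvd_of_dvd_two_mul hi hj3); omega
  have hdm := Nat.div_add_mod (2 * d) c
  have hklt := Nat.mod_lt (2 * d) hc0
  have hn1 : 1 ≤ 2 * d / c := Nat.div_pos hc2d hc0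
  have hreal : Realz true i c d (2 * d / c) := by
    refine ⟨hn1, Nat.mul_div_le _ _, fun _ => ?_⟩
    simp [typeC, hne]
  obtain ⟨b', a', h1, h2, h3, h4, h5⟩ := h _ hreal
  have ha0 : a' ≠ 0 := by
    intro h0
    have := h4 h0
    simp [tNP, hne] at this
  have hatop : a' + c * (2 * d / c) ≠ 2 * d := by
    intro h0
    have := h5 h0
    simp [tNP, typeC, hne] at this
  have hak : a' < 2 * d % c := by omega
  have hmod : m % c = a' := ANO.mod_of_eq m a' c b' h1.symm (by omega)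
  refine Or.inl ⟨hi, ?_, by omega, by omega⟩
  by_contra hcon
  push Not at hcon
  -- `m < c`: then `b' = 0`, `a' = m < k`
  have hb0 : b' = 0 := by
    by_contra hb
    have : c * 1 ≤ c * b' := Nat.mul_le_mul_left c (Nat.one_le_iff_ne_zero.mpr hb)
    omega
  subst hb0
  have ham : a' = m := by omega
  rcases hdiv' with h6 | h6 | ⟨j, hj1, hj2, hj3⟩
  · obtain ⟨t, ht⟩ := h6
    have : 2 * d % c = 0 := by
      apply Nat.mod_eq_zero_of_dvd
      exact ⟨t, by rw [ht, hc]; ring⟩
    omega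
  · obtain ⟨t, ht⟩ := h6
    have : 2 * d % c = m := by
      apply ANO.mod_of_eq (2 * d) m c t _ hcon
      have : 2 * (d - s) = c * t := by rw [ht, hc]; ring
      omega
    omega
  · obtain ⟨t, ht⟩ := ANO.odd_dvd_of_dvd_two_mul hi hj3
    have : 2 * d % c = 2 * d - 2 * j := by
      apply ANO.mod_of_eq (2 * d) (2 * d - 2 * j) c t _ (by omega)
      have : 2 * j = c * t := by rw [ht, hc]; ring
      omega
    omega

end Cfsg.Agent.S5974P
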