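import Mathlib
import Cfsg.Agent.Helper16.S5974Defs
import Cfsg.Agent.Helper16.S5974A88NO

/-! S5990 piece A90NO (helper16): criterion ⇒ closed form, `i` odd, `(ε, θ) = (-, -)`. -/

set_option autoImplicit false
set_option linter.unusedVariables false

namespace Cfsg.Agent.S5974P

open Cfsg.Agent.S5973P

/-- A90NO -/
theorem closed90_of_crit_odd (i c d m : ℕ) (hi : Odd i) (hc : c = 2 * i) (hd : 4 ≤ d)
    (hm2 : 2 ≤ m) (hme : Even m) (hmn : m + 2 ≤ 2 * d) (hdiv : HDiv false false i d (m / 2))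
    (h : CritE false false i c d m) : Closed90 i c d m := by
  have hne : ¬ Even i := Nat.not_even_iff_odd.mpr hi
  have hi0 : 0 < i := by rcases hi with ⟨k, hk⟩; omega
  have hc0 : 0 < c := by omega
  obtain ⟨s, hs⟩ := hme
  have hms : m / 2 = s := by omega
  have hdiv' : (i ∣ 2 * d ∧ ¬ i ∣ d) ∨ (i ∣ 2 * (d - s) ∧ ¬ i ∣ (d - s)) ∨
      ∃ j, d - s + 1 ≤ j ∧ j < d ∧ i ∣ 2 * j := by
    simpa [HDiv, hms] using hdiv
  have hj : ∃ j, d - s + 1 ≤ j ∧ j < d ∧ i ∣ j := by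
    rcases hdiv' with ⟨h1, h2⟩ | ⟨h1, h2⟩ | ⟨j, hj1, hj2, hj3⟩
    · exact absurd (ANO.odd_dvd_of_dvd_two_mul hi h1) h2
    · exact absurd (ANO.odd_dvd_of_dvd_two_mul hi h1) h2
    · exact ⟨j, hj1, hj2, ANO.odd_dvd_of_dvd_two_mul hi hj3⟩
  obtain ⟨j, hj1, hj2, t, ht⟩ := hj
  have h2j : 2 * j = c * t := by rw [ht, hc]; ring
  have hc2d : c ≤ 2 * d := by
    have := Nat.le_of_dvd (by omega) ⟨t, ht⟩; omega
  have hdm := Nat.div_add_mod (2 * d) c
  have hklt := Nat.mod_lt (2 * d) hc0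
  have hn1 : 1 ≤ 2 * d / c := Nat.div_pos hc2d hc0
  by_cases hk0 : 2 * d % c = 0
  · exact Or.inl ⟨hi, Or.inl hk0⟩
  have hreal : Realz false i c d (2 * d / c) := by
    refine ⟨hn1, Nat.mul_div_le _ _, fun h0 => ?_⟩
    omega
  obtain ⟨b', a', h1, h2, h3, h4, -⟩ := h _ hreal
  have ha0 : a' ≠ 0 := by
    intro h0
    have := h4 h0
    simp [tNP, hne] at this
  have hmod : m % c = a' := ANO.mod_of_eq m a' c b' h1.symm (by omega)
  refine Or.inl ⟨hi, Or.inr ⟨?_, by omega, by omega⟩⟩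
  by_contra hcon
  push Not at hcon
  have hb0 : b' = 0 := by
    by_contra hb
    have : c * 1 ≤ c * b' := Nat.mul_le_mul_left c (Nat.one_le_iff_ne_zero.mpr hb)
    omega
  subst hb0
  have : 2 * d % c = 2 * d - 2 * j := by
    apply ANO.mod_of_eq (2 * d) (2 * d - 2 * j) c t _ (by omega)
    omega
  omega

end Cfsg.Agent.S5974P
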