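import Mathlib
import Cfsg.Agent.Helper16.S5974Defs
import Cfsg.Agent.Helper16.S5974A88NO

/-! S5974 / S5988 / S5990 pieces A74NE, A88NE, A90NE (helper16): criterion ⇒ closed form, `i` even. -/

set_option autoImplicit false
set_option linter.unusedVariables false

namespace Cfsg.Agent.S5974P

open Cfsg.Agent.S5973P

namespace ANE

/-- `Realz` for even `i` -/
theorem realz_even_iff (ε : Bool) {i : ℕ} (hi : Even i) (c d b : ℕ) :
    Realz ε i c d b ↔ (1 ≤ b ∧ c * b ≤ 2 * d ∧ (c * b = 2 * d → (ε = true ↔ Even b))) := by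
  unfold Realz typeC
  rw [if_pos hi]

/-- `FixC` for even `i` -/
theorem fixC_even_iff (ε θ : Bool) {i : ℕ} (hi : Even i) (c d m b : ℕ) :
    FixC ε θ i c d m b ↔ ∃ b' a' : ℕ, a' + c * b' = m ∧ b' ≤ b ∧ a' + c * b ≤ 2 * d ∧
      (a' = 0 → (Even b' ↔ θ = true)) ∧
      (a' + c * b = 2 * d → (((ε = true ↔ Even b) ↔ Even b') ↔ θ = true)) := by
  unfold FixC typeC tNP
  rw [if_pos hi]
  simp only [hi, forall_true_left]

/-- the data extracted from the criterion at the largest shape `b = n' = 2d / c` when `c ∤ 2d` -/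
theorem top_shape (ε θ : Bool) {i : ℕ} (hi : Even i) (c d m : ℕ) (hc0 : 0 < c)
    (hc2d : c ≤ 2 * d) (hk : 0 < 2 * d % c) (h : CritE ε θ i c d m) :
    m % c ≤ 2 * d % c ∧ (m % c = 0 → (Even (m / c) ↔ θ = true)) ∧
      (m % c = 2 * d % c → (((ε = true ↔ Even (2 * d / c)) ↔ Even (m / c)) ↔ θ = true)) := by
  have hdm := Nat.div_add_mod (2 * d) c
  have hklt := Nat.mod_lt (2 * d) hc0
  have hn1 : 1 ≤ 2 * d / c := Nat.div_pos hc2d hc0
  have hreal : Realz ε i c d (2 * d / c) := by
    rw [realz_even_iff ε hi]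
    exact ⟨hn1, Nat.mul_div_le _ _, fun h0 => by omega⟩
  have hfix := h _ hreal
  rw [fixC_even_iff ε θ hi] at hfix
  obtain ⟨b', a', h1, h2, h3, h4, h5⟩ := hfix
  have hmod : m % c = a' := ANO.mod_of_eq m a' c b' h1.symm (by omega)
  have hdiv : m / c = b' := by
    have := Nat.div_add_mod m c
    have h6 : c * (m / c) = c * b' := by omega
    exact Nat.eq_of_mul_eq_mul_left hc0 h6
  rw [hmod, hdiv]
  exact ⟨by omega, h4, fun h0 => h5 (by omega)⟩

/-- the data extracted from the criterion at `b = n' = 2d / c` when `c ∣ 2d` and `n'` is realisable -/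
theorem top_shape_zero (ε θ : Bool) {i : ℕ} (hi : Even i) (c d m : ℕ) (hc0 : 0 < c) (hd : 0 < d)
    (hk : 2 * d % c = 0) (hty : ε = true ↔ Even (2 * d / c)) (h : CritE ε θ i c d m) :
    m % c = 0 ∧ (Even (m / c) ↔ θ = true) := by
  have hdm := Nat.div_add_mod (2 * d) c
  have hn1 : 1 ≤ 2 * d / c := by
    rcases Nat.eq_zero_or_pos (2 * d / c) with h0 | h0
    · rw [h0] at hdm; omega
    · exact h0
  have hreal : Realz ε i c d (2 * d / c) := by
    rw [realz_even_iff ε hi]
    exact ⟨hn1, Nat.mul_div_le _ _, fun _ => hty⟩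
  have hfix := h _ hreal
  rw [fixC_even_iff ε θ hi] at hfix
  obtain ⟨b', a', h1, h2, h3, h4, h5⟩ := hfix
  have ha0 : a' = 0 := by omega
  subst ha0
  have hmod : m % c = 0 := ANO.mod_of_eq m 0 c b' h1.symm hc0
  have hdiv : m / c = b' := by
    have := Nat.div_add_mod m c
    have h6 : c * (m / c) = c * b' := by omega
    exact Nat.eq_of_mul_eq_mul_left hc0 h6
  rw [hdiv]
  exact ⟨hmod, h4 rfl⟩

/-- `(2d + m - 2k) / c = n' + m'` when `m % c = k` -/
theorem div_sum (c d m : ℕ) (hc0 : 0 < c) (hℓk : m % c = 2 * d % c) :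
    (2 * d + m - 2 * (2 * d % c)) / c = 2 * d / c + m / c := by
  have h1 := Nat.div_add_mod (2 * d) c
  have h2 := Nat.div_add_mod m c
  have : 2 * d + m - 2 * (2 * d % c) = c * (2 * d / c + m / c) := by
    rw [mul_add]; omega
  rw [this, Nat.mul_div_cancel_left _ hc0]

/-- `i ∣ 2j` with `d - s < j < d`, `m = 2s < c`: `2d % c = 2d - 2j < m` -/
theorem mod_of_j (c d m s j : ℕ) (hm : m = s + s) (hmc : m < c) (hj1 : d - s + 1 ≤ j)
    (hj2 : j < d) (hsd : s ≤ d) (hj3 : c ∣ 2 * j) : 2 * d % c + 2 ≤ m := by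
  obtain ⟨t, ht⟩ := hj3
  have : 2 * d % c = 2 * d - 2 * j := by
    apply ANO.mod_of_eq (2 * d) (2 * d - 2 * j) c t _ (by omega)
    omega
  omega

/-- `c ∣ 2 (d - s)`, `m = 2s < c`: `2d % c = m` and `2 (d - s) = c * (2d / c)` -/
theorem mod_of_sub (c d m s : ℕ) (hm : m = s + s) (hmc : m < c) (hsd : s ≤ d)
    (h : c ∣ 2 * (d - s)) : 2 * d % c = m ∧ 2 * (d - s) = c * (2 * d / c) := by
  obtain ⟨t, ht⟩ := h
  have h1 : 2 * d % c = m := by
    apply ANO.mod_of_eq (2 * d) m c t _ hmc
    omega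
  have h2 := Nat.div_add_mod (2 * d) c
  exact ⟨h1, by omega⟩

end ANE

/-- A74NE -/
theorem closed74_of_crit_even (i c d m : ℕ) (hi0 : 0 < i) (hi : Even i) (hc : c = i)
    (hd : 4 ≤ d) (hm2 : 2 ≤ m) (hme : Even m) (hmd : m < d)
    (hdiv : HDiv true true i d (m / 2)) (h : CritE true true i c d m) :
    Closed74 i c d m := by
  subst hc
  obtain ⟨s, hs⟩ := hme
  have hms : m / 2 = s := by omega
  have hdiv' : c ∣ d ∨ (c ∣ 2 * (d - s) ∧ ¬ c ∣ (d - s)) ∨
      ∃ j, d - s + 1 ≤ j ∧ j < d ∧ c ∣ 2 * j := by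
    simpa [HDiv, hms] using hdiv
  have hdm := Nat.div_add_mod (2 * d) c
  have hmm := Nat.div_add_mod m c
  have hklt := Nat.mod_lt (2 * d) hi0
  refine Or.inr ⟨hi, ?_⟩
  by_cases hk0 : 2 * d % c = 0
  · left
    refine ⟨hk0, ?_⟩
    rcases Nat.even_or_odd (2 * d / c) with hne | hno
    · right
      have := ANE.top_shape_zero true true hi c d m hi0 (by omega) hk0
        ⟨fun _ => hne, fun _ => rfl⟩ h
      exact ⟨this.1, this.2.mpr rfl⟩
    · left; exact hno
  · right
    have hkpos : 0 < 2 * d % c := Nat.pos_of_ne_zero hk0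
    have hc2d : c ≤ 2 * d := by
      rcases hdiv' with h1 | ⟨h1, -⟩ | ⟨j, hj1, hj2, hj3⟩
      · have := Nat.le_of_dvd (by omega) h1; omega
      · have := Nat.le_of_dvd (by omega) h1; omega
      · have := Nat.le_of_dvd (by omega) hj3; omega
    obtain ⟨hle, h0, htop⟩ := ANE.top_shape true true hi c d m hi0 hc2d hkpos h
    have hcm : c ≤ m := by
      by_contra hcon
      push Not at hcon
      have hm0 : m / c = 0 := Nat.div_eq_of_lt hcon
      have hℓ : m % c = m := Nat.mod_eq_of_lt hcon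
      rcases hdiv' with h1 | ⟨h1, h1'⟩ | ⟨j, hj1, hj2, hj3⟩
      · obtain ⟨t, ht⟩ := h1
        have : 2 * d % c = 0 := Nat.mod_eq_zero_of_dvd ⟨2 * t, by rw [ht]; ring⟩
        omega
      · obtain ⟨h2, h3⟩ := ANE.mod_of_sub c d m s hs hcon (by omega) h1
        have h4 := htop (by omega)
        rw [hm0] at h4
        have hev : Even (2 * d / c) := by
          have : ((true = true ↔ Even (2 * d / c)) ↔ Even 0) := h4.mpr rfl
          exact (this.mpr Even.zero).mp rfl
        obtain ⟨t, ht⟩ := hev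
        apply h1'
        exact ⟨t, by rw [ht] at h3; have : 2 * (d - s) = 2 * (c * t) := by rw [h3]; ring
                     omega⟩
      · have := ANE.mod_of_j c d m s j hs hcon hj1 hj2 (by omega) hj3
        omega
    refine ⟨hcm, ?_⟩
    rcases Nat.eq_zero_or_pos (m % c) with hℓ0 | hℓpos
    · right; right
      exact ⟨hkpos, hℓ0, (h0 hℓ0).mpr rfl⟩
    · rcases Nat.lt_or_ge (m % c) (2 * d % c) with hlt | hge
      · left; exact ⟨hlt, hℓpos⟩
      · right; left
        have heq : m % c = 2 * d % c := by omega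
        refine ⟨heq.symm, hℓpos, ?_⟩
        rw [ANE.div_sum c d m hi0 heq, Nat.even_add]
        have h4 : ((true = true ↔ Even (2 * d / c)) ↔ Even (m / c)) := (htop heq).mpr rfl
        constructor
        · intro h5; exact h4.mp ⟨fun _ => h5, fun _ => rfl⟩
        · intro h5; exact (h4.mpr h5).mp rfl

/-- A88NE -/
theorem closed88_of_crit_even (i c d m : ℕ) (hi0 : 0 < i) (hi : Even i) (hc : c = i)
    (hd : 4 ≤ d) (hm2 : 2 ≤ m) (hme : Even m) (hmd : m < d)
    (hdiv : HDiv true false i d (m / 2)) (h : CritE true false i c d m) :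
    Closed88 i c d m := by
  subst hc
  obtain ⟨s, hs⟩ := hme
  have hms : m / 2 = s := by omega
  have hdiv' : c ∣ d ∨ c ∣ (d - s) ∨ ∃ j, d - s + 1 ≤ j ∧ j < d ∧ c ∣ 2 * j := by
    simpa [HDiv, hms] using hdiv
  have hdm := Nat.div_add_mod (2 * d) c
  have hmm := Nat.div_add_mod m c
  have hklt := Nat.mod_lt (2 * d) hi0
  refine Or.inr ⟨hi, ?_⟩
  by_cases hk0 : 2 * d % c = 0
  · left
    refine ⟨hk0, ?_⟩
    rcases Nat.even_or_odd (2 * d / c) with hne | hno
    · right
      have := ANE.top_shape_zero true false hi c d m hi0 (by omega) hk0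
        ⟨fun _ => hne, fun _ => rfl⟩ h
      refine ⟨this.1, Nat.not_even_iff_odd.mp fun hev => ?_⟩
      exact absurd (this.2.mp hev) (by decide)
    · left; exact hno
  · right
    have hkpos : 0 < 2 * d % c := Nat.pos_of_ne_zero hk0
    have hc2d : c ≤ 2 * d := by
      rcases hdiv' with h1 | h1 | ⟨j, hj1, hj2, hj3⟩
      · have := Nat.le_of_dvd (by omega) h1; omega
      · have := Nat.le_of_dvd (by omega) h1; omega
      · have := Nat.le_of_dvd (by omega) hj3; omega
    obtain ⟨hle, h0, htop⟩ := ANE.top_shape true false hi c d m hi0 hc2d hkpos h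
    have hcm : c ≤ m := by
      by_contra hcon
      push Not at hcon
      have hm0 : m / c = 0 := Nat.div_eq_of_lt hcon
      have hℓ : m % c = m := Nat.mod_eq_of_lt hcon
      rcases hdiv' with h1 | h1 | ⟨j, hj1, hj2, hj3⟩
      · obtain ⟨t, ht⟩ := h1
        have : 2 * d % c = 0 := Nat.mod_eq_zero_of_dvd ⟨2 * t, by rw [ht]; ring⟩
        omega
      · obtain ⟨h2, h3⟩ := ANE.mod_of_sub c d m s hs hcon (by omega)
          (Dvd.dvd.mul_left h1 2)
        have h4 := htop (by omega)
        rw [hm0] at h4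
        -- `¬ (Even n' ↔ Even 0)`, so `n'` is odd; but `2 (d - s) = c n'` and `c ∣ d - s`
        have hodd : ¬ Even (2 * d / c) := by
          intro hev
          have : ((true = true ↔ Even (2 * d / c)) ↔ Even 0) :=
            ⟨fun _ => Even.zero, fun _ => ⟨fun _ => hev, fun _ => rfl⟩⟩
          exact absurd (h4.mp this) (by decide)
        obtain ⟨t, ht⟩ := h1
        apply hodd
        refine ⟨t, ?_⟩
        have : c * (2 * d / c) = c * (t + t) := by rw [← h3, ht]; ring
        exact Nat.eq_of_mul_eq_mul_left hi0 this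
      · have := ANE.mod_of_j c d m s j hs hcon hj1 hj2 (by omega) hj3
        omega
    refine ⟨hcm, ?_⟩
    rcases Nat.eq_zero_or_pos (m % c) with hℓ0 | hℓpos
    · right; right
      refine ⟨hℓ0, hkpos, Nat.not_even_iff_odd.mp fun hev => ?_⟩
      exact absurd ((h0 hℓ0).mp hev) (by decide)
    · rcases Nat.lt_or_ge (m % c) (2 * d % c) with hlt | hge
      · left; exact ⟨hℓpos, hlt⟩
      · right; left
        have heq : m % c = 2 * d % c := by omega
        refine ⟨hℓpos, heq, ?_⟩
        rw [ANE.div_sum c d m hi0 heq]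
        apply Nat.not_even_iff_odd.mp
        intro hev
        rw [Nat.even_add] at hev
        have : ((true = true ↔ Even (2 * d / c)) ↔ Even (m / c)) :=
          ⟨fun h5 => hev.mp (h5.mp rfl), fun h5 => ⟨fun _ => hev.mpr h5, fun _ => rfl⟩⟩
        exact absurd ((htop heq).mp this) (by decide)

/-- A90NE -/
theorem closed90_of_crit_even (i c d m : ℕ) (hi0 : 0 < i) (hi : Even i) (hc : c = i)
    (hd : 4 ≤ d) (hm2 : 2 ≤ m) (hme : Even m) (hmn : m + 2 ≤ 2 * d)
    (hdiv : HDiv false false i d (m / 2)) (h : CritE false false i c d m) :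
    Closed90 i c d m := by
  subst hc
  obtain ⟨s, hs⟩ := hme
  have hms : m / 2 = s := by omega
  have hdiv' : (c ∣ 2 * d ∧ ¬ c ∣ d) ∨ (c ∣ 2 * (d - s) ∧ ¬ c ∣ (d - s)) ∨
      ∃ j, d - s + 1 ≤ j ∧ j < d ∧ c ∣ 2 * j := by
    simpa [HDiv, hms] using hdiv
  have hdm := Nat.div_add_mod (2 * d) c
  have hmm := Nat.div_add_mod m c
  have hklt := Nat.mod_lt (2 * d) hi0
  refine Or.inr ⟨hi, ?_⟩
  by_cases hk0 : 2 * d % c = 0
  · left
    refine ⟨hk0, ?_⟩
    rcases Nat.even_or_odd (2 * d / c) with hne | hno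
    · left; exact hne
    · right
      have := ANE.top_shape_zero false false hi c d m hi0 (by omega) hk0
        ⟨fun h0 => absurd h0 (by decide), fun hev => absurd hev (Nat.not_even_iff_odd.mpr hno)⟩ h
      refine ⟨this.1, Nat.not_even_iff_odd.mp fun hev => ?_⟩
      exact absurd (this.2.mp hev) (by decide)
  · right
    have hkpos : 0 < 2 * d % c := Nat.pos_of_ne_zero hk0
    have hc2d : c ≤ 2 * d := by
      rcases hdiv' with ⟨h1, -⟩ | ⟨h1, -⟩ | ⟨j, hj1, hj2, hj3⟩
      · have := Nat.le_of_dvd (by omega) h1; omega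
      · have := Nat.le_of_dvd (by omega) h1; omega
      · have := Nat.le_of_dvd (by omega) hj3; omega
    obtain ⟨hle, h0, htop⟩ := ANE.top_shape false false hi c d m hi0 hc2d hkpos h
    have hcm : c ≤ m := by
      by_contra hcon
      push Not at hcon
      have hm0 : m / c = 0 := Nat.div_eq_of_lt hcon
      have hℓ : m % c = m := Nat.mod_eq_of_lt hcon
      rcases hdiv' with ⟨h1, -⟩ | ⟨h1, h1'⟩ | ⟨j, hj1, hj2, hj3⟩
      · have : 2 * d % c = 0 := Nat.mod_eq_zero_of_dvd h1
        omega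
      · obtain ⟨h2, h3⟩ := ANE.mod_of_sub c d m s hs hcon (by omega) h1
        have h4 := htop (by omega)
        rw [hm0] at h4
        -- `(¬ Even n' ↔ Even 0) ↔ False`, so `n'` is even; then `c ∣ d - s`
        have hev : Even (2 * d / c) := by
          by_contra hne
          have : ((false = true ↔ Even (2 * d / c)) ↔ Even 0) :=
            ⟨fun _ => Even.zero, fun _ => ⟨fun h5 => absurd h5 (by decide), fun h5 => absurd h5 hne⟩⟩
          exact absurd (h4.mp this) (by decide)
        obtain ⟨t, ht⟩ := hev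
        apply h1'
        refine ⟨t, ?_⟩
        rw [ht] at h3
        have : 2 * (d - s) = 2 * (c * t) := by rw [h3]; ring
        omega
      · have := ANE.mod_of_j c d m s j hs hcon hj1 hj2 (by omega) hj3
        omega
    refine ⟨hkpos, hcm, ?_⟩
    rcases Nat.eq_zero_or_pos (m % c) with hℓ0 | hℓpos
    · right; left
      refine ⟨hℓ0, Nat.not_even_iff_odd.mp fun hev => ?_⟩
      exact absurd ((h0 hℓ0).mp hev) (by decide)
    · rcases Nat.lt_or_ge (m % c) (2 * d % c) with hlt | hge
      · left; exact ⟨hℓpos, hlt⟩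
      · right; right
        have heq : m % c = 2 * d % c := by omega
        refine ⟨heq, ?_⟩
        rw [ANE.div_sum c d m hi0 heq, Nat.even_add]
        -- `¬ ((¬ Even n') ↔ Even m')`
        have h4 : ¬ ((false = true ↔ Even (2 * d / c)) ↔ Even (m / c)) := fun h5 =>
          absurd ((htop heq).mp h5) (by decide)
        constructor
        · intro h5
          by_contra h6
          apply h4
          exact ⟨fun h7 => absurd h5 (fun h8 => by have := h7.mpr h8; exact absurd this (by decide)),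
            fun h7 => absurd h7 h6⟩
        · intro h5
          by_contra h6
          apply h4
          exact ⟨fun _ => h5, fun _ => ⟨fun h7 => absurd h7 (by decide), fun h7 => absurd h7 h6⟩⟩

end Cfsg.Agent.S5974P
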