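import Mathlib
import Cfsg.Agent.Helper16.S5974Defs
import Cfsg.Agent.Helper19.Inv2EXC2

/-! S5974 piece SUBTYQ (helper16): a wrapper around helper19's `Inv2P.exists_sub_ty2`. -/

set_option autoImplicit false

namespace Cfsg.Agent.S5974P

open Module Cfsg.Agent.S5973P Cfsg.Agent.Helper2.SympInvol Cfsg.Agent.Helper2.SympUnits
  Cfsg.Agent.S5961P
open Cfsg.Agent.S5992P (PB Plus IsTy TS)

/-- SUBTYQ -/
theorem exists_sub_ty_q {F V : Type*} [Field F] [Fintype F] [AddCommGroup V] [Module F V]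
    [FiniteDimensional F V] (Q : QuadraticForm F V) (M : Submodule F V)
    (hM : Nondeg (PB Q) M) (hMe : Even (finrank F M)) (δ : Bool) (e : ℕ) (he : Even e)
    (hle : e ≤ finrank F M) (h0 : e = 0 → δ = true)
    (htop : e = finrank F M → (Plus Q M ↔ δ = true)) :
    ∃ W : Submodule F V, W ≤ M ∧ IsTy Q δ e W := by
  by_cases heq : e = finrank F M
  · exact ⟨M, le_refl _, heq.symm, hM, htop heq⟩
  · have hlt : e + 2 ≤ finrank F M := by
      obtain ⟨a, ha⟩ := he
      obtain ⟨b, hb⟩ := hMe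
      omega
    refine Cfsg.Agent.Inv2P.exists_sub_ty2 Q M hM hMe δ e he ?_ hlt
    intro hδ
    by_contra hcon
    have h00 : e = 0 := by
      obtain ⟨a, ha⟩ := he
      omega
    rw [h0 h00] at hδ
    exact Bool.noConfusion hδ

end Cfsg.Agent.S5974P
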