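import Mathlib
import Cfsg.Prelude.Def_GeometricClasses
import Cfsg.Prelude.Def_Classical
import Cfsg.Prelude.Def_LieClassical
import Cfsg.Agent.Helper27.S5989Defs
import Cfsg.Agent.Helper21.S5977BPLANES
import Cfsg.Agent.Helper13.QuadWitt

/-! S5989 piece NEGFRAME: an isometry with `x * x = -1` of a nondegenerate quadratic space has an
orthogonal basis `v_j, x v_j` of nonsingular vectors (transport of helper21's `PLANES.aux`). -/

set_option autoImplicit false
open scoped MatrixGroups

namespace Cfsg.Agent.S5989P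

open Cfsg.Agent.Helper2.SympInvol Cfsg.Agent.Helper2.SympUnits Cfsg.Agent.S5961P
  Cfsg.Agent.S5992P

/-- NEGFRAME -/
theorem exists_neg_frame {F V : Type*} [Field F] [AddCommGroup V] [Module F V]
    [FiniteDimensional F V] (h2 : (2 : F) ≠ 0) (Q : QuadraticForm F V) (hnd : Nondeg (PB Q) ⊤)
    (x : Module.End F V) (hxQ : ∀ v, Q (x v) = Q v) (hx2 : x * x = -1) :
    ∃ (d : ℕ) (b : Module.Basis (Fin d ⊕ Fin d) F V),
      (∀ j, b (Sum.inr j) = x (b (Sum.inl j))) ∧ (∀ j, Q (b (Sum.inl j)) ≠ 0) ∧
      (∀ s t, s ≠ t → PB Q (b s) (b t) = 0) := by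
  classical
  set n := Module.finrank F V with hn
  let e : V ≃ₗ[F] (Fin n → F) := (Module.finBasis F V).equivFun
  let Q' : QuadraticForm F (Fin n → F) := Q.comp (e.symm : (Fin n → F) →ₗ[F] V)
  have hQ' : ∀ v, Q' v = Q (e.symm v) := fun v => rfl
  have hpol' : ∀ u v, QuadraticMap.polar ⇑Q' u v = QuadraticMap.polar ⇑Q (e.symm u) (e.symm v) := by
    intro u v
    simp only [QuadraticMap.polar, hQ', map_add]
  let f : (Fin n → F) →ₗ[F] (Fin n → F) :=
    (e : V →ₗ[F] (Fin n → F)).comp (x.comp (e.symm : (Fin n → F) →ₗ[F] V))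
  have hf : ∀ v, f v = e (x (e.symm v)) := fun v => rfl
  let X : Matrix (Fin n) (Fin n) F := LinearMap.toMatrix' f
  have hXv : ∀ v, X.mulVec v = e (x (e.symm v)) := by
    intro v
    rw [← hf, ← Matrix.toLin'_apply]
    show Matrix.toLin' (LinearMap.toMatrix' f) v = f v
    rw [Matrix.toLin'_toMatrix']
  have hxx : ∀ v, x (x v) = -v := by
    intro v
    rw [← Module.End.mul_apply, hx2]
    rfl
  have hX : ∀ v, Q' (X.mulVec v) = Q' v := by
    intro v
    rw [hXv, hQ', hQ', LinearEquiv.symm_apply_apply, hxQ]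
  have hXX : X * X = -1 := by
    apply Cfsg.Agent.Helper28.Spin.matrix_ext_mulVec
    intro v
    rw [← Matrix.mulVec_mulVec, hXv, hXv, LinearEquiv.symm_apply_apply, hxx, map_neg,
      LinearEquiv.apply_symm_apply, Matrix.neg_mulVec, Matrix.one_mulVec]
  have hND : Cfsg.Agent.S5977B.PLANES.ND Q' ⊤ := by
    intro w _ hw
    by_contra hw0
    have hw0' : e.symm w ≠ 0 := by
      intro h
      apply hw0
      have := congrArg e h
      rwa [LinearEquiv.apply_symm_apply, map_zero] at this
    obtain ⟨v, -, hv⟩ := hnd (e.symm w) trivial hw0'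
    apply hv
    have := hw (e v) Submodule.mem_top
    rw [hpol', LinearEquiv.symm_apply_apply] at this
    exact this
  obtain ⟨m, e', -, hns, horth, hrk, -⟩ := Cfsg.Agent.S5977B.PLANES.aux Q' h2 hX hXX ⊤
    (fun w _ => Submodule.mem_top) hND
  have hnm : n = 2 * m := by
    rw [finrank_top, Module.finrank_fintype_fun_eq_card, Fintype.card_fin] at hrk
    exact hrk
  -- the family
  let v : Fin m → V := fun j => e.symm (e' j)
  have hv_ns : ∀ j, Q (v j) ≠ 0 := fun j => hns j
  have hv_orth : ∀ j k, j ≠ k → QuadraticMap.polar ⇑Q (v j) (v k) = 0 := by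
    intro j k hjk
    have := (horth j k hjk).1
    rwa [hpol'] at this
  have hv_orthx : ∀ j k, j ≠ k → QuadraticMap.polar ⇑Q (v j) (x (v k)) = 0 := by
    intro j k hjk
    have := (horth j k hjk).2
    rw [hpol', hXv, LinearEquiv.symm_apply_apply] at this
    exact this
  have hpolx : ∀ u w, QuadraticMap.polar ⇑Q (x u) (x w) = QuadraticMap.polar ⇑Q u w := by
    intro u w
    simp only [QuadraticMap.polar, ← map_add, hxQ]
  have hself : ∀ u, QuadraticMap.polar ⇑Q u (x u) = 0 := by
    intro u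
    have h1 := hpolx u (x u)
    rw [hxx, QuadraticMap.polar_neg_right, QuadraticMap.polar_comm (⇑Q) (x u) u] at h1
    have : (2 : F) * QuadraticMap.polar ⇑Q u (x u) = 0 := by linear_combination (-1 : F) * h1
    exact (mul_eq_zero.1 this).resolve_left h2
  let b0 : Fin m ⊕ Fin m → V := Sum.elim v (fun j => x (v j))
  have hb0_orth : ∀ s t, s ≠ t → QuadraticMap.polar ⇑Q (b0 s) (b0 t) = 0 := by
    rintro (j | j) (k | k) hst
    · exact hv_orth j k (fun h => hst (by rw [h]))
    · show QuadraticMap.polar ⇑Q (v j) (x (v k)) = 0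
      by_cases hjk : j = k
      · subst hjk; exact hself _
      · exact hv_orthx j k hjk
    · show QuadraticMap.polar ⇑Q (x (v j)) (v k) = 0
      rw [QuadraticMap.polar_comm]
      by_cases hjk : k = j
      · subst hjk; exact hself _
      · exact hv_orthx k j hjk
    · show QuadraticMap.polar ⇑Q (x (v j)) (x (v k)) = 0
      rw [hpolx]
      exact hv_orth j k (fun h => hst (by rw [h]))
  have hb0_ns : ∀ s, Q (b0 s) ≠ 0 := by
    rintro (j | j)
    · exact hv_ns j
    · show Q (x (v j)) ≠ 0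
      rw [hxQ]; exact hv_ns j
  have hli : LinearIndependent F b0 := by
    apply Cfsg.Agent.Helper13.linearIndependent_of_dual_polar Q b0 b0 hb0_orth
    intro s
    rw [Cfsg.Agent.Helper13.polar_self']
    exact mul_ne_zero h2 (hb0_ns s)
  have hcard : Fintype.card (Fin m ⊕ Fin m) = Module.finrank F V := by
    rw [Fintype.card_sum, Fintype.card_fin, ← hn, hnm]; ring
  have hspan : ⊤ ≤ Submodule.span F (Set.range b0) := by
    rw [hli.span_eq_top_of_card_eq_finrank' hcard]
  refine ⟨m, Module.Basis.mk hli hspan, ?_, ?_, ?_⟩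
  · intro j
    rw [Module.Basis.coe_mk]
    rfl
  · intro j
    rw [Module.Basis.coe_mk]
    exact hv_ns j
  · intro s t hst
    rw [Module.Basis.coe_mk]
    exact hb0_orth s t hst

end Cfsg.Agent.S5989P
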