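import Mathlib
import Cfsg.Prelude.Def_GeometricClasses
import Cfsg.Prelude.Def_Classical
import Cfsg.Prelude.Def_LieClassical
import Cfsg.Agent.Helper27.S5989Defs
import Cfsg.Agent.Helper21.S5973R2SPIN2

/-! S5989 piece NEGSPIN: an isometry with `x * x = -1` lies in `Ω` iff `2 ^ d` is a square
(wrapper around helper21's `Cfsg.Agent.S5973P.omega_of_sq_neg_one`). -/

set_option autoImplicit false
open scoped MatrixGroups

namespace Cfsg.Agent.S5989P

/-- NEGSPIN -/
theorem neg_mem_omega_iff {F : Type*} [Field F] [Fintype F] (h2 : (2 : F) ≠ 0) {ι : Type}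
    [Fintype ι] [DecidableEq ι] (Q : QuadraticForm F (ι → F))
    (hQ : (QuadraticMap.polarBilin Q).Nondegenerate) (d : ℕ) (hι : Fintype.card ι = 2 * d)
    (x : GL ι F) (hx : x ∈ Cfsg.isometryGroup F ⇑Q) (hx2 : x * x = -1) :
    x ∈ Cfsg.Geo.omegaGL ⇑Q ↔ IsSquare ((2 : F) ^ d) := by
  have hxx : (x : Matrix ι ι F) * (x : Matrix ι ι F) = -1 := by
    have h := congrArg Units.val hx2
    rw [Units.val_mul, Units.val_neg, Units.val_one] at h
    exact h
  exact Cfsg.Agent.S5973P.omega_of_sq_neg_one h2 Q hQ d hι x hx hxx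

end Cfsg.Agent.S5989P
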