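import Mathlib
import Cfsg.Prelude.Def_GeometricClasses
import Cfsg.Prelude.Def_Classical
import Cfsg.Agent.Helper16.S5974Defs
import Cfsg.Agent.Helper27.S5974MODELQ
import Cfsg.Agent.Helper18.S5974SHAPEQ
import Cfsg.Agent.Helper18.S5974NECQ
import Cfsg.Agent.Helper18.S5974SUFFQ
import Cfsg.Agent.Helper16.S5974SUBTYQ
import Cfsg.Agent.Helper18.S5974ORBITQ
import Cfsg.Agent.Helper6.S5974CARDOQ
import Cfsg.Agent.Helper18.S5974STABDVDQ
import Cfsg.Agent.Helper3.S5974NTCOUNTE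
import Cfsg.Agent.Helper3.S5974DIVNT
import Cfsg.Agent.Helper3.S5974R2NTE
import Cfsg.Agent.Helper18.S5974NEGFIXN
import Cfsg.Agent.Helper18.S5974NEGFIXS
import Cfsg.Agent.Helper18.S5974UNIMODEL88
import Cfsg.Agent.Helper13.S5974UNIHYP
import Cfsg.Agent.Helper28.IsoTransport
import Cfsg.Agent.Helper28.NonMax
import Cfsg.Agent.Helper15.S5992R2
import Cfsg.Agent.Helper22.S5989NEGIFF
import Cfsg.Agent.Helper3.S5989R2NT
import Cfsg.Agent.Helper1.S5973STD

set_option autoImplicit false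
set_option linter.unusedSectionVars false
open scoped MatrixGroups
universe u

/-! S5974 / S5988 / S5990: generic assembly (helper16), over `(ι, Q, ε, θ)`. -/

namespace Cfsg.Agent.S5974P.ASM

open Module Cfsg.Agent.S5973P Cfsg.Agent.Helper2.SympInvol Cfsg.Agent.Helper2.SympUnits
  Cfsg.Agent.S5961P Cfsg.Agent.S5974P
open Cfsg.Agent.S5992P (PB Plus IsTy TS)
open Cfsg.Agent.S5989P (stabW ordO epsFac R2cond)

section basics

variable {F : Type*} [Field F] [Fintype F] {ι : Type} [Fintype ι] [DecidableEq ι]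

theorem isom_of_mem_omegaGL (Q : QuadraticForm F (ι → F)) (x : GL ι F)
    (hx : x ∈ Cfsg.Geo.omegaGL ⇑Q) : x ∈ Cfsg.isometryGroup F ⇑Q := by
  rw [Cfsg.Agent.Helper28.NM.mem_omegaGL_iff] at hx
  obtain ⟨h, -, rfl⟩ := hx
  exact h.2

theorem toLin'_isom (Q : QuadraticForm F (ι → F)) (x : GL ι F)
    (hx : x ∈ Cfsg.isometryGroup F ⇑Q) (v : ι → F) :
    Q (Matrix.toLin' (x : Matrix ι ι F) v) = Q v := by
  rw [Cfsg.Agent.Helper28.IsoTransport.mem_isometryGroup_iff] at hx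
  rw [Matrix.toLin'_apply]
  exact hx v

/-- a quadratic space with nondegenerate polar form and positive dimension has a nonsingular vector -/
theorem exists_ne_zero (Q : QuadraticForm F (ι → F)) (hQ : ND Q) (hι : 0 < Fintype.card ι) :
    ∃ v : ι → F, Q v ≠ 0 := by
  by_contra hcon
  push Not at hcon
  obtain ⟨j⟩ := Fintype.card_pos_iff.mp hι
  have hzero : ∀ x : ι → F, x = 0 := by
    intro x
    apply hQ.1
    intro y
    show QuadraticMap.polar ⇑Q x y = 0
    unfold QuadraticMap.polar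
    rw [hcon, hcon, hcon]
    ring
  have := congrFun (hzero (Pi.single j 1)) j
  simp at this

/-- if `x ^ r` is the scalar `z` and `x` is an isometry then `z * z = 1` -/
theorem scalar_sq (Q : QuadraticForm F (ι → F)) (hQ : ND Q) (hι : 0 < Fintype.card ι)
    (x : GL ι F) (hx : x ∈ Cfsg.isometryGroup F ⇑Q) (r : ℕ) (z : F)
    (hz : ((x ^ r : GL ι F) : Matrix ι ι F) = z • (1 : Matrix ι ι F)) : z * z = 1 := by
  obtain ⟨v, hv⟩ := exists_ne_zero Q hQ hι
  have hxr : x ^ r ∈ Cfsg.isometryGroup F ⇑Q := Subgroup.pow_mem _ hx r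
  have h1 := toLin'_isom Q (x ^ r) hxr v
  rw [hz, Matrix.toLin'_apply, Matrix.smul_mulVec, Matrix.one_mulVec, QuadraticMap.map_smul,
    smul_eq_mul] at h1
  have : (z * z - 1) * Q v = 0 := by linear_combination h1
  rcases mul_eq_zero.mp this with h | h
  · linear_combination h
  · exact absurd h hv

theorem sq_one_cases {z : F} (hz : z * z = 1) : z = 1 ∨ z = -1 := by
  have : (z - 1) * (z + 1) = 0 := by linear_combination hz
  rcases mul_eq_zero.mp this with h | h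
  · left; linear_combination h
  · right; linear_combination h

theorem two_ne_zero_of_odd {q : ℕ} (hq : Fintype.card F = q) (hodd : Odd q) : (2 : F) ≠ 0 := by
  intro h
  have hchar : ringChar F = 2 := by
    have hdvd : ringChar F ∣ 2 := by
      rw [← ringChar.spec F 2]
      exact_mod_cast h
    rcases (Nat.dvd_prime Nat.prime_two).mp hdvd with h1 | h1
    · exact absurd h1 (CharP.ringChar_ne_one)
    · exact h1
  have := FiniteField.even_card_of_char_two hchar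
  rw [hq] at this
  rcases hodd with ⟨k, hk⟩
  omega

/-- a scalar isometry `z • 1` with `(z • 1) ^ r = 1`, `r` odd, is `1` -/
theorem scalar_eq_one (Q : QuadraticForm F (ι → F)) (hQ : ND Q) (hι : 0 < Fintype.card ι)
    (x : GL ι F) (hx : x ∈ Cfsg.isometryGroup F ⇑Q) (r : ℕ) (hr : Odd r) (hxr : x ^ r = 1)
    (z : F) (hz : (x : Matrix ι ι F) = z • (1 : Matrix ι ι F)) : x = 1 := by
  have hzr : ((x ^ r : GL ι F) : Matrix ι ι F) = (z ^ r) • (1 : Matrix ι ι F) := by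
    rw [Units.val_pow_eq_pow_val, hz, smul_pow, one_pow]
  have hz1 : z * z = 1 := by
    have hx1 : ((x ^ 1 : GL ι F) : Matrix ι ι F) = z • (1 : Matrix ι ι F) := by
      rw [pow_one]; exact hz
    exact scalar_sq Q hQ hι x hx 1 z hx1
  have hzr1 : z ^ r = 1 := by
    have h1 : ((x ^ r : GL ι F) : Matrix ι ι F) = 1 := by rw [hxr]; rfl
    rw [h1] at hzr
    obtain ⟨j⟩ := Fintype.card_pos_iff.mp hι
    have := congrFun (congrFun hzr j) j
    simpa using this.symm
  have hz' : z = 1 := by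
    obtain ⟨k, hk⟩ := hr
    rw [hk, pow_succ, pow_mul, sq, hz1, one_pow, one_mul] at hzr1
    exact hzr1
  apply Units.ext
  rw [hz, hz', one_smul]
  rfl

theorem map_smul_le {s : F} (hs : s * s = 1) (f : Module.End F (ι → F))
    (W : Submodule F (ι → F)) : W.map (s • f) ≤ W ↔ W.map f ≤ W := by
  constructor
  · rintro h _ ⟨w, hw, rfl⟩
    have h1 : (s • f) w ∈ W := h ⟨w, hw, rfl⟩
    have h2 : s • ((s • f) w) ∈ W := W.smul_mem s h1
    rwa [LinearMap.smul_apply, smul_smul, hs, one_smul] at h2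
  · rintro h _ ⟨w, hw, rfl⟩
    rw [LinearMap.smul_apply]
    exact W.smul_mem s (h ⟨w, hw, rfl⟩)

/-- `r ≠ p` does not divide `q` -/
theorem not_dvd_card {p : ℕ} [Fact p.Prime] [CharP F p] (r : ℕ) (hr : r.Prime) (hrp : r ≠ p) :
    ¬ r ∣ Fintype.card F := by
  obtain ⟨n, -, hn⟩ := FiniteField.card F p
  rw [hn]
  intro h
  have := hr.dvd_of_dvd_pow h
  exact hrp ((Nat.prime_dvd_prime_iff_eq hr Fact.out).mp this)

theorem orderOf_pos_of_not_dvd (r q : ℕ) [Fact r.Prime] (hrq : ¬ r ∣ q) :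
    0 < orderOf (q : ZMod r) := by
  have hr : r.Prime := Fact.out
  have hne : (q : ZMod r) ≠ 0 := by
    rw [Ne, ZMod.natCast_eq_zero_iff]
    exact hrq
  apply orderOf_pos_iff.mpr
  rw [isOfFinOrder_iff_pow_eq_one]
  exact ⟨r - 1, Nat.sub_pos_of_lt hr.one_lt, ZMod.pow_card_sub_one_eq_one hne⟩

theorem cc_eq (q r i c : ℕ) (hq : Fintype.card F = q) (hi : i = orderOf (q : ZMod r))
    (hc : c = if Even i then i else 2 * i) : c = cc F r := by
  rw [cc_def, hq, ← hi, hc]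

theorem cc_pos (r : ℕ) [Fact r.Prime] {p : ℕ} [Fact p.Prime] [CharP F p] (hrp : r ≠ p) :
    0 < cc F r := by
  have h := orderOf_pos_of_not_dvd r (Fintype.card F) (not_dvd_card r Fact.out hrp)
  rw [cc_def]
  split_ifs <;> omega

theorem finrank_fun (d : ℕ) (hι : Fintype.card ι = 2 * d) : finrank F (ι → F) = 2 * d := by
  rw [Module.finrank_fintype_fun_eq_card, hι]

end basics

section semisimple

variable {F : Type u} [Field F] [Fintype F] {ι : Type} [Fintype ι] [DecidableEq ι]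

/-- the normalised element `y = z x` with `y ^ r = 1` -/
theorem exists_normalised (Q : QuadraticForm F (ι → F)) (hQ : ND Q) (hι : 0 < Fintype.card ι)
    (x : GL ι F) (hx : x ∈ Cfsg.isometryGroup F ⇑Q) (r : ℕ) (hr : Odd r)
    (hxr : ∃ z : F, ((x ^ r : GL ι F) : Matrix ι ι F) = z • (1 : Matrix ι ι F))
    (hns : ∀ z : F, (x : Matrix ι ι F) ≠ z • (1 : Matrix ι ι F)) :
    ∃ (s : F) (y : Module.End F (ι → F)), s * s = 1 ∧
      y = s • Matrix.toLin' (x : Matrix ι ι F) ∧ IsYO Q y r ∧ y ≠ 1 := by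
  obtain ⟨z, hz⟩ := hxr
  have hzz := scalar_sq Q hQ hι x hx r z hz
  refine ⟨z, z • Matrix.toLin' (x : Matrix ι ι F), hzz, rfl, ⟨hQ, ?_, ?_⟩, ?_⟩
  · intro v
    rw [LinearMap.smul_apply, QuadraticMap.map_smul, smul_eq_mul, hzz, one_mul]
    exact toLin'_isom Q x hx v
  · rw [smul_pow, ← Matrix.toLin'_pow]
    have : (x : Matrix ι ι F) ^ r = z • (1 : Matrix ι ι F) := by
      rw [← hz, Units.val_pow_eq_pow_val]
    rw [this, map_smul, Matrix.toLin'_one, smul_smul]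
    obtain ⟨k, hk⟩ := hr
    have : z ^ r * z = 1 := by
      rw [hk, pow_succ, pow_mul, sq, hzz, one_pow, one_mul, hzz]
    rw [this, one_smul]
    rfl
  · intro h
    apply hns z
    have h3 : Matrix.toLin' (x : Matrix ι ι F) = z • (1 : Module.End F (ι → F)) := by
      have := congrArg (fun t => z • t) h
      simp only [smul_smul, hzz, one_smul] at this
      exact this
    apply Matrix.toLin'.injective
    rw [h3, map_smul, Matrix.toLin'_one]
    rfl

/-- the case `r` odd, `r ≠ p`: the combinatorial criterion -/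
theorem main_semi {p : ℕ} [Fact p.Prime] [CharP F p] {q : ℕ} (hq : Fintype.card F = q)
    (Q : QuadraticForm F (ι → F)) (hQ : ND Q) (d m : ℕ) (hd : 1 ≤ d)
    (hι : Fintype.card ι = 2 * d) (hΩ : (2 : F) ≠ 0 ∨ Cfsg.Agent.Helper2.OInv.HOm Q)
    (ε : Bool) (hε : IsHyp Q ↔ ε = true) (θ : Bool) (hme : Even m)
    (r : ℕ) [Fact r.Prime] (hr2 : r ≠ 2) (hrp : r ≠ p)
    (i c : ℕ) (hi : i = orderOf (q : ZMod r)) (hc : c = if Even i then i else 2 * i) :
    (∀ x : GL ι F, x ∈ Cfsg.Geo.omegaGL ⇑Q →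
      (∃ z : F, ((x ^ r : GL ι F) : Matrix ι ι F) = z • (1 : Matrix ι ι F)) →
      (∀ z : F, (x : Matrix ι ι F) ≠ z • (1 : Matrix ι ι F)) →
      ∃ W : Submodule F (ι → F), IsTy Q θ m W ∧
        W.map (Matrix.toLin' (x : Matrix ι ι F)) ≤ W) ↔ CritE ε θ i c d m := by
  have hr : r.Prime := Fact.out
  have hrodd : Odd r := hr.odd_of_ne_two hr2
  have hcc : c = cc F r := cc_eq q r i c hq hi hc
  have hiF : i = orderOf ((Fintype.card F : ℕ) : ZMod r) := by rw [hq]; exact hi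
  have hcpos : 0 < c := hcc ▸ cc_pos r hrp
  have hιpos : 0 < Fintype.card ι := by omega
  have hV : finrank F (ι → F) = 2 * d := finrank_fun d hι
  constructor
  · -- necessity
    intro hall b hb
    have hb' : Realz ε (orderOf ((Fintype.card F : ℕ) : ZMod r)) (cc F r) d b := by
      rw [← hiF, ← hcc]; exact hb
    obtain ⟨x, hxΩ, hxr, hrange⟩ := exists_model_q r hr2 hrp Q hQ d hd hι hΩ ε hε b hb'
    have hxI := isom_of_mem_omegaGL Q x hxΩ
    obtain ⟨hb1, -, -⟩ := hb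
    have hcb : 0 < cc F r * b := Nat.mul_pos (hcc ▸ hcpos) hb1
    have hx1 : x ≠ 1 := by
      intro h
      rw [h, Units.val_one, Matrix.toLin'_one] at hrange
      have h0 : (LinearMap.id : Module.End F (ι → F)) - 1 = 0 := sub_self _
      rw [h0, LinearMap.range_zero, finrank_bot] at hrange
      omega
    have hns : ∀ z : F, (x : Matrix ι ι F) ≠ z • (1 : Matrix ι ι F) := fun z hz =>
      hx1 (scalar_eq_one Q hQ hιpos x hxI r hrodd hxr z hz)
    obtain ⟨W, hWΩ, hWx⟩ := hall x hxΩ ⟨1, by rw [hxr, one_smul]; rfl⟩ hns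
    have hY : IsYO Q (Matrix.toLin' (x : Matrix ι ι F)) r := by
      refine ⟨hQ, toLin'_isom Q x hxI, ?_⟩
      rw [← Matrix.toLin'_pow, ← Units.val_pow_eq_pow_val, hxr]
      exact Matrix.toLin'_one
    have hy1 : Matrix.toLin' (x : Matrix ι ι F) ≠ 1 := by
      intro h
      apply hx1
      apply Units.ext
      apply Matrix.toLin'.injective
      rw [h, Units.val_one, Matrix.toLin'_one]
      rfl
    obtain ⟨b₀, hrange₀, hker₀, hC₀, -⟩ := realz_of_isYO r hr2 hrp Q _ hY hy1 d hV ε hε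
    have hbb : b₀ = b := by
      rw [hrange] at hrange₀
      exact (Nat.eq_of_mul_eq_mul_left (hcc ▸ hcpos) hrange₀).symm
    subst hbb
    have := fixC_of_invariant r hr2 hrp Q _ hY d ε b₀ hrange₀ hker₀ hC₀ θ m hme W hWΩ hWx
    rw [← hiF, ← hcc] at this
    exact this
  · -- sufficiency
    intro hcrit x hxΩ hxr hns
    have hxI := isom_of_mem_omegaGL Q x hxΩ
    obtain ⟨s, y, hs, hy, hY, hy1⟩ := exists_normalised Q hQ hιpos x hxI r hrodd hxr hns
    obtain ⟨b, hrange, hker, hC, hb⟩ := realz_of_isYO r hr2 hrp Q y hY hy1 d hV ε hε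
    have hfix := hcrit b (by rw [hiF, hcc]; exact hb)
    rw [hiF, hcc] at hfix
    obtain ⟨W, hWΩ, hWy⟩ := exists_invariant_of_fixC r hr2 hrp Q y hY d ε b hrange hker hC θ m
      hme hfix
    refine ⟨W, hWΩ, ?_⟩
    rw [hy, map_smul_le hs] at hWy
    exact hWy

/-- the weak divisibility consequence of `r ∣ #Ω` -/
theorem hdiv_of_card {p : ℕ} [Fact p.Prime] [CharP F p] {q : ℕ} (hq : Fintype.card F = q)
    (Q : QuadraticForm F (ι → F)) (hQ : ND Q) (d m : ℕ) (hd : 1 ≤ d)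
    (hι : Fintype.card ι = 2 * d) (ε : Bool) (hε : IsHyp Q ↔ ε = true) (θ : Bool)
    (hm2 : 2 ≤ m) (hme : Even m) (hmn : m + 2 ≤ 2 * d)
    (r : ℕ) [Fact r.Prime] (hr2 : r ≠ 2) (hrp : r ≠ p)
    (hrΩ : r ∣ Nat.card {W : Submodule F (ι → F) // IsTy Q θ m W}) :
    HDiv ε θ (orderOf (q : ZMod r)) d (m / 2) := by
  have hr : r.Prime := Fact.out
  have hrq : ¬ r ∣ q := hq ▸ not_dvd_card r hr hrp
  have hq2 : 2 ≤ q := hq ▸ Fintype.one_lt_card
  have hV : finrank F (ι → F) = 2 * d := finrank_fun d hι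
  obtain ⟨s, hs⟩ := hme
  have hs2 : m = 2 * s := by omega
  have hms : m / 2 = s := by omega
  -- a member of `Ω`
  obtain ⟨W₀, -, hW₀⟩ := exists_sub_ty_q Q ⊤ (nondeg_top_of_nd Q hQ)
    (by rw [finrank_top, hV]; exact ⟨d, by ring⟩) θ m ⟨s, hs⟩
    (by rw [finrank_top, hV]; omega) (fun h => by omega)
    (fun h => by rw [finrank_top, hV] at h; omega)
  have hW₀' : IsTy Q θ (2 * s) W₀ := hs2 ▸ hW₀
  have horb := card_ty_mul_stab Q hQ θ m ⟨s, hs⟩ W₀ hW₀
  rw [card_isometryGroup_of_type hq Q hQ d hd hι ε hε] at horb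
  have hstab := card_compl_dvd_stab hq Q hQ d hι ε hε θ s (by omega) W₀ hW₀'
  have hwk := nt_count_even hr2 hrq hq2 ε θ d s _ _ (by omega) (by omega) horb hstab hrΩ
  rw [hms]
  exact hdiv_of_dvd_wkE hr2 hrq hq2 ε θ d s (by omega) (by omega) hwk

end semisimple

section two

variable {F : Type u} [Field F] [Fintype F] {ι : Type} [Fintype ι] [DecidableEq ι]

theorem toLin'_mul_self_neg (x : GL ι F) (hx2 : x * x = -1) :
    Matrix.toLin' (x : Matrix ι ι F) * Matrix.toLin' (x : Matrix ι ι F) = -1 := by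
  rw [Module.End.mul_eq_comp, ← Matrix.toLin'_mul, ← Units.val_mul, hx2, Units.val_neg,
    Units.val_one, map_neg, Matrix.toLin'_one]
  rfl

/-- the case `r = 2`, `q` odd -/
theorem main_two_odd {q : ℕ} (hq : Fintype.card F = q) (hodd : Odd q)
    (Q : QuadraticForm F (ι → F)) (hQ : ND Q) (d m : ℕ) (hd : 1 ≤ d)
    (hι : Fintype.card ι = 2 * d) (ε : Bool) (hε : IsHyp Q ↔ ε = true) (θ : Bool)
    (hm2 : 2 ≤ m) (hme : Even m) (hmn : m + 2 ≤ 2 * d) :
    (∀ x : GL ι F, x ∈ Cfsg.Geo.omegaGL ⇑Q →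
      (∃ z : F, ((x ^ 2 : GL ι F) : Matrix ι ι F) = z • (1 : Matrix ι ι F)) →
      (∀ z : F, (x : Matrix ι ι F) ≠ z • (1 : Matrix ι ι F)) →
      ∃ W : Submodule F (ι → F), IsTy Q θ m W ∧
        W.map (Matrix.toLin' (x : Matrix ι ι F)) ≤ W) ↔ Cond2 ε θ q d m := by
  have h2 : (2 : F) ≠ 0 := two_ne_zero_of_odd hq hodd
  have hιpos : 0 < Fintype.card ι := by omega
  have hV : finrank F (ι → F) = 2 * d := finrank_fun d hι
  have hε' : Plus Q ⊤ ↔ ε = true := by rw [← isHyp_iff_plus_top]; exact hε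
  have hsq := isSquare_neg_one_pow_iff (F := F) hq hodd m hme
  constructor
  · intro hall
    by_contra hcon
    unfold Cond2 at hcon
    obtain ⟨hc1, hc2⟩ := not_or.mp hcon
    have hnt := (Cfsg.Agent.S5989P.r2_nt hq hodd ε d).mpr hc1
    obtain ⟨x, hxΩ, hx2⟩ := (Cfsg.Agent.S5989P.exists_neg_omega_iff h2 Q hQ d hι ε hε').mpr hnt
    have hxI := isom_of_mem_omegaGL Q x hxΩ
    have hns : ∀ z : F, (x : Matrix ι ι F) ≠ z • (1 : Matrix ι ι F) := by
      intro z hz
      have hx1 : ((x ^ 1 : GL ι F) : Matrix ι ι F) = z • (1 : Matrix ι ι F) := by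
        rw [pow_one]; exact hz
      have hz1 := scalar_sq Q hQ hιpos x hxI 1 z hx1
      have h3 : ((x * x : GL ι F) : Matrix ι ι F) = (z * z) • (1 : Matrix ι ι F) := by
        rw [Units.val_mul, hz, smul_mul_smul_comm, one_mul]
      rw [hx2, hz1, one_smul, Units.val_neg, Units.val_one] at h3
      obtain ⟨j⟩ := Fintype.card_pos_iff.mp hιpos
      have := congrFun (congrFun h3 j) j
      simp only [Matrix.neg_apply, Matrix.one_apply_eq] at this
      apply h2
      linear_combination -this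
    have hsc : ∃ z : F, ((x ^ 2 : GL ι F) : Matrix ι ι F) = z • (1 : Matrix ι ι F) := by
      refine ⟨-1, ?_⟩
      rw [sq, hx2, Units.val_neg, Units.val_one, neg_smul, one_smul]
    obtain ⟨W, hWΩ, hWx⟩ := hall x hxΩ hsc hns
    have := ty_of_neg_invariant h2 Q (Matrix.toLin' (x : Matrix ι ι F))
      (toLin'_isom Q x hxI) (toLin'_mul_self_neg x hx2) θ m hme W hWΩ hWx
    rw [hsq] at this
    exact hc2 this
  · intro hcond x hxΩ hxr hns
    have hxI := isom_of_mem_omegaGL Q x hxΩ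
    obtain ⟨z, hz⟩ := hxr
    have hzz := scalar_sq Q hQ hιpos x hxI 2 z hz
    rcases sq_one_cases hzz with h1 | h1
    · -- involution
      have hx2 : Matrix.toLin' (x : Matrix ι ι F) * Matrix.toLin' (x : Matrix ι ι F) = 1 := by
        rw [Module.End.mul_eq_comp, ← Matrix.toLin'_mul, ← sq, ← Units.val_pow_eq_pow_val, hz,
          h1, one_smul, Matrix.toLin'_one]
        rfl
      exact Cfsg.Agent.S5992P.exists_ty_of_invol h2 Q (nondeg_top_of_nd Q hQ) _
        (toLin'_isom Q x hxI) hx2 θ m hme (fun _ => hm2) (by rw [hV]; omega)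
    · have hx2 : x * x = -1 := by
        apply Units.ext
        rw [← sq, hz, h1, Units.val_neg, Units.val_one, neg_smul, one_smul]
      have hnt := (Cfsg.Agent.S5989P.exists_neg_omega_iff h2 Q hQ d hι ε hε').mp ⟨x, hxΩ, hx2⟩
      have hnr := (Cfsg.Agent.S5989P.r2_nt hq hodd ε d).mp hnt
      rcases hcond with hc | hc
      · exact absurd hc hnr
      · exact exists_ty_of_neg h2 Q hQ _ (toLin'_isom Q x hxI) (toLin'_mul_self_neg x hx2) θ m
          hme (by rw [hV]; omega) (hsq.trans hc)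

/-- the case `r = p = 2`, from the two interface statements of the characteristic-2 involution chapter
(helper27's `Cfsg.Agent.Inv2P`) -/
theorem main_two_even (h2 : (2 : F) = 0)
    (Q : QuadraticForm F (ι → F)) (hQ : ND Q) (m : ℕ) (hι : 0 < Fintype.card ι) (θ : Bool)
    (C22 : Prop)
    (hsuff : C22 → ∀ x : GL ι F, x ∈ Cfsg.Geo.omegaGL ⇑Q → x * x = 1 →
      ∃ W : Submodule F (ι → F), IsTy Q θ m W ∧ W.map (Matrix.toLin' (x : Matrix ι ι F)) ≤ W)
    (hder : ¬ C22 → ∃ x : GL ι F, x ∈ Cfsg.Geo.omegaGL ⇑Q ∧ x * x = 1 ∧ x ≠ 1 ∧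
      ∀ W : Submodule F (ι → F), IsTy Q θ m W →
        ¬ W.map (Matrix.toLin' (x : Matrix ι ι F)) ≤ W) :
    (∀ x : GL ι F, x ∈ Cfsg.Geo.omegaGL ⇑Q →
      (∃ z : F, ((x ^ 2 : GL ι F) : Matrix ι ι F) = z • (1 : Matrix ι ι F)) →
      (∀ z : F, (x : Matrix ι ι F) ≠ z • (1 : Matrix ι ι F)) →
      ∃ W : Submodule F (ι → F), IsTy Q θ m W ∧
        W.map (Matrix.toLin' (x : Matrix ι ι F)) ≤ W) ↔ C22 := by
  have hιpos : 0 < Fintype.card ι := hι
  have hone : ∀ z : F, z * z = 1 → z = 1 := by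
    intro z hz
    have h3 : (z - 1) * (z - 1) = 0 := by
      have : (z - 1) * (z - 1) = z * z - 2 * z + 1 := by ring
      rw [this, hz, h2]; ring_nf
      linear_combination h2
    have := mul_self_eq_zero.mp h3
    linear_combination this
  constructor
  · intro hall
    by_contra hcon
    obtain ⟨x, hxΩ, hx2, hx1, hder'⟩ := hder hcon
    have hxI := isom_of_mem_omegaGL Q x hxΩ
    have hns : ∀ z : F, (x : Matrix ι ι F) ≠ z • (1 : Matrix ι ι F) := by
      intro z hz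
      have hx1' : ((x ^ 1 : GL ι F) : Matrix ι ι F) = z • (1 : Matrix ι ι F) := by
        rw [pow_one]; exact hz
      have hz1 := hone z (scalar_sq Q hQ hιpos x hxI 1 z hx1')
      apply hx1
      apply Units.ext
      rw [hz, hz1, one_smul]
      rfl
    have hsc : ∃ z : F, ((x ^ 2 : GL ι F) : Matrix ι ι F) = z • (1 : Matrix ι ι F) := by
      refine ⟨1, ?_⟩
      rw [sq, hx2, one_smul]
      rfl
    obtain ⟨W, hWΩ, hWx⟩ := hall x hxΩ hsc hns
    exact hder' W hWΩ hWx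
  · intro hcond x hxΩ hxr hns
    have hxI := isom_of_mem_omegaGL Q x hxΩ
    obtain ⟨z, hz⟩ := hxr
    have hz1 := hone z (scalar_sq Q hQ hιpos x hxI 2 z hz)
    have hx2 : x * x = 1 := by
      apply Units.ext
      rw [← sq, hz, hz1, one_smul]
      rfl
    exact hsuff hcond x hxΩ hx2

end two

section unip

variable {F : Type u} [Field F] [Fintype F]

/-- `r = p` odd: `Ω⁺_{2d}(q)` has an element of order `p` fixing no elliptic nondegenerate even-dimensional
space -/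
theorem main_p88 {p : ℕ} [Fact p.Prime] [CharP F p] (h2 : (2 : F) ≠ 0) (d m : ℕ) (hd : 4 ≤ d)
    (hme : Even m) :
    ¬ (∀ x : GL (Fin d ⊕ Fin d) F, x ∈ Cfsg.Geo.omegaGL (Cfsg.quadFormPlus d F) →
      (∃ z : F, ((x ^ p : GL (Fin d ⊕ Fin d) F) : Matrix (Fin d ⊕ Fin d) (Fin d ⊕ Fin d) F) =
        z • (1 : Matrix (Fin d ⊕ Fin d) (Fin d ⊕ Fin d) F)) →
      (∀ z : F, (x : Matrix (Fin d ⊕ Fin d) (Fin d ⊕ Fin d) F) ≠
        z • (1 : Matrix (Fin d ⊕ Fin d) (Fin d ⊕ Fin d) F)) →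
      ∃ W : Submodule F (Fin d ⊕ Fin d → F),
        IsTy (Cfsg.Agent.Helper28.Spin.QfPlus d F) false m W ∧
        W.map (Matrix.toLin' (x : Matrix (Fin d ⊕ Fin d) (Fin d ⊕ Fin d) F)) ≤ W) := by
  intro hall
  obtain ⟨x, hxΩ, hxp, hx1, hsq, hk⟩ := exists_unip_88 (p := p) h2 d hd
  have hι : 0 < Fintype.card (Fin d ⊕ Fin d) := by
    rw [Fintype.card_sum, Fintype.card_fin]; omega
  have hns : ∀ z : F, (x : Matrix (Fin d ⊕ Fin d) (Fin d ⊕ Fin d) F) ≠
      z • (1 : Matrix (Fin d ⊕ Fin d) (Fin d ⊕ Fin d) F) := by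
    intro z hz
    have hzr : ((x ^ p : GL (Fin d ⊕ Fin d) F) : Matrix (Fin d ⊕ Fin d) (Fin d ⊕ Fin d) F) =
        (z ^ p) • (1 : Matrix (Fin d ⊕ Fin d) (Fin d ⊕ Fin d) F) := by
      rw [Units.val_pow_eq_pow_val, hz, smul_pow, one_pow]
    rw [hxp, Units.val_one] at hzr
    obtain ⟨j⟩ := Fintype.card_pos_iff.mp hι
    have h1 := congrFun (congrFun hzr j) j
    simp only [Matrix.one_apply_eq, Matrix.smul_apply, smul_eq_mul, mul_one] at h1
    have h3 : (z - 1) ^ p = 0 := by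
      rw [sub_pow_char, one_pow, ← h1, sub_self]
    have hz1 : z = 1 := by
      have := pow_eq_zero_iff (Fact.out : p.Prime).ne_zero |>.mp h3
      linear_combination this
    apply hx1
    apply Units.ext
    rw [hz, hz1, one_smul, Units.val_one]
  obtain ⟨W, hWΩ, hWx⟩ := hall x hxΩ ⟨1, by rw [hxp, one_smul, Units.val_one]⟩ hns
  have hxI : x ∈ Cfsg.isometryGroup F ⇑(Cfsg.Agent.Helper28.Spin.QfPlus d F) :=
    isom_of_mem_omegaGL (Cfsg.Agent.Helper28.Spin.QfPlus d F) x hxΩ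
  obtain ⟨hnd, hhyp⟩ := Cfsg.Agent.S5973P.std_plus (F := F) d
  have hV : finrank F (Fin d ⊕ Fin d → F) = 2 * d := by
    rw [Module.finrank_fintype_fun_eq_card, Fintype.card_sum, Fintype.card_fin]; ring
  have hplus := plus_of_unip_invariant h2 (Cfsg.Agent.Helper28.Spin.QfPlus d F) hnd hhyp
    (Matrix.toLin' (x : Matrix (Fin d ⊕ Fin d) (Fin d ⊕ Fin d) F))
    (toLin'_isom _ x hxI) hsq d hV hk W hWx hWΩ.2.1 (hWΩ.1 ▸ hme)
  exact absurd (hWΩ.2.2.mp hplus) (by decide)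

end unip

section main

variable {F : Type u} [Field F] [Fintype F] {ι : Type} [Fintype ι] [DecidableEq ι]

theorem two_eq_zero_of_char {p : ℕ} [CharP F p] (hp : p = 2) : (2 : F) = 0 := by
  subst hp
  exact_mod_cast CharP.cast_eq_zero F 2

theorem odd_card_of_char_ne_two {p : ℕ} [Fact p.Prime] [CharP F p] (hp : p ≠ 2) :
    Odd (Fintype.card F) := by
  obtain ⟨n, -, hn⟩ := FiniteField.card F p
  rw [hn]
  exact Odd.pow ((Fact.out : p.Prime).odd_of_ne_two hp)

/-- S5974 / S5988 / S5990, generic form: `ClosedS` is the family's closed form for odd `r ≠ p`, linked to the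
criterion by the two arithmetic hypotheses -/
theorem main_even {p : ℕ} [Fact p.Prime] [CharP F p] {q : ℕ} (hq : Fintype.card F = q)
    (Q : QuadraticForm F (ι → F)) (hQ : ND Q) (d m : ℕ) (hd : 4 ≤ d)
    (hι : Fintype.card ι = 2 * d) (hΩ : (2 : F) = 0 → Cfsg.Agent.Helper2.OInv.HOm Q)
    (ε : Bool) (hε : IsHyp Q ↔ ε = true) (θ : Bool)
    (hm2 : 2 ≤ m) (hme : Even m) (hmn : m + 2 ≤ 2 * d) (r : ℕ) [Fact r.Prime]
    (hrΩ : r ∣ Nat.card {W : Submodule F (ι → F) // IsTy Q θ m W})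
    (hsuff2 : (2 : F) = 0 → Cond22 ε θ d m → ∀ x : GL ι F, x ∈ Cfsg.Geo.omegaGL ⇑Q → x * x = 1 →
      ∃ W : Submodule F (ι → F), IsTy Q θ m W ∧ W.map (Matrix.toLin' (x : Matrix ι ι F)) ≤ W)
    (hder2 : (2 : F) = 0 → ¬ Cond22 ε θ d m →
      ∃ x : GL ι F, x ∈ Cfsg.Geo.omegaGL ⇑Q ∧ x * x = 1 ∧ x ≠ 1 ∧
      ∀ W : Submodule F (ι → F), IsTy Q θ m W →
        ¬ W.map (Matrix.toLin' (x : Matrix ι ι F)) ≤ W)
    (i c : ℕ) (hi : i = orderOf (q : ZMod r)) (hc : c = if Even i then i else 2 * i)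
    (ClosedS : Prop) (hS : 0 < i → ClosedS → CritE ε θ i c d m)
    (hN : 0 < i → HDiv ε θ i d (m / 2) → CritE ε θ i c d m → ClosedS)
    (hUni : r = p → 2 < r → ¬ (∀ x : GL ι F, x ∈ Cfsg.Geo.omegaGL ⇑Q →
      (∃ z : F, ((x ^ r : GL ι F) : Matrix ι ι F) = z • (1 : Matrix ι ι F)) →
      (∀ z : F, (x : Matrix ι ι F) ≠ z • (1 : Matrix ι ι F)) →
      ∃ W : Submodule F (ι → F), IsTy Q θ m W ∧
        W.map (Matrix.toLin' (x : Matrix ι ι F)) ≤ W)) :
    (∀ x : GL ι F, x ∈ Cfsg.Geo.omegaGL ⇑Q →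
      (∃ z : F, ((x ^ r : GL ι F) : Matrix ι ι F) = z • (1 : Matrix ι ι F)) →
      (∀ z : F, (x : Matrix ι ι F) ≠ z • (1 : Matrix ι ι F)) →
      ∃ W : Submodule F (ι → F), IsTy Q θ m W ∧
        W.map (Matrix.toLin' (x : Matrix ι ι F)) ≤ W) ↔
    ((r = 2 ∧ p = 2 ∧ Cond22 ε θ d m) ∨ (r = 2 ∧ p ≠ 2 ∧ Cond2 ε θ q d m) ∨
      (r ≠ p ∧ 2 < r ∧ ClosedS)) := by
  have hr : r.Prime := Fact.out
  by_cases hr2 : r = 2
  · subst hr2
    by_cases hp2 : p = 2
    · have h2 : (2 : F) = 0 := two_eq_zero_of_char hp2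
      rw [main_two_even h2 Q hQ m (by omega) θ (Cond22 ε θ d m) (hsuff2 h2) (hder2 h2)]
      constructor
      · intro h; exact Or.inl ⟨rfl, hp2, h⟩
      · rintro (⟨-, -, h⟩ | ⟨-, h, -⟩ | ⟨-, h, -⟩)
        · exact h
        · exact absurd hp2 h
        · omega
    · have hodd : Odd q := hq ▸ odd_card_of_char_ne_two hp2
      rw [main_two_odd hq hodd Q hQ d m (by omega) hι ε hε θ hm2 hme hmn]
      constructor
      · intro h; exact Or.inr (Or.inl ⟨rfl, hp2, h⟩)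
      · rintro (⟨-, h, -⟩ | ⟨-, -, h⟩ | ⟨-, h, -⟩)
        · exact absurd h hp2
        · exact h
        · omega
  · have hr3 : 2 < r := lt_of_le_of_ne hr.two_le (Ne.symm hr2)
    by_cases hrp : r = p
    · constructor
      · intro h
        exact absurd h (hUni hrp hr3)
      · rintro (⟨h, -⟩ | ⟨h, -⟩ | ⟨h, -⟩)
        · exact absurd h hr2
        · exact absurd h hr2
        · exact absurd hrp h
    · have hrq : ¬ r ∣ q := hq ▸ not_dvd_card r hr hrp
      have hi0 : 0 < i := hi ▸ orderOf_pos_of_not_dvd r q hrq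
      have hΩ' : (2 : F) ≠ 0 ∨ Cfsg.Agent.Helper2.OInv.HOm Q := by
        by_cases h2 : (2 : F) = 0
        · exact Or.inr (hΩ h2)
        · exact Or.inl h2
      rw [main_semi hq Q hQ d m (by omega) hι hΩ' ε hε θ hme r hr2 hrp i c hi hc]
      constructor
      · intro h
        refine Or.inr (Or.inr ⟨hrp, hr3, hN hi0 ?_ h⟩)
        rw [hi]
        exact hdiv_of_card hq Q hQ d m (by omega) hι ε hε θ hm2 hme hmn r hr2 hrp hrΩ
      · rintro (⟨h, -⟩ | ⟨h, -⟩ | ⟨-, -, h⟩)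
        · exact absurd h hr2
        · exact absurd h hr2
        · exact hS hi0 h

end main

end Cfsg.Agent.S5974P.ASM
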