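import Mathlib
import Cfsg.Agent.Helper16.S5974Defs

/-! S5974 / S5988 / S5990 pieces A74SO, A88SO, A90SO (helper16): closed form ⇒ criterion, `i` odd. -/

set_option autoImplicit false
set_option linter.unusedVariables false

namespace Cfsg.Agent.S5974P

open Cfsg.Agent.S5973P

namespace ASO

/-- the choice `b' = min b (m / c)` -/
theorem choose (c d m b : ℕ) (hm : m ≤ 2 * d)
    (hfit : m / c < b → m % c + c * b ≤ 2 * d) :
    ∃ b' a' : ℕ, a' + c * b' = m ∧ b' ≤ b ∧ a' + c * b ≤ 2 * d ∧ m % c ≤ a' ∧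
      (a' + c * b = 2 * d → m / c < b ∧ m % c + c * b = 2 * d ∨ m = 2 * d) := by
  by_cases hb : b ≤ m / c
  · refine ⟨b, m - c * b, ?_, le_refl _, ?_, ?_, ?_⟩
    · have : c * b ≤ c * (m / c) := Nat.mul_le_mul_left c hb
      have := Nat.mul_div_le m c
      omega
    · have : c * b ≤ c * (m / c) := Nat.mul_le_mul_left c hb
      have := Nat.mul_div_le m c
      omega
    · have : c * b ≤ c * (m / c) := Nat.mul_le_mul_left c hb
      have := Nat.div_add_mod m c
      omega
    · intro h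
      right
      have : c * b ≤ c * (m / c) := Nat.mul_le_mul_left c hb
      have := Nat.mul_div_le m c
      omega
  · push Not at hb
    refine ⟨m / c, m % c, ?_, hb.le, hfit hb, le_refl _, ?_⟩
    · have := Nat.div_add_mod m c
      omega
    · intro h
      left
      exact ⟨hb, h⟩

theorem mod_fit (c d b k : ℕ) (hc : 0 < c) (hcb : c * b ≤ 2 * d) (hk : k ≤ (2 * d) % c) :
    k + c * b ≤ 2 * d := by
  have h1 := Nat.div_add_mod (2 * d) c
  have h2 : b ≤ (2 * d) / c := (Nat.le_div_iff_mul_le hc).mpr (by rw [Nat.mul_comm]; exact hcb)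
  have h3 : c * b ≤ c * ((2 * d) / c) := Nat.mul_le_mul_left c h2
  omega

end ASO

/-- A74SO -/
theorem crit_of_closed74_odd (i c d m : ℕ) (hi : Odd i) (hc : c = 2 * i) (hd : 4 ≤ d)
    (hm2 : 2 ≤ m) (hme : Even m) (hmd : m < d) (h : Closed74 i c d m) :
    CritE true true i c d m := by
  have hne : ¬ Even i := Nat.not_even_iff_odd.mpr hi
  have hc0 : 0 < c := by rcases hi with ⟨k, hk⟩; omega
  rcases h with ⟨-, hcm, hmod⟩ | ⟨he, -⟩
  swap
  · exact absurd he hne
  intro b hb
  obtain ⟨hb1, hcb, -⟩ := hb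
  obtain ⟨b', a', h1, h2, h3, -, -⟩ := ASO.choose c d m b (by omega) (fun _ => ASO.mod_fit c d b (m % c) hc0 hcb hmod)
  refine ⟨b', a', h1, h2, h3, ?_, ?_⟩
  · intro _
    simp [tNP, hne]
  · intro _
    simp [tNP, typeC, hne]

/-- A88SO -/
theorem crit_of_closed88_odd (i c d m : ℕ) (hi : Odd i) (hc : c = 2 * i) (hd : 4 ≤ d)
    (hm2 : 2 ≤ m) (hme : Even m) (hmd : m < d) (h : Closed88 i c d m) :
    CritE true false i c d m := by
  have hne : ¬ Even i := Nat.not_even_iff_odd.mpr hi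
  have hc0 : 0 < c := by rcases hi with ⟨k, hk⟩; omega
  rcases h with ⟨-, hcm, hpos, hmod⟩ | ⟨he, -⟩
  swap
  · exact absurd he hne
  intro b hb
  obtain ⟨hb1, hcb, -⟩ := hb
  obtain ⟨b', a', h1, h2, h3, h4, h5⟩ := ASO.choose c d m b (by omega) (fun _ => ASO.mod_fit c d b (m % c) hc0 hcb hmod.le)
  refine ⟨b', a', h1, h2, h3, ?_, ?_⟩
  · intro h0
    omega
  · intro h0
    exfalso
    rcases h5 h0 with ⟨-, h6⟩ | h6
    · have := ASO.mod_fit c d b (m % c + 1) hc0 hcb (by omega)
      omega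
    · omega

/-- A90SO -/
theorem crit_of_closed90_odd (i c d m : ℕ) (hi : Odd i) (hc : c = 2 * i) (hd : 4 ≤ d)
    (hm2 : 2 ≤ m) (hme : Even m) (hmn : m + 2 ≤ 2 * d) (h : Closed90 i c d m) :
    CritE false false i c d m := by
  have hne : ¬ Even i := Nat.not_even_iff_odd.mpr hi
  have hc0 : 0 < c := by rcases hi with ⟨k, hk⟩; omega
  rcases h with ⟨-, hcl⟩ | ⟨he, -⟩
  swap
  · exact absurd he hne
  intro b hb
  obtain ⟨hb1, hcb, htop⟩ := hb
  have hcb' : c * b ≠ 2 * d := by
    intro h0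
    have := htop h0
    simp [typeC, hne] at this
  have htriv : ∀ a' b' : ℕ, (a' + c * b = 2 * d →
      ((typeC false i b ↔ tNP i b') ↔ false = true)) := by
    intro a' b' _
    simp [typeC, tNP, hne]
  rcases hcl with h0 | ⟨hcm, hpos, hmod⟩
  · -- `c ∣ 2 d`
    have hdvd : c ∣ 2 * d := Nat.dvd_of_mod_eq_zero h0
    obtain ⟨n', hn'⟩ := hdvd
    have hbn : b < n' := by
      by_contra hcon
      push Not at hcon
      have : c * n' ≤ c * b := Nat.mul_le_mul_left c hcon
      omega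
    have hcb2 : c * b + c ≤ 2 * d := by
      have : c * (b + 1) ≤ c * n' := Nat.mul_le_mul_left c hbn
      rw [Nat.mul_add, Nat.mul_one] at this
      omega
    by_cases hb : b ≤ (m - 1) / c
    · have h1 : c * b ≤ c * ((m - 1) / c) := Nat.mul_le_mul_left c hb
      have h2 := Nat.mul_div_le (m - 1) c
      refine ⟨b, m - c * b, by omega, le_refl _, by omega, fun h => by omega, htriv _ _⟩
    · push Not at hb
      have h2 := Nat.div_add_mod (m - 1) c
      have h3 := Nat.mod_lt (m - 1) hc0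
      refine ⟨(m - 1) / c, (m - 1) % c + 1, by omega, hb.le, by omega, fun h => by omega,
        htriv _ _⟩
  · obtain ⟨b', a', h1, h2, h3, h4, -⟩ := ASO.choose c d m b (by omega) (fun _ => ASO.mod_fit c d b (m % c) hc0 hcb hmod)
    exact ⟨b', a', h1, h2, h3, fun h => by omega, htriv _ _⟩

end Cfsg.Agent.S5974P
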