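import Mathlib
import Cfsg.Prelude.Def_GeometricClasses
import Cfsg.Prelude.Def_Classical
import Cfsg.Agent.Helper16.S5974Defs
import Cfsg.Agent.Helper16.S5974ASM
import Cfsg.Agent.Helper27.Inv2Main
import Cfsg.Agent.Helper2.OInvF
import Cfsg.Agent.Helper2.OInvH
import Cfsg.Agent.Helper16.S5974ASO
import Cfsg.Agent.Helper16.S5974A88NO
import Cfsg.Agent.Helper16.S5974A90NO
import Cfsg.Agent.Helper16.S5974ANE
import Cfsg.Agent.Helper3.S5974A74NO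
import Cfsg.Agent.Helper3.S5974A74SE
import Cfsg.Agent.Helper3.S5974A88SE

set_option autoImplicit false
set_option linter.unusedSectionVars false
open scoped MatrixGroups
universe u

/-! S5974 / S5988 / S5990: the three specialisations of `ASM.main_even` (helper16), with the frozen right-hand
sides, the subspaces still in the form `IsTy`. -/

namespace Cfsg.Agent.S5974P.Fin

open Module Cfsg.Agent.S5973P Cfsg.Agent.Helper2.SympInvol Cfsg.Agent.Helper2.SympUnits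
  Cfsg.Agent.S5961P Cfsg.Agent.S5974P Cfsg.Agent.S5974P.ASM
open Cfsg.Agent.S5992P (PB Plus IsTy TS)
open Cfsg.Agent.S5989P (R2cond)
open Cfsg.Agent.Inv2P (Inv2Cond)
open Cfsg.Agent.Helper28.Spin (QfPlus QfMinus)

section arith

theorem c_odd {i c : ℕ} (hi : Odd i) (hc : c = if Even i then i else 2 * i) : c = 2 * i := by
  rw [hc, if_neg (Nat.not_even_iff_odd.mpr hi)]

theorem c_even {i c : ℕ} (hi : Even i) (hc : c = if Even i then i else 2 * i) : c = i := by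
  rw [hc, if_pos hi]

theorem hS74 (i c d m : ℕ) (hc : c = if Even i then i else 2 * i) (hd : 4 ≤ d) (hm2 : 2 ≤ m)
    (hme : Even m) (hmd : m < d) (hi0 : 0 < i) (h : Closed74 i c d m) :
    CritE true true i c d m := by
  rcases Nat.even_or_odd i with hi | hi
  · exact crit_of_closed74_even i c d m hi0 hi (c_even hi hc) hd hm2 hme hmd h
  · exact crit_of_closed74_odd i c d m hi (c_odd hi hc) hd hm2 hme hmd h

theorem hN74 (i c d m : ℕ) (hc : c = if Even i then i else 2 * i) (hd : 4 ≤ d) (hm2 : 2 ≤ m)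
    (hme : Even m) (hmd : m < d) (hi0 : 0 < i) (hdiv : HDiv true true i d (m / 2))
    (h : CritE true true i c d m) : Closed74 i c d m := by
  rcases Nat.even_or_odd i with hi | hi
  · exact closed74_of_crit_even i c d m hi0 hi (c_even hi hc) hd hm2 hme hmd hdiv h
  · exact closed74_of_crit_odd i c d m hi (c_odd hi hc) hd hm2 hme hmd hdiv h

theorem hS88 (i c d m : ℕ) (hc : c = if Even i then i else 2 * i) (hd : 4 ≤ d) (hm2 : 2 ≤ m)
    (hme : Even m) (hmd : m < d) (hi0 : 0 < i) (h : Closed88 i c d m) :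
    CritE true false i c d m := by
  rcases Nat.even_or_odd i with hi | hi
  · exact crit_of_closed88_even i c d m hi0 hi (c_even hi hc) hd hm2 hme hmd h
  · exact crit_of_closed88_odd i c d m hi (c_odd hi hc) hd hm2 hme hmd h

theorem hN88 (i c d m : ℕ) (hc : c = if Even i then i else 2 * i) (hd : 4 ≤ d) (hm2 : 2 ≤ m)
    (hme : Even m) (hmd : m < d) (hi0 : 0 < i) (hdiv : HDiv true false i d (m / 2))
    (h : CritE true false i c d m) : Closed88 i c d m := by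
  rcases Nat.even_or_odd i with hi | hi
  · exact closed88_of_crit_even i c d m hi0 hi (c_even hi hc) hd hm2 hme hmd hdiv h
  · exact closed88_of_crit_odd i c d m hi (c_odd hi hc) hd hm2 hme hmd hdiv h

theorem hS90 (i c d m : ℕ) (hc : c = if Even i then i else 2 * i) (hd : 4 ≤ d) (hm2 : 2 ≤ m)
    (hme : Even m) (hmn : m + 2 ≤ 2 * d) (hi0 : 0 < i) (h : Closed90 i c d m) :
    CritE false false i c d m := by
  rcases Nat.even_or_odd i with hi | hi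
  · exact crit_of_closed90_even i c d m hi0 hi (c_even hi hc) hd hm2 hme hmn h
  · exact crit_of_closed90_odd i c d m hi (c_odd hi hc) hd hm2 hme hmn h

theorem hN90 (i c d m : ℕ) (hc : c = if Even i then i else 2 * i) (hd : 4 ≤ d) (hm2 : 2 ≤ m)
    (hme : Even m) (hmn : m + 2 ≤ 2 * d) (hi0 : 0 < i) (hdiv : HDiv false false i d (m / 2))
    (h : CritE false false i c d m) : Closed90 i c d m := by
  rcases Nat.even_or_odd i with hi | hi
  · exact closed90_of_crit_even i c d m hi0 hi (c_even hi hc) hd hm2 hme hmn hdiv h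
  · exact closed90_of_crit_odd i c d m hi (c_odd hi hc) hd hm2 hme hmn hdiv h

/-- `Cond22` gives helper27's `Inv2Cond` away from `(ε, θ) = (-, +)` -/
theorem inv2Cond_of_cond22 (ε θ : Bool) (d m : ℕ) (hεθ : ε = false → θ = false)
    (h : Cond22 ε θ d m) : Inv2Cond ε θ d m := by
  unfold Cond22 at h
  unfold Inv2Cond
  cases ε <;> cases θ
  · simpa using h
  · simp at hεθ
  · simp at h
  · simp only [if_true] at h ⊢
    rcases h with h | h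
    · exact Or.inr (by simpa using h)
    · exact Or.inl h

theorem cond22_tt (d m : ℕ) : Cond22 true true d m = (Odd d ∨ m % 4 = 0) := by
  unfold Cond22; rw [if_pos rfl, if_pos rfl]

theorem cond22_tf (d m : ℕ) : Cond22 true false d m = False := by
  unfold Cond22; rw [if_pos rfl, if_neg Bool.false_ne_true]

theorem cond22_ff (d m : ℕ) : Cond22 false false d m = (Even d ∨ m % 4 = 2) := by
  unfold Cond22; rw [if_neg Bool.false_ne_true]

theorem cond2_t (θ : Bool) (q d m : ℕ) :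
    Cond2 true θ q d m = ((Odd d ∧ q % 8 ≠ 1) ∨ ((m % 4 = 0 ∨ q % 4 = 1) ↔ θ = true)) := by
  unfold Cond2 R2cond; rw [if_pos rfl]

theorem cond2_f (θ : Bool) (q d m : ℕ) :
    Cond2 false θ q d m = ((Even d ∨ q % 8 ≠ 7) ∨ ((m % 4 = 0 ∨ q % 4 = 1) ↔ θ = true)) := by
  unfold Cond2 R2cond; rw [if_neg Bool.false_ne_true]

theorem rhs74 (p q r i c d m : ℕ) (hq2 : p = 2 → q % 2 = 0) (hqo : p ≠ 2 → q % 2 = 1) :
    ((r = 2 ∧ p = 2 ∧ Cond22 true true d m) ∨ (r = 2 ∧ p ≠ 2 ∧ Cond2 true true q d m) ∨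
      (r ≠ p ∧ 2 < r ∧ Closed74 i c d m)) ↔
    ((r = 2 ∧ ((2 * d) % 4 = 2 ∨ m % 4 = 0 ∨ q % 4 = 1)) ∨
     (r ≠ p ∧ 2 < r ∧ Odd i ∧ c ≤ m ∧ m % c ≤ (2 * d) % c) ∨
     (r ≠ p ∧ 2 < r ∧ Even i ∧
       (((2 * d) % c = 0 ∧ (Odd ((2 * d) / i) ∨ (m % c = 0 ∧ Even (m / i)))) ∨
        (i ≤ m ∧ ((m % c < (2 * d) % c ∧ 0 < m % c) ∨
                  ((2 * d) % c = m % c ∧ 0 < m % c ∧ Even ((2 * d + m - 2 * ((2 * d) % c)) / i)) ∨
                  (0 < (2 * d) % c ∧ m % c = 0 ∧ Even (m / i))))))) := by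
  rw [cond22_tt, cond2_t]
  unfold Closed74
  have hd2 : Odd d ↔ (2 * d) % 4 = 2 := by rw [Nat.odd_iff]; omega
  constructor
  · rintro (⟨h1, h2, h3⟩ | ⟨h1, h2, h3⟩ | ⟨h1, h2, h3 | h3⟩)
    · refine Or.inl ⟨h1, ?_⟩
      rcases h3 with h | h
      · exact Or.inl (hd2.mp h)
      · exact Or.inr (Or.inl h)
    · refine Or.inl ⟨h1, ?_⟩
      rcases h3 with ⟨h, -⟩ | h
      · exact Or.inl (hd2.mp h)
      · exact Or.inr (h.mpr rfl)
    · exact Or.inr (Or.inl ⟨h1, h2, h3⟩)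
    · exact Or.inr (Or.inr ⟨h1, h2, h3⟩)
  · rintro (⟨h1, h3⟩ | ⟨h1, h2, h3⟩ | ⟨h1, h2, h3⟩)
    · by_cases hp : p = 2
      · refine Or.inl ⟨h1, hp, ?_⟩
        have := hq2 hp
        rcases h3 with h | h | h
        · exact Or.inl (hd2.mpr h)
        · exact Or.inr h
        · omega
      · refine Or.inr (Or.inl ⟨h1, hp, ?_⟩)
        have := hqo hp
        rcases h3 with h | h | h
        · by_cases h8 : q % 8 = 1
          · right; exact ⟨fun _ => rfl, fun _ => Or.inr (by omega)⟩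
          · left; exact ⟨hd2.mpr h, h8⟩
        · right; exact ⟨fun _ => rfl, fun _ => Or.inl h⟩
        · right; exact ⟨fun _ => rfl, fun _ => Or.inr h⟩
    · exact Or.inr (Or.inr ⟨h1, h2, Or.inl h3⟩)
    · exact Or.inr (Or.inr ⟨h1, h2, Or.inr h3⟩)

theorem rhs88 (p q r i c d m : ℕ) (hqo : p ≠ 2 → q % 2 = 1) (hme : Even m) :
    ((r = 2 ∧ p = 2 ∧ Cond22 true false d m) ∨ (r = 2 ∧ p ≠ 2 ∧ Cond2 true false q d m) ∨
      (r ≠ p ∧ 2 < r ∧ Closed88 i c d m)) ↔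
    ((r = 2 ∧ p ≠ 2 ∧ ((Even d ∧ q % 4 = 3 ∧ m % 4 = 2) ∨ (Odd d ∧ q % 8 ≠ 1))) ∨
     (r ≠ p ∧ 2 < r ∧ Odd i ∧ c ≤ m ∧ 0 < m % c ∧ m % c < (2 * d) % c) ∨
     (r ≠ p ∧ 2 < r ∧ Even i ∧
       (((2 * d) % c = 0 ∧ (Odd ((2 * d) / i) ∨ (m % c = 0 ∧ Odd (m / i)))) ∨
        (i ≤ m ∧ ((0 < m % c ∧ m % c < (2 * d) % c) ∨
                  (0 < m % c ∧ m % c = (2 * d) % c ∧ Odd ((2 * d + m - 2 * ((2 * d) % c)) / i)) ∨
                  (m % c = 0 ∧ 0 < (2 * d) % c ∧ Odd (m / i))))))) := by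
  rw [cond22_tf, cond2_t]
  unfold Closed88
  obtain ⟨s, hs⟩ := hme
  constructor
  · rintro (⟨-, -, h3⟩ | ⟨h1, h2, h3⟩ | ⟨h1, h2, h3 | h3⟩)
    · exact h3.elim
    · refine Or.inl ⟨h1, h2, ?_⟩
      have := hqo h2
      rcases h3 with h | h
      · exact Or.inr h
      · have hn : ¬ (m % 4 = 0 ∨ q % 4 = 1) := fun hh => Bool.false_ne_true (h.mp hh)
        rw [not_or] at hn
        rcases Nat.even_or_odd d with hd | hd
        · exact Or.inl ⟨hd, by omega, by omega⟩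
        · exact Or.inr ⟨hd, by omega⟩
    · exact Or.inr (Or.inl ⟨h1, h2, h3⟩)
    · exact Or.inr (Or.inr ⟨h1, h2, h3⟩)
  · rintro (⟨h1, h2, h3⟩ | ⟨h1, h2, h3⟩ | ⟨h1, h2, h3⟩)
    · refine Or.inr (Or.inl ⟨h1, h2, ?_⟩)
      rcases h3 with ⟨-, h4, h5⟩ | h
      · right
        exact ⟨fun hh => by omega, fun hh => absurd hh Bool.false_ne_true⟩
      · exact Or.inl h
    · exact Or.inr (Or.inr ⟨h1, h2, Or.inl h3⟩)
    · exact Or.inr (Or.inr ⟨h1, h2, Or.inr h3⟩)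

theorem rhs90 (p q r i c d m : ℕ) (hqo : p ≠ 2 → q % 2 = 1) (hme : Even m) :
    ((r = 2 ∧ p = 2 ∧ Cond22 false false d m) ∨ (r = 2 ∧ p ≠ 2 ∧ Cond2 false false q d m) ∨
      (r ≠ p ∧ 2 < r ∧ Closed90 i c d m)) ↔
    ((r = 2 ∧ p = 2 ∧ (Even d ∨ m % 4 = 2)) ∨
     (r = 2 ∧ p ≠ 2 ∧ (Even d ∨ q % 8 ≠ 7 ∨ m % 4 = 2)) ∨
     (r ≠ p ∧ 2 < r ∧ Odd i ∧ ((2 * d) % c = 0 ∨ (c ≤ m ∧ 0 < m % c ∧ m % c ≤ (2 * d) % c))) ∨
     (r ≠ p ∧ 2 < r ∧ Even i ∧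
       (((2 * d) % c = 0 ∧ (Even ((2 * d) / i) ∨ (m % c = 0 ∧ Odd (m / i)))) ∨
        (0 < (2 * d) % c ∧ i ≤ m ∧ ((0 < m % c ∧ m % c < (2 * d) % c) ∨ (m % c = 0 ∧ Odd (m / i)) ∨
                                    (m % c = (2 * d) % c ∧ Even ((2 * d + m - 2 * ((2 * d) % c)) / i))))))) := by
  rw [cond22_ff, cond2_f]
  unfold Closed90
  obtain ⟨s, hs⟩ := hme
  constructor
  · rintro (⟨h1, h2, h3⟩ | ⟨h1, h2, h3⟩ | ⟨h1, h2, h3 | h3⟩)
    · exact Or.inl ⟨h1, h2, h3⟩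
    · refine Or.inr (Or.inl ⟨h1, h2, ?_⟩)
      have := hqo h2
      rcases h3 with (h | h) | h
      · exact Or.inl h
      · exact Or.inr (Or.inl h)
      · have hn : ¬ (m % 4 = 0 ∨ q % 4 = 1) := fun hh => Bool.false_ne_true (h.mp hh)
        rw [not_or] at hn
        exact Or.inr (Or.inr (by omega))
    · exact Or.inr (Or.inr (Or.inl ⟨h1, h2, h3⟩))
    · exact Or.inr (Or.inr (Or.inr ⟨h1, h2, h3⟩))
  · rintro (⟨h1, h2, h3⟩ | ⟨h1, h2, h3⟩ | ⟨h1, h2, h3⟩ | ⟨h1, h2, h3⟩)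
    · exact Or.inl ⟨h1, h2, h3⟩
    · refine Or.inr (Or.inl ⟨h1, h2, ?_⟩)
      have := hqo h2
      rcases h3 with h | h | h
      · exact Or.inl (Or.inl h)
      · exact Or.inl (Or.inr h)
      · by_cases h7 : q % 8 = 7
        · right
          exact ⟨fun hh => by omega, fun hh => absurd hh Bool.false_ne_true⟩
        · exact Or.inl (Or.inr h7)
    · exact Or.inr (Or.inr ⟨h1, h2, Or.inl h3⟩)
    · exact Or.inr (Or.inr ⟨h1, h2, Or.inr h3⟩)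

end arith

section geom

variable {F : Type u} [Field F] [Fintype F]

theorem aniso_ne_zero (h2 : (2 : F) = 0) (a b : F)
    (hab : ∀ x y : F, x ^ 2 + a * x * y + b * y ^ 2 = 0 → x = 0 ∧ y = 0) : a ≠ 0 := by
  rintro rfl
  have hchar : ringChar F = 2 := by
    have hdvd : ringChar F ∣ 2 := by
      rw [← ringChar.spec F 2]
      exact_mod_cast h2
    rcases (Nat.dvd_prime Nat.prime_two).mp hdvd with h1 | h1
    · exact absurd h1 (CharP.ringChar_ne_one)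
    · exact h1
  obtain ⟨s, hs⟩ := FiniteField.isSquare_of_char_two hchar b
  have := (hab s 1 (by rw [hs]; linear_combination (s ^ 2) * h2)).2
  exact one_ne_zero this

theorem card_plus (d : ℕ) : Fintype.card (Fin d ⊕ Fin d) = 2 * d := by
  rw [Fintype.card_sum, Fintype.card_fin]; ring

theorem card_minus (d : ℕ) (hd : 1 ≤ d) :
    Fintype.card ((Fin (d - 1) ⊕ Fin (d - 1)) ⊕ Fin 2) = 2 * d := by
  rw [Fintype.card_sum, Fintype.card_sum, Fintype.card_fin, Fintype.card_fin]; omega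

variable {ι : Type} [Fintype ι] [DecidableEq ι]

/-- the sufficiency half of `r = p = 2` from helper27's involution chapter -/
theorem suff2 (Q : QuadraticForm F (ι → F)) (hQ : ND Q) (d m : ℕ) (hd : 4 ≤ d)
    (hι : Fintype.card ι = 2 * d) (ε : Bool) (hε : IsHyp Q ↔ ε = true) (θ : Bool)
    (hεθ : ε = false → θ = false) (hm2 : 2 ≤ m) (hme : Even m) (hmn : m + 2 ≤ 2 * d)
    (h2 : (2 : F) = 0) (hc : Cond22 ε θ d m) (x : GL ι F) (hx : x ∈ Cfsg.Geo.omegaGL ⇑Q)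
    (hxx : x * x = 1) :
    ∃ W : Submodule F (ι → F), IsTy Q θ m W ∧ W.map (Matrix.toLin' (x : Matrix ι ι F)) ≤ W :=
  Cfsg.Agent.Inv2P.exists_ty_of_invol2 h2 Q hQ d hι hd ε
    (by rw [← isHyp_iff_plus_top]; exact hε) x hx hxx θ m hme hm2 hmn
    (inv2Cond_of_cond22 ε θ d m hεθ hc)

end geom

section mains

variable {F : Type u} [Field F] [Fintype F]

theorem q_even {p : ℕ} [Fact p.Prime] [CharP F p] {q : ℕ} (hq : Fintype.card F = q)
    (hp : p = 2) : q % 2 = 0 := by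
  obtain ⟨n, -, hn⟩ := FiniteField.card F p
  rw [← hq, hn, hp]
  exact Nat.even_iff.mp (Nat.even_pow.mpr ⟨even_two, n.ne_zero⟩)

theorem q_odd {p : ℕ} [Fact p.Prime] [CharP F p] {q : ℕ} (hq : Fintype.card F = q)
    (hp : p ≠ 2) : q % 2 = 1 := by
  rw [← hq]
  exact Nat.odd_iff.mp (odd_card_of_char_ne_two hp)

/-- S5974 with the hyperbolic `m`-spaces in the form `IsTy _ true m` -/
theorem main74 {p : ℕ} [Fact p.Prime] [CharP F p] {q : ℕ} (hq : Fintype.card F = q)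
    (d m : ℕ) (hd : 4 ≤ d) (hm : 2 ≤ m) (hme : Even m) (hmd : m < d)
    (r : ℕ) [Fact r.Prime] (hr : r = 2 ∨ r ≠ p)
    (hrΩ : r ∣ Nat.card {W : Submodule F (Fin d ⊕ Fin d → F) // IsTy (QfPlus d F) true m W})
    (i c : ℕ) (hi : i = orderOf (q : ZMod r)) (hc : c = if Even i then i else 2 * i) :
    (∀ x : GL (Fin d ⊕ Fin d) F, x ∈ Cfsg.Geo.omegaGL ⇑(QfPlus d F) →
      (∃ z : F, ((x ^ r : GL (Fin d ⊕ Fin d) F) : Matrix (Fin d ⊕ Fin d) (Fin d ⊕ Fin d) F) =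
        z • (1 : Matrix (Fin d ⊕ Fin d) (Fin d ⊕ Fin d) F)) →
      (∀ z : F, (x : Matrix (Fin d ⊕ Fin d) (Fin d ⊕ Fin d) F) ≠
        z • (1 : Matrix (Fin d ⊕ Fin d) (Fin d ⊕ Fin d) F)) →
      ∃ W : Submodule F (Fin d ⊕ Fin d → F), IsTy (QfPlus d F) true m W ∧
        W.map (Matrix.toLin' (x : Matrix (Fin d ⊕ Fin d) (Fin d ⊕ Fin d) F)) ≤ W) ↔
    ((r = 2 ∧ ((2 * d) % 4 = 2 ∨ m % 4 = 0 ∨ q % 4 = 1)) ∨
     (r ≠ p ∧ 2 < r ∧ Odd i ∧ c ≤ m ∧ m % c ≤ (2 * d) % c) ∨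
     (r ≠ p ∧ 2 < r ∧ Even i ∧
       (((2 * d) % c = 0 ∧ (Odd ((2 * d) / i) ∨ (m % c = 0 ∧ Even (m / i)))) ∨
        (i ≤ m ∧ ((m % c < (2 * d) % c ∧ 0 < m % c) ∨
                  ((2 * d) % c = m % c ∧ 0 < m % c ∧ Even ((2 * d + m - 2 * ((2 * d) % c)) / i)) ∨
                  (0 < (2 * d) % c ∧ m % c = 0 ∧ Even (m / i))))))) := by
  obtain ⟨hnd, hhyp⟩ := Cfsg.Agent.S5973P.std_plus (F := F) d
  have hε : IsHyp (QfPlus d F) ↔ true = true := iff_of_true hhyp rfl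
  have hder : (2 : F) = 0 → ¬ Cond22 true true d m →
      ∃ x : GL (Fin d ⊕ Fin d) F, x ∈ Cfsg.Geo.omegaGL ⇑(QfPlus d F) ∧ x * x = 1 ∧ x ≠ 1 ∧
      ∀ W : Submodule F (Fin d ⊕ Fin d → F), IsTy (QfPlus d F) true m W →
        ¬ W.map (Matrix.toLin' (x : Matrix (Fin d ⊕ Fin d) (Fin d ⊕ Fin d) F)) ≤ W := by
    intro h2 hcon
    rw [cond22_tt, not_or] at hcon
    obtain ⟨x, hxΩ, hxx, hx1, hW⟩ :=
      Cfsg.Agent.Inv2P.exists_invol2_derangement_plus (F := F) h2 d hd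
    refine ⟨x, hxΩ, hxx, hx1, fun W hWty hWx => ?_⟩
    obtain ⟨-, h4⟩ := hW W hWty.2.1 hWx
    have h5 := h4 (Nat.not_odd_iff_even.mp hcon.1)
    rw [hWty.1] at h5
    exact hcon.2 (Nat.mod_eq_zero_of_dvd h5)
  have hmain := main_even hq (QfPlus d F) hnd d m hd (card_plus d)
    (fun h2 => Cfsg.Agent.Helper2.OInv.HOm_plus h2 (by omega) (Or.inr (by omega)))
    true hε true hm hme (by omega) r hrΩ
    (fun h2 hc x hx hxx => suff2 (QfPlus d F) hnd d m hd (card_plus d) true hε true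
      (fun h => absurd h (by decide)) hm hme (by omega) h2 hc x hx hxx)
    hder i c hi hc (Closed74 i c d m)
    (hS74 i c d m hc hd hm hme hmd) (hN74 i c d m hc hd hm hme hmd)
    (fun hrp h2r => by
      rcases hr with h | h
      · omega
      · exact absurd hrp h)
  rw [hmain]
  exact rhs74 p q r i c d m (q_even hq) (q_odd hq)

/-- S5988 with the elliptic `m`-spaces in the form `IsTy _ false m` -/
theorem main88 {p : ℕ} [Fact p.Prime] [CharP F p] {q : ℕ} (hq : Fintype.card F = q)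
    (d m : ℕ) (hd : 4 ≤ d) (hm : 2 ≤ m) (hme : Even m) (hmd : m < d)
    (r : ℕ) [Fact r.Prime]
    (hrΩ : r ∣ Nat.card {W : Submodule F (Fin d ⊕ Fin d → F) // IsTy (QfPlus d F) false m W})
    (i c : ℕ) (hi : i = orderOf (q : ZMod r)) (hc : c = if Even i then i else 2 * i) :
    (∀ x : GL (Fin d ⊕ Fin d) F, x ∈ Cfsg.Geo.omegaGL ⇑(QfPlus d F) →
      (∃ z : F, ((x ^ r : GL (Fin d ⊕ Fin d) F) : Matrix (Fin d ⊕ Fin d) (Fin d ⊕ Fin d) F) =
        z • (1 : Matrix (Fin d ⊕ Fin d) (Fin d ⊕ Fin d) F)) →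
      (∀ z : F, (x : Matrix (Fin d ⊕ Fin d) (Fin d ⊕ Fin d) F) ≠
        z • (1 : Matrix (Fin d ⊕ Fin d) (Fin d ⊕ Fin d) F)) →
      ∃ W : Submodule F (Fin d ⊕ Fin d → F), IsTy (QfPlus d F) false m W ∧
        W.map (Matrix.toLin' (x : Matrix (Fin d ⊕ Fin d) (Fin d ⊕ Fin d) F)) ≤ W) ↔
    ((r = 2 ∧ p ≠ 2 ∧ ((Even d ∧ q % 4 = 3 ∧ m % 4 = 2) ∨ (Odd d ∧ q % 8 ≠ 1))) ∨
     (r ≠ p ∧ 2 < r ∧ Odd i ∧ c ≤ m ∧ 0 < m % c ∧ m % c < (2 * d) % c) ∨
     (r ≠ p ∧ 2 < r ∧ Even i ∧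
       (((2 * d) % c = 0 ∧ (Odd ((2 * d) / i) ∨ (m % c = 0 ∧ Odd (m / i)))) ∨
        (i ≤ m ∧ ((0 < m % c ∧ m % c < (2 * d) % c) ∨
                  (0 < m % c ∧ m % c = (2 * d) % c ∧ Odd ((2 * d + m - 2 * ((2 * d) % c)) / i)) ∨
                  (m % c = 0 ∧ 0 < (2 * d) % c ∧ Odd (m / i))))))) := by
  obtain ⟨hnd, hhyp⟩ := Cfsg.Agent.S5973P.std_plus (F := F) d
  have hε : IsHyp (QfPlus d F) ↔ true = true := iff_of_true hhyp rfl
  have hder : (2 : F) = 0 → ¬ Cond22 true false d m →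
      ∃ x : GL (Fin d ⊕ Fin d) F, x ∈ Cfsg.Geo.omegaGL ⇑(QfPlus d F) ∧ x * x = 1 ∧ x ≠ 1 ∧
      ∀ W : Submodule F (Fin d ⊕ Fin d → F), IsTy (QfPlus d F) false m W →
        ¬ W.map (Matrix.toLin' (x : Matrix (Fin d ⊕ Fin d) (Fin d ⊕ Fin d) F)) ≤ W := by
    intro h2 _
    obtain ⟨x, hxΩ, hxx, hx1, hW⟩ :=
      Cfsg.Agent.Inv2P.exists_invol2_derangement_plus (F := F) h2 d hd
    refine ⟨x, hxΩ, hxx, hx1, fun W hWty hWx => ?_⟩
    obtain ⟨hpl, -⟩ := hW W hWty.2.1 hWx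
    exact Bool.false_ne_true (hWty.2.2.mp hpl)
  have hmain := main_even hq (QfPlus d F) hnd d m hd (card_plus d)
    (fun h2 => Cfsg.Agent.Helper2.OInv.HOm_plus h2 (by omega) (Or.inr (by omega)))
    true hε false hm hme (by omega) r hrΩ
    (fun h2 hc x hx hxx => by rw [cond22_tf] at hc; exact hc.elim)
    hder i c hi hc (Closed88 i c d m)
    (hS88 i c d m hc hd hm hme hmd) (hN88 i c d m hc hd hm hme hmd)
    (fun hrp h2r => by
      subst hrp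
      have hp2 : r ≠ 2 := by omega
      have h2 : (2 : F) ≠ 0 :=
        two_ne_zero_of_odd (F := F) rfl (odd_card_of_char_ne_two (p := r) hp2)
      exact main_p88 (p := r) h2 d m hd hme)
  rw [hmain]
  exact rhs88 p q r i c d m (q_odd hq) hme

/-- S5990 with the elliptic `m`-spaces in the form `IsTy _ false m` -/
theorem main90 {p : ℕ} [Fact p.Prime] [CharP F p] {q : ℕ} (hq : Fintype.card F = q)
    (d m : ℕ) (hd : 4 ≤ d) (hm : 2 ≤ m) (hme : Even m) (hmn : m + 2 ≤ 2 * d) (a b : F)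
    (hab : ∀ x y : F, x ^ 2 + a * x * y + b * y ^ 2 = 0 → x = 0 ∧ y = 0)
    (r : ℕ) [Fact r.Prime] (hr : r = 2 ∨ r ≠ p)
    (hrΩ : r ∣ Nat.card {W : Submodule F ((Fin (d - 1) ⊕ Fin (d - 1)) ⊕ Fin 2 → F) //
      IsTy (QfMinus (d - 1) F a b) false m W})
    (i c : ℕ) (hi : i = orderOf (q : ZMod r)) (hc : c = if Even i then i else 2 * i) :
    (∀ x : GL ((Fin (d - 1) ⊕ Fin (d - 1)) ⊕ Fin 2) F,
      x ∈ Cfsg.Geo.omegaGL ⇑(QfMinus (d - 1) F a b) →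
      (∃ z : F, ((x ^ r : GL ((Fin (d - 1) ⊕ Fin (d - 1)) ⊕ Fin 2) F) :
        Matrix ((Fin (d - 1) ⊕ Fin (d - 1)) ⊕ Fin 2) ((Fin (d - 1) ⊕ Fin (d - 1)) ⊕ Fin 2) F) =
        z • (1 : Matrix ((Fin (d - 1) ⊕ Fin (d - 1)) ⊕ Fin 2)
          ((Fin (d - 1) ⊕ Fin (d - 1)) ⊕ Fin 2) F)) →
      (∀ z : F, (x : Matrix ((Fin (d - 1) ⊕ Fin (d - 1)) ⊕ Fin 2)
        ((Fin (d - 1) ⊕ Fin (d - 1)) ⊕ Fin 2) F) ≠
        z • (1 : Matrix ((Fin (d - 1) ⊕ Fin (d - 1)) ⊕ Fin 2)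
          ((Fin (d - 1) ⊕ Fin (d - 1)) ⊕ Fin 2) F)) →
      ∃ W : Submodule F ((Fin (d - 1) ⊕ Fin (d - 1)) ⊕ Fin 2 → F),
        IsTy (QfMinus (d - 1) F a b) false m W ∧
        W.map (Matrix.toLin' (x : Matrix ((Fin (d - 1) ⊕ Fin (d - 1)) ⊕ Fin 2)
          ((Fin (d - 1) ⊕ Fin (d - 1)) ⊕ Fin 2) F)) ≤ W) ↔
    ((r = 2 ∧ p = 2 ∧ (Even d ∨ m % 4 = 2)) ∨
     (r = 2 ∧ p ≠ 2 ∧ (Even d ∨ q % 8 ≠ 7 ∨ m % 4 = 2)) ∨
     (r ≠ p ∧ 2 < r ∧ Odd i ∧ ((2 * d) % c = 0 ∨ (c ≤ m ∧ 0 < m % c ∧ m % c ≤ (2 * d) % c))) ∨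
     (r ≠ p ∧ 2 < r ∧ Even i ∧
       (((2 * d) % c = 0 ∧ (Even ((2 * d) / i) ∨ (m % c = 0 ∧ Odd (m / i)))) ∨
        (0 < (2 * d) % c ∧ i ≤ m ∧ ((0 < m % c ∧ m % c < (2 * d) % c) ∨ (m % c = 0 ∧ Odd (m / i)) ∨
                                    (m % c = (2 * d) % c ∧ Even ((2 * d + m - 2 * ((2 * d) % c)) / i))))))) := by
  obtain ⟨hnd, hnh⟩ := Cfsg.Agent.S5973P.std_minus (F := F) (d - 1) a b hab
  have hε : IsHyp (QfMinus (d - 1) F a b) ↔ false = true :=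
    iff_of_false hnh Bool.false_ne_true
  have hι := card_minus d (by omega)
  have hder : (2 : F) = 0 → ¬ Cond22 false false d m →
      ∃ x : GL ((Fin (d - 1) ⊕ Fin (d - 1)) ⊕ Fin 2) F,
      x ∈ Cfsg.Geo.omegaGL ⇑(QfMinus (d - 1) F a b) ∧ x * x = 1 ∧ x ≠ 1 ∧
      ∀ W : Submodule F ((Fin (d - 1) ⊕ Fin (d - 1)) ⊕ Fin 2 → F),
        IsTy (QfMinus (d - 1) F a b) false m W →
        ¬ W.map (Matrix.toLin' (x : Matrix ((Fin (d - 1) ⊕ Fin (d - 1)) ⊕ Fin 2)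
          ((Fin (d - 1) ⊕ Fin (d - 1)) ⊕ Fin 2) F)) ≤ W := by
    intro h2 hcon
    rw [cond22_ff, not_or] at hcon
    obtain ⟨x, hxΩ, hxx, hx1, hW⟩ :=
      Cfsg.Agent.Inv2P.exists_invol2_derangement_minus (F := F) h2 d hd
        (Nat.not_even_iff_odd.mp hcon.1) a b hab
    refine ⟨x, hxΩ, hxx, hx1, fun W hWty hWx => ?_⟩
    have h5 := hW W hWty.2.1 hWx (fun hpl => Bool.false_ne_true (hWty.2.2.mp hpl))
    rw [hWty.1] at h5
    exact hcon.2 h5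
  have hmain := main_even hq (QfMinus (d - 1) F a b) hnd d m hd hι
    (fun h2 => Cfsg.Agent.Helper2.OInv.HOm_minus_all a b h2 hab (aniso_ne_zero h2 a b hab)
      (d - 1))
    false hε false hm hme hmn r hrΩ
    (fun h2 hc x hx hxx => suff2 (QfMinus (d - 1) F a b) hnd d m hd hι false hε false
      (fun _ => rfl) hm hme hmn h2 hc x hx hxx)
    hder i c hi hc (Closed90 i c d m)
    (hS90 i c d m hc hd hm hme hmn) (hN90 i c d m hc hd hm hme hmn)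
    (fun hrp h2r => by
      rcases hr with h | h
      · omega
      · exact absurd hrp h)
  rw [hmain]
  exact rhs90 p q r i c d m (q_odd hq) hme

end mains

end Cfsg.Agent.S5974P.Fin
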