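import Mathlib
import Cfsg.Prelude.Def_CaseTheorems
import Cfsg.Agent.Helper3.SecRank2
import Cfsg.Agent.Helper23.PGroup
import Cfsg.Agent.Helper9.NormalSeries
import Cfsg.Agent.Helper16.PImprim

/-!
# 2-groups of sectional rank two containing a nonabelian subgroup of order 8
-/

set_option autoImplicit false

namespace Cfsg.Agent.Helper16.SecRankTwo

/-- `H` is a nonabelian group of order `8` with centre `{1, z}` (element-level facts) -/
structure NA8 {S : Type*} [Group S] (H : Subgroup S) (z : S) : Prop where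
  card : Nat.card H = 8
  mem : z ∈ H
  ne_one : z ≠ 1
  sq_one : z ^ 2 = 1
  sq : ∀ x ∈ H, x ^ 2 = 1 ∨ x ^ 2 = z
  comm : ∀ x ∈ H, ∀ y ∈ H, x * y * x⁻¹ * y⁻¹ = 1 ∨ x * y * x⁻¹ * y⁻¹ = z
  cen : ∀ y ∈ H, (∀ x ∈ H, x * y = y * x) → y = 1 ∨ y = z
  central : ∀ x ∈ H, x * z = z * x

/-- transfer of the element-level facts along an isomorphism -/
theorem NA8.of_equiv {S : Type*} [Group S] {Γ : Type*} [Group Γ] (H : Subgroup S) (e : H ≃* Γ)
    (ζ : Γ) (hcard : Nat.card Γ = 8) (h1 : ζ ≠ 1) (h2 : ζ ^ 2 = 1)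
    (hsq : ∀ x : Γ, x ^ 2 = 1 ∨ x ^ 2 = ζ)
    (hcomm : ∀ x y : Γ, x * y * x⁻¹ * y⁻¹ = 1 ∨ x * y * x⁻¹ * y⁻¹ = ζ)
    (hcen : ∀ y : Γ, (∀ x : Γ, x * y = y * x) → y = 1 ∨ y = ζ)
    (hcentral : ∀ x : Γ, x * ζ = ζ * x) : NA8 H ((e.symm ζ : H) : S) := by
  have key : ∀ (x : H) (g : Γ), e x = g → ((x : S) = ((e.symm g : H) : S)) := by
    intro x g h
    rw [← h, e.symm_apply_apply]
  refine ⟨by rw [Nat.card_congr e.toEquiv, hcard], (e.symm ζ).2, ?_, ?_, ?_, ?_, ?_, ?_⟩
  · intro h
    apply h1
    have : e.symm ζ = 1 := Subtype.ext h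
    rw [← e.apply_symm_apply ζ, this, map_one]
  · have : (e.symm ζ) ^ 2 = 1 := by rw [← map_pow, h2, map_one]
    exact congrArg Subtype.val this
  · intro x hx
    rcases hsq (e ⟨x, hx⟩) with h | h
    · left
      have : (⟨x, hx⟩ : H) ^ 2 = 1 := by
        apply e.injective
        rw [map_pow, h, map_one]
      exact congrArg Subtype.val this
    · right
      have : (⟨x, hx⟩ : H) ^ 2 = e.symm ζ := by
        apply e.injective
        rw [map_pow, h, e.apply_symm_apply]
      exact congrArg Subtype.val this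
  · intro x hx y hy
    rcases hcomm (e ⟨x, hx⟩) (e ⟨y, hy⟩) with h | h
    · left
      have : (⟨x, hx⟩ : H) * ⟨y, hy⟩ * (⟨x, hx⟩ : H)⁻¹ * (⟨y, hy⟩ : H)⁻¹ = 1 := by
        apply e.injective
        simp only [map_mul, map_inv, map_one]
        exact h
      exact congrArg Subtype.val this
    · right
      have : (⟨x, hx⟩ : H) * ⟨y, hy⟩ * (⟨x, hx⟩ : H)⁻¹ * (⟨y, hy⟩ : H)⁻¹ = e.symm ζ := by
        apply e.injective
        simp only [map_mul, map_inv, e.apply_symm_apply]
        exact h
      exact congrArg Subtype.val this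
  · intro y hy hc
    have hc' : ∀ g : Γ, g * e ⟨y, hy⟩ = e ⟨y, hy⟩ * g := by
      intro g
      have := hc (e.symm g) (e.symm g).2
      have h3 : e.symm g * ⟨y, hy⟩ = ⟨y, hy⟩ * e.symm g := Subtype.ext this
      have h4 := congrArg e h3
      simpa only [map_mul, e.apply_symm_apply] using h4
    rcases hcen _ hc' with h | h
    · left
      have : (⟨y, hy⟩ : H) = 1 := by
        apply e.injective
        rw [h, map_one]
      exact congrArg Subtype.val this
    · right
      have : (⟨y, hy⟩ : H) = e.symm ζ := by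
        apply e.injective
        rw [h, e.apply_symm_apply]
      exact congrArg Subtype.val this
  · intro x hx
    have : (⟨x, hx⟩ : H) * e.symm ζ = e.symm ζ * ⟨x, hx⟩ := by
      apply e.injective
      simp only [map_mul, e.apply_symm_apply]
      exact hcentral _
    exact congrArg Subtype.val this

set_option maxRecDepth 100000 in
theorem NA8.of_dihedral {S : Type*} [Group S] (H : Subgroup S) (e : H ≃* DihedralGroup 4) :
    ∃ z : S, NA8 H z :=
  ⟨_, NA8.of_equiv H e (DihedralGroup.r 2) (by rw [DihedralGroup.nat_card]) (by decide) (by decide)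
    (by decide) (by decide) (by decide) (by decide)⟩

set_option maxRecDepth 100000 in
theorem NA8.of_quaternion {S : Type*} [Group S] (H : Subgroup S) (e : H ≃* QuaternionGroup 2) :
    ∃ z : S, NA8 H z :=
  ⟨_, NA8.of_equiv H e (QuaternionGroup.a 2) (by rw [Nat.card_eq_fintype_card, QuaternionGroup.card]) (by decide)
    (by decide) (by decide) (by decide) (by decide) (by decide)⟩

section Tools

variable {S : Type*} [Group S]

open Subgroup

/-- a group generated by pairwise commuting elements of exponent two has exponent two -/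
theorem sq_eq_one_of_closure_eq_top {Q : Type*} [Group Q] (Y : Set Q) (hY : closure Y = ⊤)
    (hc : ∀ a ∈ Y, ∀ b ∈ Y, a * b = b * a) (hs : ∀ a ∈ Y, a ^ 2 = 1) : ∀ q : Q, q ^ 2 = 1 := by
  have h1 : Y ⊆ centralizer Y := by
    intro a ha
    rw [SetLike.mem_coe, mem_centralizer_iff]
    intro b hb
    exact hc b hb a ha
  have h2 : (⊤ : Subgroup Q) ≤ centralizer Y := by
    rw [← hY]
    exact (closure_le_centralizer_centralizer Y).trans (centralizer_le h1)
  have h3 : Y ⊆ center Q := by
    rw [← centralizer_eq_top_iff_subset]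
    exact top_le_iff.mp h2
  have h4 : ∀ a b : Q, a * b = b * a := by
    have h5 : (⊤ : Subgroup Q) ≤ center Q := by
      rw [← hY, closure_le]
      exact h3
    intro a b
    exact (mem_center_iff.mp (h5 (mem_top b))) a
  intro q
  have hq : q ∈ closure Y := hY ▸ mem_top q
  induction hq using closure_induction with
  | mem x hx => exact hs x hx
  | one => exact one_pow 2
  | mul x y _ _ hx hy => rw [(show Commute x y from h4 x y).mul_pow, hx, hy, one_mul]
  | inv x _ hx => rw [inv_pow, hx, inv_one]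

/-- squares of a subgroup generated by elements which commute and square into a normal subgroup
`N` lie in `N` -/
theorem sq_mem_of_closure (N : Subgroup S) (X : Set S)
    (hnorm : ∀ y ∈ closure X, ∀ n ∈ N, y * n * y⁻¹ ∈ N)
    (hsq : ∀ x ∈ X, x ^ 2 ∈ N)
    (hcomm : ∀ x ∈ X, ∀ y ∈ X, x * y * x⁻¹ * y⁻¹ ∈ N) :
    ∀ x ∈ closure X, x ^ 2 ∈ N := by
  have : (N.subgroupOf (closure X)).Normal := by
    constructor
    intro n hn g
    rw [mem_subgroupOf] at hn ⊢
    exact hnorm g g.2 n hn
  let π : closure X →* (closure X) ⧸ N.subgroupOf (closure X) := QuotientGroup.mk' _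
  let X' : Set (closure X) := ((↑) : closure X → S) ⁻¹' X
  have hX' : closure X' = ⊤ := closure_closure_coe_preimage
  have hgen : closure (π '' X') = ⊤ := by
    rw [← MonoidHom.map_closure, hX', ← MonoidHom.range_eq_map, MonoidHom.range_eq_top]
    exact QuotientGroup.mk'_surjective _
  have hc : ∀ a ∈ π '' X', ∀ b ∈ π '' X', a * b = b * a := by
    rintro _ ⟨x, hx, rfl⟩ _ ⟨y, hy, rfl⟩
    rw [← map_mul, ← map_mul]
    change (QuotientGroup.mk (x * y) : _ ⧸ N.subgroupOf (closure X)) = QuotientGroup.mk (y * x)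
    rw [QuotientGroup.eq, mem_subgroupOf]
    have h1 := hcomm y hy x hx
    have h2 := hnorm ((x : S) * y)⁻¹ (inv_mem (mul_mem x.2 y.2)) _ h1
    have h3 : (((x * y)⁻¹ * (y * x) : closure X) : S) =
        ((x : S) * y)⁻¹ * ((y : S) * x * (y : S)⁻¹ * (x : S)⁻¹) * ((x : S) * y)⁻¹⁻¹ := by
      push_cast
      group
    rw [h3]
    exact h2
  have hs : ∀ a ∈ π '' X', a ^ 2 = 1 := by
    rintro _ ⟨x, hx, rfl⟩
    rw [← map_pow]
    change (QuotientGroup.mk (x ^ 2) : _ ⧸ N.subgroupOf (closure X)) = 1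
    rw [QuotientGroup.eq_one_iff, mem_subgroupOf]
    exact hsq x hx
  have key := sq_eq_one_of_closure_eq_top _ hgen hc hs
  intro x hx
  have h1 := key (π ⟨x, hx⟩)
  rw [← map_pow] at h1
  change (QuotientGroup.mk (⟨x, hx⟩ ^ 2) : _ ⧸ N.subgroupOf (closure X)) = 1 at h1
  rw [QuotientGroup.eq_one_iff, mem_subgroupOf] at h1
  exact h1

/-- the rank bound in the form used below -/
theorem false_of_closure (hr : Cfsg.SectionalPRankLE 2 2 S) (N : Subgroup S) (X : Set S)
    (hNX : N ≤ closure X)
    (hnorm : ∀ y ∈ closure X, ∀ n ∈ N, y * n * y⁻¹ ∈ N)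
    (hsq : ∀ x ∈ X, x ^ 2 ∈ N)
    (hcomm : ∀ x ∈ X, ∀ y ∈ X, x * y * x⁻¹ * y⁻¹ ∈ N)
    (hN : Nat.card N ≤ 2) (hL : 16 ≤ Nat.card (closure X)) : False := by
  have h1 := Cfsg.Agent.Helper3.SecRank.card_le_of_sq hr (closure X) N hNX hnorm
    (sq_mem_of_closure N X hnorm hsq hcomm)
  have h2 : 2 ^ 2 * Nat.card N ≤ 8 := by omega
  omega

theorem mem_zpowers_iff_of_sq {z : S} (hz : z ^ 2 = 1) {x : S} :
    x ∈ zpowers z ↔ x = 1 ∨ x = z := by
  constructor
  · rintro ⟨k, rfl⟩
    change z ^ k = 1 ∨ z ^ k = z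
    rcases Int.emod_two_eq_zero_or_one k with h | h
    · left
      have hk : k = 2 * (k / 2) := by omega
      rw [hk, zpow_mul, zpow_ofNat, hz, one_zpow]
    · right
      have hk : k = 2 * (k / 2) + 1 := by omega
      rw [hk, zpow_add, zpow_mul, zpow_ofNat, hz, one_zpow, one_mul, zpow_one]
  · rintro (rfl | rfl)
    · exact one_mem _
    · exact mem_zpowers _

theorem card_zpowers_of_sq {z : S} (hz : z ^ 2 = 1) (hz1 : z ≠ 1) : Nat.card (zpowers z) = 2 := by
  have : Fact (Nat.Prime 2) := ⟨Nat.prime_two⟩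
  rw [Nat.card_zpowers, orderOf_eq_prime hz hz1]

theorem two_mul_card_le [Finite S] {H L : Subgroup S} (hle : H ≤ L) {c : S} (hcL : c ∈ L)
    (hcH : c ∉ H) : 2 * Nat.card H ≤ Nat.card L := by
  obtain ⟨k, hk⟩ := card_dvd_of_le hle
  have hpos : 0 < Nat.card L := Nat.card_pos
  rcases k with _ | _ | k
  · rw [hk, mul_zero] at hpos
    exact absurd hpos (lt_irrefl 0)
  · exfalso
    apply hcH
    have : H = L := eq_of_le_of_card_ge hle (by rw [hk]; simp)
    rw [this]
    exact hcL
  · rw [hk]
    nlinarith [Nat.card_pos (α := H)]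

end Tools

section Main

variable {S : Type*} [Group S] [Finite S]

open Subgroup

/-- `H` is self-centralizing up to its centre -/
theorem NA8.centralizer_le (h2 : IsPGroup 2 S) (hr : Cfsg.SectionalPRankLE 2 2 S) {H : Subgroup S}
    {z : S} (hH : NA8 H z) (c : S) (hc : ∀ h ∈ H, c * h = h * c) : c = 1 ∨ c = z := by
  rw [← mem_zpowers_iff_of_sq hH.sq_one]
  by_contra hcM
  have hnle : ¬ centralizer (H : Set S) ≤ zpowers z := by
    intro hle
    apply hcM
    apply hle
    rw [mem_centralizer_iff]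
    intro h hh
    exact (hc h hh).symm
  obtain ⟨d, hdC, hdM, hd2⟩ := Cfsg.Agent.Helper3.SecRank.exists_sq_mem h2 _ _ hnle
  rw [mem_centralizer_iff] at hdC
  have hdH : d ∉ H := by
    intro hd
    apply hdM
    rw [mem_zpowers_iff_of_sq hH.sq_one]
    exact hH.cen d hd (fun x hx => hdC x hx)
  have hzX : ∀ x ∈ (H : Set S) ∪ {d}, x * z = z * x := by
    rintro x (hx | hx)
    · exact hH.central x hx
    · rw [Set.mem_singleton_iff] at hx
      rw [hx]
      exact (hdC z hH.mem).symm
  have hzL : ∀ y ∈ closure ((H : Set S) ∪ {d}), y * z = z * y := by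
    have : closure ((H : Set S) ∪ {d}) ≤ centralizer {z} := by
      rw [closure_le]
      intro x hx
      rw [SetLike.mem_coe, mem_centralizer_iff]
      intro w hw
      rw [Set.mem_singleton_iff] at hw
      rw [hw]
      exact (hzX x hx).symm
    intro y hy
    have := this hy
    rw [mem_centralizer_iff] at this
    exact (this z rfl).symm
  have hHle : H ≤ closure ((H : Set S) ∪ {d}) := by
    intro x hx
    exact subset_closure (Or.inl hx)
  apply false_of_closure hr (zpowers z) ((H : Set S) ∪ {d})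
  · rw [zpowers_le]
    exact hHle hH.mem
  · intro y hy n hn
    rw [mem_zpowers_iff_of_sq hH.sq_one] at hn ⊢
    rcases hn with rfl | rfl
    · left; group
    · right
      rw [hzL y hy, mul_inv_cancel_right]
  · rintro x (hx | hx)
    · rw [mem_zpowers_iff_of_sq hH.sq_one]
      exact hH.sq x hx
    · rw [Set.mem_singleton_iff] at hx
      rw [hx]
      exact hd2
  · rintro x (hx | hx) y (hy | hy)
    · rw [mem_zpowers_iff_of_sq hH.sq_one]
      exact hH.comm x hx y hy
    · rw [Set.mem_singleton_iff] at hy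
      rw [hy, hdC x hx, mul_inv_cancel_right, mul_inv_cancel]
      exact one_mem _
    · rw [Set.mem_singleton_iff] at hx
      rw [hx, ← hdC y hy, mul_inv_cancel_right, mul_inv_cancel]
      exact one_mem _
    · rw [Set.mem_singleton_iff] at hx hy
      rw [hx, hy, mul_inv_cancel_right, mul_inv_cancel]
      exact one_mem _
  · rw [card_zpowers_of_sq hH.sq_one hH.ne_one]
  · have := two_mul_card_le hHle (subset_closure (Or.inr rfl) : d ∈ closure ((H : Set S) ∪ {d})) hdH
    rw [hH.card] at this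
    exact this

/-- if `S` has a normal four-group then `S = H` -/
theorem NA8.eq_top_of_normal_four (h2 : IsPGroup 2 S) (hr : Cfsg.SectionalPRankLE 2 2 S)
    {H : Subgroup S} {z : S} (hH : NA8 H z) (W : Subgroup S) [hWn : W.Normal]
    (hWc : ∀ a ∈ W, ∀ b ∈ W, a * b = b * a) (hWe : ∀ a ∈ W, a ^ 2 = 1)
    (hW4 : Nat.card W = 4) : H = ⊤ := by
  have hp2 : Fact (Nat.Prime 2) := ⟨Nat.prime_two⟩
  have hmemM : ∀ x, x ∈ zpowers z ↔ x = 1 ∨ x = z := fun x => mem_zpowers_iff_of_sq hH.sq_one
  have hMcard : Nat.card (zpowers z) = 2 := card_zpowers_of_sq hH.sq_one hH.ne_one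
  -- `z` is central and lies in `W`
  have hWbot : W ≠ ⊥ := by
    intro h
    rw [h, card_bot] at hW4
    omega
  obtain ⟨b, hbW, hbZ, hb1⟩ := Cfsg.Agent.Helper23.exists_mem_inf_center_ne_one h2 W hWbot
  have hbz : b = z := by
    rcases hH.centralizer_le h2 hr b (fun h _ => (mem_center_iff.mp hbZ h).symm) with h | h
    · exact absurd h hb1
    · exact h
  rw [hbz] at hbW hbZ
  have hzc : ∀ g : S, g * z = z * g := fun g => mem_center_iff.mp hbZ g
  have hMW : zpowers z ≤ W := by
    rw [zpowers_le]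
    exact hbW
  have hidx : ((zpowers z).subgroupOf W).index = 2 := by
    have h1 := ((zpowers z).subgroupOf W).card_mul_index
    rw [Cfsg.Agent.Helper17.card_subgroupOf_of_le hMW, hMcard, hW4] at h1
    omega
  have hprod : ∀ x ∈ W, ∀ y ∈ W, x ∉ zpowers z → y ∉ zpowers z → x * y ∈ zpowers z := by
    intro x hx y hy hxM hyM
    have := (mul_mem_iff_of_index_two hidx (a := ⟨x, hx⟩) (b := ⟨y, hy⟩))
    rw [mem_subgroupOf, mem_subgroupOf, mem_subgroupOf] at this
    exact this.mpr ⟨fun h => absurd h hxM, fun h => absurd h hyM⟩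
  have hconjM : ∀ g : S, ∀ w ∈ W, g * w * g⁻¹ * w⁻¹ ∈ zpowers z := by
    intro g w hw
    by_cases hwM : w ∈ zpowers z
    · have hwc : g * w = w * g := by
        rcases (hmemM w).mp hwM with rfl | rfl
        · simp
        · exact hzc g
      rw [hwc, mul_inv_cancel_right, mul_inv_cancel]
      exact one_mem _
    · have h1 : g * w * g⁻¹ ∈ W := hWn.conj_mem w hw g
      have h2' : g * w * g⁻¹ ∉ zpowers z := by
        intro h
        apply hwM
        have h3 : w = g⁻¹ * (g * w * g⁻¹) * g := by group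
        rcases (hmemM _).mp h with h | h
        · rw [h3, h]
          simp [one_mem]
        · rw [h3, h, mul_assoc, ← hzc g, inv_mul_cancel_left]
          exact mem_zpowers z
      have h3 : w⁻¹ ∉ zpowers z := fun h => hwM (by simpa using (zpowers z).inv_mem h)
      exact hprod _ h1 _ (W.inv_mem hw) h2' h3
  -- `W ≤ H`
  have hWH : W ≤ H := by
    by_contra hnle
    obtain ⟨w₀, hw₀W, hw₀H⟩ := SetLike.not_le_iff_exists.mp hnle
    have hHle : H ≤ closure ((H : Set S) ∪ W) := fun x hx => subset_closure (Or.inl hx)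
    apply false_of_closure hr (zpowers z) ((H : Set S) ∪ W)
    · rw [zpowers_le]
      exact hHle hH.mem
    · intro y _ n hn
      rcases (hmemM n).mp hn with rfl | rfl
      · simp [one_mem]
      · rw [hzc y, mul_inv_cancel_right]
        exact hn
    · rintro x (hx | hx)
      · rw [hmemM]
        exact hH.sq x hx
      · rw [hWe x hx]
        exact one_mem _
    · rintro x (hx | hx) y (hy | hy)
      · rw [hmemM]
        exact hH.comm x hx y hy
      · exact hconjM x y hy
      · have := (zpowers z).inv_mem (hconjM y x hx)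
        have e : (y * x * y⁻¹ * x⁻¹)⁻¹ = x * y * x⁻¹ * y⁻¹ := by group
        rwa [e] at this
      · rw [hWc x hx y hy, mul_inv_cancel_right, mul_inv_cancel]
        exact one_mem _
    · rw [hMcard]
    · have := two_mul_card_le hHle
        (subset_closure (Or.inr hw₀W) : w₀ ∈ closure ((H : Set S) ∪ W)) hw₀H
      rw [hH.card] at this
      exact this
  -- some element of `H` does not centralize `W`
  have hex : ∃ h₀ ∈ H, h₀ ∉ centralizer (W : Set S) := by
    by_contra hcon
    push Not at hcon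
    have hWM : W ≤ zpowers z := by
      intro w hw
      rw [hmemM]
      apply hH.centralizer_le h2 hr w
      intro h hh
      have := hcon h hh
      rw [mem_centralizer_iff] at this
      exact this w hw
    have := card_le_of_le hWM
    omega
  -- centralizing one element of `W` outside `⟨z⟩` means centralizing `W`
  have hcent : ∀ g w₁ : S, w₁ ∈ W → w₁ ∉ zpowers z → g * w₁ = w₁ * g →
      g ∈ centralizer (W : Set S) := by
    intro g w₁ hw₁ hw₁M hg
    rw [mem_centralizer_iff]
    intro w hw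
    by_cases hwM : w ∈ zpowers z
    · rcases (hmemM w).mp hwM with rfl | rfl
      · simp
      · exact (hzc g).symm
    · have hm := hprod w hw w₁ hw₁ hwM hw₁M
      have hmc : g * (w * w₁) = (w * w₁) * g := by
        rcases (hmemM _).mp hm with h | h
        · rw [h]
          simp
        · rw [h]
          exact hzc g
      have : g * w * w₁ = w * g * w₁ := by
        rw [mul_assoc, hmc, mul_assoc, ← hg, ← mul_assoc]
      exact (mul_right_cancel this).symm
  -- `C_H(W) = W`
  have hCH : ∀ h ∈ H, h ∈ centralizer (W : Set S) → h ∈ W := by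
    have hWK : W ≤ centralizer (W : Set S) ⊓ H := by
      refine le_inf ?_ hWH
      intro w hw
      rw [mem_centralizer_iff]
      intro v hv
      exact hWc v hv w hw
    have hKH : centralizer (W : Set S) ⊓ H ≤ H := inf_le_right
    have h1 := card_dvd_of_le hWK
    have h2' := card_dvd_of_le hKH
    rw [hW4] at h1
    rw [hH.card] at h2'
    have h3 : Nat.card ↥(centralizer (W : Set S) ⊓ H) ≠ 8 := by
      intro h8
      obtain ⟨h₀, hh₀, hh₀C⟩ := hex
      have : centralizer (W : Set S) ⊓ H = H := eq_of_le_of_card_ge hKH (by rw [h8, hH.card])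
      apply hh₀C
      have h4 : h₀ ∈ centralizer (W : Set S) ⊓ H := by
        rw [this]
        exact hh₀
      exact h4.1
    have h4 : Nat.card ↥(centralizer (W : Set S) ⊓ H) = 4 := by
      have hm : Nat.card ↥(centralizer (W : Set S) ⊓ H) ∈ Nat.divisors 8 := by
        rw [Nat.mem_divisors]
        exact ⟨h2', by norm_num⟩
      have hd : Nat.divisors 8 = {1, 2, 4, 8} := by decide
      rw [hd] at hm
      simp only [Finset.mem_insert, Finset.mem_singleton] at hm
      omega
    have h5 : W = centralizer (W : Set S) ⊓ H := eq_of_le_of_card_ge hWK (by rw [h4, hW4])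
    intro h hh hhC
    rw [h5]
    exact ⟨hhC, hh⟩
  -- `C_S(W) = W`
  have hCW : centralizer (W : Set S) ≤ W := by
    by_contra hnle
    have hCn : (centralizer (W : Set S)).Normal := inferInstance
    have hC'n : ((centralizer (W : Set S)).map (QuotientGroup.mk' W)).Normal :=
      hCn.map (QuotientGroup.mk' W) (QuotientGroup.mk'_surjective W)
    have hC'ne : (centralizer (W : Set S)).map (QuotientGroup.mk' W) ≠ ⊥ := by
      intro h
      rw [Subgroup.map_eq_bot_iff, QuotientGroup.ker_mk'] at h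
      exact hnle h
    have hqp : IsPGroup 2 (S ⧸ W) := h2.to_quotient W
    have hcard2 : 2 ^ 1 ≤ Nat.card ((centralizer (W : Set S)).map (QuotientGroup.mk' W)) := by
      rw [pow_one]
      by_contra hlt
      push Not at hlt
      apply hC'ne
      rw [← card_eq_one]
      have : 0 < Nat.card ((centralizer (W : Set S)).map (QuotientGroup.mk' W)) := Nat.card_pos
      omega
    obtain ⟨B', hB'n, hB'C, hB'card⟩ := Cfsg.Agent.Helper9.exists_normal_le_card_eq hqp
      ((centralizer (W : Set S)).map (QuotientGroup.mk' W)) 1 hcard2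
    have hBn : (B'.comap (QuotientGroup.mk' W)).Normal := hB'n.comap _
    have hBcard : Nat.card (B'.comap (QuotientGroup.mk' W)) = 8 := by
      rw [Cfsg.Agent.Helper9.card_comap_mk', hB'card, hW4]
      norm_num
    have hWB : W ≤ B'.comap (QuotientGroup.mk' W) := by
      intro w hw
      rw [mem_comap]
      have : QuotientGroup.mk' W w = 1 := (QuotientGroup.eq_one_iff w).mpr hw
      rw [this]
      exact one_mem _
    have hWC : W ≤ centralizer (W : Set S) := by
      intro w hw
      rw [mem_centralizer_iff]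
      intro v hv
      exact hWc v hv w hw
    have hBC : B'.comap (QuotientGroup.mk' W) ≤ centralizer (W : Set S) := by
      intro b hb
      rw [mem_comap] at hb
      obtain ⟨c, hc, hcb⟩ := hB'C hb
      have h1 : c⁻¹ * b ∈ W := QuotientGroup.eq.mp hcb
      have := mul_mem hc (hWC h1)
      rwa [mul_inv_cancel_left] at this
    generalize B'.comap (QuotientGroup.mk' W) = B at hBn hBcard hWB hBC
    have hidxB : (W.subgroupOf B).index = 2 := by
      have h1 := (W.subgroupOf B).card_mul_index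
      rw [Cfsg.Agent.Helper17.card_subgroupOf_of_le hWB, hW4, hBcard] at h1
      omega
    have hprodB : ∀ x ∈ B, ∀ y ∈ B, x ∉ W → y ∉ W → x * y ∈ W := by
      intro x hx y hy hxM hyM
      have := (mul_mem_iff_of_index_two hidxB (a := ⟨x, hx⟩) (b := ⟨y, hy⟩))
      rw [mem_subgroupOf, mem_subgroupOf, mem_subgroupOf] at this
      exact this.mpr ⟨fun h => absurd h hxM, fun h => absurd h hyM⟩
    have hexc : ∃ c ∈ B, c ^ 2 ≠ 1 := by
      by_contra hcon
      push Not at hcon
      have := Cfsg.Agent.Helper3.SecRank.card_le_of_sq hr B ⊥ bot_le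
        (fun h _ n hn => by
          rw [mem_bot] at hn ⊢
          rw [hn]
          group)
        (fun x hx => by
          rw [mem_bot]
          exact hcon x hx)
      rw [card_bot, hBcard] at this
      omega
    obtain ⟨c, hcB, hc2⟩ := hexc
    have hcW : c ∉ W := fun h => hc2 (hWe c h)
    have hcinv : c⁻¹ ∉ W := fun h => hcW (by simpa using W.inv_mem h)
    have hcC : c ∈ centralizer (W : Set S) := hBC hcB
    have hcw : ∀ w ∈ W, w * c = c * w := mem_centralizer_iff.mp hcC
    have hsqB : ∀ x ∈ B, x ∉ W → x ^ 2 = c ^ 2 := by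
      intro x hx hxW
      have hw := hprodB x hx c⁻¹ (B.inv_mem hcB) hxW hcinv
      have hwc := hcw _ hw
      have hw2 : (x * c⁻¹) * (x * c⁻¹) = 1 := by
        have := hWe _ hw
        rwa [pow_two] at this
      calc x ^ 2 = (x * c⁻¹) * (c * (x * c⁻¹)) * c := by
            rw [pow_two]
            group
        _ = (x * c⁻¹) * ((x * c⁻¹) * c) * c := by rw [← hwc]
        _ = ((x * c⁻¹) * (x * c⁻¹)) * (c * c) := by simp only [mul_assoc]
        _ = c ^ 2 := by rw [hw2, one_mul, pow_two]
    have hconjB : ∀ g : S, g * c * g⁻¹ ∈ B ∧ g * c * g⁻¹ ∉ W := by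
      intro g
      refine ⟨hBn.conj_mem c hcB g, fun h => hcW ?_⟩
      have := hWn.conj_mem _ h g⁻¹
      have e : g⁻¹ * (g * c * g⁻¹) * g⁻¹⁻¹ = c := by group
      rwa [e] at this
    have hc2Z : ∀ g : S, g * c ^ 2 = c ^ 2 * g := by
      intro g
      have h3 := hsqB _ (hconjB g).1 (hconjB g).2
      rw [conj_pow] at h3
      have := congrArg (· * g) h3
      simpa using this
    have hc2z : c ^ 2 = z := by
      rcases hH.centralizer_le h2 hr (c ^ 2) (fun h _ => (hc2Z h).symm) with h | h
      · exact absurd h hc2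
      · exact h
    have hcH : c ∉ H := fun h => hcW (hCH c h hcC)
    have hcomm_hc : ∀ h ∈ H, h * c * h⁻¹ * c⁻¹ ∈ zpowers z := by
      intro h hh
      have hw' : h * c * h⁻¹ * c⁻¹ ∈ W :=
        hprodB _ (hconjB h).1 _ (B.inv_mem hcB) (hconjB h).2 hcinv
      by_contra hw'M
      by_cases hhC : h ∈ centralizer (W : Set S)
      · have hhW := hCH h hh hhC
        apply hw'M
        rw [hcw h hhW, mul_inv_cancel_right, mul_inv_cancel]
        exact one_mem _
      · apply hhC
        apply hcent h _ hw' hw'M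
        have hh2 : h ^ 2 * c = c * h ^ 2 := by
          have : h ^ 2 ∈ W := hMW ((hmemM _).mpr (hH.sq h hh))
          exact hcw _ this
        have e2 : h ^ 2 * c * (h ^ 2)⁻¹ =
            (h * (h * c * h⁻¹ * c⁻¹) * h⁻¹) * ((h * c * h⁻¹ * c⁻¹) * c) := by
          rw [pow_two]
          group
        have e3 : h ^ 2 * c * (h ^ 2)⁻¹ = c := by rw [hh2, mul_inv_cancel_right]
        rw [e3] at e2
        have e4 : h * (h * c * h⁻¹ * c⁻¹) * h⁻¹ * (h * c * h⁻¹ * c⁻¹) = 1 := by
          have : (h * (h * c * h⁻¹ * c⁻¹) * h⁻¹ * (h * c * h⁻¹ * c⁻¹)) * c = 1 * c := by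
            rw [one_mul, mul_assoc]
            exact e2.symm
          exact mul_right_cancel this
        have e5 : (h * c * h⁻¹ * c⁻¹) * (h * c * h⁻¹ * c⁻¹) = 1 := by
          have := hWe _ hw'
          rwa [pow_two] at this
        have e6 : h * (h * c * h⁻¹ * c⁻¹) * h⁻¹ = h * c * h⁻¹ * c⁻¹ := by
          have : h * (h * c * h⁻¹ * c⁻¹) * h⁻¹ * (h * c * h⁻¹ * c⁻¹) =
              (h * c * h⁻¹ * c⁻¹) * (h * c * h⁻¹ * c⁻¹) := by rw [e4, e5]
          exact mul_right_cancel this
        calc h * (h * c * h⁻¹ * c⁻¹) = h * (h * c * h⁻¹ * c⁻¹) * h⁻¹ * h := by group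
          _ = (h * c * h⁻¹ * c⁻¹) * h := by rw [e6]
    have hHle : H ≤ closure ((H : Set S) ∪ {c}) := fun x hx => subset_closure (Or.inl hx)
    apply false_of_closure hr (zpowers z) ((H : Set S) ∪ {c})
    · rw [zpowers_le]
      exact hHle hH.mem
    · intro y _ n hn
      rcases (hmemM n).mp hn with rfl | rfl
      · simp [one_mem]
      · rw [hzc y, mul_inv_cancel_right]
        exact hn
    · rintro x (hx | hx)
      · rw [hmemM]
        exact hH.sq x hx
      · rw [Set.mem_singleton_iff] at hx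
        rw [hx, hc2z]
        exact mem_zpowers z
    · rintro x (hx | hx) y (hy | hy)
      · rw [hmemM]
        exact hH.comm x hx y hy
      · rw [Set.mem_singleton_iff] at hy
        rw [hy]
        exact hcomm_hc x hx
      · rw [Set.mem_singleton_iff] at hx
        rw [hx]
        have := (zpowers z).inv_mem (hcomm_hc y hy)
        have e : (y * c * y⁻¹ * c⁻¹)⁻¹ = c * y * c⁻¹ * y⁻¹ := by group
        rwa [e] at this
      · rw [Set.mem_singleton_iff] at hx hy
        rw [hx, hy, mul_inv_cancel_right, mul_inv_cancel]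
        exact one_mem _
    · rw [hMcard]
    · have := two_mul_card_le hHle
        (subset_closure (Or.inr rfl) : c ∈ closure ((H : Set S) ∪ {c})) hcH
      rw [hH.card] at this
      exact this
  -- conclusion
  rw [eq_top_iff]
  intro g _
  obtain ⟨h₀, hh₀, hh₀C⟩ := hex
  by_cases hgC : g ∈ centralizer (W : Set S)
  · exact hWH (hCW hgC)
  · obtain ⟨w₁, hw₁W, hw₁M⟩ : ∃ w₁ ∈ W, w₁ ∉ zpowers z := by
      by_contra hcon
      push Not at hcon
      have := card_le_of_le (show W ≤ zpowers z from hcon)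
      omega
    have hconj : ∀ g : S, g ∉ centralizer (W : Set S) → g * w₁ * g⁻¹ = z * w₁ := by
      intro g hg
      have h1 := hconjM g w₁ hw₁W
      rcases (hmemM _).mp h1 with h | h
      · exfalso
        apply hg
        apply hcent g w₁ hw₁W hw₁M
        have : g * w₁ * g⁻¹ * w₁⁻¹ * (w₁ * g) = 1 * (w₁ * g) := by rw [h]
        rw [one_mul] at this
        rw [← this]
        group
      · have : g * w₁ * g⁻¹ = (g * w₁ * g⁻¹ * w₁⁻¹) * w₁ := by group
        rw [this, h]
    have h1 := hconj g hgC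
    have h2' := hconj h₀ hh₀C
    have hzz : z * z = 1 := by
      have := hH.sq_one
      rwa [pow_two] at this
    have h3 : h₀⁻¹ * g ∈ centralizer (W : Set S) := by
      apply hcent _ w₁ hw₁W hw₁M
      have e1 : h₀⁻¹ * (z * w₁) * h₀ = w₁ := by
        rw [← h2']
        group
      have e2 : h₀⁻¹ * g * w₁ * (h₀⁻¹ * g)⁻¹ = w₁ := by
        calc h₀⁻¹ * g * w₁ * (h₀⁻¹ * g)⁻¹ = h₀⁻¹ * (g * w₁ * g⁻¹) * h₀ := by group
          _ = h₀⁻¹ * (z * w₁) * h₀ := by rw [h1]
          _ = w₁ := e1
      calc h₀⁻¹ * g * w₁ = h₀⁻¹ * g * w₁ * (h₀⁻¹ * g)⁻¹ * (h₀⁻¹ * g) := by group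
        _ = w₁ * (h₀⁻¹ * g) := by rw [e2]
    have h4 := hWH (hCW h3)
    have := H.mul_mem hh₀ h4
    rwa [mul_inv_cancel_left] at this

theorem NA8.not_comm {H : Subgroup S} {z : S} (hH : NA8 H z) : ¬ ∀ x y : S, x * y = y * x := by
  intro hc
  have hle : H ≤ zpowers z := by
    intro y hy
    rw [mem_zpowers_iff_of_sq hH.sq_one]
    exact hH.cen y hy (fun x _ => hc x y)
  have := card_le_of_le hle
  rw [hH.card, card_zpowers_of_sq hH.sq_one hH.ne_one] at this
  omega

/-- S4398: a 2-group of sectional rank at most two containing `D₈` or `Q₈` is dihedral,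
semidihedral or generalized quaternion -/
theorem main (h2 : IsPGroup 2 S) (hr : Cfsg.SectionalPRankLE 2 2 S)
    (hsub : ∃ H : Subgroup S, Nonempty (↥H ≃* DihedralGroup 4) ∨
      Nonempty (↥H ≃* QuaternionGroup 2)) :
    ((∃ k : ℕ, Nonempty (S ≃* DihedralGroup (2 ^ (k + 2)))) ∨
      (∃ k : ℕ, Nat.card S = 2 ^ (k + 4) ∧ ∃ a b : S, orderOf a = 2 ^ (k + 3) ∧ orderOf b = 2 ∧
        b * a * b⁻¹ = a ^ (2 ^ (k + 2) - 1)) ∨
      (∃ k : ℕ, Nonempty (S ≃* QuaternionGroup (2 ^ (k + 1))))) := by
  have hp2 : Fact (Nat.Prime 2) := ⟨Nat.prime_two⟩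
  obtain ⟨H, hH⟩ := hsub
  obtain ⟨z, hz⟩ : ∃ z, NA8 H z := by
    rcases hH with ⟨⟨e⟩⟩ | ⟨⟨e⟩⟩
    · exact NA8.of_dihedral H e
    · exact NA8.of_quaternion H e
  have h8 : 8 ≤ Nat.card S := by
    have := Nat.le_of_dvd Nat.card_pos (card_subgroup_dvd_card H)
    rwa [hz.card] at this
  obtain ⟨m, hm⟩ := IsPGroup.iff_card.mp h2
  by_cases hW : ∃ A : Subgroup S, A.Normal ∧ Cfsg.IsElementaryAbelian 2 A ∧ Nat.card A = 2 ^ 2
  · obtain ⟨W, hWn, hWe, hW4⟩ := hW
    have hcomm : ∀ a ∈ W, ∀ b ∈ W, a * b = b * a := by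
      intro a ha b hb
      have := hWe.1.is_comm.comm (⟨a, ha⟩ : W) ⟨b, hb⟩
      exact congrArg Subtype.val this
    have htop := hz.eq_top_of_normal_four h2 hr W hcomm hWe.2 (by rw [hW4]; norm_num)
    have e0 : S ≃* H := (Subgroup.topEquiv.symm).trans (MulEquiv.subgroupCongr htop.symm)
    rcases hH with ⟨⟨e⟩⟩ | ⟨⟨e⟩⟩
    · left
      exact ⟨0, ⟨e0.trans e⟩⟩
    · right; right
      exact ⟨0, ⟨e0.trans e⟩⟩
  · have hnot : ¬ (¬ IsCyclic S ∧ (∀ n : ℕ, ¬ Nonempty (S ≃* QuaternionGroup n)) ∧
        (∀ n : ℕ, ¬ Nonempty (S ≃* DihedralGroup n)) ∧ ¬ Cfsg.IsQuasiDihedral S) := by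
      rintro ⟨h1, h2', h3, h4⟩
      exact hW (Cfsg.Agent.Helper16.PImprim.exists_normal_elemAb_sq' 2 h2 h1 h2' h3 h4)
    by_cases hc : IsCyclic S
    · exfalso
      apply hz.not_comm
      intro x y
      have := IsCyclic.isMulCommutative (α := S)
      exact this.is_comm.comm x y
    by_cases hq : ∃ n : ℕ, Nonempty (S ≃* QuaternionGroup n)
    · obtain ⟨n, ⟨e⟩⟩ := hq
      right; right
      have hn0 : n ≠ 0 := by
        rintro rfl
        have hinf : Infinite (QuaternionGroup 0) := by
          have : Infinite (ZMod (2 * 0)) := (inferInstance : Infinite ℤ)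
          exact Infinite.of_injective (QuaternionGroup.a : ZMod (2 * 0) → QuaternionGroup 0)
            (fun x y h => QuaternionGroup.a.inj h)
        have : Finite (QuaternionGroup 0) := Finite.of_equiv S e.toEquiv
        exact not_finite (QuaternionGroup 0)
      have : NeZero n := ⟨hn0⟩
      have hcard : Nat.card S = 4 * n := by
        rw [Nat.card_congr e.toEquiv, Nat.card_eq_fintype_card, QuaternionGroup.card]
      have hdvd : n ∣ 2 ^ m := by
        rw [← hm, hcard]
        exact Dvd.intro_left 4 rfl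
      obtain ⟨j, -, rfl⟩ := (Nat.dvd_prime_pow Nat.prime_two).mp hdvd
      rcases j with _ | k
      · rw [hcard] at h8
        norm_num at h8
      · exact ⟨k, ⟨e⟩⟩
    by_cases hd : ∃ n : ℕ, Nonempty (S ≃* DihedralGroup n)
    · obtain ⟨n, ⟨e⟩⟩ := hd
      left
      have hcard : Nat.card S = 2 * n := by
        rw [Nat.card_congr e.toEquiv, DihedralGroup.nat_card]
      have hdvd : n ∣ 2 ^ m := by
        rw [← hm, hcard]
        exact Dvd.intro_left 2 rfl
      obtain ⟨j, -, rfl⟩ := (Nat.dvd_prime_pow Nat.prime_two).mp hdvd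
      rcases j with _ | _ | k
      · rw [hcard] at h8
        norm_num at h8
      · rw [hcard] at h8
        norm_num at h8
      · exact ⟨k, ⟨e⟩⟩
    · have hq' : ∀ n : ℕ, ¬ Nonempty (S ≃* QuaternionGroup n) := fun n h => hq ⟨n, h⟩
      have hd' : ∀ n : ℕ, ¬ Nonempty (S ≃* DihedralGroup n) := fun n h => hd ⟨n, h⟩
      have hqd : Cfsg.IsQuasiDihedral S := by
        by_contra h4
        exact hnot ⟨hc, hq', hd', h4⟩
      obtain ⟨n, hn3, hcard, x, y, hx, hy, hxy⟩ := hqd
      obtain ⟨k, rfl⟩ : ∃ k, n = k + 3 := ⟨n - 3, by omega⟩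
      right; left
      refine ⟨k, hcard, x, y, hx, hy, ?_⟩
      have : k + 3 - 1 = k + 2 := by omega
      rw [this] at hxy
      exact hxy

end Main

end Cfsg.Agent.Helper16.SecRankTwo
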