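import Mathlib
import Cfsg.Prelude.Def_Involutions

set_option autoImplicit false

namespace Cfsg.Agent.Helper16

section
variable {G : Type*} [Group G]

theorem odd_card_iff_no_invol (K : Subgroup G) [Finite K] :
    Odd (Nat.card K) ↔ ∀ t ∈ K, orderOf t ≠ 2 := by
  have : Fact (Nat.Prime 2) := ⟨Nat.prime_two⟩
  constructor
  · intro hodd t ht h2
    have h3 : orderOf (⟨t, ht⟩ : K) = 2 := by rw [← h2]; exact Subgroup.orderOf_mk t ht
    have hd : 2 ∣ Nat.card K := h3 ▸ orderOf_dvd_natCard _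
    exact (Nat.not_even_iff_odd.mpr hodd) (even_iff_two_dvd.mpr hd)
  · intro h
    rw [← Nat.not_even_iff_odd]
    intro heven
    obtain ⟨t, ht⟩ := exists_prime_orderOf_dvd_card' 2 (even_iff_two_dvd.mp heven)
    apply h t.1 t.2
    rw [Subgroup.orderOf_coe]; exact ht

theorem mem_map_conj_iff (H : Subgroup G) (g t : G) :
    t ∈ H.map (MulAut.conj g).toMonoidHom ↔ g⁻¹ * t * g ∈ H := by
  constructor
  · rintro ⟨x, hx, rfl⟩
    simpa [mul_assoc] using hx
  · intro h
    exact ⟨g⁻¹ * t * g, h, by simp [mul_assoc]⟩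

/-- the working form of strong embedding -/
theorem stronglyEmbedded_iff [Finite G] (H : Subgroup G) :
    Cfsg.IsStronglyEmbedded H ↔ H ≠ ⊤ ∧ Even (Nat.card H) ∧
      ∀ g : G, g ∉ H → ∀ t ∈ H, orderOf t = 2 → g⁻¹ * t * g ∉ H := by
  unfold Cfsg.IsStronglyEmbedded
  constructor
  · rintro ⟨h1, h2, h3⟩
    refine ⟨h1, h2, ?_⟩
    intro g hg t ht hto hcon
    have := (odd_card_iff_no_invol _).mp (h3 g hg) t ⟨ht, (mem_map_conj_iff H g t).mpr hcon⟩
    exact this hto
  · rintro ⟨h1, h2, h3⟩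
    refine ⟨h1, h2, ?_⟩
    intro g hg
    rw [odd_card_iff_no_invol]
    rintro t ⟨ht, ht'⟩ hto
    exact h3 g hg t ht hto ((mem_map_conj_iff H g t).mp ht')

end

end Cfsg.Agent.Helper16
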