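import Mathlib
import Cfsg.Agent.Helper11.SylowInter
import Cfsg.Agent.Helper16.StronglyEmbedded

set_option autoImplicit false

namespace Cfsg.Agent.Helper16

open Cfsg.Agent.Helper11

section
variable {G : Type*} [Group G] [Finite G]

theorem card_lt_of_lt' {D R : Subgroup G} (h : D < R) : Nat.card D < Nat.card R := by
  have h1 : (D : Set G) ⊂ (R : Set G) := SetLike.coe_ssubset_coe.mpr h
  exact Set.ncard_lt_ncard h1 (Set.toFinite _)

/-- the TI-type lemma behind the normalizer criterion for strong embedding -/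
theorem sylow_ti_of_normalizers (H Q : Subgroup G) (hQ2 : IsPGroup 2 Q)
    (hconj : ∀ R : Subgroup G, R ≤ H → IsPGroup 2 R → ∃ h ∈ H, ∀ r ∈ R, h⁻¹ * r * h ∈ Q)
    (hN : ∀ D : Subgroup G, D ≤ Q → D ≠ ⊥ → Subgroup.normalizer (D : Set G) ≤ H) :
    ∀ g : G, g ∉ H → Q ⊓ Q.map (MulAut.conj g).toMonoidHom = ⊥ := by
  have : Fact (Nat.Prime 2) := ⟨Nat.prime_two⟩
  by_contra hcon
  push Not at hcon
  let Dg : G → Subgroup G := fun g => Q ⊓ Q.map (MulAut.conj g).toMonoidHom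
  let B : Set G := {g | g ∉ H ∧ Dg g ≠ ⊥}
  have hBne : B.Nonempty := by
    obtain ⟨g, hg, hg'⟩ := hcon
    exact ⟨g, hg, hg'⟩
  obtain ⟨g, ⟨hgH, hDne⟩, hmax⟩ :=
    Set.Finite.exists_maximalFor (fun g => Nat.card (Dg g)) B (Set.toFinite B) hBne
  set D := Dg g with hD
  have hDQ : D ≤ Q := inf_le_left
  set Qg := Q.map (MulAut.conj g).toMonoidHom with hQg
  have hDQg : D ≤ Qg := inf_le_right
  have hQg2 : IsPGroup 2 Qg := hQ2.map _
  have hcardQg : Nat.card Qg = Nat.card Q :=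
    Subgroup.card_map_of_injective (MulAut.conj g).injective
  -- Q ≠ Qg
  have hQne : Qg ≠ Q := by
    intro h
    apply hgH
    have hQne' : Q ≠ ⊥ := by
      intro hQ
      apply hDne
      exact eq_bot_iff.mpr (hQ ▸ hDQ)
    apply hN Q le_rfl hQne'
    rw [Subgroup.mem_normalizer_iff]
    intro x
    constructor
    · intro hx
      rw [← h]
      exact ⟨x, hx, rfl⟩
    · intro hx
      rw [← h, hQg, mem_map_conj_iff] at hx
      have e : g⁻¹ * (g * x * g⁻¹) * g = x := by group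
      rwa [e] at hx
  have hDltQg : D < Qg := by
    refine lt_of_le_of_ne hDQg ?_
    intro h
    apply hQne
    -- Qg = D ≤ Q and equal cardinality
    have hle : Qg ≤ Q := h ▸ hDQ
    have : (Qg : Set G) = (Q : Set G) :=
      Set.eq_of_subset_of_ncard_le hle (by
        show Nat.card Q ≤ Nat.card Qg
        rw [hcardQg]) (Set.toFinite _)
    exact SetLike.coe_injective this
  have hgrow := lt_inf_normalizer Qg D hQg2 hDltQg
  set R := Qg ⊓ Subgroup.normalizer (D : Set G) with hR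
  have hRH : R ≤ H := inf_le_right.trans (hN D hDQ hDne)
  have hR2 : IsPGroup 2 R := hQg2.to_le inf_le_left
  obtain ⟨h, hhH, hh⟩ := hconj R hRH hR2
  -- g' = h⁻¹ g
  have hg'H : h⁻¹ * g ∉ H := by
    intro hc
    apply hgH
    have := H.mul_mem hhH hc
    simpa using this
  have hRle : Nat.card R ≤ Nat.card (Dg (h⁻¹ * g)) := by
    apply Nat.card_le_card_of_injective
      (fun r : R => (⟨h⁻¹ * r.1 * h, by
        refine Subgroup.mem_inf.mpr ⟨hh r.1 r.2, ?_⟩
        rw [mem_map_conj_iff]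
        have hr : r.1 ∈ Qg := r.2.1
        rw [hQg, mem_map_conj_iff] at hr
        have e : (h⁻¹ * g)⁻¹ * (h⁻¹ * r.1 * h) * (h⁻¹ * g) = g⁻¹ * r.1 * g := by group
        rw [e]; exact hr⟩ : Dg (h⁻¹ * g)))
    intro a b hab
    have := congrArg Subtype.val hab
    simp only at this
    apply Subtype.ext
    have h2 := congrArg (fun t => h * t * h⁻¹) this
    simpa [mul_assoc] using h2
  have hlt : Nat.card D < Nat.card R := card_lt_of_lt' hgrow
  have hDg'ne : Dg (h⁻¹ * g) ≠ ⊥ := by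
    intro hb
    rw [hb, Subgroup.card_bot] at hRle
    have : 0 < Nat.card D := Nat.card_pos
    omega
  have := hmax (show h⁻¹ * g ∈ B from ⟨hg'H, hDg'ne⟩)
  have h3 : Nat.card D ≤ Nat.card (Dg (h⁻¹ * g)) := hlt.le.trans hRle
  have h4 : Nat.card (Dg (h⁻¹ * g)) ≤ Nat.card D := this h3
  omega

/-- the normalizer criterion for strong embedding, in ambient form -/
theorem no_fusion_of_normalizers (H Q : Subgroup G) (hQ2 : IsPGroup 2 Q)
    (hconj : ∀ R : Subgroup G, R ≤ H → IsPGroup 2 R → ∃ h ∈ H, ∀ r ∈ R, h⁻¹ * r * h ∈ Q)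
    (hN : ∀ D : Subgroup G, D ≤ Q → D ≠ ⊥ → Subgroup.normalizer (D : Set G) ≤ H) :
    ∀ g : G, g ∉ H → ∀ t ∈ H, orderOf t = 2 → g⁻¹ * t * g ∉ H := by
  have : Fact (Nat.Prime 2) := ⟨Nat.prime_two⟩
  intro g hg t ht hto hs
  have hti := sylow_ti_of_normalizers H Q hQ2 hconj hN
  have hz : ∀ w : G, orderOf w = 2 → IsPGroup 2 (Subgroup.zpowers w) := by
    intro w hw
    apply IsPGroup.of_card (n := 1)
    rw [Nat.card_zpowers, hw, pow_one]
  have hso : orderOf (g⁻¹ * t * g) = 2 := by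
    have hs : SemiconjBy g⁻¹ t (g⁻¹ * t * g) := by
      show g⁻¹ * t = g⁻¹ * t * g * g⁻¹
      group
    rw [← hs.orderOf_eq, hto]
  obtain ⟨h₁, hh₁H, hh₁⟩ := hconj (Subgroup.zpowers t) (Subgroup.zpowers_le.mpr ht) (hz t hto)
  obtain ⟨h₂, hh₂H, hh₂⟩ := hconj (Subgroup.zpowers (g⁻¹ * t * g)) (Subgroup.zpowers_le.mpr hs)
    (hz _ hso)
  have hx := hh₁ t (Subgroup.mem_zpowers t)
  have hy := hh₂ _ (Subgroup.mem_zpowers (g⁻¹ * t * g))
  have hg'' : h₁⁻¹ * g * h₂ ∉ H := by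
    intro hc
    apply hg
    have := H.mul_mem (H.mul_mem hh₁H hc) (H.inv_mem hh₂H)
    simpa [mul_assoc] using this
  have hmem : h₁⁻¹ * t * h₁ ∈ Q ⊓ Q.map (MulAut.conj (h₁⁻¹ * g * h₂)).toMonoidHom := by
    refine Subgroup.mem_inf.mpr ⟨hx, ?_⟩
    rw [mem_map_conj_iff]
    have e : (h₁⁻¹ * g * h₂)⁻¹ * (h₁⁻¹ * t * h₁) * (h₁⁻¹ * g * h₂) =
        h₂⁻¹ * (g⁻¹ * t * g) * h₂ := by group
    rw [e]; exact hy
  rw [hti _ hg'', Subgroup.mem_bot] at hmem
  have ht1 : t = 1 := by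
    have := congrArg (fun w => h₁ * w * h₁⁻¹) hmem
    simpa [mul_assoc] using this
  rw [ht1, orderOf_one] at hto
  norm_num at hto

end

end Cfsg.Agent.Helper16
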