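import Mathlib
import Cfsg.Agent.Helper25.FusionChain

/-! A `2`-group `S` in which all involutions are central and all commutators have order at most 2
is normal in every saturated fusion system over it (chain `1 ≤ {x | x² = 1} ≤ S`). -/

set_option autoImplicit false

namespace Cfsg.Agent.Helper16.Suz2N

open Cfsg Cfsg.FusionSystem Cfsg.Agent.Helper25
open scoped commutatorElement

variable {Ω : Type*} [Group Ω] {S : Subgroup Ω}

/-- the subgroup of elements of square one, when these are all central -/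
def sqOne (S : Subgroup Ω) (hinv : ∀ x ∈ S, x * x = 1 → ∀ y ∈ S, x * y = y * x) : Subgroup Ω where
  carrier := {x | x ∈ S ∧ x * x = 1}
  one_mem' := ⟨S.one_mem, by simp⟩
  mul_mem' := by
    rintro a b ⟨ha, ha2⟩ ⟨hb, hb2⟩
    refine ⟨S.mul_mem ha hb, ?_⟩
    have h1 : a * b = b * a := hinv a ha ha2 b hb
    calc a * b * (a * b) = a * (b * a) * b := by group
      _ = a * (a * b) * b := by rw [h1]
      _ = (a * a) * (b * b) := by group
      _ = 1 := by rw [ha2, hb2, one_mul]
  inv_mem' := by
    rintro a ⟨ha, ha2⟩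
    refine ⟨S.inv_mem ha, ?_⟩
    have : a⁻¹ = a := by
      rw [inv_eq_iff_mul_eq_one]; exact ha2
    rw [this]; exact ha2

theorem mem_sqOne {hinv : ∀ x ∈ S, x * x = 1 → ∀ y ∈ S, x * y = y * x} {x : Ω} :
    x ∈ sqOne S hinv ↔ x ∈ S ∧ x * x = 1 := Iff.rfl

/-- The chain criterion applied to `1 ≤ {x | x² = 1} ≤ S`. -/
theorem isNormal_self_of_invol_central [Finite S] (hS : IsPGroup 2 S)
    (F : FusionSystem S) (hF : F.IsSaturated 2)
    (hinv : ∀ x ∈ S, x * x = 1 → ∀ y ∈ S, x * y = y * x)
    (hcm : ∀ x ∈ S, ∀ y ∈ S, ⁅x, y⁆ * ⁅x, y⁆ = 1) : F.IsNormal S := by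
  have : Fact (Nat.Prime 2) := ⟨Nat.prime_two⟩
  set Z := sqOne S hinv with hZ
  have hZS : Z ≤ S := fun x hx => hx.1
  refine isNormal_of_chain 2 hS F hF S
    (fun i => if i = 0 then ⊥ else if i = 1 then Z else S) 2 ?_ ?_ ?_ ?_
  · simp
  · simp
  · intro i hi
    interval_cases i
    · simp
    · simpa using hZS
  · intro i hi
    interval_cases i
    · simp only [zero_add, one_ne_zero, if_false, if_true]
      refine ⟨⟨hZS, ?_⟩, ?_⟩
      · intro R hR φ hφ x
        have hx : (x : Ω) ∈ Z := hR x.2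
        refine ⟨(F.le_of_mem hφ).2 x, ?_⟩
        rw [← map_mul]
        have : x * x = 1 := Subtype.ext hx.2
        rw [this, map_one]
      · rw [Subgroup.commutator_le]
        intro g hg z hz
        rw [Subgroup.mem_bot, commutatorElement_eq_one_iff_mul_comm]
        exact (hinv z hz.1 hz.2 g hg).symm
    · simp only [Nat.reduceAdd, OfNat.ofNat_ne_zero, OfNat.ofNat_ne_one, if_false]
      refine ⟨⟨le_rfl, ?_⟩, ?_⟩
      · intro R hR φ hφ x
        exact (F.le_of_mem hφ).2 x
      · rw [Subgroup.commutator_le]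
        intro g hg h hh
        simp only [one_ne_zero, if_false, if_true]
        exact ⟨Subgroup.commutator_mem_commutator hg hh |> fun _ =>
          S.mul_mem (S.mul_mem (S.mul_mem hg hh) (S.inv_mem hg)) (S.inv_mem hh), hcm g hg h hh⟩

end Cfsg.Agent.Helper16.Suz2N
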