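import Mathlib
import Cfsg.Agent.Lead.TraceId

/-! S3797 piece FAITH, generic part: an elementary abelian `r`-group (`r` odd) acting on an
elementary abelian 2-group `U` with kernel of index at least `r ^ k` forces `4 ^ k ≤ |U|`. -/

set_option autoImplicit false
set_option linter.style.haveILetI false

namespace Cfsg.Agent.Helper16.ThF

open Cfsg.Agent.Lead

universe u v

section generic

variable {A : Type u} {U : Type v} [CommGroup A] [CommGroup U] [MulDistribMulAction A U]

variable (A U) in
/-- kernel of the action of `A` on `U`. -/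
def actKer : Subgroup A where
  carrier := {a | ∀ u : U, a • u = u}
  one_mem' := fun u => one_smul A u
  mul_mem' := fun {a b} ha hb u => by rw [mul_smul, hb u, ha u]
  inv_mem' := fun {a} ha u => by rw [inv_smul_eq_iff, ha u]

theorem mem_actKer {a : A} : a ∈ actKer A U ↔ ∀ u : U, a • u = u := Iff.rfl

/-- restriction of the action to an invariant subgroup -/
@[reducible] def invAct (W : Subgroup U) (hW : ∀ (a : A) (u : U), u ∈ W → a • u ∈ W) :
    MulDistribMulAction A W where
  smul a u := ⟨a • u.1, hW a u.1 u.2⟩
  one_smul u := Subtype.ext (one_smul A u.1)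
  mul_smul a b u := Subtype.ext (mul_smul a b u.1)
  smul_mul a u v := Subtype.ext (smul_mul' a u.1 v.1)
  smul_one a := Subtype.ext (smul_one a)

/-- the trace map as a hom -/
def trcHom (r : ℕ) (g : A) : U →* U where
  toFun u := trc r g u
  map_one' := by simp [trc]
  map_mul' x y := by simp [trc, smul_mul', Finset.prod_mul_distrib]

theorem trcHom_apply (r : ℕ) (g : A) (u : U) : trcHom r g u = trc r g u := rfl

theorem smul_trc_comm (r : ℕ) (g a : A) (u : U) : a • trc r g u = trc r g (a • u) := by
  unfold trc
  rw [Finset.smul_prod']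
  refine Finset.prod_congr rfl fun i _ => ?_
  rw [← mul_smul, ← mul_smul, mul_comm]

theorem trc_of_fixed (r : ℕ) (g : A) (w : U) (hw : g • w = w) : trc r g w = w ^ r := by
  unfold trc
  have : ∀ i : ℕ, g ^ i • w = w := by
    intro i
    induction i with
    | zero => simp
    | succ i ih => rw [pow_succ, mul_smul, hw, ih]
  simp [this]

theorem pow_odd_of_sq {w : U} (hw : w ^ 2 = 1) {r : ℕ} (hr : Odd r) : w ^ r = w := by
  obtain ⟨m, rfl⟩ := hr
  rw [pow_succ, pow_mul, hw, one_pow, one_mul]

end generic

theorem four_le_card {A : Type u} {U : Type v} [CommGroup A] [CommGroup U] [Finite U]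
    [MulDistribMulAction A U] (hU2 : ∀ u : U, u ^ 2 = 1) (y : A) (hy : y ∉ actKer A U) :
    4 ≤ Nat.card U := by
  classical
  rw [mem_actKer] at hy
  push Not at hy
  obtain ⟨u, hu⟩ := hy
  have hu1 : u ≠ 1 := by rintro rfl; exact hu (smul_one y)
  have hyu1 : y • u ≠ 1 := by
    intro h
    apply hu1
    have : y • u = y • (1 : U) := by rw [h, smul_one]
    exact smul_left_cancel y this
  have hinv : u⁻¹ = u := by
    rw [inv_eq_iff_mul_eq_one, ← pow_two]; exact hU2 u
  have := Fintype.ofFinite U
  rw [Nat.card_eq_fintype_card]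
  have h4 : ({1, u, y • u, u * y • u} : Finset U).card = 4 := by
    rw [Finset.card_insert_of_notMem, Finset.card_insert_of_notMem, Finset.card_insert_of_notMem,
      Finset.card_singleton]
    · simp only [Finset.mem_singleton]
      intro h
      have : u = 1 := by
        have h' := congrArg (fun z => z * (y • u)⁻¹) h
        simpa using h'.symm
      exact hu1 this
    · simp only [Finset.mem_insert, Finset.mem_singleton, not_or]
      refine ⟨fun h => hu h.symm, fun h => ?_⟩
      have : y • u = 1 := by
        have h' := congrArg (fun z => u⁻¹ * z) h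
        simpa using h'.symm
      exact hyu1 this
    · simp only [Finset.mem_insert, Finset.mem_singleton, not_or]
      refine ⟨fun h => hu1 h.symm, fun h => hyu1 h.symm, fun h => ?_⟩
      apply hu
      have h' : u * (y • u) = 1 := h.symm
      rw [← inv_eq_iff_mul_eq_one, hinv] at h'
      exact h'.symm
  rw [← h4]
  exact Finset.card_le_univ _

theorem aux (r : ℕ) (hr : r.Prime) (hr2 : r ≠ 2) (n : ℕ) :
    ∀ (A : Type u) (U : Type v) [CommGroup A] [Finite A] [CommGroup U] [Finite U]
      [MulDistribMulAction A U],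
      Nat.card U = n → (∀ u : U, u ^ 2 = 1) → (∀ a : A, a ^ r = 1) →
      ∀ k : ℕ, r ^ k ≤ (actKer A U).index → 4 ^ k ≤ n := by
  induction n using Nat.strong_induction_on with
  | _ n ih =>
  intro A U _ _ _ _ _ hcard hU2 hAr k hk
  haveI : Fact r.Prime := ⟨hr⟩
  have hodd : Odd r := hr.odd_of_ne_two hr2
  have hpA : IsPGroup r A := fun a => ⟨1, by rw [pow_one]; exact hAr a⟩
  by_cases hcase : ∃ g : A, g ∉ actKer A U ∧ ∃ u : U, trc r g u ≠ 1
  · obtain ⟨g, hg, u0, hu0⟩ := hcase
    set N : U →* U := trcHom r g with hN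
    have hNa : ∀ u, N u = trc r g u := fun u => rfl
    have hNN : ∀ u, N (N u) = N u := by
      intro u
      rw [hNa, hNa, trc_of_fixed r g _ (smul_trc (hAr g) u), pow_odd_of_sq (hU2 _) hodd]
    have hNsmul : ∀ (a : A) (u : U), N (a • u) = a • N u := by
      intro a u
      rw [hNa, hNa, smul_trc_comm]
    have hinv1 : ∀ (a : A) (u : U), u ∈ N.range → a • u ∈ N.range := by
      rintro a _ ⟨w, rfl⟩
      exact ⟨a • w, hNsmul a w⟩
    have hinv2 : ∀ (a : A) (u : U), u ∈ N.ker → a • u ∈ N.ker := by
      intro a u hu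
      rw [MonoidHom.mem_ker] at hu ⊢
      rw [hNsmul, hu, smul_one]
    letI i1 : MulDistribMulAction A N.range := invAct N.range hinv1
    letI i2 : MulDistribMulAction A N.ker := invAct N.ker hinv2
    have hcardmul : Nat.card N.ker * Nat.card N.range = n := by
      rw [← hcard, ← Subgroup.index_ker, Subgroup.card_mul_index]
    -- both factors are nontrivial
    have h1 : 1 < Nat.card N.range := by
      rw [Finite.one_lt_card_iff_nontrivial]
      exact ⟨⟨⟨N u0, u0, rfl⟩, 1, fun h => hu0 (congrArg Subtype.val h)⟩⟩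
    have h2 : 1 < Nat.card N.ker := by
      rw [mem_actKer] at hg
      push Not at hg
      obtain ⟨u, hu⟩ := hg
      rw [Finite.one_lt_card_iff_nontrivial]
      refine ⟨⟨⟨g • u * u⁻¹, ?_⟩, 1, fun h => ?_⟩⟩
      · rw [MonoidHom.mem_ker, map_mul, map_inv, hNsmul, hNa, smul_trc (hAr g), mul_inv_cancel]
      · have := congrArg Subtype.val h
        simp only [Subgroup.coe_one, mul_inv_eq_one] at this
        exact hu this
    have hn1 : Nat.card N.range < n := by
      rw [← hcardmul]; nlinarith
    have hn2 : Nat.card N.ker < n := by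
      rw [← hcardmul]; nlinarith
    -- the kernel of `A` on `N.ker`
    set B : Subgroup A := actKer A N.ker with hB
    set KB : Subgroup B := actKer B N.range with hKB
    have hle : KB.map B.subtype ≤ actKer A U := by
      rintro _ ⟨b, hb, rfl⟩ u
      have hb1 : ∀ w : N.range, (b : A) • (w : U) = w := fun w => congrArg Subtype.val (hb w)
      have hb2 : ∀ w : N.ker, (b : A) • (w : U) = w := fun w => congrArg Subtype.val (b.2 w)
      have hz : u * (N u)⁻¹ ∈ N.ker := by
        rw [MonoidHom.mem_ker, map_mul, map_inv, hNN, mul_inv_cancel]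
      have hdec : u = N u * (u * (N u)⁻¹) := by
        rw [mul_comm u, mul_inv_cancel_left]
      change (b : A) • u = u
      rw [hdec, smul_mul', hb1 ⟨N u, u, rfl⟩, hb2 ⟨_, hz⟩]
    have hidx : (actKer A U).index ≤ KB.index * B.index := by
      rw [← Subgroup.index_map_subtype]
      exact Nat.le_of_dvd (Nat.pos_of_ne_zero Subgroup.index_ne_zero_of_finite)
        (Subgroup.index_dvd_of_le hle)
    have hpB : IsPGroup r B := fun a => ⟨1, by rw [pow_one]; exact Subtype.ext (hAr a)⟩
    obtain ⟨k1, hk1⟩ := hpA.index B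
    obtain ⟨k2, hk2⟩ := hpB.index KB
    have hkk : k ≤ k1 + k2 := by
      have : r ^ k ≤ r ^ (k2 + k1) := by
        rw [pow_add, ← hk1, ← hk2]; exact hk.trans hidx
      have := (Nat.pow_le_pow_iff_right hr.one_lt).mp this
      omega
    have ih2 : 4 ^ k1 ≤ Nat.card N.ker :=
      ih _ hn2 A N.ker rfl (fun w => Subtype.ext (hU2 w)) hAr k1 hk1.ge
    have ih1 : 4 ^ k2 ≤ Nat.card N.range :=
      ih _ hn1 B N.range rfl (fun w => Subtype.ext (hU2 w)) (fun a => Subtype.ext (hAr a)) k2
        hk2.ge
    calc 4 ^ k ≤ 4 ^ (k1 + k2) := Nat.pow_le_pow_right (by norm_num) hkk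
      _ = 4 ^ k1 * 4 ^ k2 := pow_add _ _ _
      _ ≤ Nat.card N.ker * Nat.card N.range := Nat.mul_le_mul ih2 ih1
      _ = n := hcardmul
  · push Not at hcase
    rcases Nat.eq_zero_or_pos k with rfl | hkpos
    · rw [pow_zero, ← hcard]; exact Nat.card_pos
    -- some element acts nontrivially
    have hne : actKer A U ≠ ⊤ := by
      intro h
      rw [h, Subgroup.index_top] at hk
      have : 1 < r ^ k := Nat.one_lt_pow hkpos.ne' hr.one_lt
      omega
    obtain ⟨y, hy⟩ : ∃ y : A, y ∉ actKer A U := by
      by_contra h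
      push Not at h
      exact hne (eq_top_iff.mpr fun a _ => h a)
    have hcov : ∀ x : A, ∃ j < r, x * y ^ j ∈ actKer A U := by
      intro x
      by_contra hx
      push Not at hx
      apply hy
      intro u
      -- every element of `U` is trivial
      have hall : ∀ v : U, v = 1 := by
        intro v
        have hid := trace_identity hr (Commute.all x y) (hAr y) v
        have hl : ∏ j ∈ Finset.range r, trc r (x * y ^ j) v = 1 := by
          apply Finset.prod_eq_one
          intro j hj
          exact hcase _ (hx j (Finset.mem_range.mp hj)) v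
        have hx0 : x ∉ actKer A U := by
          have := hx 0 hr.pos
          rwa [pow_zero, mul_one] at this
        rw [hl, hcase y hy v, nrm_eq_trc, hcase y hy v, hcase x hx0 1, one_mul, one_mul,
          pow_odd_of_sq (hU2 v) hodd] at hid
        exact hid.symm
      rw [hall u, smul_one]
    have hidx : (actKer A U).index ≤ r := by
      rw [Subgroup.index, ← Nat.card_eq_fintype_card (α := Fin r) |>.trans (Fintype.card_fin r)]
      apply Nat.card_le_card_of_surjective (fun j : Fin r => (QuotientGroup.mk ((y ^ (j : ℕ))⁻¹) :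
        A ⧸ actKer A U))
      intro q
      obtain ⟨x, rfl⟩ := QuotientGroup.mk_surjective q
      obtain ⟨j, hj, hxj⟩ := hcov x
      refine ⟨⟨j, hj⟩, ?_⟩
      rw [QuotientGroup.eq, inv_inv, mul_comm]
      exact hxj
    have hk1 : k = 1 := by
      have : r ^ k ≤ r ^ 1 := by rw [pow_one]; exact hk.trans hidx
      have := (Nat.pow_le_pow_iff_right hr.one_lt).mp this
      omega
    subst hk1
    rw [pow_one, ← hcard]
    exact four_le_card hU2 y hy

/-- An elementary abelian `r`-group (`r` odd) acting on an elementary abelian 2-group `U` with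
kernel of index at least `r ^ k` forces `4 ^ k ≤ |U|`. -/
theorem four_pow_le_card {A : Type u} {U : Type v} [CommGroup A] [Finite A] [CommGroup U]
    [Finite U] [MulDistribMulAction A U] (r : ℕ) (hr : r.Prime) (hr2 : r ≠ 2)
    (hU2 : ∀ u : U, u ^ 2 = 1) (hAr : ∀ a : A, a ^ r = 1) (k : ℕ)
    (hk : r ^ k ≤ (actKer A U).index) : 4 ^ k ≤ Nat.card U :=
  aux r hr hr2 _ A U rfl hU2 hAr k hk

/-- In a finite abelian group, the `r`-torsion is at least as large as the index of any subgroup
containing all `r`-th powers. -/
theorem index_le_card_torsion {B : Type u} [CommGroup B] [Finite B] (r : ℕ) (Φ : Subgroup B)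
    (hΦ : ∀ a : B, a ^ r ∈ Φ) : Φ.index ≤ Nat.card (powMonoidHom r : B →* B).ker := by
  set f : B →* B := powMonoidHom r with hf
  have h1 : Nat.card f.ker * Nat.card f.range = Nat.card B := by
    rw [← Subgroup.index_ker, Subgroup.card_mul_index]
  have h2 : Nat.card Φ * Φ.index = Nat.card B := Subgroup.card_mul_index Φ
  have h3 : Nat.card f.range ≤ Nat.card Φ := by
    apply Subgroup.card_le_of_le
    rintro _ ⟨a, rfl⟩
    exact hΦ a
  have h4 : 0 < Nat.card f.range := Nat.card_pos
  have : Φ.index * Nat.card f.range ≤ Nat.card f.ker * Nat.card f.range := by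
    rw [h1, ← h2, mul_comm]
    exact Nat.mul_le_mul_right _ h3
  exact Nat.le_of_mul_le_mul_right this h4

end Cfsg.Agent.Helper16.ThF
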