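import Mathlib
import Cfsg.Agent.Helper16.ThFaithA

/-! S3797 piece FAITH: `le_relIndex_of_faithful` (exact signature of
`departures/helper25_s3797_pieces.md`). -/

set_option autoImplicit false
set_option linter.style.haveILetI false
set_option linter.unusedVariables false

namespace Cfsg.Agent.Helper16.ThF

open Subgroup

universe u

variable {G : Type u} [Group G]

theorem le_normalizer_of_conj_mem' (E K : Subgroup G)
    (h : ∀ a ∈ E, ∀ x ∈ K, a * x * a⁻¹ ∈ K) : E ≤ normalizer (K : Set G) := by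
  intro a ha
  rw [mem_normalizer_iff]
  intro x
  refine ⟨fun hx => h a ha x hx, fun hx => ?_⟩
  have := h a⁻¹ (E.inv_mem ha) _ hx
  have h2 : a⁻¹ * (a * x * a⁻¹) * a⁻¹⁻¹ = x := by group
  rwa [h2] at this

/-- `H` acts on the section `U/D` (copy of `Helper13.TIHall.exists_section_action`). -/
theorem exists_section_hom (H U D : Subgroup G)
    (hHU : H ≤ Subgroup.normalizer (U : Set G)) (hHD : H ≤ Subgroup.normalizer (D : Set G))
    [hn : (D.subgroupOf U).Normal] :
    ∃ ψ : H →* MulAut (U ⧸ D.subgroupOf U), ∀ (h : H) (u : U),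
      ψ h (QuotientGroup.mk u) =
        QuotientGroup.mk ⟨(h : G) * u * (h : G)⁻¹,
          (Subgroup.mem_normalizer_iff.mp (hHU h.2) u).mp u.2⟩ := by
  classical
  let α : H → MulAut U := fun h => U.normalizerMonoidHom ⟨h, hHU h.2⟩
  have α_apply : ∀ (h : H) (u : U), ((α h u : U) : G) = (h : G) * u * (h : G)⁻¹ := fun h u => rfl
  have hmap : ∀ h : H, (D.subgroupOf U).map (α h).toMonoidHom = D.subgroupOf U := by
    intro h
    ext u
    constructor
    · rintro ⟨v, hv, rfl⟩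
      have hv' : (v : G) ∈ D := hv
      show ((α h v : U) : G) ∈ D
      rw [α_apply]
      exact (Subgroup.mem_normalizer_iff.mp (hHD h.2) v).mp hv'
    · intro hu
      have hu' : (u : G) ∈ D := hu
      refine ⟨(α h).symm u, ?_, by simp⟩
      show (((α h).symm u : U) : G) ∈ D
      have h1 : ((α h) ((α h).symm u) : G) = (h : G) * ((α h).symm u : U) * (h : G)⁻¹ :=
        α_apply h _
      rw [MulEquiv.apply_symm_apply] at h1
      have h2 : (((α h).symm u : U) : G) = (h : G)⁻¹ * u * (h : G) := by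
        rw [h1]; group
      rw [h2]
      have := (Subgroup.mem_normalizer_iff.mp (Subgroup.inv_mem _ (hHD h.2)) (u : G)).mp hu'
      simpa using this
  let β : H → MulAut (U ⧸ D.subgroupOf U) := fun h =>
    QuotientGroup.congr (D.subgroupOf U) (D.subgroupOf U) (α h) (hmap h)
  have β_mk : ∀ (h : H) (u : U), β h (QuotientGroup.mk u) = QuotientGroup.mk (α h u) :=
    fun h u => QuotientGroup.congr_mk _ _ (α h) (hmap h) u
  refine ⟨MonoidHom.mk' β ?_, ?_⟩
  · intro h1 h2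
    ext z
    obtain ⟨u, rfl⟩ := QuotientGroup.mk_surjective z
    rw [MulAut.mul_apply, β_mk, β_mk, β_mk]
    congr 1
    apply Subtype.ext
    rw [α_apply, α_apply, α_apply]
    simp only [Subgroup.coe_mul, mul_inv_rev]
    group
  · intro h u
    exact β_mk h u

end Cfsg.Agent.Helper16.ThF

namespace Cfsg.Agent.Helper16.Th

open Cfsg.Agent.Helper16.ThF

theorem le_relIndex_of_faithful {H : Type*} [Group H] [Finite H] (Qm V E Φ : Subgroup H)
    (hVQ : V ≤ Qm)
    (hcent : ∀ v ∈ V, ∀ x ∈ Qm, v * x = x * v) (hsq : ∀ x ∈ Qm, x ^ 2 ∈ V)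
    (hEQ : ∀ a ∈ E, ∀ x ∈ Qm, a * x * a⁻¹ ∈ Qm) (hEV : ∀ a ∈ E, ∀ v ∈ V, a * v * a⁻¹ ∈ V)
    (r : ℕ) [Fact r.Prime] (hr : r ≠ 2)
    (hcomm : ∀ a ∈ E, ∀ b ∈ E, ∀ x ∈ Qm,
      (a * b * a⁻¹ * b⁻¹) * x * (a * b * a⁻¹ * b⁻¹)⁻¹ * x⁻¹ ∈ V)
    (hrpow : ∀ a ∈ E, ∃ j : ℕ, ∀ x ∈ Qm, a ^ (r ^ j) * x * (a ^ (r ^ j))⁻¹ * x⁻¹ ∈ V)
    (hΦE : Φ ≤ E) (hker : ∀ a ∈ E, (∀ x ∈ Qm, a * x * a⁻¹ * x⁻¹ ∈ V) → a ∈ Φ)
    (hexp : ∀ a ∈ E, a ^ r ∈ Φ) (k : ℕ) (hk : r ^ k ≤ Φ.relIndex E) :
    4 ^ k ≤ V.relIndex Qm := by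
  classical
  have hrp : r.Prime := Fact.out
  haveI hVn : (V.subgroupOf Qm).Normal := by
    refine ⟨fun v hv x => ?_⟩
    rw [Subgroup.mem_subgroupOf] at hv ⊢
    have h := hcent v hv x x.2
    simp only [Subgroup.coe_mul, Subgroup.coe_inv]
    rw [← h, mul_inv_cancel_right]; exact hv
  have hEQn := le_normalizer_of_conj_mem' E Qm hEQ
  have hEVn := le_normalizer_of_conj_mem' E V hEV
  obtain ⟨ψ, hψ⟩ := exists_section_hom E Qm V hEQn hEVn
  -- the kernel of ψ
  have hψ1 : ∀ e : E, ψ e = 1 ↔ ∀ x ∈ Qm, (e : H) * x * (e : H)⁻¹ * x⁻¹ ∈ V := by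
    intro e
    constructor
    · intro he x hx
      have h1 := hψ e ⟨x, hx⟩
      rw [he, MulAut.one_apply, eq_comm, QuotientGroup.eq_iff_div_mem] at h1
      rw [Subgroup.mem_subgroupOf] at h1
      simpa [div_eq_mul_inv] using h1
    · intro he
      ext z
      obtain ⟨x, rfl⟩ := QuotientGroup.mk_surjective z
      rw [hψ, MulAut.one_apply, QuotientGroup.eq_iff_div_mem, Subgroup.mem_subgroupOf]
      simpa [div_eq_mul_inv] using he x x.2
  -- U is an elementary abelian 2-group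
  have hU2 : ∀ u : Qm ⧸ V.subgroupOf Qm, u ^ 2 = 1 := by
    intro u
    obtain ⟨x, rfl⟩ := QuotientGroup.mk_surjective u
    rw [← QuotientGroup.mk_pow, QuotientGroup.eq_one_iff, Subgroup.mem_subgroupOf,
      Subgroup.coe_pow]
    exact hsq x x.2
  have hUinv : ∀ u : Qm ⧸ V.subgroupOf Qm, u⁻¹ = u := by
    intro u
    rw [inv_eq_iff_mul_eq_one, ← pow_two]; exact hU2 u
  letI instU : CommGroup (Qm ⧸ V.subgroupOf Qm) :=
    { (inferInstance : Group (Qm ⧸ V.subgroupOf Qm)) with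
      mul_comm := fun a b => by
        rw [← hUinv (a * b), mul_inv_rev, hUinv, hUinv] }
  -- the image of E is abelian
  have hcommψ : ∀ a b : ψ.range, a * b = b * a := by
    rintro ⟨_, a, rfl⟩ ⟨_, b, rfl⟩
    apply Subtype.ext
    change ψ a * ψ b = ψ b * ψ a
    rw [← commutatorElement_eq_one_iff_mul_comm, commutatorElement_def, ← map_inv, ← map_inv,
      ← map_mul, ← map_mul, ← map_mul, hψ1]
    intro x hx
    exact hcomm a a.2 b b.2 x hx
  letI instA : CommGroup ψ.range :=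
    { (inferInstance : Group ψ.range) with mul_comm := hcommψ }
  haveI : Finite ψ.range := Finite.of_surjective ψ.rangeRestrict ψ.rangeRestrict_surjective
  -- the r-torsion of the image
  set Ω : Subgroup ψ.range := (powMonoidHom r : ψ.range →* ψ.range).ker with hΩ
  have hΩr : ∀ a : Ω, a ^ r = 1 := by
    intro a
    apply Subtype.ext
    have h : (a : ψ.range) ∈ (powMonoidHom r : ψ.range →* ψ.range).ker := a.2
    rw [MonoidHom.mem_ker, powMonoidHom_apply] at h
    rw [Subgroup.coe_pow, h]; rfl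
  -- the image of Φ
  set Φb : Subgroup ψ.range := (Φ.subgroupOf E).map ψ.rangeRestrict with hΦb
  have hΦbr : ∀ a : ψ.range, a ^ r ∈ Φb := by
    rintro ⟨_, e, rfl⟩
    refine ⟨e ^ r, ?_, ?_⟩
    · rw [SetLike.mem_coe, Subgroup.mem_subgroupOf, Subgroup.coe_pow]
      exact hexp e e.2
    · rw [map_pow]; rfl
  have hidx : Φb.index = Φ.relIndex E := by
    rw [hΦb, Subgroup.index_map_eq _ ψ.rangeRestrict_surjective]
    · rfl
    · rw [MonoidHom.ker_rangeRestrict]
      intro e he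
      rw [MonoidHom.mem_ker, hψ1] at he
      rw [Subgroup.mem_subgroupOf]
      exact hker e e.2 he
  have h1 : Φb.index ≤ Nat.card Ω := index_le_card_torsion r Φb hΦbr
  have hfaith : actKer Ω (Qm ⧸ V.subgroupOf Qm) = ⊥ := by
    rw [eq_bot_iff]
    intro a ha
    rw [Subgroup.mem_bot]
    apply Subtype.ext
    apply Subtype.ext
    ext u
    exact ha u
  have hk' : r ^ k ≤ (actKer Ω (Qm ⧸ V.subgroupOf Qm)).index := by
    rw [hfaith, Subgroup.index_bot]
    exact (hk.trans hidx.ge).trans h1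
  exact four_pow_le_card r hrp hr hU2 hΩr k hk'

end Cfsg.Agent.Helper16.Th
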