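import Mathlib
import Cfsg.Prelude.Def_TwoFusion
import Cfsg.Agent.Helper18.Isolated
import Cfsg.Agent.S1181
import Cfsg.Agent.Lead.CoprimeSylow
import Cfsg.Agent.Helper17.Basic

set_option autoImplicit false

/-!
Corollaries of Glauberman's Z*-theorem, with the Z*-theorem (statement S0215) as an explicit
hypothesis `ZStar`.
-/

namespace Cfsg.Agent.Helper16.ZStarCor

open Subgroup

/-- The statement of Glauberman's Z*-theorem (S0215) for the group `G`. -/
def ZStar (G : Type*) [Group G] : Prop :=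
  ∀ (P : Sylow 2 G) (u : G), orderOf u = 2 → u ∈ P →
    (∀ g : G, g * u * g⁻¹ ∈ P → g * u * g⁻¹ = u) →
    ∃ N : Subgroup G, N.Normal ∧ Odd (Nat.card N) ∧ ∀ g : G, (u * g * u⁻¹ * g⁻¹) ∈ N

section
variable {G : Type*} [Group G]

theorem isolated_subtype {z : G} (hz : Cfsg.IsIsolatedInvolution z) (K : Subgroup G)
    (hzK : z ∈ K) : Cfsg.IsIsolatedInvolution (⟨z, hzK⟩ : K) := by
  refine ⟨?_, ?_⟩
  · rw [← hz.1]; exact (Subgroup.orderOf_mk z hzK)
  · intro g hc
    have h1 := hz.2 (g : G) (by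
      have := congrArg Subtype.val hc.eq
      simpa [Commute, SemiconjBy] using this)
    exact Subtype.ext (by simpa using h1)

/-- Z* for an isolated involution. -/
theorem zstar_isolated [Finite G] (hZ : ZStar G) {z : G} (hz : Cfsg.IsIsolatedInvolution z) :
    ∃ N : Subgroup G, N.Normal ∧ Odd (Nat.card N) ∧ ∀ g : G, (z * g * z⁻¹ * g⁻¹) ∈ N := by
  haveI : Fact (Nat.Prime 2) := ⟨Nat.prime_two⟩
  have hpg : IsPGroup 2 (Subgroup.zpowers z) := by
    apply IsPGroup.of_card (n := 1)
    rw [Nat.card_zpowers, hz.1, pow_one]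
  obtain ⟨P, hP⟩ := hpg.exists_le_sylow
  have hzP : z ∈ P := hP (Subgroup.mem_zpowers z)
  refine hZ P z hz.1 hzP ?_
  intro g hg
  have hodd := Cfsg.Agent.Helper18.IsIsolated.odd_orderOf_mul hz g
  have hmem : z * (g * z * g⁻¹) ∈ (P : Subgroup G) := mul_mem hzP hg
  obtain ⟨k, hk⟩ := (P.2 : IsPGroup 2 (P : Subgroup G)) ⟨_, hmem⟩
  have hk' : (z * (g * z * g⁻¹)) ^ 2 ^ k = 1 := by
    have := congrArg Subtype.val hk
    simpa using this
  have hdvd : orderOf (z * (g * z * g⁻¹)) ∣ 2 ^ k := orderOf_dvd_of_pow_eq_one hk'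
  have hone : orderOf (z * (g * z * g⁻¹)) = 1 := by
    have hcop : Nat.Coprime (orderOf (z * (g * z * g⁻¹))) (2 ^ k) :=
      Nat.Coprime.pow_right k (Nat.coprime_two_right.mpr hodd)
    exact Nat.Coprime.eq_one_of_dvd hcop hdvd
  have h1 : z * (g * z * g⁻¹) = 1 := orderOf_eq_one_iff.mp hone
  have hzz : z * z = 1 := by
    have := pow_orderOf_eq_one z
    rwa [hz.1, pow_two] at this
  calc g * z * g⁻¹ = (z * z) * (g * z * g⁻¹) := by rw [hzz, one_mul]
    _ = z * (z * (g * z * g⁻¹)) := by rw [mul_assoc]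
    _ = z := by rw [h1, mul_one]
end

section
universe u
variable {G : Type u} [Group G]

theorem mul_self_of_isolated {z : G} (hz : Cfsg.IsIsolatedInvolution z) : z * z = 1 := by
  have := pow_orderOf_eq_one z
  rwa [hz.1, pow_two] at this

theorem inv_of_isolated {z : G} (hz : Cfsg.IsIsolatedInvolution z) : z⁻¹ = z :=
  inv_eq_of_mul_eq_one_right (mul_self_of_isolated hz)

/-- In a group where `z` is central modulo an odd-order normal subgroup, and `p` is an odd prime
dividing the order, there is a nontrivial `z`-invariant `p`-subgroup. -/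
theorem exists_invariant_pgroup [Finite G] {z : G} (hz2 : orderOf z = 2)
    (N : Subgroup G) [N.Normal] (hN : Odd (Nat.card N)) (hc : ∀ g : G, z * g * z⁻¹ * g⁻¹ ∈ N)
    {p : ℕ} [Fact p.Prime] (hp : p ≠ 2) (hdvd : p ∣ Nat.card G) :
    ∃ R : Subgroup G, IsPGroup p R ∧ R ≠ ⊥ ∧ z ∈ normalizer (R : Set G) := by
  have hpp := (Fact.out : p.Prime)
  have hpodd : Odd p := hpp.odd_of_ne_two hp
  obtain ⟨S⟩ : Nonempty (Sylow p G) := inferInstance
  set T : Subgroup G := N ⊔ (S : Subgroup G) with hT
  have hTcard : Odd (Nat.card T) := by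
    have h1 := Cfsg.Agent.Helper17.card_sup_mul_card_inf_of_normal N (S : Subgroup G)
    obtain ⟨k, hk⟩ := IsPGroup.iff_card.mp S.2
    have h2 : Odd (Nat.card N * Nat.card (S : Subgroup G)) := by
      rw [hk]; exact hN.mul (hpodd.pow)
    rw [← h1] at h2
    exact (Nat.odd_mul.mp h2).1
  have hzT : ∀ t : G, t ∈ T → z * t * z⁻¹ ∈ T := by
    intro t ht
    have : z * t * z⁻¹ = (z * t * z⁻¹ * t⁻¹) * t := by group
    rw [this]
    exact mul_mem (le_sup_left (a := N) (hc t)) ht
  have hzz : z * z = 1 := by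
    have := pow_orderOf_eq_one z
    rwa [hz2, pow_two] at this
  have hzi : z⁻¹ = z := inv_eq_of_mul_eq_one_right hzz
  have hzN : z ∈ normalizer (T : Set G) := by
    rw [Subgroup.mem_normalizer_iff]
    intro t
    refine ⟨hzT t, fun h => ?_⟩
    have := hzT _ h
    have e : z * (z * t * z⁻¹) * z⁻¹ = t := by
      rw [hzi]
      calc z * (z * t * z) * z = (z * z) * t * (z * z) := by group
        _ = t := by rw [hzz]; group
    rwa [e] at this
  have hAT : Subgroup.zpowers z ≤ normalizer (T : Set G) := by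
    rw [Subgroup.zpowers_le]; exact hzN
  have hcop : (Nat.card (Subgroup.zpowers z)).Coprime (Nat.card T) := by
    rw [Nat.card_zpowers, hz2]
    exact Nat.coprime_two_left.mpr hTcard
  obtain ⟨R, hR⟩ := Cfsg.Agent.Lead.coprime_exists_invariant_sylow (Subgroup.zpowers z) T hAT hcop
    (Or.inl inferInstance) p
  refine ⟨(R : Subgroup T).map T.subtype, ?_, ?_, ?_⟩
  · exact R.2.map _
  · intro hbot
    have hRbot : (R : Subgroup T) = ⊥ := by
      rw [← Subgroup.map_eq_bot_iff_of_injective _ (Subgroup.subtype_injective T)]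
      exact hbot
    have hpT : p ∣ Nat.card T := by
      have hST : (S : Subgroup G) ≤ T := le_sup_right
      have h1 : Nat.card (S : Subgroup G) ∣ Nat.card T := Subgroup.card_dvd_of_le hST
      have h2 : p ∣ Nat.card (S : Subgroup G) := by
        rw [Sylow.card_eq_multiplicity]
        refine dvd_pow_self p ?_
        have : 0 < (Nat.card G).factorization p :=
          hpp.factorization_pos_of_dvd Nat.card_pos.ne' hdvd
        omega
      exact h2.trans h1
    have hRc : Nat.card (R : Subgroup T) = 1 := by rw [hRbot]; exact Subgroup.card_bot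
    have := Sylow.card_eq_multiplicity R
    rw [hRc] at this
    have hpos : 0 < (Nat.card T).factorization p :=
      hpp.factorization_pos_of_dvd Nat.card_pos.ne' hpT
    have : p ^ (Nat.card T).factorization p = 1 := this.symm
    have h3 := Nat.pow_eq_one.mp this
    rcases h3 with h3 | h3
    · exact hpp.one_lt.ne' h3
    · omega
  · exact hR (Subgroup.mem_zpowers z)

/-- S1187 modulo Z*. -/
theorem maxinv_sylow [Finite G] (hZ : ∀ (K : Type u) [Group K] [Finite K], ZStar K)
    (z : G) (hz : Cfsg.IsIsolatedInvolution z) {p : ℕ} [Fact p.Prime] (Q : Subgroup G)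
    (hQ : IsPGroup p Q) (hzQ : z ∈ Subgroup.normalizer (Q : Set G))
    (hmax : ∀ R : Subgroup G, IsPGroup p R → z ∈ Subgroup.normalizer (R : Set G) → Q ≤ R → R = Q) :
    ∃ P : Sylow p G, (P : Subgroup G) = Q := by
  have hpp := (Fact.out : p.Prime)
  obtain ⟨P, hQP⟩ := hQ.exists_le_sylow
  have hzz := mul_self_of_isolated hz
  have hzi := inv_of_isolated hz
  by_cases hp2 : p = 2
  · subst hp2
    have hzQ' : z ∈ Q := by
      have hzp : IsPGroup 2 (Subgroup.zpowers z) := by
        apply IsPGroup.of_card (n := 1)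
        rw [Nat.card_zpowers, hz.1, pow_one]
      have hle : Subgroup.zpowers z ≤ normalizer (Q : Set G) := by
        rw [Subgroup.zpowers_le]; exact hzQ
      have hR : IsPGroup 2 (Subgroup.zpowers z ⊔ Q : Subgroup G) :=
        IsPGroup.to_sup_of_normal_right' hzp hQ hle
      have hzR : z ∈ normalizer ((Subgroup.zpowers z ⊔ Q : Subgroup G) : Set G) :=
        Subgroup.le_normalizer (le_sup_left (a := Subgroup.zpowers z) (Subgroup.mem_zpowers z))
      have := hmax _ hR hzR le_sup_right
      rw [← this]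
      exact le_sup_left (a := Subgroup.zpowers z) (Subgroup.mem_zpowers z)
    have hzP : z ∈ (P : Subgroup G) := hQP hzQ'
    exact ⟨P, hmax P P.2 (Subgroup.le_normalizer hzP) hQP⟩
  · by_contra hne
    push_neg at hne
    have hlt : Q < (P : Subgroup G) := lt_of_le_of_ne hQP (fun h => hne P h.symm)
    obtain ⟨n, hn⟩ := IsPGroup.iff_card.mp hQ
    obtain ⟨m, hm⟩ := IsPGroup.iff_card.mp P.2
    have hnm : n < m := by
      have h1 : Nat.card Q < Nat.card (P : Subgroup G) := by
        have hle := Subgroup.card_le_of_le hQP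
        rcases hle.lt_or_eq with h | h
        · exact h
        · exact absurd (Subgroup.eq_of_le_of_card_ge hQP h.ge) hlt.ne
      rw [hn, hm] at h1
      exact (Nat.pow_lt_pow_iff_right hpp.one_lt).mp h1
    have hdvdG : p ^ (n + 1) ∣ Nat.card G := by
      have h1 : p ^ (n + 1) ∣ p ^ m := pow_dvd_pow p hnm
      rw [← hm] at h1
      exact h1.trans (Subgroup.card_subgroup_dvd_card _)
    have hpL := Sylow.prime_dvd_card_quotient_normalizer hdvdG hn
    -- the quotient L
    set N : Subgroup G := normalizer (Q : Set G) with hNdef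
    haveI hQN : (Q.subgroupOf N).Normal := Subgroup.normal_in_normalizer
    change p ∣ Nat.card (↥N ⧸ Q.subgroupOf N) at hpL
    have hzQn : z ∉ Q := by
      intro hzQ2
      have h1 : orderOf z ∣ Nat.card Q := by
        have := orderOf_dvd_natCard (⟨z, hzQ2⟩ : Q)
        rwa [Subgroup.orderOf_mk] at this
      rw [hz.1, hn] at h1
      have := (Nat.prime_dvd_prime_iff_eq Nat.prime_two hpp).mp (Nat.prime_two.dvd_of_dvd_pow h1)
      exact hp2 this.symm
    have hzN : Cfsg.IsIsolatedInvolution (⟨z, hzQ⟩ : N) := isolated_subtype hz N hzQ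
    have hzQN : (⟨z, hzQ⟩ : N) ∉ Q.subgroupOf N := by
      rw [Subgroup.mem_subgroupOf]; exact hzQn
    obtain ⟨-, hzL⟩ := Cfsg.Agent.S1181.result (⟨z, hzQ⟩ : N) hzN (Q.subgroupOf N) hzQN
    obtain ⟨M, hMn, hMo, hMc⟩ := zstar_isolated (hZ (↥N ⧸ Q.subgroupOf N)) hzL
    haveI := hMn
    obtain ⟨R, hRp, hRne, hRz⟩ := exists_invariant_pgroup hzL.1 M hMo hMc hp2 hpL
    -- pull back
    set RN : Subgroup N := R.comap (QuotientGroup.mk' (Q.subgroupOf N)) with hRN
    set RG : Subgroup G := RN.map N.subtype with hRG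
    have hRNp : IsPGroup p RN := by
      apply hRp.comap_of_ker_isPGroup
      rw [QuotientGroup.ker_mk']
      exact hQ.of_equiv (Subgroup.subgroupOfEquivOfLe Subgroup.le_normalizer).symm
    have hRGp : IsPGroup p RG := hRNp.map _
    have hQRG : Q ≤ RG := by
      intro q hq
      refine ⟨⟨q, Subgroup.le_normalizer hq⟩, ?_, rfl⟩
      show _ ∈ R.comap _
      rw [Subgroup.mem_comap]
      have : (QuotientGroup.mk' (Q.subgroupOf N)) ⟨q, Subgroup.le_normalizer hq⟩ = 1 := by
        rw [QuotientGroup.mk'_apply, QuotientGroup.eq_one_iff, Subgroup.mem_subgroupOf]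
        exact hq
      rw [this]; exact one_mem _
    have hfwd : ∀ x : G, x ∈ RG → z * x * z⁻¹ ∈ RG := by
      rintro x ⟨y, hy, rfl⟩
      refine ⟨⟨z, hzQ⟩ * y * ⟨z, hzQ⟩⁻¹, ?_, by simp⟩
      show _ ∈ R.comap _
      rw [Subgroup.mem_comap, map_mul, map_mul, map_inv]
      have hy' : (QuotientGroup.mk' (Q.subgroupOf N)) y ∈ R := hy
      exact ((Subgroup.mem_normalizer_iff.mp hRz) _).mp hy'
    have hzRG : z ∈ normalizer (RG : Set G) := by
      rw [Subgroup.mem_normalizer_iff]
      intro x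
      refine ⟨hfwd x, fun h => ?_⟩
      have := hfwd _ h
      have e : z * (z * x * z⁻¹) * z⁻¹ = x := by
        rw [hzi]
        calc z * (z * x * z) * z = (z * z) * x * (z * z) := by group
          _ = x := by rw [hzz]; group
      rwa [e] at this
    have hEq := hmax RG hRGp hzRG hQRG
    apply hRne
    rw [eq_bot_iff]
    intro r hr
    obtain ⟨y, rfl⟩ := QuotientGroup.mk'_surjective (Q.subgroupOf N) r
    have hyRN : y ∈ RN := hr
    have hyRG : (y : G) ∈ RG := ⟨y, hyRN, rfl⟩
    rw [hEq] at hyRG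
    rw [Subgroup.mem_bot, QuotientGroup.mk'_apply, QuotientGroup.eq_one_iff, Subgroup.mem_subgroupOf]
    exact hyRG

end

end Cfsg.Agent.Helper16.ZStarCor
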