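import Mathlib
import Cfsg.Prelude.Def_TwoFusion
import Cfsg.Prelude.Def_IsolatedElements
import Cfsg.Agent.Helper16.ZStarCor
import Cfsg.Agent.Helper15.Isolated2
import Cfsg.Agent.Helper15.ZStarMin
import Cfsg.Agent.Helper7.PPrimeCore

set_option autoImplicit false

/-!
The Z*-theorem for isolated 2-elements of arbitrary order, modulo the Z*-theorem for involutions.
-/

namespace Cfsg.Agent.Helper16.ZStarCor

open Subgroup Cfsg
open scoped Pointwise

section
universe u
variable {G : Type u} [Group G]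

/-- powers of an isolated `p`-element are isolated -/
theorem isolated_pow [Finite G] {p : ℕ} [Fact p.Prime] {x : G} (hx : ∃ k : ℕ, orderOf x = p ^ k)
    (hiso : IsIsolated x) (j : ℕ) : IsIsolated (x ^ j) := by
  intro g hc
  set w : G := x ^ j with hw
  set w' : G := g * w * g⁻¹ with hw'
  have hxp : IsPGroup p (Subgroup.zpowers x) := Cfsg.Agent.Helper15.isPGroup_zpowers_of_orderOf hx
  have hw'p : IsPGroup p (Subgroup.zpowers w') := by
    have h1 : Subgroup.zpowers w' ≤ (Subgroup.zpowers x).map (MulAut.conj g).toMonoidHom := by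
      rw [Subgroup.zpowers_le]
      refine ⟨w, Subgroup.pow_mem _ (Subgroup.mem_zpowers x) j, ?_⟩
      simp [hw', MulAut.conj_apply]
    exact (hxp.map _).to_le h1
  -- Step 1: inside C(w), conjugate w' so that it commutes with x
  have hxCw : x ∈ centralizer ({w} : Set G) := by
    rw [Subgroup.mem_centralizer_singleton_iff, hw]
    exact (Commute.pow_right (Commute.refl x) j).eq
  have hw'Cw : w' ∈ centralizer ({w} : Set G) := by
    rw [Subgroup.mem_centralizer_singleton_iff]
    exact hc.eq.symm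
  obtain ⟨c, hcC, R, hRp, hRC, hxR, hcR⟩ :=
    Cfsg.Agent.Helper15.exists_common_pSubgroup (centralizer ({w} : Set G)) hxCw hw'Cw hxp hw'p
  have hRx : R ≤ centralizer ({x} : Set G) :=
    Cfsg.Agent.Helper15.le_centralizer_of_isolated hiso hRp hxR
  -- w'' = c w' c⁻¹ commutes with x
  set w'' : G := c * w' * c⁻¹ with hw''
  have hcomm : w'' * x = x * w'' := by
    have := hRx hcR
    rw [Subgroup.mem_centralizer_singleton_iff] at this
    exact this
  have hw''eq : w'' = (c * g) * w * (c * g)⁻¹ := by rw [hw'', hw']; group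
  -- Step 2: x and (cg) x (cg)⁻¹ both centralize w''
  have hxN : x ∈ centralizer ({w''} : Set G) := by
    rw [Subgroup.mem_centralizer_singleton_iff]; exact hcomm.symm
  have hyN : (c * g) * x * (c * g)⁻¹ ∈ centralizer ({w''} : Set G) := by
    rw [Subgroup.mem_centralizer_singleton_iff, hw''eq]
    obtain ⟨a, ha⟩ : ∃ a, a = c * g := ⟨_, rfl⟩
    rw [← ha]
    have hxw : x * w = w * x := by rw [hw]; exact (Commute.pow_right (Commute.refl x) j).eq
    calc a * x * a⁻¹ * (a * w * a⁻¹) = a * (x * w) * a⁻¹ := by group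
      _ = a * (w * x) * a⁻¹ := by rw [hxw]
      _ = a * w * a⁻¹ * (a * x * a⁻¹) := by group
  have hyp : IsPGroup p (Subgroup.zpowers ((c * g) * x * (c * g)⁻¹)) := by
    have h1 : Subgroup.zpowers ((c * g) * x * (c * g)⁻¹) ≤
        (Subgroup.zpowers x).map (MulAut.conj (c * g)).toMonoidHom := by
      rw [Subgroup.zpowers_le]
      exact ⟨x, Subgroup.mem_zpowers x, by simp only [MulEquiv.coe_toMonoidHom, MulAut.conj_apply]⟩
    exact (hxp.map _).to_le h1
  obtain ⟨n, hnN, R', hR'p, -, hxR', hnR'⟩ :=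
    Cfsg.Agent.Helper15.exists_common_pSubgroup (centralizer ({w''} : Set G)) hxN hyN hxp hyp
  have h1 : (n * (c * g)) * x * (n * (c * g))⁻¹ = x := by
    have e : (n * (c * g)) * x * (n * (c * g))⁻¹ = n * ((c * g) * x * (c * g)⁻¹) * n⁻¹ := by group
    have hmem : (n * (c * g)) * x * (n * (c * g))⁻¹ ∈ R' := by rw [e]; exact hnR'
    exact Cfsg.Agent.Helper15.conj_eq_of_isolated hiso hR'p hxR' hmem
  -- hence n (cg) centralizes w
  have h2 : (n * (c * g)) * w * (n * (c * g))⁻¹ = w := by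
    rw [hw, ← conj_pow, h1]
  have h3 : n * w'' * n⁻¹ = w := by
    rw [hw''eq]
    calc n * ((c * g) * w * (c * g)⁻¹) * n⁻¹ = (n * (c * g)) * w * (n * (c * g))⁻¹ := by group
      _ = w := h2
  have h4 : n * w'' * n⁻¹ = w'' := by
    rw [Subgroup.mem_centralizer_singleton_iff] at hnN
    rw [hnN]; group
  have h5 : w'' = w := by rw [← h4, h3]
  -- finally w' = c⁻¹ w'' c = c⁻¹ w c = w
  have h6 : c * w * c⁻¹ = w := by
    rw [Subgroup.mem_centralizer_singleton_iff] at hcC
    rw [hcC]; group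
  calc w' = c⁻¹ * w'' * c := by rw [hw'']; group
    _ = c⁻¹ * (c * w * c⁻¹) * c := by rw [h5, h6]
    _ = w := by group

/-- an isolated 2-element of a group with trivial odd core is central (modulo Z*) -/
theorem isolated_central_aux (hZ : ∀ (K : Type u) [Group K] [Finite K], ZStar K) :
    ∀ k : ℕ, ∀ (X : Type u) [Group X] [Finite X] (x : X), pPrimeCore 2 X = ⊥ →
      orderOf x = 2 ^ k → IsIsolated x → x ∈ center X := by
  intro k
  induction k using Nat.strong_induction_on with
  | _ k ih =>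
  intro X _ _ x hcore hord hiso
  have : Fact (Nat.Prime 2) := ⟨Nat.prime_two⟩
  rcases Nat.eq_zero_or_pos k with hk0 | hkpos
  · rw [hk0, pow_zero, orderOf_eq_one_iff] at hord
    rw [hord]; exact one_mem _
  -- the involution of ⟨x⟩ is central
  set z : X := x ^ (2 ^ (k - 1)) with hz
  have hzord : orderOf z = 2 := by
    rw [hz, orderOf_pow_of_dvd (by positivity) (by rw [hord]; exact pow_dvd_pow 2 (by omega)), hord]
    rw [← Nat.pow_sub_mul_pow 2 (show k - 1 ≤ k by omega)]
    have : k - (k - 1) = 1 := by omega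
    rw [this, pow_one, Nat.mul_div_cancel _ (by positivity)]
  have hziso : IsIsolated z := isolated_pow ⟨k, hord⟩ hiso _
  have hzII : Cfsg.IsIsolatedInvolution z := ⟨hzord, hziso⟩
  obtain ⟨N, hNn, hNo, hNc⟩ := zstar_isolated (hZ X) hzII
  have hNbot : N = ⊥ := by
    have := Cfsg.Agent.Helper7.le_pPrimeCore (p := 2) hNn (Nat.coprime_two_right.mpr hNo)
    rw [hcore] at this
    exact le_bot_iff.mp this
  have hzc : z ∈ center X := by
    rw [Subgroup.mem_center_iff]
    intro g
    have h1 := hNc g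
    rw [hNbot, Subgroup.mem_bot] at h1
    calc g * z = (z * g * z⁻¹ * g⁻¹)⁻¹ * (z * g) := by group
      _ = z * g := by rw [h1]; group
  -- pass to X / Z(X)
  have hcore1 := Cfsg.Agent.Helper15.pPrimeCore_quotient_center_eq_bot (p := 2) hcore
  have hiso1 : IsIsolated (QuotientGroup.mk x : X ⧸ center X) :=
    Cfsg.Agent.Helper15.isolated_quotient x ⟨k, hord⟩ hiso (center X)
  have hpow1 : (QuotientGroup.mk x : X ⧸ center X) ^ (2 ^ (k - 1)) = 1 := by
    rw [← QuotientGroup.mk_pow, QuotientGroup.eq_one_iff]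
    exact hzc
  obtain ⟨j, hjle, hj⟩ := (Nat.dvd_prime_pow Nat.prime_two).mp (orderOf_dvd_of_pow_eq_one hpow1)
  have hcent1 := ih j (by omega) (X ⧸ center X) _ hcore1 hj hiso1
  rw [Subgroup.mem_center_iff]
  intro g
  have h1 : g * x * g⁻¹ * x⁻¹ ∈ center X := by
    rw [← QuotientGroup.eq_one_iff, QuotientGroup.mk_mul, QuotientGroup.mk_mul, QuotientGroup.mk_mul,
      QuotientGroup.mk_inv, QuotientGroup.mk_inv]
    rw [Subgroup.mem_center_iff] at hcent1
    have := hcent1 (QuotientGroup.mk g)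
    rw [this]; group
  have h2 : Commute x (g * x * g⁻¹) := by
    have e : g * x * g⁻¹ = (g * x * g⁻¹ * x⁻¹) * x := by group
    rw [e]
    rw [Subgroup.mem_center_iff] at h1
    show x * (g * x * g⁻¹ * x⁻¹ * x) = g * x * g⁻¹ * x⁻¹ * x * x
    rw [← mul_assoc, h1 x]
  have h3 := hiso g h2
  calc g * x = (g * x * g⁻¹) * g := by group
    _ = x * g := by rw [h3]

/-- Z* for isolated 2-elements of arbitrary order (modulo Z* for involutions). -/
theorem inZStar_of_isolated [Finite G] (hZ : ∀ (K : Type u) [Group K] [Finite K], ZStar K)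
    (x : G) (hx : ∃ k : ℕ, orderOf x = 2 ^ k) (hiso : IsIsolated x) : InZStar 2 x := by
  have : Fact (Nat.Prime 2) := ⟨Nat.prime_two⟩
  obtain ⟨k, hk⟩ := hx
  have hcore := Cfsg.Agent.Helper7.pPrimeCore_quotient_eq_bot (G := G) 2
  have hiso1 : IsIsolated (QuotientGroup.mk x : G ⧸ pPrimeCore 2 G) :=
    Cfsg.Agent.Helper15.isolated_quotient x ⟨k, hk⟩ hiso (pPrimeCore 2 G)
  have hpow1 : (QuotientGroup.mk x : G ⧸ pPrimeCore 2 G) ^ (2 ^ k) = 1 := by
    rw [← QuotientGroup.mk_pow, ← hk, pow_orderOf_eq_one]; rfl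
  obtain ⟨j, -, hj⟩ := (Nat.dvd_prime_pow Nat.prime_two).mp (orderOf_dvd_of_pow_eq_one hpow1)
  have hcent := isolated_central_aux hZ j (G ⧸ pPrimeCore 2 G) _ hcore hj hiso1
  intro g
  rw [← QuotientGroup.eq_one_iff, QuotientGroup.mk_mul, QuotientGroup.mk_mul, QuotientGroup.mk_mul,
    QuotientGroup.mk_inv, QuotientGroup.mk_inv]
  rw [Subgroup.mem_center_iff] at hcent
  have := hcent (QuotientGroup.mk g)
  rw [this]; group

/-- an element of a Sylow `p`-subgroup `P` whose only `G`-conjugate in `P` is itself is isolated -/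
theorem isolated_of_sylow_gen [Finite G] {p : ℕ} [Fact p.Prime] (P : Sylow p G) {x : G}
    (hxP : x ∈ P) (h : ∀ g : G, g * x * g⁻¹ ∈ P → g * x * g⁻¹ = x) : IsIsolated x := by
  intro g hc
  set y := g * x * g⁻¹ with hy
  have hxp : IsPGroup p (zpowers x) := P.2.to_le (by rw [zpowers_le]; exact hxP)
  have hyp : IsPGroup p (zpowers y) := by
    have h1 : zpowers y ≤ (zpowers x).map (MulAut.conj g).toMonoidHom := by
      rw [zpowers_le]; exact ⟨x, mem_zpowers x, by simp [hy, MulAut.conj_apply]⟩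
    exact (hxp.map _).to_le h1
  have hle : zpowers y ≤ normalizer ((zpowers x : Subgroup G) : Set G) := by
    rw [zpowers_le]
    apply Subgroup.centralizer_le_normalizer
    rw [Subgroup.mem_centralizer_iff]
    intro r hr
    obtain ⟨k, rfl⟩ := Subgroup.mem_zpowers_iff.mp hr
    exact ((hc.zpow_left k).eq)
  have hR := IsPGroup.to_sup_of_normal_right' hyp hxp hle
  obtain ⟨Q, hQ⟩ := hR.exists_le_sylow
  obtain ⟨a, ha⟩ := MulAction.exists_smul_eq G Q P
  have hmem : ∀ r ∈ zpowers y ⊔ zpowers x, a * r * a⁻¹ ∈ P := by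
    intro r hr
    have h5 : MulAut.conj a • r ∈ MulAut.conj a • (Q : Subgroup G) :=
      Subgroup.smul_mem_pointwise_smul r (MulAut.conj a) Q (hQ hr)
    rw [← ha]
    exact h5
  have h1 := h a (hmem x (mem_sup_right (mem_zpowers x)))
  have h2 : a * y * a⁻¹ ∈ P := hmem y (mem_sup_left (mem_zpowers y))
  have h3 : (a * g) * x * (a * g)⁻¹ = x := h (a * g) (by
    have e : (a * g) * x * (a * g)⁻¹ = a * y * a⁻¹ := by rw [hy]; group
    rw [e]; exact h2)
  have h4 : a * y * a⁻¹ = a * x * a⁻¹ := by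
    rw [h1, ← h3, hy]; group
  exact mul_left_cancel (mul_right_cancel h4)

/-- if every element of `Z` is central modulo the odd core, then `O(G) Z` is normal -/
theorem normal_sup_of_inZStar (Z : Subgroup G) (h : ∀ c ∈ Z, InZStar 2 c) :
    (pPrimeCore 2 G ⊔ Z).Normal := by
  have hn : (pPrimeCore 2 G).Normal := inferInstance
  have key : ∀ g : G, (pPrimeCore 2 G ⊔ Z).map (MulAut.conj g).toMonoidHom ≤ pPrimeCore 2 G ⊔ Z := by
    intro g
    rw [Subgroup.map_sup, sup_le_iff]
    constructor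
    · rintro _ ⟨n, hn1, rfl⟩
      exact Subgroup.mem_sup_left (hn.conj_mem n hn1 g)
    · rintro _ ⟨c, hc, rfl⟩
      have e : (MulAut.conj g).toMonoidHom c = (g * c * g⁻¹ * c⁻¹) * c := by
        simp [MulAut.conj_apply]
      rw [e]
      exact Subgroup.mul_mem _ (Subgroup.mem_sup_left (h c hc g)) (Subgroup.mem_sup_right hc)
  constructor
  intro n hn' g
  exact key g ⟨n, hn', rfl⟩

end

end Cfsg.Agent.Helper16.ZStarCor
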