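import Mathlib
import Cfsg.Agent.Helper16.ZStarGen
import Cfsg.Agent.Helper16.ThompsonOrder
import Cfsg.Agent.Helper18.ZStar5
import Cfsg.Agent.Helper19.Cores

set_option autoImplicit false

/-!
Simple groups with an involution whose centralizer contains at most three involutions.
-/

namespace Cfsg.Agent.Helper16.ThreeInvol

open Subgroup Cfsg
open Cfsg.Agent.Helper16.ZStarCor
open scoped Pointwise

theorem mem_of_card_le_three {α : Type*} [Finite α] (h : Nat.card α ≤ 3) (a b c d : α)
    (hab : a ≠ b) (hac : a ≠ c) (hbc : b ≠ c) : d = a ∨ d = b ∨ d = c := by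
  classical
  by_contra hcon
  push Not at hcon
  obtain ⟨h1, h2, h3⟩ := hcon
  have := Fintype.ofFinite α
  have h4 : ({a, b, c, d} : Finset α).card = 4 := by
    rw [Finset.card_insert_of_notMem, Finset.card_insert_of_notMem, Finset.card_insert_of_notMem,
      Finset.card_singleton]
    · simp only [Finset.mem_singleton]; exact fun h => h3 h.symm
    · simp only [Finset.mem_insert, Finset.mem_singleton]
      rintro (h | h)
      · exact hbc h
      · exact h2 h.symm
    · simp only [Finset.mem_insert, Finset.mem_singleton]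
      rintro (h | h | h)
      · exact hab h
      · exact hac h
      · exact h1 h.symm
  have h5 := Finset.card_le_univ ({a, b, c, d} : Finset α)
  rw [Nat.card_eq_fintype_card] at h
  omega

section
universe u
variable {G : Type u} [Group G] [Finite G]

/-- non-conjugate involutions commute with a common involution -/
theorem exists_comm_invol {u v : G} (hu : orderOf u = 2) (hv : orderOf v = 2)
    (hnc : ¬ IsConj u v) : ∃ w : G, orderOf w = 2 ∧ Commute w u ∧ Commute w v := by
  have hpos : 0 < orderOf (u * v) := orderOf_pos _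
  have heven : Even (orderOf (u * v)) := by
    by_contra hodd
    rw [Nat.not_even_iff_odd] at hodd
    obtain ⟨d, _, hd⟩ := Cfsg.Agent.S0208.result u v hu hv hodd
    exact hnc (isConj_iff.mpr ⟨d, hd⟩)
  exact ⟨_, Cfsg.Agent.Helper2.invol_half_pow (Cfsg.Agent.Helper2.mul_self_of_orderOf_two hu)
    (Cfsg.Agent.Helper2.mul_self_of_orderOf_two hv) hpos heven⟩

/-- with at most three involutions in `C(x)`: any involution of `C(x)` is one of three given
distinct ones -/
theorem three_cases (x : G)
    (h3 : Nat.card {u : ↥(centralizer ({x} : Set G)) // orderOf u = 2} ≤ 3)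
    {a b c d : G} (ha : orderOf a = 2) (hb : orderOf b = 2) (hc : orderOf c = 2)
    (hd : orderOf d = 2) (hax : a * x = x * a) (hbx : b * x = x * b) (hcx : c * x = x * c)
    (hdx : d * x = x * d) (hab : a ≠ b) (hac : a ≠ c) (hbc : b ≠ c) :
    d = a ∨ d = b ∨ d = c := by
  have mk : ∀ e : G, orderOf e = 2 → e * x = x * e →
      ∃ e' : {u : ↥(centralizer ({x} : Set G)) // orderOf u = 2}, ((e' : ↥(centralizer ({x} : Set G))) : G) = e := by
    intro e he hex
    have hmem : e ∈ centralizer ({x} : Set G) := Subgroup.mem_centralizer_singleton_iff.mpr hex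
    exact ⟨⟨⟨e, hmem⟩, by rw [Subgroup.orderOf_mk]; exact he⟩, rfl⟩
  obtain ⟨a', ha'⟩ := mk a ha hax
  obtain ⟨b', hb'⟩ := mk b hb hbx
  obtain ⟨c', hc'⟩ := mk c hc hcx
  obtain ⟨d', hd'⟩ := mk d hd hdx
  have hne : ∀ {e f : {u : ↥(centralizer ({x} : Set G)) // orderOf u = 2}},
      ((e : ↥(centralizer ({x} : Set G))) : G) ≠ ((f : ↥(centralizer ({x} : Set G))) : G) → e ≠ f := by
    intro e f h hef
    exact h (by rw [hef])
  have := mem_of_card_le_three h3 a' b' c' d' (hne (by rw [ha', hb']; exact hab))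
    (hne (by rw [ha', hc']; exact hac)) (hne (by rw [hb', hc']; exact hbc))
  rcases this with h | h | h
  · left; rw [← hd', ← ha', h]
  · right; left; rw [← hd', ← hb', h]
  · right; right; rw [← hd', ← hc', h]

omit [Finite G] in
theorem orderOf_mul_of_commute_invol {a b : G} (ha : orderOf a = 2) (hb : orderOf b = 2)
    (hab : a * b = b * a) (hne : a ≠ b) : orderOf (a * b) = 2 := by
  have ha2 := Cfsg.Agent.Helper2.mul_self_of_orderOf_two ha
  have hb2 := Cfsg.Agent.Helper2.mul_self_of_orderOf_two hb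
  apply orderOf_eq_prime
  · rw [pow_two]
    calc a * b * (a * b) = a * (b * a) * b := by group
      _ = a * (a * b) * b := by rw [hab]
      _ = (a * a) * (b * b) := by group
      _ = 1 := by rw [ha2, hb2, one_mul]
  · intro h
    apply hne
    have : a = b⁻¹ := eq_inv_of_mul_eq_one_left h
    rw [this]
    exact inv_eq_of_mul_eq_one_left hb2

/-- in a non-abelian simple group of even order no involution is isolated -/
theorem not_isolated_of_simple [IsSimpleGroup G] (hna : ¬ ∀ a b : G, a * b = b * a)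
    (y : G) (hy : orderOf y = 2) : ¬ IsIsolated y := by
  intro hiso
  have hz := Cfsg.Agent.Helper18.ZS.zstar y ⟨hy, hiso⟩
  have hn : (pPrimeCore 2 G).Normal := inferInstance
  have hcop := Cfsg.Agent.Helper19.pPrimeCore_coprime (G := G) 2
  have hbot : pPrimeCore 2 G = ⊥ := by
    rcases IsSimpleGroup.eq_bot_or_eq_top_of_normal _ hn with h | h
    · exact h
    · exfalso
      rw [h, Subgroup.card_top] at hcop
      have h2 : 2 ∣ Nat.card G := by rw [← hy]; exact orderOf_dvd_natCard y
      have := Nat.Coprime.eq_one_of_dvd hcop.symm h2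
      omega
  have hyc : y ∈ center G := by
    rw [Subgroup.mem_center_iff]
    intro g
    have h1 := hz g
    rw [hbot, Subgroup.mem_bot] at h1
    calc g * y = (g * y * g⁻¹ * y⁻¹) * (y * g) := by group
      _ = y * g := by rw [h1, one_mul]
  rcases IsSimpleGroup.eq_bot_or_eq_top_of_normal (center G) inferInstance with h | h
  · rw [h, Subgroup.mem_bot] at hyc
    rw [hyc, orderOf_one] at hy
    omega
  · apply hna
    intro a b
    have : a ∈ center G := by rw [h]; exact Subgroup.mem_top a
    exact (Subgroup.mem_center_iff.mp this b).symm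

/-- `x` is 2-central -/
theorem two_central [IsSimpleGroup G] (hna : ¬ ∀ a b : G, a * b = b * a) (x : G)
    (hx : orderOf x = 2)
    (h3 : Nat.card {u : ↥(centralizer ({x} : Set G)) // orderOf u = 2} ≤ 3) :
    ∃ S : Sylow 2 G, (S : Subgroup G) ≤ centralizer ({x} : Set G) := by
  have : Fact (Nat.Prime 2) := ⟨Nat.prime_two⟩
  by_contra hno
  push Not at hno
  -- a Sylow 2-subgroup containing x
  have hxp : IsPGroup 2 (zpowers x) := by
    apply IsPGroup.of_card (n := 1)
    rw [Nat.card_zpowers, hx, pow_one]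
  obtain ⟨T, hT⟩ := hxp.exists_le_sylow
  have hxT : x ∈ (T : Subgroup G) := hT (mem_zpowers x)
  have hTnot := hno T
  -- a central involution z of T
  have hTnt : Nontrivial (T : Subgroup G) := by
    refine ⟨⟨⟨x, hxT⟩, 1, ?_⟩⟩
    intro h
    have : x = 1 := congrArg Subtype.val h
    rw [this, orderOf_one] at hx
    omega
  have hcnt := IsPGroup.center_nontrivial T.2
  obtain ⟨z₀, hz₀⟩ := exists_ne (1 : center (T : Subgroup G))
  have hzp : IsPGroup 2 (center (T : Subgroup G)) := T.2.to_subgroup _
  obtain ⟨k, hk⟩ := (IsPGroup.iff_orderOf.mp hzp) z₀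
  have hkpos : 0 < k := by
    rcases Nat.eq_zero_or_pos k with rfl | h
    · exfalso; rw [pow_zero, orderOf_eq_one_iff] at hk; exact hz₀ hk
    · exact h
  obtain ⟨k', rfl⟩ : ∃ k', k = k' + 1 := ⟨k - 1, by omega⟩
  obtain ⟨z₁, hz₁def⟩ : ∃ z₁ : center (T : Subgroup G), z₁ = z₀ ^ (2 ^ k') := ⟨_, rfl⟩
  have hz₁ : orderOf z₁ = 2 := by
    rw [hz₁def, orderOf_pow' _ (by positivity), hk,
      Nat.gcd_eq_right (pow_dvd_pow 2 (Nat.le_succ k')), pow_succ,
      Nat.mul_div_cancel_left _ (by positivity)]
  obtain ⟨z, hzdef⟩ : ∃ z : G, z = ((z₁ : (T : Subgroup G)) : G) := ⟨_, rfl⟩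
  have hz : orderOf z = 2 := by rw [hzdef, Subgroup.orderOf_coe, Subgroup.orderOf_coe]; exact hz₁
  have hzT : z ∈ (T : Subgroup G) := by rw [hzdef]; exact (z₁ : (T : Subgroup G)).2
  have hzc : ∀ t ∈ (T : Subgroup G), t * z = z * t := by
    intro t ht
    have := Subgroup.mem_center_iff.mp z₁.2 ⟨t, ht⟩
    rw [hzdef]
    exact congrArg Subtype.val this
  have hzx : z * x = x * z := (hzc x hxT).symm
  have hxx : x * x = x * x := rfl
  -- z ≠ x
  have hzne : z ≠ x := by
    intro h
    apply hTnot
    intro t ht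
    rw [Subgroup.mem_centralizer_singleton_iff, ← h]
    exact hzc t ht
  have hxz : orderOf (x * z) = 2 := orderOf_mul_of_commute_invol hx hz hzx.symm hzne.symm
  have hxzx : (x * z) * x = x * (x * z) := by rw [mul_assoc, hzx]
  have hx1 : x ≠ 1 := fun h => by rw [h, orderOf_one] at hx; omega
  have hz1 : z ≠ 1 := fun h => by rw [h, orderOf_one] at hz; omega
  have hne1 : x ≠ x * z := fun h => hz1 (by
    have := mul_left_cancel (a := x) (b := 1) (c := z) (by rw [mul_one]; exact h)
    exact this.symm)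
  have hne2 : z ≠ x * z := fun h => hx1 (by
    have : 1 * z = x * z := by rw [one_mul]; exact h
    exact (mul_right_cancel this).symm)
  have cases3 : ∀ d : G, orderOf d = 2 → d * x = x * d → d = x ∨ d = z ∨ d = x * z :=
    fun d hd hdx => three_cases x h3 hx hz hxz hd rfl hzx hxzx hdx hzne.symm hne1 hne2
  -- an element g of T moving x to x z
  obtain ⟨g, hgT, hgx⟩ : ∃ g ∈ (T : Subgroup G), g * x * g⁻¹ = x * z := by
    have hnil : Group.IsNilpotent (T : Subgroup G) := T.2.isNilpotent
    have hnc := Group.normalizerCondition_of_isNilpotent (G := (T : Subgroup G))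
    obtain ⟨S, hSdef⟩ : ∃ S : Subgroup (T : Subgroup G),
        S = (centralizer ({x} : Set G)).subgroupOf (T : Subgroup G) := ⟨_, rfl⟩
    have hSlt : S < ⊤ := by
      rw [lt_top_iff_ne_top]
      intro h
      apply hTnot
      intro t ht
      have : (⟨t, ht⟩ : (T : Subgroup G)) ∈ S := by rw [h]; exact Subgroup.mem_top _
      rw [hSdef] at this
      exact Subgroup.mem_subgroupOf.mp this
    have h1 := hnc S hSlt
    obtain ⟨g, hgN, hgS⟩ := SetLike.exists_of_lt h1
    refine ⟨g, g.2, ?_⟩
    have hxS : (⟨x, hxT⟩ : (T : Subgroup G)) ∈ S := by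
      rw [hSdef, Subgroup.mem_subgroupOf, Subgroup.mem_centralizer_singleton_iff]
    have h2 : g * ⟨x, hxT⟩ * g⁻¹ ∈ S := (Subgroup.mem_normalizer_iff.mp hgN _).mp hxS
    rw [hSdef, Subgroup.mem_subgroupOf, Subgroup.mem_centralizer_singleton_iff] at h2
    have hord : orderOf ((g : G) * x * (g : G)⁻¹) = 2 := by
      have : (g : G) * x * (g : G)⁻¹ = MulAut.conj (g : G) x := by simp [MulAut.conj_apply]
      rw [this, MulEquiv.orderOf_eq]; exact hx
    have h2' : ((g : G) * x * (g : G)⁻¹) * x = x * ((g : G) * x * (g : G)⁻¹) := h2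
    rcases cases3 _ hord h2' with h | h | h
    · exfalso
      apply hgS
      rw [hSdef, Subgroup.mem_subgroupOf, Subgroup.mem_centralizer_singleton_iff]
      calc (g : G) * x = ((g : G) * x * (g : G)⁻¹) * g := by group
        _ = x * g := by rw [h]
    · exfalso
      apply hzne
      have h4 : (g : G) * z * (g : G)⁻¹ = z := by
        rw [hzc g g.2]; group
      have : (g : G) * x * (g : G)⁻¹ = (g : G) * z * (g : G)⁻¹ := by rw [h, h4]
      exact (mul_left_cancel (mul_right_cancel this)).symm
    · exact h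
  -- x is not conjugate to z
  have hncxz : ∀ h : G, h * z * h⁻¹ ≠ x := by
    intro h hh
    apply hno (h • T)
    intro t ht
    rw [Sylow.smul_def, Sylow.pointwise_smul_def, Subgroup.mem_pointwise_smul_iff_inv_smul_mem,
      ← map_inv, MulAut.smul_def, MulAut.conj_apply, inv_inv] at ht
    rw [Subgroup.mem_centralizer_singleton_iff, ← hh]
    have := hzc _ ht
    calc t * (h * z * h⁻¹) = h * ((h⁻¹ * t * h) * z) * h⁻¹ := by group
      _ = h * (z * (h⁻¹ * t * h)) * h⁻¹ := by rw [this]
      _ = h * z * h⁻¹ * t := by group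
  -- every conjugate of z commutes with z
  have hgz : g * z * g⁻¹ = z := by rw [hzc g hgT]; group
  have key : ∀ a : G, (a * z * a⁻¹) * z = z * (a * z * a⁻¹) := by
    intro a
    set v := a * z * a⁻¹ with hv
    have hvo : orderOf v = 2 := by
      have : v = MulAut.conj a z := by simp [hv, MulAut.conj_apply]
      rw [this, MulEquiv.orderOf_eq]; exact hz
    -- a conjugate of z commuting with x equals z
    have only : ∀ b : G, (b * z * b⁻¹) * x = x * (b * z * b⁻¹) → b * z * b⁻¹ = z := by
      intro b hb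
      have hbo : orderOf (b * z * b⁻¹) = 2 := by
        have : b * z * b⁻¹ = MulAut.conj b z := by simp [MulAut.conj_apply]
        rw [this, MulEquiv.orderOf_eq]; exact hz
      rcases cases3 _ hbo hb with h | h | h
      · exact absurd h (hncxz b)
      · exact h
      · exfalso
        apply hncxz (g⁻¹ * b)
        have : (g⁻¹ * b) * z * (g⁻¹ * b)⁻¹ = g⁻¹ * (b * z * b⁻¹) * g := by group
        rw [this, h, ← hgx]; group
    have hnc : ¬ IsConj x v := by
      intro hc
      obtain ⟨d, hd⟩ := isConj_iff.mp hc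
      apply hncxz (d⁻¹ * a)
      have : (d⁻¹ * a) * z * (d⁻¹ * a)⁻¹ = d⁻¹ * v * d := by rw [hv]; group
      rw [this, ← hd]; group
    obtain ⟨w, hwo, hwx, hwv⟩ := exists_comm_invol hx hvo hnc
    rcases cases3 w hwo hwx.eq with h | h | h
    · -- w = x : v commutes with x
      rw [h] at hwv
      have := only a hwv.eq.symm
      rw [← hv] at this
      rw [this]
    · rw [h] at hwv
      exact hwv.eq.symm
    · -- w = x z : conjugate by g
      rw [h] at hwv
      have h5 : (g⁻¹ * a) * z * (g⁻¹ * a)⁻¹ = z := by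
        apply only
        have e1 : (g⁻¹ * a) * z * (g⁻¹ * a)⁻¹ = g⁻¹ * v * g := by rw [hv]; group
        have e2 : x = g⁻¹ * (x * z) * g := by rw [← hgx]; group
        rw [e1]
        conv_lhs => rw [e2]
        conv_rhs => rw [e2]
        have := hwv.eq
        calc g⁻¹ * v * g * (g⁻¹ * (x * z) * g) = g⁻¹ * (v * (x * z)) * g := by group
          _ = g⁻¹ * ((x * z) * v) * g := by rw [this]
          _ = g⁻¹ * (x * z) * g * (g⁻¹ * v * g) := by group
      have h6 : v = g * z * g⁻¹ := by
        have e1 : (g⁻¹ * a) * z * (g⁻¹ * a)⁻¹ = g⁻¹ * v * g := by rw [hv]; group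
        rw [e1] at h5
        rw [← h5]; group
      rw [h6, hgz]
  -- the normal closure of z is abelian
  apply hna
  have hN : normalClosure ({z} : Set G) = ⊤ := by
    rcases IsSimpleGroup.eq_bot_or_eq_top_of_normal _ (Subgroup.normalClosure_normal (s := ({z} : Set G))) with h | h
    · exfalso
      have : z ∈ normalClosure ({z} : Set G) := Subgroup.subset_normalClosure rfl
      rw [h, Subgroup.mem_bot] at this
      exact hz1 this
    · exact h
  have hcomm : IsMulCommutative (closure (Group.conjugatesOfSet ({z} : Set G))) := by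
    apply Subgroup.isMulCommutative_closure
    intro p hp q hq
    rw [Group.mem_conjugatesOfSet_iff] at hp hq
    obtain ⟨z', hz', hp⟩ := hp
    obtain ⟨z'', hz'', hq⟩ := hq
    rw [Set.mem_singleton_iff] at hz' hz''
    rw [hz'] at hp
    rw [hz''] at hq
    obtain ⟨a, rfl⟩ := isConj_iff.mp hp
    obtain ⟨b, rfl⟩ := isConj_iff.mp hq
    have := key (a⁻¹ * b)
    have e : (a⁻¹ * b) * z * (a⁻¹ * b)⁻¹ = a⁻¹ * (b * z * b⁻¹) * a := by group
    rw [e] at this
    calc a * z * a⁻¹ * (b * z * b⁻¹) = a * (z * (a⁻¹ * (b * z * b⁻¹) * a)) * a⁻¹ := by group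
      _ = a * ((a⁻¹ * (b * z * b⁻¹) * a) * z) * a⁻¹ := by rw [this]
      _ = b * z * b⁻¹ * (a * z * a⁻¹) := by group
  intro a b
  have ha : a ∈ closure (Group.conjugatesOfSet ({z} : Set G)) := by
    have : a ∈ normalClosure ({z} : Set G) := by rw [hN]; exact Subgroup.mem_top a
    exact this
  have hb : b ∈ closure (Group.conjugatesOfSet ({z} : Set G)) := by
    have : b ∈ normalClosure ({z} : Set G) := by rw [hN]; exact Subgroup.mem_top b
    exact this
  have := hcomm.is_comm.comm (⟨a, ha⟩ : closure (Group.conjugatesOfSet ({z} : Set G))) ⟨b, hb⟩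
  exact congrArg Subtype.val this

omit [Finite G] in
theorem orderOf_conj (a b : G) : orderOf (a * b * a⁻¹) = orderOf b := by
  have : a * b * a⁻¹ = MulAut.conj a b := by simp [MulAut.conj_apply]
  rw [this, MulEquiv.orderOf_eq]

/-- all involutions are conjugate to the 2-central involution `x` -/
theorem one_class [IsSimpleGroup G] (hna : ¬ ∀ a b : G, a * b = b * a) (x : G)
    (hx : orderOf x = 2)
    (h3 : Nat.card {u : ↥(centralizer ({x} : Set G)) // orderOf u = 2} ≤ 3)
    (T : Sylow 2 G) (hT : (T : Subgroup G) ≤ centralizer ({x} : Set G))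
    (u : G) (hu : orderOf u = 2) : IsConj x u := by
  have : Fact (Nat.Prime 2) := ⟨Nat.prime_two⟩
  by_contra hnc
  -- x is not isolated
  have hni := not_isolated_of_simple hna x hx
  unfold IsIsolated at hni
  push Not at hni
  obtain ⟨g₀, hcomm, hne⟩ := hni
  set y₁ := g₀ * x * g₀⁻¹ with hy₁
  have hy₁o : orderOf y₁ = 2 := by rw [hy₁, orderOf_conj]; exact hx
  have hy₁x : y₁ * x = x * y₁ := hcomm.eq.symm
  have hyo : orderOf (x * y₁) = 2 := orderOf_mul_of_commute_invol hx hy₁o hcomm.eq (Ne.symm hne)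
  have hyx : (x * y₁) * x = x * (x * y₁) := by rw [mul_assoc, hy₁x]
  have hx1 : x ≠ 1 := fun h => by rw [h, orderOf_one] at hx; omega
  have hy1 : y₁ ≠ 1 := fun h => by rw [h, orderOf_one] at hy₁o; omega
  have hne1 : x ≠ x * y₁ := fun h => hy1 (by
    have := mul_left_cancel (a := x) (b := 1) (c := y₁) (by rw [mul_one]; exact h)
    exact this.symm)
  have hne2 : y₁ ≠ x * y₁ := fun h => hx1 (by
    have : 1 * y₁ = x * y₁ := by rw [one_mul]; exact h
    exact (mul_right_cancel this).symm)
  have cases3 : ∀ d : G, orderOf d = 2 → d * x = x * d → d = x ∨ d = y₁ ∨ d = x * y₁ :=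
    fun d hd hdx => three_cases x h3 hx hy₁o hyo hd rfl hy₁x hyx hdx (Ne.symm hne) hne1 hne2
  have hxy₁ : IsConj x y₁ := isConj_iff.mpr ⟨g₀, rfl⟩
  -- an involution of T not conjugate to x is x y₁
  have hT3 : ∀ d : G, orderOf d = 2 → d ∈ (T : Subgroup G) → ¬ IsConj x d → d = x * y₁ := by
    intro d hd hdT hdn
    have hdx : d * x = x * d := by
      have := hT hdT
      rwa [Subgroup.mem_centralizer_singleton_iff] at this
    rcases cases3 d hd hdx with h | h | h
    · exfalso; apply hdn; rw [h]
    · exfalso; apply hdn; rw [h]; exact hxy₁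
    · exact h
  -- conjugate u into T
  have hup : IsPGroup 2 (zpowers u) := by
    apply IsPGroup.of_card (n := 1)
    rw [Nat.card_zpowers, hu, pow_one]
  obtain ⟨Q, hQ⟩ := hup.exists_le_sylow
  obtain ⟨a, ha⟩ := MulAction.exists_smul_eq G Q T
  have huT : a * u * a⁻¹ ∈ (T : Subgroup G) := by
    have h5 : MulAut.conj a • u ∈ MulAut.conj a • (Q : Subgroup G) :=
      Subgroup.smul_mem_pointwise_smul u (MulAut.conj a) Q (hQ (mem_zpowers u))
    rw [← ha]
    exact h5
  have hu'n : ¬ IsConj x (a * u * a⁻¹) := by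
    intro hc
    apply hnc
    exact hc.trans (isConj_iff.mpr ⟨a⁻¹, by group⟩)
  have hy := hT3 _ (by rw [orderOf_conj]; exact hu) huT hu'n
  have hyT : x * y₁ ∈ (T : Subgroup G) := by rw [← hy]; exact huT
  have hyn : ¬ IsConj x (x * y₁) := by rw [← hy]; exact hu'n
  -- x y₁ is isolated
  apply not_isolated_of_simple hna (x * y₁) hyo
  apply isolated_of_sylow_gen T hyT
  intro g hg
  apply hT3 _ (by rw [orderOf_conj]; exact hyo) hg
  intro hc
  apply hyn
  exact hc.trans (isConj_iff.mpr ⟨g⁻¹, by group⟩)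

/-- the abelian case -/
theorem abelian_case [IsSimpleGroup G] (hab : ∀ a b : G, a * b = b * a) (u v : G)
    (hu : orderOf u = 2) (hv : orderOf v = 2) : u = v := by
  have hn : (zpowers u).Normal := by
    constructor
    intro n hn g
    have : g * n * g⁻¹ = n := by rw [hab g n]; group
    rw [this]; exact hn
  rcases IsSimpleGroup.eq_bot_or_eq_top_of_normal _ hn with h | h
  · exfalso
    have : u ∈ zpowers u := mem_zpowers u
    rw [h, Subgroup.mem_bot] at this
    rw [this, orderOf_one] at hu
    omega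
  · have hvm : v ∈ zpowers u := by rw [h]; exact Subgroup.mem_top v
    have h1 := Cfsg.Agent.Helper16.invol_in_zpowers hv hvm
    rw [hu] at h1
    have h2 : v = u := by simpa using h1
    exact h2.symm

theorem main [IsSimpleGroup G] (x : G) (hx : orderOf x = 2)
    (h3 : Nat.card {u : ↥(centralizer ({x} : Set G)) // orderOf u = 2} ≤ 3) :
    (∃ S : Sylow 2 G, (S : Subgroup G) ≤ centralizer ({x} : Set G)) ∧
      ∀ u v : G, orderOf u = 2 → orderOf v = 2 → IsConj u v := by
  have : Fact (Nat.Prime 2) := ⟨Nat.prime_two⟩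
  by_cases hab : ∀ a b : G, a * b = b * a
  · refine ⟨⟨default, ?_⟩, ?_⟩
    · intro t _
      rw [Subgroup.mem_centralizer_singleton_iff]
      exact hab t x
    · intro u v hu hv
      rw [abelian_case hab u v hu hv]
  · obtain ⟨T, hT⟩ := two_central hab x hx h3
    refine ⟨⟨T, hT⟩, ?_⟩
    intro u v hu hv
    exact (one_class hab x hx h3 T hT u hu).symm.trans (one_class hab x hx h3 T hT v hv)

end

end Cfsg.Agent.Helper16.ThreeInvol
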