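import Mathlib

set_option autoImplicit false

/-! Piece JOR of the Wielandt 2p drive (S0720): an element of order `p` with a fixed point
makes a primitive group of degree `2p` doubly transitive (Jordan). -/

namespace Cfsg.Agent.Helper16.W2p

open MulAction Equiv

theorem two_trans_of_fixed_point {α : Type*} [Fintype α] [DecidableEq α] {p : ℕ} (hp : p.Prime)
    (hα : Fintype.card α = 2 * p) (G : Subgroup (Equiv.Perm α)) (hG : IsPreprimitive G α)
    (g : Equiv.Perm α) (hg : g ∈ G) (hord : orderOf g = p) (x : α) (hx : g x = x) :
    IsMultiplyPretransitive G α 2 := by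
  have hp' : (orderOf g).Prime := by rw [hord]; exact hp
  obtain ⟨n, hn⟩ := Equiv.Perm.cycleType_prime_order hp'
  rw [hord] at hn
  have hsum : g.support.card = (n + 1) * p := by
    rw [← Equiv.Perm.sum_cycleType, hn, Multiset.sum_replicate, smul_eq_mul]
  have hxs : x ∉ g.support := by
    rw [Equiv.Perm.mem_support]; exact fun h => h hx
  have hlt : g.support.card < 2 * p := by
    rw [← hα]
    apply Finset.card_lt_univ_of_notMem hxs
  have hn0 : n = 0 := by
    rw [hsum] at hlt
    have hp0 : 0 < p := hp.pos
    by_contra hne
    have : 2 ≤ n + 1 := by omega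
    have : 2 * p ≤ (n + 1) * p := Nat.mul_le_mul_right p this
    omega
  subst hn0
  have hcyc : g.IsCycle := by
    rw [← Equiv.Perm.card_cycleType_eq_one, hn]
    simp
  have hcard : g.support.card = p := by rw [hsum]; simp
  have hs_trans := Equiv.Perm.isPretransitive_of_isCycle_mem hcyc hg
  have hsn : Set.ncard ((g.support : Set α)ᶜ) = (p - 1) + 1 := by
    have h1 := Set.ncard_add_ncard_compl (g.support : Set α)
    rw [Set.ncard_coe_finset, hcard, Nat.card_eq_fintype_card, hα] at h1
    have hp0 : 0 < p := hp.pos
    omega
  have hsn' : (p - 1) + 2 < Nat.card α := by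
    rw [Nat.card_eq_fintype_card, hα]
    have := hp.two_le
    omega
  exact hG.is_two_pretransitive hsn hsn' hs_trans

end Cfsg.Agent.Helper16.W2p
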