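import Mathlib

set_option autoImplicit false

/-! Piece SYL of the Wielandt 2p drive (S0720): if the elements of order `p` are fixed-point-free,
Sylow `p`-subgroups have order `p` and all `p`-singular elements are fixed-point-free. -/

namespace Cfsg.Agent.Helper16.W2p

open MulAction Equiv

theorem sylow_card_eq {α : Type*} [Fintype α] [DecidableEq α] {p : ℕ} [Fact p.Prime]
    (hp2 : p ≠ 2) (hα : Fintype.card α = 2 * p) (G : Subgroup (Equiv.Perm α))
    (hG : IsPretransitive G α)
    (hfpf : ∀ g ∈ G, orderOf g = p → ∀ x : α, g x ≠ x) :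
    (∀ P : Sylow p G, Nat.card P = p) ∧
    (∀ g : G, p ∣ orderOf g → ∀ x : α, g • x ≠ x) := by
  have hp : p.Prime := Fact.out
  have hp0 : 0 < p := hp.pos
  -- (2)
  have h2 : ∀ g : G, p ∣ orderOf g → ∀ x : α, g • x ≠ x := by
    intro g hdvd x hx
    set k := orderOf g / p with hk
    have hog : 0 < orderOf g := orderOf_pos g
    have hkdvd : k ∣ orderOf g := Nat.div_dvd_of_dvd hdvd
    have hk0 : k ≠ 0 := by
      intro h0
      rw [h0] at hkdvd
      have := Nat.eq_zero_of_zero_dvd hkdvd
      omega
    have hord : orderOf (g ^ k) = p := by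
      rw [orderOf_pow_of_dvd hk0 hkdvd, hk, Nat.div_div_self hdvd hog.ne']
    have hord' : orderOf ((g ^ k : G) : Equiv.Perm α) = p := by
      rw [← hord]
      exact (Subgroup.orderOf_coe (g ^ k))
    have hfix : ((g ^ k : G) : Equiv.Perm α) x = x := by
      have : (g ^ k) • x = x := by
        have hstab : g ∈ stabilizer G x := hx
        exact (stabilizer G x).pow_mem hstab k
      exact this
    exact hfpf _ (g ^ k).2 hord' x hfix
  refine ⟨?_, h2⟩
  intro P
  have : Nonempty α := by
    apply Fintype.card_pos_iff.mp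
    rw [hα]; omega
  obtain ⟨x⟩ := ‹Nonempty α›
  -- the orbit map of `P` is injective
  have hinj : Function.Injective (fun g : P => (g : G) • x) := by
    intro g g' hgg'
    have hfix : ((g'⁻¹ * g : P) : G) • x = x := by
      show ((g' : G)⁻¹ * (g : G)) • x = x
      rw [mul_smul]
      have : (g : G) • x = (g' : G) • x := hgg'
      rw [this, inv_smul_smul]
    by_contra hne
    have hne1 : (g'⁻¹ * g : P) ≠ 1 := by
      intro h1
      apply hne
      have := inv_mul_eq_one.mp h1
      exact this.symm
    -- its order is a nontrivial power of p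
    obtain ⟨j, hj⟩ := (P.isPGroup') (g'⁻¹ * g)
    have hord : orderOf (g'⁻¹ * g : P) ∣ p ^ j := orderOf_dvd_of_pow_eq_one hj
    obtain ⟨i, _, hi⟩ := (Nat.dvd_prime_pow hp).1 hord
    have hi0 : i ≠ 0 := by
      intro h0
      rw [h0, pow_zero, orderOf_eq_one_iff] at hi
      exact hne1 hi
    have hdvd : p ∣ orderOf ((g'⁻¹ * g : P) : G) := by
      rw [Subgroup.orderOf_coe, hi]
      exact dvd_pow_self p hi0
    exact h2 _ hdvd x hfix
  have hle : Nat.card P ≤ 2 * p := by
    rw [← hα, ← Nat.card_eq_fintype_card]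
    exact Nat.card_le_card_of_injective _ hinj
  -- p divides |G|
  have hdvdG : p ∣ Nat.card G := by
    have h1 : (stabilizer G x).index = Nat.card α := MulAction.index_stabilizer_of_transitive G x
    have h3 : (stabilizer G x).index ∣ Nat.card G := Subgroup.index_dvd_card _
    rw [h1, Nat.card_eq_fintype_card, hα] at h3
    exact dvd_trans (Dvd.intro_left 2 rfl) h3
  have hcard := P.card_eq_multiplicity
  have hfac : 1 ≤ (Nat.card G).factorization p := by
    have hGpos : Nat.card G ≠ 0 := Nat.card_pos.ne'
    exact (hp.dvd_iff_one_le_factorization hGpos).1 hdvdG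
  set k := (Nat.card G).factorization p with hk
  rw [hcard] at hle ⊢
  -- p ^ k ≤ 2 p with p ≥ 3 gives k ≤ 1
  have hp3 : 3 ≤ p := by
    have := hp.two_le
    omega
  have hk1 : k ≤ 1 := by
    by_contra hgt
    push Not at hgt
    have : p ^ 2 ≤ p ^ k := Nat.pow_le_pow_right hp0 hgt
    have h9 : 3 * p ≤ p ^ 2 := by rw [pow_two]; exact Nat.mul_le_mul_right p hp3
    omega
  have : k = 1 := le_antisymm hk1 hfac
  rw [this, pow_one]

end Cfsg.Agent.Helper16.W2p
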