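import Mathlib

/-!
Metacyclic presentation `⟨x, y | x^n, y^m, x⁻¹ y x = y^r⟩`: the presented group has at most `n m`
elements, and a group of order `n m` generated by two such elements is isomorphic to it.
-/

set_option autoImplicit false

namespace Cfsg.Agent.Helper16.ZPres

/-- the relation set of the metacyclic presentation -/
def rels (n m r : ℕ) : Set (FreeGroup (Fin 2)) :=
  {FreeGroup.of (0 : Fin 2) ^ n, FreeGroup.of (1 : Fin 2) ^ m,
    (FreeGroup.of (0 : Fin 2))⁻¹ * FreeGroup.of 1 * FreeGroup.of 0 *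
      (FreeGroup.of (1 : Fin 2) ^ r)⁻¹}

section abstract

variable {P : Type*} [Group P] {X Y : P} {n m r : ℕ}

theorem mul_pow_semiconj (hXY : X⁻¹ * Y * X = Y ^ r) (a : ℕ) :
    Y * X ^ a = X ^ a * Y ^ (r ^ a) := by
  induction a with
  | zero => simp
  | succ a ih =>
    rw [pow_succ X, ← mul_assoc, ih, pow_succ' r, pow_mul, ← hXY]
    have : (X⁻¹ * Y * X) ^ (r ^ a) = X⁻¹ * Y ^ (r ^ a) * X := by
      rw [show X⁻¹ * Y * X = X⁻¹ * Y * X⁻¹⁻¹ by rw [inv_inv], conj_pow, inv_inv]
    rw [this]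
    group

theorem pow_mul_pow_semiconj (hXY : X⁻¹ * Y * X = Y ^ r) (a c : ℕ) :
    Y ^ c * X ^ a = X ^ a * Y ^ (r ^ a * c) := by
  have h : SemiconjBy (X ^ a) (Y ^ (r ^ a)) Y := (mul_pow_semiconj hXY a).symm
  have := (h.pow_right c).eq
  rw [pow_mul]
  exact this.symm

theorem mem_normal_form (hn : 0 < n) (hm : 0 < m) (hX : X ^ n = 1) (hY : Y ^ m = 1)
    (hXY : X⁻¹ * Y * X = Y ^ r) (g : P) (hg : g ∈ Subgroup.closure ({X, Y} : Set P)) :
    ∃ a b : ℕ, g = X ^ a * Y ^ b := by
  induction hg using Subgroup.closure_induction_left with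
  | one => exact ⟨0, 0, by simp⟩
  | mul_left x hx y hy ih =>
    obtain ⟨a, b, rfl⟩ := ih
    rcases hx with rfl | rfl
    · exact ⟨a + 1, b, by rw [pow_succ']; group⟩
    · refine ⟨a, r ^ a + b, ?_⟩
      rw [← mul_assoc, mul_pow_semiconj hXY, mul_assoc, ← pow_add]
  | inv_mul_cancel x hx y hy ih =>
    obtain ⟨a, b, rfl⟩ := ih
    rcases hx with rfl | rfl
    · refine ⟨(n - 1) + a, b, ?_⟩
      have : x⁻¹ = x ^ (n - 1) := by
        rw [inv_eq_iff_mul_eq_one, ← pow_succ', Nat.sub_add_cancel hn, hX]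
      rw [this, pow_add, mul_assoc]
    · refine ⟨a, r ^ a * (m - 1) + b, ?_⟩
      have : x⁻¹ = x ^ (m - 1) := by
        rw [inv_eq_iff_mul_eq_one, ← pow_succ', Nat.sub_add_cancel hm, hY]
      rw [this, ← mul_assoc, pow_mul_pow_semiconj hXY, mul_assoc, ← pow_add]

theorem card_le_of_normal_form (hn : 0 < n) (hm : 0 < m) (hX : X ^ n = 1) (hY : Y ^ m = 1)
    (hXY : X⁻¹ * Y * X = Y ^ r) (hgen : Subgroup.closure ({X, Y} : Set P) = ⊤) :
    Finite P ∧ Nat.card P ≤ n * m := by
  have : NeZero n := ⟨hn.ne'⟩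
  have : NeZero m := ⟨hm.ne'⟩
  let ψ : Fin n × Fin m → P := fun ab => X ^ (ab.1 : ℕ) * Y ^ (ab.2 : ℕ)
  have hψ : Function.Surjective ψ := by
    intro g
    obtain ⟨a, b, rfl⟩ := mem_normal_form hn hm hX hY hXY g (by rw [hgen]; trivial)
    refine ⟨(⟨a % n, Nat.mod_lt _ hn⟩, ⟨b % m, Nat.mod_lt _ hm⟩), ?_⟩
    change X ^ (a % n) * Y ^ (b % m) = _
    rw [← pow_eq_pow_mod _ hX, ← pow_eq_pow_mod _ hY]
  have hfin : Finite P := Finite.of_surjective ψ hψ
  refine ⟨hfin, ?_⟩
  have := Nat.card_le_card_of_surjective ψ hψ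
  simpa [Nat.card_prod] using this

end abstract


section pres

variable {n m r : ℕ}

theorem of_zero_pow : (PresentedGroup.of (0 : Fin 2) : PresentedGroup (rels n m r)) ^ n = 1 := by
  have : FreeGroup.of (0 : Fin 2) ^ n ∈ rels n m r := by simp [rels]
  have h := PresentedGroup.one_of_mem this
  rwa [map_pow] at h

theorem of_one_pow : (PresentedGroup.of (1 : Fin 2) : PresentedGroup (rels n m r)) ^ m = 1 := by
  have : FreeGroup.of (1 : Fin 2) ^ m ∈ rels n m r := by simp [rels]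
  have h := PresentedGroup.one_of_mem this
  rwa [map_pow] at h

theorem of_conj : (PresentedGroup.of (0 : Fin 2) : PresentedGroup (rels n m r))⁻¹ *
    PresentedGroup.of 1 * PresentedGroup.of 0 = PresentedGroup.of 1 ^ r := by
  have : (FreeGroup.of (0 : Fin 2))⁻¹ * FreeGroup.of 1 * FreeGroup.of 0 *
      (FreeGroup.of (1 : Fin 2) ^ r)⁻¹ ∈ rels n m r := by simp [rels]
  have h := PresentedGroup.one_of_mem this
  rw [map_mul, map_inv, map_pow, mul_inv_eq_one, map_mul, map_mul, map_inv] at h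
  exact h

theorem closure_of_pair :
    Subgroup.closure ({PresentedGroup.of (0 : Fin 2), PresentedGroup.of (1 : Fin 2)} :
      Set (PresentedGroup (rels n m r))) = ⊤ := by
  rw [← PresentedGroup.closure_range_of]
  congr 1
  ext g
  simp only [Set.mem_insert_iff, Set.mem_singleton_iff, Set.mem_range]
  constructor
  · rintro (rfl | rfl)
    · exact ⟨0, rfl⟩
    · exact ⟨1, rfl⟩
  · rintro ⟨i, rfl⟩
    fin_cases i
    · left; rfl
    · right; rfl

theorem finite_and_card_le (hn : 0 < n) (hm : 0 < m) :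
    Finite (PresentedGroup (rels n m r)) ∧ Nat.card (PresentedGroup (rels n m r)) ≤ n * m :=
  card_le_of_normal_form hn hm of_zero_pow of_one_pow of_conj closure_of_pair

theorem exists_mulEquiv {G : Type*} [Group G] [Finite G] {x y : G}
    (hn : 0 < n) (hm : 0 < m) (hx : x ^ n = 1) (hy : y ^ m = 1) (hxy : x⁻¹ * y * x = y ^ r)
    (hgen : Subgroup.closure ({x, y} : Set G) = ⊤) (hcard : Nat.card G = n * m) :
    ∃ e : G ≃* PresentedGroup (rels n m r), e x = PresentedGroup.of 0 ∧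
      e y = PresentedGroup.of 1 := by
  have hrel : ∀ w ∈ rels n m r, FreeGroup.lift ![x, y] w = 1 := by
    intro w hw
    simp only [rels, Set.mem_insert_iff, Set.mem_singleton_iff] at hw
    rcases hw with rfl | rfl | rfl
    · simp [hx]
    · simp [hy]
    · simp [hxy]
  let φ : PresentedGroup (rels n m r) →* G := PresentedGroup.toGroup hrel
  have hφ0 : φ (PresentedGroup.of 0) = x := by
    rw [PresentedGroup.toGroup.of]; rfl
  have hφ1 : φ (PresentedGroup.of 1) = y := by
    rw [PresentedGroup.toGroup.of]; rfl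
  have hsurj : Function.Surjective φ := by
    rw [← MonoidHom.range_eq_top, eq_top_iff, ← hgen, Subgroup.closure_le]
    rintro g (rfl | rfl)
    · exact ⟨_, hφ0⟩
    · exact ⟨_, hφ1⟩
  obtain ⟨hfin, hle⟩ := finite_and_card_le (r := r) hn hm
  have hbij : Function.Bijective φ := by
    refine (Nat.bijective_iff_surjective_and_card φ).mpr ⟨hsurj, ?_⟩
    have := Nat.card_le_card_of_surjective φ hsurj
    omega
  refine ⟨(MulEquiv.ofBijective φ hbij).symm, ?_, ?_⟩
  · rw [MulEquiv.symm_apply_eq]; exact hφ0.symm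
  · rw [MulEquiv.symm_apply_eq]; exact hφ1.symm


theorem coprime_of_mem_commutator {G : Type*} [Group G] {y : G} (hm : 0 < m) (hr : 1 ≤ r)
    (e : G ≃* PresentedGroup (rels n m r)) (hey : e y = PresentedGroup.of 1)
    (hy : y ∈ commutator G) : Nat.Coprime (r - 1) m := by
  set d := Nat.gcd (r - 1) m with hd
  have hd1 : d ∣ r - 1 := Nat.gcd_dvd_left _ _
  have hd2 : d ∣ m := Nat.gcd_dvd_right _ _
  have hdpos : 0 < d := Nat.gcd_pos_of_pos_right _ hm
  have : NeZero d := ⟨hdpos.ne'⟩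
  have hm0 : ((m : ℕ) : ZMod d) = 0 := (ZMod.natCast_eq_zero_iff m d).mpr hd2
  have hr0 : ((r : ℕ) : ZMod d) = 1 := by
    have h1 : (((r - 1 : ℕ) : ℕ) : ZMod d) = 0 := (ZMod.natCast_eq_zero_iff (r - 1) d).mpr hd1
    have h2 : r = (r - 1) + 1 := by omega
    rw [h2, Nat.cast_add, h1, Nat.cast_one, zero_add]
  have hrel : ∀ w ∈ rels n m r,
      FreeGroup.lift ![(1 : Multiplicative (ZMod d)), Multiplicative.ofAdd (1 : ZMod d)] w = 1 := by
    intro w hw
    simp only [rels, Set.mem_insert_iff, Set.mem_singleton_iff] at hw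
    rcases hw with rfl | rfl | rfl
    · simp
    · simp only [map_pow, FreeGroup.lift_apply_of, Matrix.cons_val_one, Matrix.cons_val_fin_one]
      rw [← ofAdd_nsmul, nsmul_one, hm0]; rfl
    · simp only [map_mul, map_inv, map_pow, FreeGroup.lift_apply_of, Matrix.cons_val_one,
        Matrix.cons_val_fin_one, Matrix.cons_val_zero]
      rw [← ofAdd_nsmul, nsmul_one, hr0]
      simp
  let ψ : PresentedGroup (rels n m r) →* Multiplicative (ZMod d) := PresentedGroup.toGroup hrel
  have hψ1 : ψ (PresentedGroup.of 1) = Multiplicative.ofAdd (1 : ZMod d) := by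
    rw [PresentedGroup.toGroup.of]; rfl
  have hker : y ∈ (ψ.comp e.toMonoidHom).ker :=
    Abelianization.commutator_subset_ker (ψ.comp e.toMonoidHom) hy
  rw [MonoidHom.mem_ker, MonoidHom.comp_apply] at hker
  have h1 : ψ (e y) = 1 := hker
  rw [hey, hψ1] at h1
  have h2 : (1 : ZMod d) = 0 := by
    have := congrArg Multiplicative.toAdd h1
    simpa using this
  have h3 : d ∣ 1 := by
    have := (ZMod.natCast_eq_zero_iff 1 d).mp (by rw [Nat.cast_one]; exact h2)
    exact this
  exact Nat.dvd_one.mp h3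

end pres


section numth

theorem pow_div_rad_eq_one {M : Type*} [Monoid M] (z : M) {n : ℕ} (hn : 0 < n) (hz : z ^ n = 1)
    (hp : ∀ p : ℕ, p.Prime → p ∣ n → z ^ (n / p) = 1) :
    z ^ (n / ∏ p ∈ n.primeFactors, p) = 1 := by
  set d := orderOf z with hd
  have hdn : d ∣ n := orderOf_dvd_of_pow_eq_one hz
  have hdpos : 0 < d := Nat.pos_of_dvd_of_pos hdn hn
  have h1 : (∏ p ∈ n.primeFactors, p) ∣ n / d := by
    apply Finset.prod_primes_dvd
    · intro p hp'
      exact (Nat.prime_of_mem_primeFactors hp').prime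
    · intro p hp'
      have hpp := Nat.prime_of_mem_primeFactors hp'
      have hpn := Nat.dvd_of_mem_primeFactors hp'
      obtain ⟨t, ht⟩ : d ∣ n / p := orderOf_dvd_of_pow_eq_one (hp p hpp hpn)
      have hn' : n = d * (p * t) := by
        conv_lhs => rw [← Nat.mul_div_cancel' hpn, ht]
        ring
      rw [hn', Nat.mul_div_cancel_left _ hdpos]
      exact dvd_mul_right _ _
  obtain ⟨s, hs⟩ := h1
  have hn' : n = (∏ p ∈ n.primeFactors, p) * (d * s) := by
    conv_lhs => rw [← Nat.mul_div_cancel' hdn, hs]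
    ring
  have hpos : 0 < ∏ p ∈ n.primeFactors, p := Nat.pos_of_dvd_of_pos ⟨_, hn'⟩ hn
  have : n / (∏ p ∈ n.primeFactors, p) = d * s :=
    Nat.div_eq_of_eq_mul_right hpos hn'
  rw [this, pow_mul, hd, pow_orderOf_eq_one, one_pow]

end numth

section grp

variable {G : Type*} [Group G] {x y : G} {m r : ℕ}

theorem commute_pow_iff (hxy : x⁻¹ * y * x = y ^ r) (hy : orderOf y = m) (a : ℕ) :
    Commute (x ^ a) y ↔ ((r : ℕ) : ZMod m) ^ a = 1 := by
  have h := mul_pow_semiconj hxy a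
  have h1 : ((r : ℕ) : ZMod m) ^ a = 1 ↔ r ^ a ≡ 1 [MOD m] := by
    rw [← Nat.cast_pow, ← Nat.cast_one (R := ZMod m), ZMod.natCast_eq_natCast_iff]
  rw [h1, ← hy, ← pow_eq_pow_iff_modEq, pow_one]
  constructor
  · intro hc
    have : x ^ a * y = x ^ a * y ^ (r ^ a) := by rw [← h]; exact hc.eq
    exact (mul_left_cancel this).symm
  · intro hc
    rw [hc] at h
    exact h.symm

end grp

end Cfsg.Agent.Helper16.ZPres
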