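import Mathlib
import Cfsg.Agent.Helper16.ZPres
import Cfsg.Agent.Lead.ZGroupCoprime
import Cfsg.Agent.Helper17.Basic

/-!
A finite Z-group in which all subgroups of order `pq` are cyclic has the Zassenhaus presentation
`⟨x, y | x^n, y^m, x⁻¹ y x = y^r⟩` with `gcd(n, m) = gcd(r - 1, m) = 1` and
`r^(n/n') ≡ 1 (mod m)`.
-/

set_option autoImplicit false

namespace Cfsg.Agent.Helper16.ZPres

open Subgroup

variable {G : Type*} [Group G] [Finite G]

theorem mem_normalizer_of_conj_mem' (H : Subgroup G) (g : G)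
    (h : ∀ x ∈ H, g * x * g⁻¹ ∈ H) : g ∈ normalizer (H : Set G) := by
  rw [mem_normalizer_iff_map_conj_eq]
  have hle : H.map (MulAut.conj g).toMonoidHom ≤ H := by
    rintro _ ⟨x, hx, rfl⟩
    exact h x hx
  apply Subgroup.eq_of_le_of_card_ge hle
  rw [Subgroup.card_map_of_injective (MulAut.conj g).injective]

/-- an element of prime order `p` centralizes a cyclic normal `p'`-subgroup, provided subgroups of
order `pq` are cyclic -/
theorem commute_of_prime_order
    (hpq : ∀ A : Subgroup G, ∀ p q : ℕ, p.Prime → q.Prime → Nat.card A = p * q → IsCyclic A)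
    {K : Subgroup G} [hKn : K.Normal] {y u : G} (hK : K = zpowers y) {p : ℕ} (hp : p.Prime)
    (hu : orderOf u = p) (hcop : p.Coprime (Nat.card K)) : Commute u y := by
  have hKc : IsCyclic K := by rw [hK]; infer_instance
  set A : Subgroup G := zpowers u with hA
  have hAcard : Nat.card A = p := by rw [hA, Nat.card_zpowers, hu]
  have hAK : A ≤ normalizer (K : Set G) := by
    rw [normalizer_eq_top_iff.mpr hKn]; exact le_top
  obtain ⟨hcyc, hdisj, -, -, -⟩ :=
    Cfsg.Agent.Lead.zgroup_coprime_structure A K hAK (by rw [hAcard]; exact hcop)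
  have hyK : y ∈ K := by rw [hK]; exact mem_zpowers y
  have huA : u ∈ A := mem_zpowers u
  by_cases hb : ⁅K, A⁆ = ⊥
  · rw [commutator_eq_bot_iff_le_centralizer] at hb
    have := hb hyK
    rw [mem_centralizer_iff] at this
    exact this u huA
  exfalso
  have hc1 : Nat.card (⁅K, A⁆ : Subgroup G) ≠ 1 := fun h => hb (card_eq_one.mp h)
  obtain ⟨q, hq, hqd⟩ := Nat.exists_prime_and_dvd hc1
  have : Fact q.Prime := ⟨hq⟩
  obtain ⟨w₀, hw₀⟩ := exists_prime_orderOf_dvd_card' q hqd
  set w : G := (w₀ : G) with hw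
  have hwo : orderOf w = q := by rw [hw, orderOf_coe]; exact hw₀
  have hwKA : w ∈ (⁅K, A⁆ : Subgroup G) := w₀.2
  have hwK : w ∈ K := commutator_le_left K A hwKA
  set W : Subgroup G := zpowers w with hW
  have hWcard : Nat.card W = q := by rw [hW, Nat.card_zpowers, hwo]
  have huW : u ∈ normalizer (W : Set G) := by
    apply mem_normalizer_of_conj_mem'
    intro t ht
    obtain ⟨j, rfl⟩ := mem_zpowers_iff.mp ht
    have hwy : w ∈ zpowers y := hK ▸ hwK
    obtain ⟨i, hi⟩ := mem_zpowers_iff.mp hwy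
    have huy : u * y * u⁻¹ ∈ zpowers y := hK ▸ hKn.conj_mem y hyK u
    obtain ⟨k, hk⟩ := mem_zpowers_iff.mp huy
    have h1 : u * w * u⁻¹ = w ^ k := by
      rw [← hi, ← conj_zpow, ← hk, ← zpow_mul, ← zpow_mul, mul_comm]
    have h2 : u * w ^ j * u⁻¹ = (w ^ k) ^ j := by rw [← h1, conj_zpow]
    rw [h2]
    exact zpow_mem (zpow_mem (mem_zpowers w) k) j
  have hAW : A ≤ normalizer (W : Set G) := by
    rw [hA, zpowers_le]; exact huW
  have hqK : q ∣ Nat.card K := by
    rw [← hwo]; exact Subgroup.orderOf_dvd_natCard K hwK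
  have hqp : q.Coprime p := (Nat.Coprime.coprime_dvd_right hqK hcop).symm
  have hinf : W ⊓ A = ⊥ :=
    (disjoint_of_coprime_natCard (by rw [hWcard, hAcard]; exact hqp)).eq_bot
  have hcard := Cfsg.Agent.Helper17.card_sup_mul_card_inf W A hAW
  rw [hinf, card_bot, mul_one, hWcard, hAcard] at hcard
  have hcycB : IsCyclic (W ⊔ A : Subgroup G) := hpq _ q p hq hp hcard
  have hcomm : u * w = w * u := by
    have hcm := IsCyclic.isMulCommutative (α := (W ⊔ A : Subgroup G))
    have huB : u ∈ W ⊔ A := le_sup_right (a := W) huA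
    have hwB : w ∈ W ⊔ A := le_sup_left (b := A) (mem_zpowers w)
    have := hcm.is_comm.comm (⟨u, huB⟩ : (W ⊔ A : Subgroup G)) ⟨w, hwB⟩
    exact congrArg Subtype.val this
  have hwC : w ∈ centralizer (A : Set G) := by
    rw [mem_centralizer_iff]
    intro a ha
    obtain ⟨j, rfl⟩ := mem_zpowers_iff.mp ha
    exact ((show Commute u w from hcomm).zpow_left j).eq
  have : w ∈ (⁅K, A⁆ ⊓ centralizer (A : Set G) : Subgroup G) := mem_inf.mpr ⟨hwKA, hwC⟩
  rw [hdisj, mem_bot] at this
  rw [this, orderOf_one] at hwo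
  exact hq.one_lt.ne hwo


/-- **Zassenhaus presentation** of a Z-group all of whose subgroups of order `pq` are cyclic. -/
theorem zgroup_pres [IsZGroup G]
    (hpq : ∀ A : Subgroup G, ∀ p q : ℕ, p.Prime → q.Prime → Nat.card A = p * q → IsCyclic A) :
    ∃ n m r : ℕ, 0 < n ∧ 0 < m ∧ Nat.Coprime (r - 1) m ∧ Nat.Coprime n m ∧ 1 ≤ r ∧
      r ^ (n / ∏ p ∈ n.primeFactors, p) % m = 1 % m ∧
      Nonempty (G ≃* PresentedGroup (rels n m r)) := by
  obtain ⟨N, hNdef⟩ : ∃ N : Subgroup G, N = _root_.commutator G := ⟨_, rfl⟩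
  have hNc : IsCyclic N := by rw [hNdef]; exact IsZGroup.isCyclic_commutator G
  have hNn : N.Normal := by rw [hNdef]; infer_instance
  have hcop0 : (Nat.card N).Coprime N.index := by
    rw [hNdef]; exact IsZGroup.coprime_commutator_index G
  obtain ⟨H, hH⟩ := exists_right_complement'_of_coprime hcop0
  have hHc : IsCyclic H := by
    subst hNdef
    have h1 : Abelianization G ≃* H := hH.symm.QuotientMulEquiv
    exact isCyclic_of_surjective _ h1.surjective
  obtain ⟨y₀, hy₀⟩ := IsCyclic.exists_generator (α := N)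
  set y : G := (y₀ : G) with hy
  have hyN : y ∈ N := y₀.2
  have hN : N = zpowers y := by
    apply le_antisymm
    · intro g hg
      obtain ⟨k, hk⟩ := mem_zpowers_iff.mp (hy₀ ⟨g, hg⟩)
      refine mem_zpowers_iff.mpr ⟨k, ?_⟩
      have := congrArg Subtype.val hk
      simpa using this
    · rw [zpowers_le]; exact hyN
  obtain ⟨x₀, hx₀⟩ := IsCyclic.exists_generator (α := H)
  set x : G := (x₀ : G) with hx
  have hxH : x ∈ H := x₀.2
  have hHz : H = zpowers x := by
    apply le_antisymm
    · intro g hg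
      obtain ⟨k, hk⟩ := mem_zpowers_iff.mp (hx₀ ⟨g, hg⟩)
      refine mem_zpowers_iff.mpr ⟨k, ?_⟩
      have := congrArg Subtype.val hk
      simpa using this
    · rw [zpowers_le]; exact hxH
  set n := orderOf x with hn
  set m := orderOf y with hm
  have hnpos : 0 < n := orderOf_pos x
  have hmpos : 0 < m := orderOf_pos y
  have hNcard : Nat.card N = m := by rw [hN, Nat.card_zpowers]
  have hHcard : Nat.card H = n := by rw [hHz, Nat.card_zpowers]
  have hcard : Nat.card G = n * m := by
    rw [← hH.card_mul_card, hNcard, hHcard, mul_comm]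
  have hcop : Nat.Coprime n m := by
    have := hcop0
    rw [hH.symm.index_eq_card, hHcard, hNcard] at this
    exact this.symm
  have hconj : x⁻¹ * y * x ∈ zpowers y := by
    have := hNn.conj_mem y hyN x⁻¹
    rw [inv_inv] at this
    exact hN ▸ this
  rw [← mem_powers_iff_mem_zpowers] at hconj
  obtain ⟨k, hk⟩ := Submonoid.mem_powers_iff _ _ |>.mp hconj
  set r := k % m + m with hr
  have hr1 : 1 ≤ r := by omega
  have hxy : x⁻¹ * y * x = y ^ r := by
    rw [← hk, hr, pow_add, hm, pow_orderOf_eq_one, mul_one, pow_mod_orderOf]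
  have hgen : closure ({x, y} : Set G) = ⊤ := by
    have := hH.sup_eq_top
    rw [hN, hHz, zpowers_eq_closure, zpowers_eq_closure, ← Subgroup.closure_union] at this
    rw [← this]
    congr 1
    ext g
    simp [or_comm]
  have hxn : x ^ n = 1 := pow_orderOf_eq_one x
  have hym : y ^ m = 1 := pow_orderOf_eq_one y
  obtain ⟨e, hex, hey⟩ := exists_mulEquiv hnpos hmpos hxn hym hxy hgen hcard
  refine ⟨n, m, r, hnpos, hmpos, coprime_of_mem_commutator hmpos hr1 e hey (hNdef ▸ hyN), hcop, hr1, ?_, ⟨e⟩⟩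
  have hz : ((r : ℕ) : ZMod m) ^ (n / ∏ p ∈ n.primeFactors, p) = 1 := by
    apply pow_div_rad_eq_one _ hnpos
    · rw [← commute_pow_iff hxy hm.symm, hxn]
      exact Commute.one_left y
    · intro p hp hpn
      rw [← commute_pow_iff hxy hm.symm]
      have hd : n / p ∣ n := Nat.div_dvd_of_dvd hpn
      have hne : n / p ≠ 0 := by
        intro h0
        rw [Nat.div_eq_zero_iff] at h0
        rcases h0 with h0 | h0
        · exact hp.ne_zero h0
        · exact absurd (Nat.le_of_dvd hnpos hpn) (not_le.mpr h0)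
      have huo : orderOf (x ^ (n / p)) = p := by
        rw [orderOf_pow_of_dvd hne (by rw [← hn]; exact hd), ← hn, Nat.div_div_self hpn hnpos.ne']
      apply commute_of_prime_order hpq hN hp huo
      rw [hNcard]
      exact Nat.Coprime.coprime_dvd_left hpn hcop
  rw [← Nat.cast_pow, ← Nat.cast_one (R := ZMod m), ZMod.natCast_eq_natCast_iff'] at hz
  exact hz

end Cfsg.Agent.Helper16.ZPres
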