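import Mathlib
import Cfsg.Prelude.Def_TwoFusion
import Cfsg.Agent.Helper16.ZStarCor
import Cfsg.Agent.S1180

set_option autoImplicit false

/-!
S1253 modulo the Z*-theorem.
-/

namespace Cfsg.Agent.Helper16.ZStarCor

open Subgroup

section
universe u
variable {G : Type u} [Group G]

theorem conj_pow_of_inverted {z w : G} (hw : z * w * z⁻¹ = w⁻¹) (n : ℕ) :
    z * w ^ n * z⁻¹ = (w ^ n)⁻¹ := by
  have : z * w ^ n * z⁻¹ = (z * w * z⁻¹) ^ n := by
    rw [conj_pow]
  rw [this, hw, inv_pow]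

/-- Counting the elements inverted by an involution acting on a group of odd order. -/
theorem card_inverted_mul [Finite G] {z : G} (hzz : z * z = 1) (P : Subgroup G)
    (hodd : Odd (Nat.card P)) (hzP : z ∈ normalizer (P : Set G)) :
    Nat.card {x : G // x ∈ P ∧ z * x * z⁻¹ = x⁻¹} *
      Nat.card (P ⊓ centralizer ({z} : Set G) : Subgroup G) = Nat.card P := by
  have hzi : z⁻¹ = z := inv_eq_of_mul_eq_one_right hzz
  have hoddel : ∀ x ∈ P, Odd (orderOf x) := by
    intro x hx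
    have h1 : orderOf x ∣ Nat.card P := by
      have := orderOf_dvd_natCard (⟨x, hx⟩ : P)
      rwa [Subgroup.orderOf_mk] at this
    exact hodd.of_dvd_nat h1
  rw [← Nat.card_prod]
  let φ : {x : G // x ∈ P ∧ z * x * z⁻¹ = x⁻¹} × ↥(P ⊓ centralizer ({z} : Set G)) → ↥P :=
    fun yc => ⟨yc.1.1 * yc.2.1, mul_mem yc.1.2.1 yc.2.2.1⟩
  have hcz : ∀ c ∈ centralizer ({z} : Set G), c * z * c⁻¹ = z := by
    intro c hc
    rw [Subgroup.mem_centralizer_singleton_iff] at hc
    rw [hc]; group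
  refine Nat.card_congr (Equiv.ofBijective φ ⟨?_, ?_⟩)
  · rintro ⟨⟨y, hyP, hyi⟩, ⟨c, hcP, hcC⟩⟩ ⟨⟨y', hyP', hyi'⟩, ⟨c', hcP', hcC'⟩⟩ h
    have h0 : y * c = y' * c' := congrArg Subtype.val h
    have h1 : y * z * y⁻¹ = y' * z * y'⁻¹ := by
      have e1 : (y * c) * z * (y * c)⁻¹ = y * z * y⁻¹ := by
        calc (y * c) * z * (y * c)⁻¹ = y * (c * z * c⁻¹) * y⁻¹ := by group
          _ = y * z * y⁻¹ := by rw [hcz c hcC]
      have e2 : (y' * c') * z * (y' * c')⁻¹ = y' * z * y'⁻¹ := by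
        calc (y' * c') * z * (y' * c')⁻¹ = y' * (c' * z * c'⁻¹) * y'⁻¹ := by group
          _ = y' * z * y'⁻¹ := by rw [hcz c' hcC']
      rw [← e1, ← e2, h0]
    rw [Cfsg.Agent.Helper18.conj_of_inverted hzz hyi,
      Cfsg.Agent.Helper18.conj_of_inverted hzz hyi'] at h1
    have h2 : y ^ 2 = y' ^ 2 := mul_right_cancel h1
    have h3 : y = y' :=
      Cfsg.Agent.Helper18.eq_of_sq_eq_sq_of_odd h2 (hoddel y hyP) (hoddel y' hyP')
    subst h3
    have h4 : c = c' := mul_left_cancel h0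
    subst h4
    rfl
  · rintro ⟨x, hx⟩
    have hzxP : z * x⁻¹ * z⁻¹ ∈ P :=
      ((Subgroup.mem_normalizer_iff.mp hzP) _).mp (inv_mem hx)
    set w : G := x * z * x⁻¹ * z⁻¹ with hw
    have hwP : w ∈ P := by
      have : w = x * (z * x⁻¹ * z⁻¹) := by rw [hw]; group
      rw [this]; exact mul_mem hx hzxP
    have hwi : z * w * z⁻¹ = w⁻¹ := by
      rw [hw, hzi]
      calc z * (x * z * x⁻¹ * z) * z = z * x * z * x⁻¹ * (z * z) := by group
        _ = (x * z * x⁻¹ * z)⁻¹ := by rw [hzz]; simp only [mul_inv_rev, inv_inv, hzi, mul_one, mul_assoc]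
    obtain ⟨k, hk⟩ := hoddel w hwP
    set y : G := w ^ (k + 1) with hy
    have hyP : y ∈ P := pow_mem hwP _
    have hyi : z * y * z⁻¹ = y⁻¹ := conj_pow_of_inverted hwi _
    have hy2 : y ^ 2 = w := by
      rw [hy, ← pow_mul]
      have : (k + 1) * 2 = (2 * k + 1) + 1 := by ring
      rw [this, pow_succ, ← hk, pow_orderOf_eq_one, one_mul]
    have hyz : y * z * y⁻¹ = w * z := by
      rw [Cfsg.Agent.Helper18.conj_of_inverted hzz hyi, hy2]
    have hxz : x * z * x⁻¹ = w * z := by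
      rw [hw, hzi]
      calc x * z * x⁻¹ = x * z * x⁻¹ * (z * z) := by rw [hzz, mul_one]
        _ = x * z * x⁻¹ * z * z := by group
    have hcC : y⁻¹ * x ∈ centralizer ({z} : Set G) := by
      rw [Subgroup.mem_centralizer_singleton_iff]
      have h1 : (y⁻¹ * x) * z * (y⁻¹ * x)⁻¹ = z := by
        calc (y⁻¹ * x) * z * (y⁻¹ * x)⁻¹ = y⁻¹ * (x * z * x⁻¹) * y := by group
          _ = y⁻¹ * (y * z * y⁻¹) * y := by rw [hxz, hyz]
          _ = z := by group
      calc (y⁻¹ * x) * z = ((y⁻¹ * x) * z * (y⁻¹ * x)⁻¹) * (y⁻¹ * x) := by group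
        _ = z * (y⁻¹ * x) := by rw [h1]
    refine ⟨⟨⟨y, hyP, hyi⟩, ⟨y⁻¹ * x, Subgroup.mem_inf.mpr ⟨mul_mem (inv_mem hyP) hx, hcC⟩⟩⟩, ?_⟩
    apply Subtype.ext
    show y * (y⁻¹ * x) = x
    group

/-- A `z`-invariant Sylow `p`-subgroup meets `C(z)` in a Sylow `p`-subgroup of `C(z)` (modulo Z*). -/
theorem card_sylow_inf_centralizer [Finite G]
    (hZ : ∀ (K : Type u) [Group K] [Finite K], ZStar K)
    (z : G) (hz : Cfsg.IsIsolatedInvolution z) {p : ℕ} [Fact p.Prime] (P : Sylow p G)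
    (hzP : z ∈ normalizer ((P : Subgroup G) : Set G)) :
    Nat.card ((P : Subgroup G) ⊓ centralizer ({z} : Set G) : Subgroup G) =
      p ^ (Nat.card (centralizer ({z} : Set G))).factorization p := by
  have hpp := (Fact.out : p.Prime)
  have hzz := mul_self_of_isolated hz
  have hzi := inv_of_isolated hz
  set C : Subgroup G := centralizer ({z} : Set G) with hC
  have hzC : z ∈ C := by
    rw [hC, Subgroup.mem_centralizer_singleton_iff]
  have hcz : ∀ c ∈ C, z * c * z⁻¹ = c := by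
    intro c hc
    rw [hC, Subgroup.mem_centralizer_singleton_iff] at hc
    rw [← hc]; group
  obtain ⟨P1⟩ : Nonempty (Sylow p C) := inferInstance
  set P1G : Subgroup G := (P1 : Subgroup C).map C.subtype with hP1G
  have hP1Gp : IsPGroup p P1G := P1.2.map _
  have hP1GC : P1G ≤ C := by
    rintro x ⟨y, -, rfl⟩; exact y.2
  have hcardP1G : Nat.card P1G = p ^ (Nat.card C).factorization p := by
    rw [← Sylow.card_eq_multiplicity P1]
    exact Nat.card_congr
      ((P1 : Subgroup C).equivMapOfInjective C.subtype (Subgroup.subtype_injective C)).symm.toEquiv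
  have hzP1G : z ∈ normalizer (P1G : Set G) := by
    rw [Subgroup.mem_normalizer_iff]
    intro h
    constructor
    · intro hh
      rw [hcz h (hP1GC hh)]; exact hh
    · intro hh
      have h1 : z * h * z⁻¹ ∈ C := hP1GC hh
      have h2 : h ∈ C := by
        have : h = z⁻¹ * (z * h * z⁻¹) * z := by group
        rw [this]; exact mul_mem (mul_mem (inv_mem hzC) h1) hzC
      rwa [hcz h h2] at hh
  -- maximal z-invariant p-subgroup containing P1G
  obtain ⟨Q, hP1Q, hQmax⟩ := Finite.exists_le_maximal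
    (p := fun R : Subgroup G => IsPGroup p R ∧ z ∈ normalizer (R : Set G)) (a := P1G)
    ⟨hP1Gp, hzP1G⟩
  obtain ⟨P2, hP2⟩ := maxinv_sylow hZ z hz Q hQmax.prop.1 hQmax.prop.2
    (fun R hR hzR hQR => le_antisymm (hQmax.le_of_ge ⟨hR, hzR⟩ hQR) hQR)
  -- conjugate P to P2 by an element of C
  obtain ⟨g, hg⟩ := MulAction.exists_smul_eq G P P2
  have hmemP2 : ∀ x : G, x ∈ (P2 : Subgroup G) ↔ g⁻¹ * x * g ∈ (P : Subgroup G) := by
    intro x
    rw [← hg, Sylow.smul_def, Sylow.pointwise_smul_def,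
      Subgroup.mem_pointwise_smul_iff_inv_smul_mem, ← map_inv, MulAut.smul_def,
      MulAut.conj_apply, inv_inv]
  have hzP2 : z ∈ normalizer ((P2 : Subgroup G) : Set G) := by rw [hP2]; exact hQmax.prop.2
  -- g⁻¹ z g normalizes P
  have hconjN : g⁻¹ * z * g⁻¹⁻¹ ∈ normalizer ((P : Subgroup G) : Set G) := by
    rw [inv_inv, Subgroup.mem_normalizer_iff]
    intro h
    have key := (Subgroup.mem_normalizer_iff.mp hzP2) (g * h * g⁻¹)
    rw [hmemP2, hmemP2] at key
    have e1 : g⁻¹ * (g * h * g⁻¹) * g = h := by group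
    have e2 : g⁻¹ * (z * (g * h * g⁻¹) * z⁻¹) * g = g⁻¹ * z * g * h * (g⁻¹ * z * g)⁻¹ := by group
    rw [e1, e2] at key
    exact key
  obtain ⟨h, hhN, hh⟩ := Cfsg.Agent.S1180.result z hz (normalizer ((P : Subgroup G) : Set G)) hzP
    g⁻¹ hconjN
  -- c = g h centralizes z
  set c : G := g * h with hc
  have hcC : c ∈ C := by
    rw [hC, Subgroup.mem_centralizer_singleton_iff]
    have h1 : c * z * c⁻¹ = z := by
      calc c * z * c⁻¹ = g * (h * z * h⁻¹) * g⁻¹ := by rw [hc]; group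
        _ = g * (g⁻¹ * z * g⁻¹⁻¹) * g⁻¹ := by rw [hh]
        _ = z := by group
    calc c * z = (c * z * c⁻¹) * c := by group
      _ = z * c := by rw [h1]
  have hmemP2' : ∀ x : G, x ∈ (P2 : Subgroup G) ↔ c⁻¹ * x * c ∈ (P : Subgroup G) := by
    intro x
    rw [hmemP2]
    have e : c⁻¹ * x * c = h⁻¹ * (g⁻¹ * x * g) * h⁻¹⁻¹ := by rw [hc]; group
    rw [e]
    exact (Subgroup.mem_normalizer_iff.mp (inv_mem hhN)) _
  -- the conjugate of P1G by c⁻¹ lies in P ⊓ C
  have hle : P1G.map (MulAut.conj c⁻¹).toMonoidHom ≤ (P : Subgroup G) ⊓ C := by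
    rintro x ⟨y, hy, rfl⟩
    have hyQ : y ∈ (P2 : Subgroup G) := by rw [hP2]; exact hP1Q hy
    refine Subgroup.mem_inf.mpr ⟨?_, ?_⟩
    · have := (hmemP2' y).mp hyQ
      simpa [MulAut.conj_apply] using this
    · have : (MulAut.conj c⁻¹).toMonoidHom y = c⁻¹ * y * c := by simp [MulAut.conj_apply]
      rw [this]
      exact mul_mem (mul_mem (inv_mem hcC) (hP1GC hy)) hcC
  have hcard1 : Nat.card (P1G.map (MulAut.conj c⁻¹).toMonoidHom) = Nat.card P1G :=
    Nat.card_congr
      (P1G.equivMapOfInjective _ (MulAut.conj c⁻¹).injective).symm.toEquiv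
  have hge : p ^ (Nat.card C).factorization p ≤ Nat.card ((P : Subgroup G) ⊓ C : Subgroup G) := by
    rw [← hcardP1G, ← hcard1]
    exact Subgroup.card_le_of_le hle
  -- upper bound
  have hPC : IsPGroup p ((P : Subgroup G) ⊓ C : Subgroup G) := P.2.to_le inf_le_left
  obtain ⟨k, hk⟩ := IsPGroup.iff_card.mp hPC
  have hdvd : p ^ k ∣ Nat.card C := by
    rw [← hk]; exact Subgroup.card_dvd_of_le inf_le_right
  have hkle : k ≤ (Nat.card C).factorization p :=
    (hpp.pow_dvd_iff_le_factorization Nat.card_pos.ne').mp hdvd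
  apply le_antisymm _ hge
  rw [hk]
  exact Nat.pow_le_pow_right hpp.pos hkle

theorem relIndex_mul_card_of_le {H K : Subgroup G} (h : H ≤ K) :
    H.relIndex K * Nat.card H = Nat.card K := by
  have := Subgroup.relIndex_mul_relIndex ⊥ H K bot_le h
  rw [Subgroup.relIndex_bot_left, Subgroup.relIndex_bot_left] at this
  rw [mul_comm]; exact this

/-- S1253 modulo Z*. -/
theorem sylow_centralizer_isolated [Finite G]
    (hZ : ∀ (K : Type u) [Group K] [Finite K], ZStar K)
    (z : G) (hz : Cfsg.IsIsolatedInvolution z) {p : ℕ} [Fact p.Prime] (hp : p ≠ 2) (P : Sylow p G)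
    (hzP : z ∈ Subgroup.normalizer ((P : Subgroup G) : Set G)) :
    ¬ p ∣ ((P : Subgroup G) ⊓ Subgroup.centralizer ({z} : Set G)).relIndex
        (Subgroup.centralizer ({z} : Set G)) ∧
      ((P : Subgroup G) ⊓ Subgroup.centralizer ({z} : Set G)).relIndex (P : Subgroup G) =
        Nat.card {x : G // x ∈ P ∧ z * x * z⁻¹ = x⁻¹} := by
  have hpp := (Fact.out : p.Prime)
  have hzz := mul_self_of_isolated hz
  constructor
  · intro hdvd
    have h1 := relIndex_mul_card_of_le
      (inf_le_right : (P : Subgroup G) ⊓ centralizer ({z} : Set G) ≤ centralizer ({z} : Set G))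
    rw [card_sylow_inf_centralizer hZ z hz P hzP] at h1
    have h2 : p ^ ((Nat.card (centralizer ({z} : Set G))).factorization p + 1) ∣
        Nat.card (centralizer ({z} : Set G)) := by
      obtain ⟨v, hv⟩ : ∃ v, v = (Nat.card (centralizer ({z} : Set G))).factorization p := ⟨_, rfl⟩
      rw [← hv] at h1 ⊢
      rw [← h1, pow_succ, mul_comm]
      exact mul_dvd_mul_right hdvd _
    exact Nat.pow_succ_factorization_not_dvd Nat.card_pos.ne' hpp h2
  · have hodd : Odd (Nat.card (P : Subgroup G)) := by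
      obtain ⟨k, hk⟩ := IsPGroup.iff_card.mp P.2
      rw [hk]; exact (hpp.odd_of_ne_two hp).pow
    have h1 := card_inverted_mul hzz (P : Subgroup G) hodd hzP
    have h2 := relIndex_mul_card_of_le
      (inf_le_left : (P : Subgroup G) ⊓ centralizer ({z} : Set G) ≤ (P : Subgroup G))
    rw [← h1] at h2
    exact Nat.eq_of_mul_eq_mul_right Nat.card_pos h2

end

end Cfsg.Agent.Helper16.ZStarCor
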