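import Mathlib
import Cfsg.Prelude.Def_TwoFusion
import Cfsg.Prelude.Def_CaseTheorems
import Cfsg.Agent.Helper16.ZStarCor
import Cfsg.Agent.Helper10.PGroupBasic
import Cfsg.Agent.Helper1.FrobGroup
import Cfsg.Agent.Helper1.PrimeGraph

set_option autoImplicit false

/-!
S1251 modulo the Z*-theorem: a strongly closed 2-subgroup `A` normalizing `H` with `O(H) = 1`
and `A ∩ H = 1` centralizes `H`.
-/

namespace Cfsg.Agent.Helper16.ZStarCor

open Subgroup

section
universe u

/-- intrinsic strong closure of a 2-subgroup -/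
def SC {G : Type u} [Group G] (A : Subgroup G) : Prop :=
  IsPGroup 2 A ∧ ∀ a ∈ A, ∀ x : G, ∀ T : Subgroup G, IsPGroup 2 T → A ≤ T →
    x * a * x⁻¹ ∈ T → x * a * x⁻¹ ∈ A

/-- no nontrivial normal subgroup of odd order (ambient form) -/
def OddFree {G : Type u} [Group G] (H : Subgroup G) : Prop :=
  ∀ N : Subgroup G, N ≤ H → H ≤ normalizer (N : Set G) → Odd (Nat.card N) → N = ⊥

theorem centralizes_normal_aux (hZ : ∀ (K : Type u) [Group K] [Finite K], ZStar K) :
    ∀ n : ℕ, ∀ (G : Type u) [Group G] [Finite G] (A H : Subgroup G), H.Normal →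
      Nat.card A = n → H ⊔ A = ⊤ → SC A → OddFree H → A ⊓ H = ⊥ →
      A ≤ centralizer (H : Set G) := by
  intro n
  induction n using Nat.strong_induction_on with
  | _ n ih =>
  intro G _ _ A H hHn hcard htop hSC hOF hAH
  haveI := hHn
  haveI : Fact (Nat.Prime 2) := ⟨Nat.prime_two⟩
  by_cases hA1 : A = ⊥
  · rw [hA1]; exact bot_le
  -- Sylow 2-subgroup containing A
  obtain ⟨T, hAT⟩ := hSC.1.exists_le_sylow
  -- A is normal in T
  haveI hATn : (A.subgroupOf (T : Subgroup G)).Normal := by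
    constructor
    intro x hx t
    rw [Subgroup.mem_subgroupOf] at hx ⊢
    have := hSC.2 _ hx (t : G) (T : Subgroup G) T.2 hAT
      (mul_mem (mul_mem t.2 (hAT hx)) (inv_mem t.2))
    simpa using this
  have hATne : A.subgroupOf (T : Subgroup G) ≠ ⊥ := by
    intro h
    apply hA1
    rw [Subgroup.subgroupOf_eq_bot] at h
    rw [eq_bot_iff]
    exact (le_inf le_rfl hAT).trans h.le_bot
  obtain ⟨a0, ha0A, ha01, ha0Z⟩ :=
    Cfsg.Agent.Helper10.exists_ne_one_mem_inf_center (T.2 : IsPGroup 2 (T : Subgroup G)) _ hATne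
  obtain ⟨k, hk⟩ := (T.2 : IsPGroup 2 (T : Subgroup G)) a0
  obtain ⟨i, hi⟩ := Cfsg.Agent.Helper1.FrobGroup.exists_pow_orderOf_eq_prime Nat.prime_two ha01 hk
  set a : G := ((a0 ^ i : (T : Subgroup G)) : G) with ha
  have haA : a ∈ A := by
    have : a0 ^ i ∈ A.subgroupOf (T : Subgroup G) := pow_mem ha0A i
    rwa [Subgroup.mem_subgroupOf] at this
  have ha2 : orderOf a = 2 := by
    rw [ha, Subgroup.orderOf_coe]; exact hi
  have haT : a ∈ (T : Subgroup G) := hAT haA
  have hacomm : ∀ t ∈ (T : Subgroup G), t * a * t⁻¹ = a := by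
    intro t ht
    have h1 : a0 ^ i ∈ Subgroup.center (T : Subgroup G) := pow_mem ha0Z i
    rw [Subgroup.mem_center_iff] at h1
    have h2 := h1 ⟨t, ht⟩
    have h3 : t * a = a * t := by
      have := congrArg Subtype.val h2
      simpa [ha] using this
    rw [h3]; group
  have ha1 : a ≠ 1 := by
    intro h
    rw [h, orderOf_one] at ha2
    omega
  -- decomposition g = h * b
  have hdecomp : ∀ g : G, ∃ h ∈ H, ∃ b ∈ A, g = h * b := by
    intro g
    have hg : g ∈ ((H ⊔ A : Subgroup G) : Set G) := by rw [htop]; trivial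
    rw [Subgroup.normal_mul] at hg
    obtain ⟨h, hh, b, hb, rfl⟩ := Set.mem_mul.mp hg
    exact ⟨h, hh, b, hb, rfl⟩
  -- isolation of a
  have hiso : ∀ g : G, g * a * g⁻¹ ∈ (T : Subgroup G) → g * a * g⁻¹ = a := by
    intro g hg
    obtain ⟨h, hh, b, hb, rfl⟩ := hdecomp g
    have e1 : (h * b) * a * (h * b)⁻¹ = h * a * h⁻¹ := by
      calc (h * b) * a * (h * b)⁻¹ = h * (b * a * b⁻¹) * h⁻¹ := by group
        _ = h * a * h⁻¹ := by rw [hacomm b (hAT hb)]
    rw [e1] at hg ⊢
    have h1 : h * a * h⁻¹ ∈ A := hSC.2 a haA h (T : Subgroup G) T.2 hAT hg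
    have h2 : a⁻¹ * (h * a * h⁻¹) ∈ A ⊓ H := by
      refine Subgroup.mem_inf.mpr ⟨mul_mem (inv_mem haA) h1, ?_⟩
      have : a⁻¹ * (h * a * h⁻¹) = (a⁻¹ * h * a⁻¹⁻¹) * h⁻¹ := by group
      rw [this]
      exact mul_mem (hHn.conj_mem h hh a⁻¹) (inv_mem hh)
    rw [hAH, Subgroup.mem_bot] at h2
    calc h * a * h⁻¹ = a * (a⁻¹ * (h * a * h⁻¹)) := by group
      _ = a := by rw [h2, mul_one]
  obtain ⟨N, hNn, hNo, hNc⟩ := hZ G T a ha2 haT hiso
  haveI := hNn
  -- N ⊓ H = ⊥
  have hNH : N ⊓ H = ⊥ := by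
    apply hOF _ inf_le_right
    · rw [Subgroup.normalizer_eq_top_iff.mpr (inferInstance : (N ⊓ H).Normal)]; exact le_top
    · exact hNo.of_dvd_nat (Subgroup.card_dvd_of_le inf_le_left)
  have haH : a ∈ centralizer (H : Set G) := by
    rw [Subgroup.mem_centralizer_iff]
    intro h hh
    have h1 : a * h * a⁻¹ * h⁻¹ ∈ N ⊓ H := by
      refine Subgroup.mem_inf.mpr ⟨hNc h, ?_⟩
      exact mul_mem (hHn.conj_mem h hh a) (inv_mem hh)
    rw [hNH, Subgroup.mem_bot] at h1
    calc h * a = (a * h * a⁻¹ * h⁻¹)⁻¹ * (a * h) := by group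
      _ = a * h := by rw [h1]; group
  -- A₀
  set A0 : Subgroup G := A ⊓ centralizer (H : Set G) with hA0
  have hA0A : A0 ≤ A := inf_le_left
  have hA0ne : A0 ≠ ⊥ := by
    intro h
    have : a ∈ A0 := Subgroup.mem_inf.mpr ⟨haA, haH⟩
    rw [h, Subgroup.mem_bot] at this
    exact ha1 this
  have hcentH : ∀ x ∈ centralizer (H : Set G), ∀ h ∈ H, h * x * h⁻¹ = x := by
    intro x hx h hh
    rw [Subgroup.mem_centralizer_iff] at hx
    rw [hx h hh]; group
  haveI hA0n : A0.Normal := by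
    constructor
    intro x hx g
    obtain ⟨hxA, hxC⟩ := Subgroup.mem_inf.mp hx
    obtain ⟨h, hh, b, hb, rfl⟩ := hdecomp g
    have hb1 : b * x * b⁻¹ ∈ A := mul_mem (mul_mem hb hxA) (inv_mem hb)
    have hb2 : b * x * b⁻¹ ∈ centralizer (H : Set G) := by
      rw [Subgroup.mem_centralizer_iff]
      intro k hk
      have hk' : b⁻¹ * k * b⁻¹⁻¹ ∈ H := hHn.conj_mem k hk b⁻¹
      rw [Subgroup.mem_centralizer_iff] at hxC
      have := hxC _ hk'
      calc k * (b * x * b⁻¹) = b * ((b⁻¹ * k * b⁻¹⁻¹) * x) * b⁻¹ := by group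
        _ = b * (x * (b⁻¹ * k * b⁻¹⁻¹)) * b⁻¹ := by rw [this]
        _ = b * x * b⁻¹ * k := by group
    have e : (h * b) * x * (h * b)⁻¹ = h * (b * x * b⁻¹) * h⁻¹ := by group
    rw [e, hcentH _ hb2 h hh]
    exact Subgroup.mem_inf.mpr ⟨hb1, hb2⟩
  have hA02 : IsPGroup 2 A0 := hSC.1.to_le hA0A
  -- quotient data
  set mk := QuotientGroup.mk' A0 with hmk
  have hmksurj : Function.Surjective mk := QuotientGroup.mk'_surjective A0
  have hker : mk.ker = A0 := QuotientGroup.ker_mk' A0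
  have hcardlt : Nat.card (A.map mk) < n := by
    have h1 := Cfsg.Agent.Helper1.PrimeGraph.card_map_mk_mul A0 A hA0A
    have h2 : 1 < Nat.card A0 := by
      rw [Subgroup.one_lt_card_iff_ne_bot]; exact hA0ne
    rw [← hcard, ← h1]
    have hpos : 0 < Nat.card (A.map mk) := Nat.card_pos
    nlinarith
  have hSC' : SC (A.map mk) := by
    refine ⟨hSC.1.map _, ?_⟩
    rintro _ ⟨a', ha', rfl⟩ xb Tb hTb hATb hxb
    obtain ⟨x, rfl⟩ := hmksurj xb
    have hT' : IsPGroup 2 (Tb.comap mk) := by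
      apply hTb.comap_of_ker_isPGroup
      rw [hker]; exact hA02
    have hAT' : A ≤ Tb.comap mk := by
      intro y hy
      exact hATb (Subgroup.mem_map_of_mem _ hy)
    have hx' : x * a' * x⁻¹ ∈ Tb.comap mk := by
      rw [Subgroup.mem_comap, map_mul, map_mul, map_inv]; exact hxb
    have := hSC.2 a' ha' x _ hT' hAT' hx'
    have h2 := Subgroup.mem_map_of_mem mk this
    rwa [map_mul, map_mul, map_inv] at h2
  have hHA0 : H ⊓ A0 = ⊥ := by
    rw [eq_bot_iff, ← hAH]
    exact le_inf (inf_le_right.trans hA0A) inf_le_left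
  have hOF' : OddFree (H.map mk) := by
    intro Nb hNbH hNbn hNbo
    set N' : Subgroup G := Nb.comap mk ⊓ H with hN'
    have h1 : N' = ⊥ := by
      apply hOF N' inf_le_right
      · intro h hh
        rw [Subgroup.mem_normalizer_iff]
        intro y
        have hmkh : mk h ∈ normalizer (Nb : Set (G ⧸ A0)) := hNbn (Subgroup.mem_map_of_mem _ hh)
        rw [Subgroup.mem_normalizer_iff] at hmkh
        constructor
        · intro hy
          obtain ⟨hy1, hy2⟩ := Subgroup.mem_inf.mp hy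
          refine Subgroup.mem_inf.mpr ⟨?_, hHn.conj_mem y hy2 h⟩
          rw [Subgroup.mem_comap, map_mul, map_mul, map_inv]
          exact (hmkh _).mp hy1
        · intro hy
          obtain ⟨hy1, hy2⟩ := Subgroup.mem_inf.mp hy
          refine Subgroup.mem_inf.mpr ⟨?_, ?_⟩
          · rw [Subgroup.mem_comap, map_mul, map_mul, map_inv] at hy1
            exact (hmkh _).mpr hy1
          · have := hHn.conj_mem _ hy2 h⁻¹
            have e : h⁻¹ * (h * y * h⁻¹) * h⁻¹⁻¹ = y := by group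
            rwa [e] at this
      · have hinj : Function.Injective (mk.comp N'.subtype) := by
          rw [← MonoidHom.ker_eq_bot_iff, eq_bot_iff]
          intro y hy
          rw [MonoidHom.mem_ker, MonoidHom.comp_apply] at hy
          have hy1 : (y : G) ∈ A0 := by rw [← hker]; exact hy
          have hy2 : (y : G) ∈ H := (Subgroup.mem_inf.mp y.2).2
          have : (y : G) ∈ H ⊓ A0 := Subgroup.mem_inf.mpr ⟨hy2, hy1⟩
          rw [hHA0, Subgroup.mem_bot] at this
          rw [Subgroup.mem_bot]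
          exact Subtype.ext this
        have hle : (mk.comp N'.subtype).range ≤ Nb := by
          rintro _ ⟨y, rfl⟩
          exact (Subgroup.mem_inf.mp y.2).1
        have hc : Nat.card N' = Nat.card (mk.comp N'.subtype).range :=
          Nat.card_congr (MonoidHom.ofInjective hinj).toEquiv
        rw [hc]
        exact hNbo.of_dvd_nat (Subgroup.card_dvd_of_le hle)
    rw [eq_bot_iff]
    intro y hy
    obtain ⟨h, hh, rfl⟩ := hNbH hy
    have : h ∈ N' := Subgroup.mem_inf.mpr ⟨hy, hh⟩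
    rw [h1, Subgroup.mem_bot] at this
    rw [this, map_one]; exact one_mem _
  have hAH' : A.map mk ⊓ H.map mk = ⊥ := by
    rw [eq_bot_iff]
    rintro y ⟨⟨b, hb, rfl⟩, ⟨h, hh, hbh⟩⟩
    have h1 : b⁻¹ * h ∈ A0 := by
      rw [← hker, MonoidHom.mem_ker, map_mul, map_inv, hbh, inv_mul_cancel]
    have h2 : h ∈ A := by
      have : h = b * (b⁻¹ * h) := by group
      rw [this]; exact mul_mem hb (hA0A h1)
    have h3 : h ∈ A ⊓ H := Subgroup.mem_inf.mpr ⟨h2, hh⟩
    rw [hAH, Subgroup.mem_bot] at h3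
    rw [Subgroup.mem_bot, ← hbh, h3, map_one]
  have htop' : H.map mk ⊔ A.map mk = ⊤ := by
    rw [← Subgroup.map_sup, htop, ← MonoidHom.range_eq_map, MonoidHom.range_eq_top]
    exact hmksurj
  have hHn' : (H.map mk).Normal := hHn.map mk hmksurj
  have key := ih _ hcardlt (G ⧸ A0) (A.map mk) (H.map mk) hHn' rfl htop' hSC' hOF' hAH'
  -- conclude
  intro b hb
  rw [Subgroup.mem_centralizer_iff]
  intro h hh
  have h1 : mk b ∈ centralizer ((H.map mk : Subgroup (G ⧸ A0)) : Set (G ⧸ A0)) :=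
    key (Subgroup.mem_map_of_mem _ hb)
  rw [Subgroup.mem_centralizer_iff] at h1
  have h2 := h1 (mk h) (Subgroup.mem_map_of_mem _ hh)
  have h3 : b * h * b⁻¹ * h⁻¹ ∈ A0 := by
    rw [← hker, MonoidHom.mem_ker, map_mul, map_mul, map_mul, map_inv, map_inv, ← h2]
    group
  have h4 : b * h * b⁻¹ * h⁻¹ ∈ H := mul_mem (hHn.conj_mem h hh b) (inv_mem hh)
  have h5 : b * h * b⁻¹ * h⁻¹ ∈ H ⊓ A0 := Subgroup.mem_inf.mpr ⟨h4, h3⟩
  rw [hHA0, Subgroup.mem_bot] at h5
  calc h * b = (b * h * b⁻¹ * h⁻¹)⁻¹ * (b * h) := by group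
    _ = b * h := by rw [h5]; group

variable {G : Type u} [Group G]

theorem sc_of_stronglyClosed [Finite G] (S : Sylow 2 G) (A : Subgroup G)
    (hA : Cfsg.IsStronglyClosed A (S : Subgroup G)) : SC A := by
  have : Fact (Nat.Prime 2) := ⟨Nat.prime_two⟩
  refine ⟨S.2.to_le hA.1, ?_⟩
  intro a ha x T hT hAT hx
  obtain ⟨P, hTP⟩ := hT.exists_le_sylow
  obtain ⟨g, hg⟩ := MulAction.exists_smul_eq G S P
  have hmemP : ∀ y : G, y ∈ (P : Subgroup G) ↔ g⁻¹ * y * g ∈ (S : Subgroup G) := by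
    intro y
    rw [← hg, Sylow.smul_def, Sylow.pointwise_smul_def,
      Subgroup.mem_pointwise_smul_iff_inv_smul_mem, ← map_inv, MulAut.smul_def,
      MulAut.conj_apply, inv_inv]
  have hconjA : ∀ a' ∈ A, ∀ y : G, y * a' * y⁻¹ ∈ (P : Subgroup G) → g⁻¹ * (y * a' * y⁻¹) * g ∈ A := by
    intro a' ha' y hy
    have h1 := (hmemP _).mp hy
    have e : g⁻¹ * (y * a' * y⁻¹) * g = (g⁻¹ * y) * a' * (g⁻¹ * y)⁻¹ := by group
    rw [e] at h1 ⊢
    exact hA.2 a' ha' _ h1
  -- conjugation by g⁻¹ is a bijection of A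
  let φ : A → A := fun a' => ⟨g⁻¹ * (1 * a'.1 * 1⁻¹) * g,
    hconjA a'.1 a'.2 1 (by simpa using hTP (hAT a'.2))⟩
  have hφinj : Function.Injective φ := by
    intro a1 a2 h
    have h1 : g⁻¹ * (1 * a1.1 * 1⁻¹) * g = g⁻¹ * (1 * a2.1 * 1⁻¹) * g := congrArg Subtype.val h
    apply Subtype.ext
    simpa using h1
  have hφsurj : Function.Surjective φ := Finite.injective_iff_surjective.mp hφinj
  have h2 := hconjA a ha x (hTP hx)
  obtain ⟨a'', ha''⟩ := hφsurj ⟨_, h2⟩
  have h3 : g⁻¹ * (1 * a''.1 * 1⁻¹) * g = g⁻¹ * (x * a * x⁻¹) * g := congrArg Subtype.val ha''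
  have h4 : a''.1 = x * a * x⁻¹ := by simpa using h3
  rw [← h4]; exact a''.2

theorem oddFree_of_oddCore [Finite G] (H : Subgroup G) (hO : Cfsg.oddCore ↥H = ⊥) : OddFree H := by
  intro N hNH hHN hodd
  haveI : (N.subgroupOf H).Normal := Subgroup.normal_subgroupOf_of_le_normalizer hHN
  have hcard : Nat.card (N.subgroupOf H) = Nat.card N :=
    Nat.card_congr (Subgroup.subgroupOfEquivOfLe hNH).toEquiv
  have hle : N.subgroupOf H ≤ Cfsg.oddCore ↥H := by
    apply le_sSup
    refine ⟨inferInstance, ?_⟩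
    rw [hcard]
    exact Nat.coprime_two_right.mpr hodd
  rw [hO, le_bot_iff, Subgroup.subgroupOf_eq_bot] at hle
  rw [eq_bot_iff]
  exact (le_inf le_rfl hNH).trans hle.le_bot

/-- S1251 modulo Z*. -/
theorem stronglyClosed_centralizes [Finite G]
    (hZ : ∀ (K : Type u) [Group K] [Finite K], ZStar K)
    (S : Sylow 2 G) (A : Subgroup G) (hA : Cfsg.IsStronglyClosed A (S : Subgroup G))
    (H : Subgroup G) (hAH : A ≤ Subgroup.normalizer (H : Set G)) (hO : Cfsg.oddCore ↥H = ⊥)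
    (hdisj : A ⊓ H = ⊥) : A ≤ Subgroup.centralizer (H : Set G) := by
  have hSC := sc_of_stronglyClosed S A hA
  have hOF := oddFree_of_oddCore H hO
  set X : Subgroup G := H ⊔ A with hX
  have hHX : H ≤ X := le_sup_left
  have hAX : A ≤ X := le_sup_right
  have hXn : X ≤ normalizer (H : Set G) := sup_le Subgroup.le_normalizer hAH
  have hn : (H.subgroupOf X).Normal := Subgroup.normal_subgroupOf_of_le_normalizer hXn
  have htop : H.subgroupOf X ⊔ A.subgroupOf X = ⊤ := by
    rw [← Subgroup.subgroupOf_sup hHX hAX, Subgroup.subgroupOf_self]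
  have hSC' : SC (A.subgroupOf X) := by
    refine ⟨hSC.1.of_equiv (Subgroup.subgroupOfEquivOfLe hAX).symm, ?_⟩
    intro a ha x T hT hAT hx
    rw [Subgroup.mem_subgroupOf] at ha ⊢
    have hT' : IsPGroup 2 (T.map X.subtype) := hT.map _
    have hAT' : A ≤ T.map X.subtype := by
      intro y hy
      exact ⟨⟨y, hAX hy⟩, hAT (by rw [Subgroup.mem_subgroupOf]; exact hy), rfl⟩
    have hx' : (x : G) * (a : G) * (x : G)⁻¹ ∈ T.map X.subtype := ⟨_, hx, by simp⟩
    have := hSC.2 _ ha (x : G) _ hT' hAT' hx'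
    simpa using this
  have hOF' : OddFree (H.subgroupOf X) := by
    intro N hNH hHN hodd
    have h1 : N.map X.subtype = ⊥ := by
      apply hOF
      · rintro _ ⟨y, hy, rfl⟩
        have := hNH hy
        rwa [Subgroup.mem_subgroupOf] at this
      · intro h hh
        have h2 : (⟨h, hHX hh⟩ : X) ∈ normalizer (N : Set X) :=
          hHN (by rw [Subgroup.mem_subgroupOf]; exact hh)
        rw [Subgroup.mem_normalizer_iff] at h2 ⊢
        intro y
        constructor
        · rintro ⟨y', hy', rfl⟩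
          exact ⟨_, (h2 y').mp hy', by simp⟩
        · rintro ⟨w, hw, hwe⟩
          have hyX : y ∈ X := by
            have : y = h⁻¹ * (w : G) * h := by
              have : (w : G) = h * y * h⁻¹ := hwe
              rw [this]; group
            rw [this]
            exact mul_mem (mul_mem (inv_mem (hHX hh)) w.2) (hHX hh)
          refine ⟨⟨y, hyX⟩, (h2 ⟨y, hyX⟩).mpr ?_, rfl⟩
          have : (⟨h, hHX hh⟩ : X) * ⟨y, hyX⟩ * (⟨h, hHX hh⟩ : X)⁻¹ = w := by
            apply Subtype.ext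
            simpa using hwe.symm
          rw [this]; exact hw
      · have : Nat.card (N.map X.subtype) = Nat.card N :=
          Nat.card_congr (N.equivMapOfInjective _ (Subgroup.subtype_injective X)).symm.toEquiv
        rw [this]; exact hodd
    rwa [Subgroup.map_eq_bot_iff_of_injective _ (Subgroup.subtype_injective X)] at h1
  have hdisj' : A.subgroupOf X ⊓ H.subgroupOf X = ⊥ := by
    rw [eq_bot_iff]
    intro y hy
    obtain ⟨hy1, hy2⟩ := Subgroup.mem_inf.mp hy
    rw [Subgroup.mem_subgroupOf] at hy1 hy2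
    have : (y : G) ∈ A ⊓ H := Subgroup.mem_inf.mpr ⟨hy1, hy2⟩
    rw [hdisj, Subgroup.mem_bot] at this
    rw [Subgroup.mem_bot]
    exact Subtype.ext this
  have key := centralizes_normal_aux hZ _ ↥X (A.subgroupOf X) (H.subgroupOf X) hn rfl htop hSC'
    hOF' hdisj'
  intro b hb
  rw [Subgroup.mem_centralizer_iff]
  intro h hh
  have h1 : (⟨b, hAX hb⟩ : X) ∈ centralizer ((H.subgroupOf X : Subgroup X) : Set X) :=
    key (by rw [Subgroup.mem_subgroupOf]; exact hb)
  rw [Subgroup.mem_centralizer_iff] at h1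
  have h2 := h1 ⟨h, hHX hh⟩ (by rw [SetLike.mem_coe, Subgroup.mem_subgroupOf]; exact hh)
  exact congrArg Subtype.val h2

end

end Cfsg.Agent.Helper16.ZStarCor
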