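import Mathlib
import Cfsg.Agent.Helper16.ZStarGen
import Cfsg.Agent.Helper16.WrAG4
import Cfsg.Agent.Helper16.QDCent
import Cfsg.Agent.Helper19.Cores

set_option autoImplicit false

/-!
Groups with quasi-dihedral or wreathed Sylow 2-subgroup `S` containing an isolated involution:
every element of `Z(S)` is central modulo the odd core.
-/

namespace Cfsg.Agent.Helper16.ZStarWr

open Cfsg.Agent.Helper18.Wr
open Cfsg.Agent.Helper18.QD (hh qq two_mul_hh hh_ne_zero two_mul_eq_zero_iff neg_hh two_mul_qq)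
open Cfsg.Agent.Helper16.QDFusion Cfsg.Agent.Helper16.WrFusion Cfsg.Agent.Helper16.WrIndices
open Cfsg.Agent.Helper16.WrAG Cfsg.Agent.Helper16.ZStarCor
open Subgroup Cfsg

section
universe u
variable {X : Type u} [Group X] [Finite X]

/-- a 2-element of the odd core is trivial -/
theorem eq_one_of_mem_core_of_mem_sylow (S : Sylow 2 X) (e : X) (h1 : e ∈ pPrimeCore 2 X)
    (h2 : e ∈ (S : Subgroup X)) : e = 1 := by
  have hc := Cfsg.Agent.Helper19.pPrimeCore_coprime (G := X) 2
  have hd := Subgroup.orderOf_dvd_natCard _ h1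
  obtain ⟨k, hk⟩ := (IsPGroup.iff_orderOf.mp S.2) ⟨e, h2⟩
  rw [Subgroup.orderOf_mk] at hk
  have h3 : (orderOf e).Coprime 2 := Nat.Coprime.coprime_dvd_left hd hc
  rw [hk] at h3
  rcases Nat.eq_zero_or_pos k with rfl | hpos
  · rw [pow_zero] at hk; exact orderOf_eq_one_iff.mp hk
  · exfalso
    have : (2 : ℕ) ∣ 1 := by
      have h4 := Nat.Coprime.gcd_eq_one h3
      rw [← h4]
      exact Nat.dvd_gcd (dvd_pow_self 2 hpos.ne') (dvd_refl 2)
    omega

/-- an element of `S` that is central mod the odd core is central in `S` -/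
theorem comm_of_inZStar (S : Sylow 2 X) (z : X) (hzS : z ∈ (S : Subgroup X)) (h : InZStar 2 z)
    (s : X) (hs : s ∈ (S : Subgroup X)) : s * z = z * s := by
  have h1 := eq_one_of_mem_core_of_mem_sylow S _ (h s)
    (mul_mem (mul_mem (mul_mem hs hzS) (inv_mem hs)) (inv_mem hzS))
  have : s * z = (s * z * s⁻¹ * z⁻¹) * (z * s) := by group
  rw [this, h1, one_mul]

omit [Finite X] in
theorem exists_orderOf_eq_two_pow (S : Sylow 2 X) (c : X) (hc : c ∈ (S : Subgroup X)) :
    ∃ k : ℕ, orderOf c = 2 ^ k := by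
  obtain ⟨k, hk⟩ := (IsPGroup.iff_orderOf.mp S.2) ⟨c, hc⟩
  rw [Subgroup.orderOf_mk] at hk
  exact ⟨k, hk⟩

omit [Finite X] in
theorem inZStar_one : InZStar 2 (1 : X) := by
  intro g
  have : g * 1 * g⁻¹ * (1 : X)⁻¹ = 1 := by group
  rw [this]; exact Subgroup.one_mem _

theorem qd_case (hZ : ∀ (K : Type u) [Group K] [Finite K], ZStar K) (S : Sylow 2 X)
    (hS : Cfsg.IsQuasiDihedral (S : Subgroup X)) (z : X) (hzS : z ∈ (S : Subgroup X))
    (hz : Cfsg.IsIsolatedInvolution z) :
    ∀ c ∈ (Subgroup.center (S : Subgroup X)).map (S : Subgroup X).subtype, InZStar 2 c := by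
  obtain ⟨D⟩ := Cfsg.Agent.Helper18.QD.exists_qdData hS
  have hzZ : InZStar 2 z := inZStar_of_isolated hZ z ⟨1, by rw [hz.1, pow_one]⟩ hz.2
  have hzc : ∀ t : (S : Subgroup X), t * (⟨z, hzS⟩ : (S : Subgroup X)) = ⟨z, hzS⟩ * t := by
    intro t
    apply Subtype.ext
    exact comm_of_inZStar S z hzS hzZ t t.2
  have hz1 : (⟨z, hzS⟩ : (S : Subgroup X)) ≠ 1 := by
    intro h
    have : z = 1 := congrArg Subtype.val h
    have h2 := hz.1
    rw [this, orderOf_one] at h2
    omega
  have hzD := Cfsg.Agent.Helper16.QDCent.central_invol_eq_z D _ hzc hz1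
  rintro _ ⟨s, hs, rfl⟩
  by_cases h1 : s = 1
  · rw [h1]; simpa using inZStar_one
  · have hsD := Cfsg.Agent.Helper16.QDCent.central_invol_eq_z D s
      (fun t => (Subgroup.mem_center_iff.mp hs t)) h1
    have : s = ⟨z, hzS⟩ := by rw [hsD, hzD]
    rw [this]
    exact hzZ

theorem wr_case (hZ : ∀ (K : Type u) [Group K] [Finite K], ZStar K) (S : Sylow 2 X)
    (hS : Cfsg.IsWreathed (S : Subgroup X)) (z : X) (hzS : z ∈ (S : Subgroup X))
    (hz : Cfsg.IsIsolatedInvolution z) :
    ∀ c ∈ (Subgroup.center (S : Subgroup X)).map (S : Subgroup X).subtype, InZStar 2 c := by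
  have : Fact (Nat.Prime 2) := ⟨Nat.prime_two⟩
  obtain ⟨D⟩ := exists_wrData hS
  have hzZ : InZStar 2 z := inZStar_of_isolated hZ z ⟨1, by rw [hz.1, pow_one]⟩ hz.2
  -- z is the central involution
  have hzc : z ∈ (Subgroup.center (S : Subgroup X)).map (S : Subgroup X).subtype := by
    refine ⟨⟨z, hzS⟩, ?_, rfl⟩
    show (⟨z, hzS⟩ : (S : Subgroup X)) ∈ Subgroup.center (S : Subgroup X)
    rw [Subgroup.mem_center_iff]
    intro t
    apply Subtype.ext
    exact comm_of_inZStar S z hzS hzZ t t.2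
  obtain ⟨c0, hc0⟩ := (mem_Zc S D z).mp hzc
  have hzeta : z = uG S D (hh D.n) (hh D.n) := by
    have h1 := hz.1
    rw [hc0] at h1
    rcases invol_U S D c0 c0 h1 with h | h | h
    · exfalso
      have := ((uG_inj S D).mp h)
      exact hh_ne_zero D.hn1 (this.1.symm.trans this.2)
    · exfalso
      have := ((uG_inj S D).mp h)
      exact hh_ne_zero D.hn1 (this.2.symm.trans this.1)
    · rw [hc0, h]
  -- the subgroup U
  obtain ⟨U, hUdef⟩ : ∃ U : Subgroup X, U = D.U.map (S : Subgroup X).subtype := ⟨_, rfl⟩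
  have hU : ∀ x, x ∈ U ↔ ∃ a b, x = uG S D a b := by
    intro x
    rw [hUdef]
    constructor
    · rintro ⟨s, hs, rfl⟩
      obtain ⟨a, b, hab⟩ := hs
      exact ⟨a, b, congrArg Subtype.val hab⟩
    · rintro ⟨a, b, rfl⟩
      exact ⟨D.u a b, D.u_mem_U a b, rfl⟩
  have h₁ : (centralizer (U : Set X)).relIndex (normalizer (U : Set X)) = 2 := by
    rcases relIndex_U S D U hU with h | h
    · exact h
    · exfalso
      obtain ⟨g, -, hg⟩ := fusion_U S D U hU (by rw [h]; norm_num)
      rw [← hzeta] at hg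
      rcases hg with hg | hg
      · have h2 := hz.2 g (by
          rw [hg, hzeta]; exact (uG_comm S D _ _ _ _))
        rw [hg, hzeta] at h2
        exact t_ne_zeta S D h2
      · have h2 := hz.2 g (by
          rw [hg, hzeta]; exact (uG_comm S D _ _ _ _))
        rw [hg, hzeta] at h2
        exact t'_ne_zeta S D h2
  have hiso := zc_isolated S D U hU h₁
  intro c hc
  obtain ⟨c1, rfl⟩ := (mem_Zc S D c).mp hc
  apply inZStar_of_isolated hZ _ (exists_orderOf_eq_two_pow S _ (uG_mem S D c1 c1))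
  apply isolated_of_sylow_gen S (uG_mem S D c1 c1)
  intro g hg
  have := hiso c1 g⁻¹ (by rw [inv_inv]; exact hg)
  rw [inv_inv] at this
  exact this

end

end Cfsg.Agent.Helper16.ZStarWr
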