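import Mathlib
import Cfsg.Agent.Helper16.ZStarWr
import Cfsg.Agent.Helper15.Isolated

set_option autoImplicit false

/-!
`H = O(H) C_H(Z(S))` when every subgroup of the cyclic group `Z(S)` is weakly closed in `S`.
-/

namespace Cfsg.Agent.Helper16.ZStarWr

open Cfsg.Agent.Helper18.Wr
open Cfsg.Agent.Helper16.WrFusion
open Cfsg.Agent.Helper16.ZStarCor
open Subgroup Cfsg

section
universe u
variable {X : Type u} [Group X] [Finite X]

/-- if `c ∈ Z(S)` then `N(⟨c⟩) = C(⟨c⟩)` -/
theorem normalizer_zpowers_le_centralizer (S : Sylow 2 X) (c : X) (hcS : c ∈ (S : Subgroup X))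
    (hc : ∀ s ∈ (S : Subgroup X), s * c = c * s) :
    normalizer ((zpowers c : Subgroup X) : Set X) ≤ centralizer ((zpowers c : Subgroup X) : Set X) := by
  have : Fact (Nat.Prime 2) := ⟨Nat.prime_two⟩
  rw [← Subgroup.relIndex_eq_one]
  have hSC : (S : Subgroup X) ≤ centralizer ((zpowers c : Subgroup X) : Set X) := by
    intro s hs
    rw [Subgroup.mem_centralizer_iff]
    intro r hr
    obtain ⟨k, rfl⟩ := Subgroup.mem_zpowers_iff.mp hr
    have : Commute s c := hc s hs
    exact (this.zpow_right k).eq.symm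
  have hCN := Subgroup.centralizer_le_normalizer ((zpowers c : Subgroup X) : Set X)
  -- odd
  have h1 : ¬ 2 ∣ (centralizer ((zpowers c : Subgroup X) : Set X)).relIndex
      (normalizer ((zpowers c : Subgroup X) : Set X)) := by
    intro h2
    apply S.not_dvd_index
    have e1 := Subgroup.relIndex_mul_relIndex _ _ _ hSC hCN
    have e2 := Subgroup.relIndex_mul_index (hSC.trans hCN)
    rw [← e2, ← e1]
    exact Dvd.dvd.mul_right (Dvd.dvd.mul_left h2 _) _
  -- power of 2
  obtain ⟨k, hk⟩ := exists_orderOf_eq_two_pow S c hcS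
  have h3 : (centralizer ((zpowers c : Subgroup X) : Set X)).relIndex
      (normalizer ((zpowers c : Subgroup X) : Set X)) ∣ 2 ^ (k - 1) := by
    have e1 : (centralizer ((zpowers c : Subgroup X) : Set X)).relIndex
        (normalizer ((zpowers c : Subgroup X) : Set X)) =
        Nat.card (zpowers c).normalizerMonoidHom.range := by
      rw [← Subgroup.index_ker, Subgroup.normalizerMonoidHom_ker]; rfl
    rw [e1]
    have e2 := Subgroup.card_subgroup_dvd_card (zpowers c).normalizerMonoidHom.range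
    have e3 : Nat.card (MulAut (zpowers c)) = (2 ^ k).totient := by
      rw [IsCyclic.card_mulAut, Nat.card_zpowers, hk]
    rw [e3] at e2
    rcases Nat.eq_zero_or_pos k with rfl | hpos
    · simpa using e2
    · rw [Nat.totient_prime_pow Nat.prime_two hpos] at e2
      simpa using e2
  obtain ⟨j, -, hj⟩ := (Nat.dvd_prime_pow Nat.prime_two).mp h3
  rcases Nat.eq_zero_or_pos j with rfl | hpos
  · simpa using hj
  · exfalso; apply h1; rw [hj]; exact dvd_pow_self 2 hpos.ne'

/-- weak closure of the cyclic subgroups of `Z(S)` gives elementwise weak closure -/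
theorem conj_eq_of_weaklyClosed (S : Sylow 2 X) (c : X) (hcS : c ∈ (S : Subgroup X))
    (hc : ∀ s ∈ (S : Subgroup X), s * c = c * s)
    (hw : Cfsg.IsWeaklyClosed (zpowers c) (S : Subgroup X)) (g : X)
    (hg : g * c * g⁻¹ ∈ (S : Subgroup X)) : g * c * g⁻¹ = c := by
  have h1 : (zpowers c).map (MulAut.conj g).toMonoidHom ≤ (S : Subgroup X) := by
    rw [MonoidHom.map_zpowers, zpowers_le]
    simpa [MulAut.conj_apply] using hg
  have h2 := hw.2 g h1
  have h3 : g ∈ normalizer ((zpowers c : Subgroup X) : Set X) := by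
    rw [Subgroup.mem_normalizer_iff]
    intro n
    constructor
    · intro hn
      rw [← h2]
      exact ⟨n, hn, by simp [MulAut.conj_apply]⟩
    · intro hn
      rw [← h2] at hn
      obtain ⟨m, hm, hmn⟩ := hn
      have : m = n := by
        simp only [MulEquiv.coe_toMonoidHom, MulAut.conj_apply] at hmn
        exact mul_left_cancel (mul_right_cancel hmn)
      rw [← this]; exact hm
  have h4 := normalizer_zpowers_le_centralizer S c hcS hc h3
  rw [Subgroup.mem_centralizer_iff] at h4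
  have h5 := h4 c (mem_zpowers c)
  rw [← h5]; group

/-- `Z(S)` is cyclic for quasi-dihedral or wreathed `S` -/
theorem exists_generator (S : Sylow 2 X)
    (hS : Cfsg.IsQuasiDihedral (S : Subgroup X) ∨ Cfsg.IsWreathed (S : Subgroup X)) :
    ∃ c₀ ∈ (Subgroup.center (S : Subgroup X)).map (S : Subgroup X).subtype,
      ∀ c ∈ (Subgroup.center (S : Subgroup X)).map (S : Subgroup X).subtype, ∃ k : ℕ, c = c₀ ^ k := by
  rcases hS with hS | hS
  · obtain ⟨D⟩ := Cfsg.Agent.Helper18.QD.exists_qdData hS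
    refine ⟨(D.z : (S : Subgroup X)), ⟨D.z, ?_, rfl⟩, ?_⟩
    · show D.z ∈ Subgroup.center (S : Subgroup X)
      rw [Subgroup.mem_center_iff]
      intro t; exact (D.z_central t).symm
    · rintro _ ⟨s, hs, rfl⟩
      by_cases h1 : s = 1
      · exact ⟨0, by rw [h1, pow_zero]; rfl⟩
      · have hsD := Cfsg.Agent.Helper16.QDCent.central_invol_eq_z D s
          (fun t => (Subgroup.mem_center_iff.mp hs t)) h1
        exact ⟨1, by rw [hsD, pow_one]; rfl⟩
  · obtain ⟨D⟩ := exists_wrData hS
    refine ⟨uG S D 1 1, (mem_Zc S D _).mpr ⟨1, rfl⟩, ?_⟩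
    intro c hc
    obtain ⟨c1, rfl⟩ := (mem_Zc S D c).mp hc
    have : NeZero (2 ^ D.n) := ⟨by positivity⟩
    refine ⟨c1.val, ?_⟩
    rw [uG_pow, mul_one, ZMod.natCast_zmod_val]

theorem factor_of_weaklyClosed (hZ : ∀ (K : Type u) [Group K] [Finite K], ZStar K) (S : Sylow 2 X)
    (hS : Cfsg.IsQuasiDihedral (S : Subgroup X) ∨ Cfsg.IsWreathed (S : Subgroup X))
    (hw : ∀ Z₀ : Subgroup X, Z₀ ≤ ((Subgroup.center (S : Subgroup X)).map (S : Subgroup X).subtype) →
      Cfsg.IsWeaklyClosed Z₀ (S : Subgroup X)) (h : X) :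
    ∃ o ∈ pPrimeCore 2 X, ∃ c ∈ Subgroup.centralizer
      (((Subgroup.center (S : Subgroup X)).map (S : Subgroup X).subtype : Subgroup X) : Set X),
      h = o * c := by
  have : Fact (Nat.Prime 2) := ⟨Nat.prime_two⟩
  have hcomm : ∀ c ∈ (Subgroup.center (S : Subgroup X)).map (S : Subgroup X).subtype,
      c ∈ (S : Subgroup X) ∧ ∀ s ∈ (S : Subgroup X), s * c = c * s := by
    rintro _ ⟨c, hc, rfl⟩
    refine ⟨c.2, fun s hs => ?_⟩
    have := Subgroup.mem_center_iff.mp hc ⟨s, hs⟩
    exact congrArg Subtype.val this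
  have hall : ∀ c ∈ (Subgroup.center (S : Subgroup X)).map (S : Subgroup X).subtype,
      IsIsolated c := by
    intro c hc
    obtain ⟨hcS, hcc⟩ := hcomm c hc
    apply isolated_of_sylow_gen S hcS
    intro g hg
    exact conj_eq_of_weaklyClosed S c hcS hcc (hw _ (by rw [zpowers_le]; exact hc)) g hg
  have hallZ : ∀ c ∈ (Subgroup.center (S : Subgroup X)).map (S : Subgroup X).subtype,
      InZStar 2 c := fun c hc =>
    inZStar_of_isolated hZ c (exists_orderOf_eq_two_pow S c (hcomm c hc).1) (hall c hc)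
  obtain ⟨c₀, hc₀, hgen⟩ := exists_generator S hS
  have hn : (pPrimeCore 2 X).Normal := inferInstance
  have hN : (pPrimeCore 2 X ⊔ zpowers c₀).Normal :=
    normal_sup_of_inZStar _ (fun c hc => hallZ c ((zpowers_le.mpr hc₀) hc))
  have hsup := Cfsg.Agent.Helper15.sup_centralizer_of_isolated (p := 2)
    (exists_orderOf_eq_two_pow S c₀ (hcomm c₀ hc₀).1) (hall c₀ hc₀) ⊤ (pPrimeCore 2 X ⊔ zpowers c₀)
    le_top (by rw [Subgroup.normalizer_eq_top_iff.mpr hN]) (Subgroup.mem_sup_right (mem_zpowers c₀))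
  have hh : h ∈ (pPrimeCore 2 X ⊔ zpowers c₀) ⊔ (⊤ ⊓ centralizer ({c₀} : Set X)) := by
    rw [hsup]; exact Subgroup.mem_top h
  rw [← SetLike.mem_coe, Subgroup.normal_mul] at hh
  obtain ⟨n, hn1, d, hd, rfl⟩ := hh
  rw [SetLike.mem_coe, ← SetLike.mem_coe, Subgroup.normal_mul] at hn1
  obtain ⟨o, ho, e, he, rfl⟩ := hn1
  refine ⟨o, ho, e * d, ?_, by group⟩
  have hed : e * d ∈ centralizer ({c₀} : Set X) := by
    apply Subgroup.mul_mem
    · obtain ⟨k, rfl⟩ := Subgroup.mem_zpowers_iff.mp he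
      rw [Subgroup.mem_centralizer_singleton_iff]
      exact ((Commute.refl c₀).zpow_left k).eq
    · exact hd.2
  rw [Subgroup.mem_centralizer_singleton_iff] at hed
  rw [Subgroup.mem_centralizer_iff]
  intro c hc
  obtain ⟨k, rfl⟩ := hgen c hc
  have : Commute (e * d) c₀ := hed
  exact (this.pow_right k).eq.symm

end

end Cfsg.Agent.Helper16.ZStarWr
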