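import Mathlib
import Cfsg.Agent.Helper5.ZasDefs
import Cfsg.Agent.Helper5.ZasAlgB
import Cfsg.Agent.Helper3.ZasBasic
import Cfsg.Agent.Helper3.ZasBasic2
import Cfsg.Agent.Helper3.ZasPair2

/-!
# Zassenhaus cluster, piece Z5: Corollary A

For a good pair `(x, y)` generating `T` (binary tetrahedral) and an element `w` of order three
outside `T`, at least two of the four subgroups of order three of `T` are good with `w`.
-/

set_option autoImplicit false
set_option linter.unusedSectionVars false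

namespace Cfsg.Agent.Helper5.Zas

namespace Z5

open Alg

section ring

variable {E : Type*} [Ring E] {i j k : E}

/-- The element `1 - i - j - k` times an element conjugating `i → j → k` centralises the frame. -/
theorem inC_of_conj (F : Frame i j k) {s : E} (hsi : s * i = j * s) (hsj : s * j = k * s) :
    Alg.InC i j ((1 - i - j - k) * s) := by
  constructor
  · rw [mul_assoc, hsi, ← mul_assoc, ← mul_assoc]
    congr 1
    simp only [sub_mul, mul_sub, one_mul, mul_one, F.ij, F.jj, F.kj, F.ii, F.ik]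
    abel
  · rw [mul_assoc, hsj, ← mul_assoc, ← mul_assoc]
    congr 1
    simp only [sub_mul, mul_sub, one_mul, mul_one, F.ik, F.jk, F.kk, F.ji, F.jj]
    abel

theorem q_mul_qbar (F : Frame i j k) : (1 + i + j + k) * (1 - i - j - k) = 4 := by
  simp only [add_mul, mul_sub, one_mul, mul_one, F.ii, F.ij, F.ik, F.ji, F.jj, F.jk, F.ki, F.kj,
    F.kk]
  have : (4 : E) = 1 + 1 + 1 + 1 := by norm_num
  rw [this]
  abel

/-- An element of "order three" conjugating `i → j → k` is `-(1 + i + j + k)/2`. -/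
theorem pure_of_conj (F : Frame i j k) (h2 : ∀ x : E, 2 * x = 0 → x = 0) {s : E}
    (hsi : s * i = j * s) (hsj : s * j = k * s) (hs : s * s + s + 1 = 0) :
    2 * s + 1 = -(i + j + k) := by
  set c := (1 - i - j - k) * s with hc
  have hcC : Alg.InC i j c := inC_of_conj F hsi hsj
  have h4s : 4 * s = c + i * c + j * c + k * c := by
    have : (1 + i + j + k) * c = 4 * s := by rw [hc, ← mul_assoc, q_mul_qbar F]
    rw [← this]; simp only [add_mul, one_mul]
  -- 16 (s^2 + s + 1) = 0
  have h16 : (4 * s) * (4 * s) + 4 * (4 * s) + 16 = 0 := by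
    have : (4 * s) * (4 * s) + 4 * (4 * s) + 16 = 16 * (s * s + s + 1) := by
      have h4 : (4 : E) * s = s * 4 := by
        have := (Nat.cast_comm 4 s); simpa using this
      calc (4 * s) * (4 * s) + 4 * (4 * s) + 16
          = 4 * (s * 4) * s + 4 * (4 * s) + 16 := by noncomm_ring
        _ = 16 * (s * s + s + 1) := by
          rw [← h4]; noncomm_ring
          simp
    rw [this, hs, mul_zero]
  have hq := qmul (s₀ := c) (s₁ := c) (s₂ := c) (s₃ := c) F hcC hcC hcC hcC
  rw [← h4s] at hq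
  have hexp : (c * c - c * c - c * c - c * c + 4 * c + 16)
      + i * (c * c + c * c + c * c - c * c + 4 * c)
      + j * (c * c + c * c + c * c - c * c + 4 * c)
      + k * (c * c + c * c + c * c - c * c + 4 * c) = 0 := by
    have h44 : 4 * (4 * s) = 4 * c + i * (4 * c) + j * (4 * c) + k * (4 * c) := by
      rw [h4s]
      have hi4 : (4 : E) * i = i * 4 := by have := (Nat.cast_comm 4 i); simpa using this
      have hj4 : (4 : E) * j = j * 4 := by have := (Nat.cast_comm 4 j); simpa using this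
      have hk4 : (4 : E) * k = k * 4 := by have := (Nat.cast_comm 4 k); simpa using this
      simp only [mul_add, ← mul_assoc, hi4, hj4, hk4]
    rw [← h16, hq, h44]
    simp only [mul_add, mul_sub]
    abel
  have hcc : Alg.InC i j (c * c) := hcC.mul hcC
  have h4c : Alg.InC i j (4 * c) := (Alg.InC.ofNat 4).mul hcC
  obtain ⟨e0, e1, -, -⟩ := ext4 F
    (((((hcc.sub hcc).sub hcc).sub hcc).add h4c).add (Alg.InC.ofNat 16))
    ((((hcc.add hcc).add hcc).sub hcc).add h4c)
    ((((hcc.add hcc).add hcc).sub hcc).add h4c)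
    ((((hcc.add hcc).add hcc).sub hcc).add h4c) hexp
  have e0' := four_cancel h2 e0
  have e1' := four_cancel h2 e1
  -- e0' : -2c² + 4c + 16 = 0, e1' : 2c² + 4c = 0  ⇒  8c + 16 = 0 ⇒ c = -2
  have hsum : 8 * (c + 2) = 0 := by
    have : 8 * (c + 2) = (c * c - c * c - c * c - c * c + 4 * c + 16)
        + (c * c + c * c + c * c - c * c + 4 * c) := by
      noncomm_ring
      norm_num
    rw [this, e0', e1', add_zero]
  have hc2 : c + 2 = 0 := by
    apply h2; apply h2; apply h2
    rw [← hsum]; noncomm_ring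
  have hcv : c = -2 := eq_neg_of_add_eq_zero_left hc2
  -- 4 s = (1+i+j+k)(-2)
  rw [hcv] at h4s
  have : 2 * (2 * s + 1 + (i + j + k)) = 0 := by
    have h : 2 * (2 * s + 1 + (i + j + k)) = 4 * s + 2 + 2 * i + 2 * j + 2 * k := by
      noncomm_ring
      rw [show (2 : ℤ) • (1 : E) = 2 by norm_num]
      abel
    rw [h, h4s]
    noncomm_ring
  have := h2 _ this
  exact eq_neg_of_add_eq_zero_left this

theorem conj_i (F : Frame i j k) : -(i * (i + j + k) * i) = i - j - k := by
  simp only [mul_add, add_mul, F.ii, F.ij, F.ik, F.ki, F.ji, neg_mul, neg_neg, one_mul, neg_add]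
  abel

theorem conj_j (F : Frame i j k) : -(j * (i + j + k) * j) = -i + j - k := by
  simp only [mul_add, add_mul, F.jj, F.ji, F.jk, F.kj, F.ij, neg_mul, neg_neg, one_mul, neg_add]
  abel

theorem conj_k (F : Frame i j k) : -(k * (i + j + k) * k) = -i - j + k := by
  simp only [mul_add, add_mul, F.kk, F.ki, F.kj, F.jk, F.ik, neg_mul, neg_neg, one_mul, neg_add]
  abel

end ring

variable {p : ℕ} [Fact p.Prime] {G : Type*} [Group G] [Finite G] {V : Type*} [AddCommGroup V]
  [Module (ZMod p) V] [Finite V] [Nontrivial V]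

theorem two_cancel (S : Setup p G V) (x : Module.End (ZMod p) V) (h : 2 * x = 0) : x = 0 := by
  have h2 : ((2 : ℕ) : ZMod p) ≠ 0 := S.natCast_ne_zero (by norm_num) (by norm_num)
  have h3 : ((2 : ℕ) : ZMod p) • x = 0 := by
    rw [Nat.cast_smul_eq_nsmul, two_nsmul, ← two_mul]; exact h
  rcases smul_eq_zero.1 h3 with h4 | h4
  · exact absurd h4 h2
  · exact h4

theorem natCast_cancel (S : Setup p G V) {n : ℕ} (h0 : n ≠ 0) (hn : n ≤ 120)
    (x : Module.End (ZMod p) V) (h : (n : Module.End (ZMod p) V) * x = 0) : x = 0 := by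
  have h2 : ((n : ℕ) : ZMod p) ≠ 0 := S.natCast_ne_zero h0 hn
  have h3 : ((n : ℕ) : ZMod p) • x = 0 := by
    rw [Nat.cast_smul_eq_nsmul, nsmul_eq_mul]; exact h
  rcases smul_eq_zero.1 h3 with h4 | h4
  · exact absurd h4 h2
  · exact h4

theorem orderOf_conj' (a g : G) : orderOf (a * g * a⁻¹) = orderOf g := by
  have := orderOf_injective (MulAut.conj a).toMonoidHom (MulAut.conj a).injective g
  simpa [MulAut.conj_apply] using this

/-- `tr g = 0` forces order four. -/
theorem orderOf_four_of_tr (S : Setup p G V) {g : G} (h : S.tr g = 0) : orderOf g = 4 := by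
  unfold Setup.tr at h
  have h1 : S.ρ g * S.ρ g = -1 := by
    have := congrArg (fun t => S.ρ g * t) h
    simp only [mul_add, S.rho_mul_inv, mul_zero] at this
    exact eq_neg_of_add_eq_zero_left this
  have hne : (1 : Module.End (ZMod p) V) ≠ -1 := by
    intro h'
    have : (2 : Module.End (ZMod p) V) * 1 = 0 := by
      have e : (1 : Module.End (ZMod p) V) + 1 = 0 := by nth_rewrite 2 [h']; simp
      rw [mul_one, ← one_add_one_eq_two]; exact e
    exact one_ne_zero (two_cancel S 1 this)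
  have hg2 : ¬ g ^ 2 ^ 1 = 1 := by
    intro h'
    rw [pow_one, pow_two] at h'
    have := congrArg S.ρ h'
    rw [map_mul, h1, map_one] at this
    exact hne this.symm
  have hg4 : g ^ 2 ^ (1 + 1) = 1 := by
    apply S.rho_injective
    have : g ^ 2 ^ (1 + 1) = (g * g) * (g * g) := by
      show g ^ 4 = _
      simp [pow_succ, mul_assoc]
    rw [this, map_mul, map_mul, h1, map_one]
    simp
  exact orderOf_eq_prime_pow hg2 hg4

/-- The basic group identity in the binary tetrahedral group. -/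
theorem quat_rel (S : Setup p G V) {a b : G} (ha : orderOf a = 3) (hb : orderOf b = 3)
    (hab : orderOf (a * b) = 4) : a * b * (a * (a * b) * a⁻¹) = b * a := by
  have ha3 : a ^ 3 = 1 := by rw [← ha]; exact pow_orderOf_eq_one a
  have hb3 : b ^ 3 = 1 := by rw [← hb]; exact pow_orderOf_eq_one b
  have hab4 : (a * b) ^ 4 = 1 := by rw [← hab]; exact pow_orderOf_eq_one _
  set z := a * b * (a * b) with hz
  have hz2 : z * z = 1 := by
    rw [hz, ← hab4]; simp [pow_succ, mul_assoc]
  have hzne : z ≠ 1 := by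
    intro h
    have : (a * b) ^ 2 = 1 := by rw [pow_two]; exact h
    have := orderOf_dvd_of_pow_eq_one this
    rw [hab] at this
    norm_num at this
  have hzo : orderOf z = 2 := by
    have : z ^ 2 = 1 := by rw [pow_two]; exact hz2
    exact orderOf_eq_prime this hzne
  have hzc : ∀ g : G, z * g = g * z := S.invol_central hzo
  have hainv : a⁻¹ = a * a := by
    have : a * a * a = 1 := by rw [← ha3]; simp [pow_succ, mul_assoc]
    exact inv_eq_of_mul_eq_one_left this
  have hbinv : b⁻¹ = b * b := by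
    have : b * b * b = 1 := by rw [← hb3]; simp [pow_succ, mul_assoc]
    exact inv_eq_of_mul_eq_one_left this
  have h2 : a * b * a = z * (b * b) := by
    rw [← hbinv, hz]; group
  calc a * b * (a * (a * b) * a⁻¹) = (a * b * a) * (a * b * a) * a := by rw [hainv]; group
    _ = z * (b * b) * (z * (b * b)) * a := by rw [h2]
    _ = (z * z) * (b * b * b) * b * a := by
      rw [mul_assoc z (b * b), ← mul_assoc (b * b) z, ← hzc (b * b)]; group
    _ = b * a := by
      have : b * b * b = 1 := by rw [← hb3]; simp [pow_succ, mul_assoc]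
      rw [hz2, this]; group

theorem rho_inv_of_four (S : Setup p G V) {Q : G} (hQ : orderOf Q = 4) : S.ρ Q⁻¹ = -S.ρ Q := by
  have h1 := S.rho_of_orderOf_four hQ
  have h2 := S.rho_inv_mul Q
  calc S.ρ Q⁻¹ = S.ρ Q⁻¹ * (S.ρ Q * (-S.ρ Q)) := by rw [mul_neg, h1, neg_neg, mul_one]
    _ = (S.ρ Q⁻¹ * S.ρ Q) * (-S.ρ Q) := by rw [mul_assoc]
    _ = -S.ρ Q := by rw [h2, one_mul]

theorem pure_conj (S : Setup p G V) {Q : G} (g : G) (hQ : orderOf Q = 4) :
    S.pure (Q * g * Q⁻¹) = -(S.ρ Q * S.pure g * S.ρ Q) := by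
  have h1 := S.rho_of_orderOf_four hQ
  unfold Setup.pure
  rw [map_mul, map_mul, rho_inv_of_four S hQ]
  have e : -(S.ρ Q * (2 * S.ρ g + 1) * S.ρ Q) = 2 * (S.ρ Q * S.ρ g * -S.ρ Q) - S.ρ Q * S.ρ Q := by
    noncomm_ring
  rw [e, h1]
  noncomm_ring

theorem frame_of (S : Setup p G V) {a b : G} (ha : orderOf a = 3) (hb : orderOf b = 3)
    (hab : orderOf (a * b) = 4) :
    Frame (S.ρ (a * b)) (S.ρ (a * (a * b) * a⁻¹)) (S.ρ (b * a)) := by
  have hJ : orderOf (a * (a * b) * a⁻¹) = 4 := by rw [orderOf_conj', hab]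
  have hK : orderOf (b * a) = 4 := by
    have : b * a = a⁻¹ * (a * b) * a⁻¹⁻¹ := by group
    rw [this, orderOf_conj', hab]
  have hij : S.ρ (a * b) * S.ρ (a * (a * b) * a⁻¹) = S.ρ (b * a) := by
    rw [← map_mul, quat_rel S ha hb hab]
  have hii := S.rho_of_orderOf_four hab
  have hjj := S.rho_of_orderOf_four hJ
  have hkk := S.rho_of_orderOf_four hK
  refine ⟨hii, hjj, hij, ?_⟩
  generalize S.ρ (a * b) = i at *
  generalize S.ρ (a * (a * b) * a⁻¹) = j at *
  generalize S.ρ (b * a) = k at *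
  have h1 : k * (j * i) = 1 := by
    rw [← hij, mul_assoc, ← mul_assoc j j i, hjj, neg_one_mul, mul_neg, hii, neg_neg]
  have h2 : (-k) * k = 1 := by rw [neg_mul, hkk, neg_neg]
  calc j * i = ((-k) * k) * (j * i) := by rw [h2, one_mul]
    _ = (-k) * (k * (j * i)) := by rw [mul_assoc]
    _ = -k := by rw [h1, mul_one]

theorem conj_one (S : Setup p G V) (a b : G) :
    S.ρ a * S.ρ (a * b) = S.ρ (a * (a * b) * a⁻¹) * S.ρ a := by
  rw [← map_mul, ← map_mul]; congr 1; group

theorem conj_two (S : Setup p G V) {a : G} (ha : orderOf a = 3) (b : G) :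
    S.ρ a * S.ρ (a * (a * b) * a⁻¹) = S.ρ (b * a) * S.ρ a := by
  have ha3 : a ^ 3 = 1 := by rw [← ha]; exact pow_orderOf_eq_one a
  have hainv : a⁻¹ = a * a := by
    have : a * a * a = 1 := by rw [← ha3]; simp [pow_succ, mul_assoc]
    exact inv_eq_of_mul_eq_one_left this
  rw [← map_mul, ← map_mul]; congr 1
  have : a * (a * (a * b) * a⁻¹) = (a * a * a) * b * a⁻¹ := by group
  rw [this, show a * a * a = 1 by rw [← ha3]; simp [pow_succ, mul_assoc], one_mul, hainv]
  group

/-- The pure part of `a` in the quaternion frame of `(a, b)`. -/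
theorem pure_eq (S : Setup p G V) {a b : G} (ha : orderOf a = 3) (hb : orderOf b = 3)
    (hab : orderOf (a * b) = 4) :
    S.pure a⁻¹ = S.ρ (a * b) + S.ρ (a * (a * b) * a⁻¹) + S.ρ (b * a) := by
  have F := frame_of S ha hb hab
  have h := pure_of_conj F (two_cancel S) (conj_one S a b) (conj_two S ha b)
    (S.rho_of_orderOf_three ha)
  unfold Setup.pure
  rw [S.rho_inv_of_orderOf_three ha]
  have : 2 * (-1 - S.ρ a) + 1 = -(2 * S.ρ a + 1) := by noncomm_ring
  rw [this, h, neg_neg]

/-- The square of the anticommutator of the pure parts. -/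
theorem anti_sq (S : Setup p G V) {g w : G} (hg : orderOf g = 3) (hw : orderOf w = 3)
    (hgw : w ∉ Subgroup.zpowers g) :
    (S.pure g * S.pure w + S.pure w * S.pure g) ^ 2 =
      if decide (orderOf (g * w) = 10) = true then 20 else 4 := by
  rw [S.pure_anticomm hg hw]
  rcases pair_cases S hg hw hgw with ⟨hG, -⟩ | ⟨h10, -⟩
  · rcases hG with h4 | h6
    · rw [if_neg (by rw [h4]; simp), S.tr_of_orderOf_four h4]
      norm_num
    · rw [if_neg (by rw [h6]; simp), S.tr_of_orderOf_six h6]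
      norm_num
  · rw [if_pos (by rw [h10]; simp)]
    have ht := S.tr_of_orderOf_ten h10
    have e : (4 * S.tr (g * w) - 2) ^ 2
        = 16 * (S.tr (g * w) * S.tr (g * w) - S.tr (g * w) - 1) + 20 := by
      noncomm_ring
      norm_num
    rw [e, ht]
    simp

theorem mem_zpowers_three {w g : G} (hw : orderOf w = 3) (hg : g ∈ Subgroup.zpowers w) :
    g = 1 ∨ g = w ∨ g = w⁻¹ := by
  obtain ⟨k, rfl⟩ := Subgroup.mem_zpowers_iff.1 hg
  have hw3 : w ^ 3 = 1 := by rw [← hw]; exact pow_orderOf_eq_one w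
  have hmod := zpow_mod_orderOf w k
  rw [hw] at hmod
  have hk : k % ((3 : ℕ) : ℤ) = 0 ∨ k % ((3 : ℕ) : ℤ) = 1 ∨ k % ((3 : ℕ) : ℤ) = 2 := by omega
  rcases hk with h | h | h
  · left; rw [← hmod, h, zpow_zero]
  · right; left; rw [← hmod, h, zpow_one]
  · right; right
    rw [← hmod, h]
    have : w ^ (2 : ℤ) * w = 1 := by
      rw [← hw3]
      simp [pow_succ, zpow_ofNat, mul_assoc]
    exact eq_inv_of_mul_eq_one_left this

theorem central_contra (S : Setup p G V) {Q Q' w : G} (hQ : orderOf Q = 4)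
    (hQ' : orderOf Q' = 4) (hanti : S.ρ Q * S.ρ Q' = -(S.ρ Q' * S.ρ Q)) (hw : orderOf w = 3)
    (u : Module.End (ZMod p) V) (hu : u ≠ 0)
    (h : (S.ρ Q * S.pure w - S.pure w * S.ρ Q) * u = 0)
    (h1 : S.ρ Q' * S.pure w ≠ S.pure w * S.ρ Q')
    (h2 : S.ρ Q' * S.pure w ≠ -(S.pure w * S.ρ Q')) : False := by
  -- a vector not killed by `u`
  obtain ⟨v, hv⟩ : ∃ v : V, u v ≠ 0 := by
    by_contra hcon
    rw [not_exists] at hcon
    apply hu
    ext v
    simpa using not_not.1 (hcon v)
  -- `Q` commutes with `w`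
  have hcomm : (S.ρ Q * S.ρ w - S.ρ w * S.ρ Q) * u = 0 := by
    apply two_cancel S
    rw [← h]
    unfold Setup.pure
    noncomm_ring
  have hQw : Q * w = w * Q := by
    apply S.eq_of_apply_eq hv
    have := congrArg (fun f : Module.End (ZMod p) V => f v) hcomm
    simp only [Module.End.mul_apply, LinearMap.sub_apply, LinearMap.zero_apply] at this
    rw [map_mul, map_mul, Module.End.mul_apply, Module.End.mul_apply]
    exact sub_eq_zero.1 this
  have hqr : S.ρ Q * S.ρ w = S.ρ w * S.ρ Q := by rw [← map_mul, ← map_mul, hQw]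
  -- the conjugate `w''`
  obtain ⟨w'', hw''⟩ : ∃ w'' : G, w'' = Q' * w * Q'⁻¹ := ⟨_, rfl⟩
  have hw''o : orderOf w'' = 3 := by rw [hw'', orderOf_conj', hw]
  have hρw'' : S.ρ w'' = -(S.ρ Q' * S.ρ w * S.ρ Q') := by
    rw [hw'', map_mul, map_mul, rho_inv_of_four S hQ', mul_neg]
  have hq'q' := S.rho_of_orderOf_four hQ'
  have hnot : w'' ∉ Subgroup.zpowers w := by
    intro hmem
    rcases mem_zpowers_three hw hmem with e | e | e
    · have : w = 1 := by
        have : Q' * w * Q'⁻¹ = 1 := by rw [← hw'']; exact e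
        have h3 : w = Q'⁻¹ * (Q' * w * Q'⁻¹) * Q' := by group
        rw [h3, this]; group
      rw [this, orderOf_one] at hw
      norm_num at hw
    · -- `Q'` commutes with `w`
      apply h1
      have h3 : Q' * w = w * Q' := by
        have : Q' * w * Q'⁻¹ = w := by rw [← hw'']; exact e
        calc Q' * w = (Q' * w * Q'⁻¹) * Q' := by group
          _ = w * Q' := by rw [this]
      have h4 : S.ρ Q' * S.ρ w = S.ρ w * S.ρ Q' := by rw [← map_mul, ← map_mul, h3]
      unfold Setup.pure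
      calc S.ρ Q' * (2 * S.ρ w + 1) = 2 * (S.ρ Q' * S.ρ w) + S.ρ Q' := by noncomm_ring
        _ = (2 * S.ρ w + 1) * S.ρ Q' := by rw [h4]; noncomm_ring
    · -- `Q'` inverts `w`
      apply h2
      have h3 : Q' * w = w⁻¹ * Q' := by
        have : Q' * w * Q'⁻¹ = w⁻¹ := by rw [← hw'']; exact e
        calc Q' * w = (Q' * w * Q'⁻¹) * Q' := by group
          _ = w⁻¹ * Q' := by rw [this]
      have h4 : S.ρ Q' * S.ρ w = (-1 - S.ρ w) * S.ρ Q' := by
        rw [← S.rho_inv_of_orderOf_three hw, ← map_mul, ← map_mul, h3]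
      unfold Setup.pure
      calc S.ρ Q' * (2 * S.ρ w + 1) = 2 * (S.ρ Q' * S.ρ w) + S.ρ Q' := by noncomm_ring
        _ = -((2 * S.ρ w + 1) * S.ρ Q') := by rw [h4]; noncomm_ring
  have hQw'' : Q * w'' = w'' * Q := by
    apply S.rho_injective
    rw [map_mul, map_mul, hρw'']
    calc S.ρ Q * -(S.ρ Q' * S.ρ w * S.ρ Q')
        = -((S.ρ Q * S.ρ Q') * S.ρ w * S.ρ Q') := by noncomm_ring
      _ = S.ρ Q' * (S.ρ Q * S.ρ w) * S.ρ Q' := by rw [hanti]; noncomm_ring
      _ = S.ρ Q' * S.ρ w * (S.ρ Q * S.ρ Q') := by rw [hqr]; noncomm_ring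
      _ = -(S.ρ Q' * S.ρ w * S.ρ Q') * S.ρ Q := by rw [hanti]; noncomm_ring
  exact no_central_four S hw hw''o hnot hQ hQw hQw''

section ring2

variable {E : Type*} [Ring E] {i j k : E}

/-- The four "tetrahedral" pure quaternions. -/
def ev (i j k : E) : Fin 4 → E
  | 0 => i + j + k
  | 1 => i - j - k
  | 2 => -i + j - k
  | 3 => -i - j + k

theorem ev_zero : ev i j k 0 = i + j + k := rfl
theorem ev_one : ev i j k 1 = i - j - k := rfl
theorem ev_two : ev i j k 2 = -i + j - k := rfl
theorem ev_three : ev i j k 3 = -i - j + k := rfl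

theorem ev_anti (F : Frame i j k) : ∀ m m' : Fin 4, m ≠ m' →
    ev i j k m * ev i j k m' + ev i j k m' * ev i j k m = 1 + 1 := by
  intro m m' h
  fin_cases m <;> fin_cases m' <;> first | exact absurd rfl h | skip
  all_goals
    simp only [Fin.zero_eta, Fin.mk_one, Fin.reduceFinMk, ev_zero, ev_one, ev_two, ev_three,
      mul_add, add_mul, mul_sub, sub_mul, neg_mul, mul_neg, F.ii, F.ij, F.ik, F.ji, F.jj,
      F.jk, F.ki, F.kj, F.kk, neg_neg]
    abel

theorem anti_ne [Nontrivial E] (h2 : ∀ x : E, 2 * x = 0 → x = 0) {a b c : E} (hab : a * b = c)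
    (hba : b * a = -c) (hcc : c * c = -1) : a ≠ b := by
  intro h
  rw [h] at hab
  rw [h, hab] at hba
  have hc : c = 0 := by
    apply h2
    rw [two_mul]
    nth_rewrite 1 [hba]
    simp
  rw [hc, mul_zero] at hcc
  have : (1 : E) = 0 := by
    have := congrArg Neg.neg hcc
    simpa using this.symm
  exact one_ne_zero this

theorem two_false (bad : Fin 4 → Bool)
    (h : (Finset.univ.filter fun m => bad m = true).card = 2) :
    ∃ m m' : Fin 4, m ≠ m' ∧ bad m = false ∧ bad m' = false := by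
  rw [Finset.card_filter, Fin.sum_univ_four] at h
  have key : ∀ b0 b1 b2 b3 : Bool,
      ((if b0 = true then 1 else 0) + (if b1 = true then 1 else 0) + (if b2 = true then 1 else 0)
        + (if b3 = true then 1 else 0) = 2) →
      (b0 = false ∧ b1 = false) ∨ (b0 = false ∧ b2 = false) ∨ (b0 = false ∧ b3 = false) ∨
      (b1 = false ∧ b2 = false) ∨ (b1 = false ∧ b3 = false) ∨ (b2 = false ∧ b3 = false) := by
    decide
  rcases key _ _ _ _ h with h | h | h | h | h | h
  · exact ⟨0, 1, by decide, h.1, h.2⟩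
  · exact ⟨0, 2, by decide, h.1, h.2⟩
  · exact ⟨0, 3, by decide, h.1, h.2⟩
  · exact ⟨1, 2, by decide, h.1, h.2⟩
  · exact ⟨1, 3, by decide, h.1, h.2⟩
  · exact ⟨2, 3, by decide, h.1, h.2⟩

end ring2

theorem pure_inv (S : Setup p G V) {g : G} (hg : orderOf g = 3) : S.pure g⁻¹ = -S.pure g := by
  unfold Setup.pure
  rw [S.rho_inv_of_orderOf_three hg]
  noncomm_ring

theorem corA_core (S : Setup p G V) {I J K g0 w : G} (hI : orderOf I = 4) (hJ : orderOf J = 4)
    (hK : orderOf K = 4) (F : Frame (S.ρ I) (S.ρ J) (S.ρ K)) (hg0 : orderOf g0 = 3)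
    (hp0 : S.pure g0 = S.ρ I + S.ρ J + S.ρ K) (hw : orderOf w = 3) (T : Subgroup G)
    (hIT : I ∈ T) (hJT : J ∈ T) (hKT : K ∈ T) (hg0T : g0 ∈ T) (hwT : w ∉ T) :
    ∃ a' b' : G, a' ∈ T ∧ b' ∈ T ∧ orderOf a' = 3 ∧ orderOf b' = 3 ∧
      b' ∉ Subgroup.zpowers a' ∧ Good a' w ∧ Good b' w := by
  obtain ⟨gs, hgs⟩ : ∃ gs : Fin 4 → G,
      gs = ![g0, I * g0 * I⁻¹, J * g0 * J⁻¹, K * g0 * K⁻¹] := ⟨_, rfl⟩
  have hgT : ∀ m, gs m ∈ T := by
    intro m
    rw [hgs]
    fin_cases m
    · exact hg0T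
    · exact T.mul_mem (T.mul_mem hIT hg0T) (T.inv_mem hIT)
    · exact T.mul_mem (T.mul_mem hJT hg0T) (T.inv_mem hJT)
    · exact T.mul_mem (T.mul_mem hKT hg0T) (T.inv_mem hKT)
  have hgo : ∀ m, orderOf (gs m) = 3 := by
    intro m
    rw [hgs]
    fin_cases m
    · exact hg0
    · exact (orderOf_conj' I g0).trans hg0
    · exact (orderOf_conj' J g0).trans hg0
    · exact (orderOf_conj' K g0).trans hg0
  have hgp : ∀ m, S.pure (gs m) = ev (S.ρ I) (S.ρ J) (S.ρ K) m := by
    intro m
    rw [hgs]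
    fin_cases m
    · exact hp0
    · show S.pure (I * g0 * I⁻¹) = S.ρ I - S.ρ J - S.ρ K
      rw [pure_conj S g0 hI, hp0, conj_i F]
    · show S.pure (J * g0 * J⁻¹) = -S.ρ I + S.ρ J - S.ρ K
      rw [pure_conj S g0 hJ, hp0, conj_j F]
    · show S.pure (K * g0 * K⁻¹) = -S.ρ I - S.ρ J + S.ρ K
      rw [pure_conj S g0 hK, hp0, conj_k F]
  have hwz : ∀ m, w ∉ Subgroup.zpowers (gs m) :=
    fun m h => hwT ((Subgroup.zpowers_le.2 (hgT m)) h)
  obtain ⟨bad, hbad⟩ : ∃ bad : Fin 4 → Bool,
      bad = fun m => decide (orderOf (gs m * w) = 10) := ⟨_, rfl⟩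
  have hsq : ∀ m, (ev (S.ρ I) (S.ρ J) (S.ρ K) m * S.pure w
      + S.pure w * ev (S.ρ I) (S.ρ J) (S.ρ K) m) ^ 2 = if bad m = true then 20 else 4 := by
    intro m
    rw [← hgp m, hbad]
    exact anti_sq S (hgo m) hw (hwz m)
  have hp7 : 7 < p := by
    have h1 := S.p_gt
    have h2 : 0 < Nat.card G := Nat.card_pos
    omega
  have h2c := two_cancel S
  rcases thmA_alg hp7 (S.ρ I) (S.ρ J) (S.ρ K) (S.pure w) F.ii F.jj F.ij F.ji (S.pure_sq hw) bad
    (hsq 0) (hsq 1) (hsq 2) (hsq 3) with hc | ⟨q, hq, u, hu, hqu, hall⟩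
  · -- two good subgroups
    obtain ⟨m, m', hne, hm, hm'⟩ := two_false bad hc
    have hgood : ∀ m, bad m = false → Good (gs m) w := by
      intro m hm
      rcases pair_cases S (hgo m) hw (hwz m) with ⟨hG, -⟩ | ⟨h10, -⟩
      · exact hG
      · exfalso
        have : bad m = true := by rw [hbad]; exact decide_eq_true h10
        rw [hm] at this
        exact Bool.false_ne_true this
    refine ⟨gs m, gs m', hgT m, hgT m', hgo m, hgo m', ?_, hgood m hm, hgood m' hm'⟩
    intro hmem
    have hanti := ev_anti F m m' hne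
    rw [← hgp m, ← hgp m'] at hanti
    rcases mem_zpowers_three (hgo m) hmem with e | e | e
    · have := hgo m'
      rw [e, orderOf_one] at this
      norm_num at this
    · rw [e, S.pure_sq (hgo m)] at hanti
      have h8 : ((8 : ℕ) : Module.End (ZMod p) V) * 1 = 0 := by
        have : ((8 : ℕ) : Module.End (ZMod p) V) * 1 = (1 + 1) - (-3 + -3) := by
          push_cast; norm_num
        rw [this, hanti, sub_self]
      exact one_ne_zero (natCast_cancel S (by norm_num) (by norm_num) 1 h8)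
    · rw [e, pure_inv S (hgo m), mul_neg, neg_mul, S.pure_sq (hgo m)] at hanti
      have h4 : ((4 : ℕ) : Module.End (ZMod p) V) * 1 = 0 := by
        have : ((4 : ℕ) : Module.End (ZMod p) V) * 1 = (- -3 + - -3) - (1 + 1) := by
          push_cast; norm_num
        rw [this, hanti, sub_self]
      exact one_ne_zero (natCast_cancel S (by norm_num) (by norm_num) 1 h4)
  · -- a central element of order four: contradiction
    exfalso
    rcases hq with rfl | rfl | rfl
    · have hne : S.ρ J ≠ S.ρ I := by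
        intro e; exact absurd e.symm (anti_ne h2c F.ij (by rw [F.ji]) F.kk)
      obtain ⟨h1, h2⟩ := hall (S.ρ J) (by simp) hne
      exact central_contra S hI hJ (by rw [F.ij, F.ji, neg_neg]) hw u hu hqu h1 h2
    · have hne : S.ρ K ≠ S.ρ J := by
        intro e; exact absurd e.symm (anti_ne h2c F.jk (by rw [F.kj]) F.ii)
      obtain ⟨h1, h2⟩ := hall (S.ρ K) (by simp) hne
      exact central_contra S hJ hK (by rw [F.jk, F.kj, neg_neg]) hw u hu hqu h1 h2
    · have hne : S.ρ I ≠ S.ρ K := by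
        intro e; exact absurd e.symm (anti_ne h2c F.ki (by rw [F.ik]) F.jj)
      obtain ⟨h1, h2⟩ := hall (S.ρ I) (by simp) hne
      exact central_contra S hK hI (by rw [F.ki, F.ik, neg_neg]) hw u hu hqu h1 h2

/-- **Corollary A** (alternative proof; the cluster uses `Cfsg.Agent.Helper23.ZasCorA`, which
declares `Cfsg.Agent.Helper5.Zas.corA`, so this one carries a different name). -/
theorem corA_alt (S : Setup p G V) {x y w : G} (hx : orderOf x = 3) (hy : orderOf y = 3)
    (hxy : y ∉ Subgroup.zpowers x) (hg : Good x y) (hw : orderOf w = 3)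
    (hwT : w ∉ Subgroup.closure ({x, y} : Set G)) :
    ∃ a b : G, a ∈ Subgroup.closure ({x, y} : Set G) ∧ b ∈ Subgroup.closure ({x, y} : Set G) ∧
      orderOf a = 3 ∧ orderOf b = 3 ∧ b ∉ Subgroup.zpowers a ∧ Good a w ∧ Good b w := by
  have hxT : x ∈ Subgroup.closure ({x, y} : Set G) := Subgroup.subset_closure (by simp)
  have hyT : y ∈ Subgroup.closure ({x, y} : Set G) := Subgroup.subset_closure (by simp)
  -- normalise: some `a ∈ {x, x⁻¹}` with `a * y` of order four
  obtain ⟨a, ha, haT, hab⟩ : ∃ a : G, orderOf a = 3 ∧ a ∈ Subgroup.closure ({x, y} : Set G) ∧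
      orderOf (a * y) = 4 := by
    rcases hg with h4 | h6
    · exact ⟨x, hx, hxT, h4⟩
    · refine ⟨x⁻¹, by rw [orderOf_inv, hx], Subgroup.inv_mem _ hxT, ?_⟩
      apply orderOf_four_of_tr S
      have h1 := S.tr_add_tr_inv hx hy
      rw [S.tr_of_orderOf_six h6] at h1
      have : S.tr (x⁻¹ * y) = (1 + S.tr (x⁻¹ * y)) - 1 := by abel
      rw [this, h1, sub_self]
  have F := frame_of S ha hy hab
  have hJ : orderOf (a * (a * y) * a⁻¹) = 4 := by rw [orderOf_conj', hab]
  have hK : orderOf (y * a) = 4 := by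
    have : y * a = a⁻¹ * (a * y) * a⁻¹⁻¹ := by group
    rw [this, orderOf_conj', hab]
  have hIT : a * y ∈ Subgroup.closure ({x, y} : Set G) := Subgroup.mul_mem _ haT hyT
  exact corA_core S hab hJ hK F (by rw [orderOf_inv, ha]) (pure_eq S ha hy hab) hw _ hIT
    (Subgroup.mul_mem _ (Subgroup.mul_mem _ haT hIT) (Subgroup.inv_mem _ haT))
    (Subgroup.mul_mem _ hyT haT) (Subgroup.inv_mem _ haT) hwT

end Z5

end Cfsg.Agent.Helper5.Zas
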